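import Cfsg.Statements.S2955
import Mathlib
import Mathlib
import Cfsg.Agent.Lib.Helper5.SylowChain
import Cfsg.Agent.S3056

set_option autoImplicit false
open Cfsg Cfsg.Agent.Lib.Helper5

namespace Cfsg.Agent.S2955

open scoped Pointwise

theorem sylow_member_iff {G : Type*} [Group G] [Finite G] (p : ℕ) [Fact p.Prime]
    (X Q : Subgroup G) (hQX : Q ≤ X) :
    (∃ P : Sylow p ↥X, (P : Subgroup ↥X).map X.subtype = Q) ↔
      Nat.card Q = p ^ (Nat.card X).factorization p := by
  constructor
  · rintro ⟨P, rfl⟩
    rw [Subgroup.card_map_of_injective X.subtype_injective]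
    exact Sylow.card_eq_multiplicity P
  · intro h
    have h' : Nat.card (Q.subgroupOf X) = p ^ (Nat.card X).factorization p := by
      rw [← h]
      exact Nat.card_congr (Subgroup.subgroupOfEquivOfLe hQX).toEquiv
    refine ⟨Sylow.ofCard (Q.subgroupOf X) h', ?_⟩
    rw [Sylow.coe_ofCard]
    exact Subgroup.map_subgroupOf_eq_of_le hQX

theorem conjRight_mem_iff {G : Type*} [Group G] (h : G) (X : Subgroup G) (y : G) :
    y ∈ Cfsg.subgroupConjRight h X ↔ h * y * h⁻¹ ∈ X := by
  unfold Cfsg.subgroupConjRight
  rw [Cfsg.Agent.S3056.mem_map_conj_iff', inv_inv]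

theorem card_conjRight {G : Type*} [Group G] (h : G) (X : Subgroup G) :
    Nat.card (Cfsg.subgroupConjRight h X) = Nat.card X := by
  unfold Cfsg.subgroupConjRight
  exact Subgroup.card_map_of_injective (MulAut.conj h⁻¹).injective

theorem conjRight_inf {G : Type*} [Group G] (h : G) (X Y : Subgroup G) :
    Cfsg.subgroupConjRight h (X ⊓ Y) = Cfsg.subgroupConjRight h X ⊓ Cfsg.subgroupConjRight h Y := by
  ext y
  rw [Subgroup.mem_inf, conjRight_mem_iff, conjRight_mem_iff, conjRight_mem_iff, Subgroup.mem_inf]

theorem conjRight_smul {G : Type*} [Group G] {p : ℕ} (h : G) (S : Sylow p G) :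
    Cfsg.subgroupConjRight h ((h • S : Sylow p G) : Subgroup G) = (S : Subgroup G) := by
  ext y
  rw [conjRight_mem_iff, mem_sylow_smul_iff]
  have e : h⁻¹ * (h * y * h⁻¹) * h = y := by group
  rw [e]

/-- Let p be a prime dividing the order of the finite group G and 𝓕 a conjugation-closed family of subgroups that controls Sylow p-intersections in G. Suppose the Sylow p-subgroups of G are chain-connected: any two of them are joined by a chain of Sylow p-subgroups, consecutive ones distinct with nontrivial intersection, all containing the intersection of the two ends (equivalently, the graph on the Sylow p-subgroups whose edges are the distinct pairs meeting nontrivially is connected). Then for every Sylow p-subgroup S, G is generated by N_G(S) together with the members of 𝓕 that meet S in a Sylow p-subgroup of themselves. -/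
theorem result {G : Type*} [Group G] [Finite G] (p : ℕ) [Fact p.Prime] (hdiv : p ∣ Nat.card G)
    (𝓕 : Set (Subgroup G)) (h𝓕 : Cfsg.IsNormalSet 𝓕) (hc : Cfsg.ControlsSylowIntersections p 𝓕)
    (hconn : Cfsg.IsSylowChainConnected p G) (S : Sylow p G) :
    (⨆ X ∈ Cfsg.sylowMembers p 𝓕 (S : Subgroup G), X) ⊔ Subgroup.normalizer ((S : Subgroup G) : Set G) = ⊤ := by
  classical
  have key : ∀ T : Sylow p G, SylConn S T →
      ∃ g ∈ (⨆ X ∈ Cfsg.sylowMembers p 𝓕 (S : Subgroup G), X), g • S = T := by
    intro T hT
    induction hT with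
    | refl => exact ⟨1, one_mem _, one_smul _ _⟩
    | @tail U T hSU hUT ih =>
      obtain ⟨g, hg, rfl⟩ := ih
      obtain ⟨n, c, X, x, h0, hl, hi⟩ := hc (g • S) T hUT.1 hUT.2
      have hstep : ∀ i : Fin (n + 1),
          ∃ h ∈ (⨆ X ∈ Cfsg.sylowMembers p 𝓕 (S : Subgroup G), X), h • S = c i := by
        intro i
        induction i using Fin.induction with
        | zero => exact ⟨g, hg, h0.symm⟩
        | succ i ih =>
          obtain ⟨h, hh, hhS⟩ := ih
          obtain ⟨hX1, hX2, hx, hconj, -⟩ := hi i
          obtain ⟨hXF, hXP⟩ := hX1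
          have hYmem : Cfsg.subgroupConjRight h (X i) ∈ Cfsg.sylowMembers p 𝓕 (S : Subgroup G) := by
            refine ⟨h𝓕 _ hXF h, ?_⟩
            rw [sylow_member_iff p _ _ inf_le_right]
            rw [sylow_member_iff p _ _ inf_le_right] at hXP
            rw [card_conjRight]
            rw [← hXP, ← hhS]
            have e : (S : Subgroup G) ⊓ Cfsg.subgroupConjRight h (X i) =
                Cfsg.subgroupConjRight h (((h • S : Sylow p G) : Subgroup G) ⊓ X i) := by
              rw [conjRight_inf, conjRight_smul]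
            rw [e, card_conjRight]
          have hYle : Cfsg.subgroupConjRight h (X i) ≤
              (⨆ X ∈ Cfsg.sylowMembers p 𝓕 (S : Subgroup G), X) :=
            le_iSup₂ (f := fun (X : Subgroup G) (_ : X ∈ Cfsg.sylowMembers p 𝓕 (S : Subgroup G)) => X)
              _ hYmem
          have hx1 : h⁻¹ * x i * h ∈ Cfsg.subgroupConjRight h (X i) := by
            rw [conjRight_mem_iff]
            have e : h * (h⁻¹ * x i * h) * h⁻¹ = x i := by group
            rw [e]; exact hx
          have hx2 : x i ∈ (⨆ X ∈ Cfsg.sylowMembers p 𝓕 (S : Subgroup G), X) := by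
            have e : x i = h * (h⁻¹ * x i * h) * h⁻¹ := by group
            rw [e]
            exact mul_mem (mul_mem hh (hYle hx1)) (inv_mem hh)
          refine ⟨x i * h, mul_mem hx2 hh, ?_⟩
          apply Sylow.ext
          ext z
          rw [mem_sylow_smul_iff]
          have h1 : (x i)⁻¹ * z * x i ∈ ((c i.castSucc : Sylow p G) : Subgroup G) ↔
              z ∈ ((c i.succ : Sylow p G) : Subgroup G) := by
            rw [← hconj, conjRight_mem_iff]
            have e : x i * ((x i)⁻¹ * z * x i) * (x i)⁻¹ = z := by group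
            rw [e]
          rw [← h1, ← hhS, mem_sylow_smul_iff]
          have e : (x i * h)⁻¹ * z * (x i * h) = h⁻¹ * ((x i)⁻¹ * z * x i) * h := by group
          rw [e]
      obtain ⟨h, hh, hhS⟩ := hstep (Fin.last n)
      exact ⟨h, hh, hhS.trans hl⟩
  rw [eq_top_iff]
  intro g _
  obtain ⟨g₀, hg₀, hg₀S⟩ := key (g • S) (sylConn_of_isSylowChainConnected hconn S (g • S))
  have hn : g₀⁻¹ * g ∈ Subgroup.normalizer ((S : Subgroup G) : Set G) := by
    apply Sylow.smul_eq_iff_mem_normalizer.mp
    rw [mul_smul, ← hg₀S, inv_smul_smul]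
  have e : g = g₀ * (g₀⁻¹ * g) := by group
  rw [e]
  exact mul_mem (Subgroup.mem_sup_left hg₀) (Subgroup.mem_sup_right hn)

end Cfsg.Agent.S2955
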