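import Cfsg.Statements.S2940
import Mathlib

set_option autoImplicit false
open Cfsg
open scoped commutatorElement

namespace Cfsg.Agent.S2940

/-- Let S be a Sylow p-subgroup of the finite group G and G₁, G₂ subgroups containing S with G = G₁G₂. Then for every g ∈ G there is a Sylow p-subgroup U of G with S ∩ S^g ≤ U ≤ G₁ ∩ G₂^g (conjugates taken as X^g = g⁻¹Xg). -/
theorem result {G : Type*} [Group G] [Finite G] {p : ℕ} [Fact p.Prime] (S : Sylow p G) (G₁ G₂ : Subgroup G) (h1 : (S : Subgroup G) ≤ G₁) (h2 : (S : Subgroup G) ≤ G₂) (hfact : ∀ g : G, ∃ g₁ ∈ G₁, ∃ g₂ ∈ G₂, g = g₁ * g₂) (g : G) : ∃ U : Sylow p G, (S : Subgroup G) ⊓ Cfsg.subgroupConjRight g (S : Subgroup G) ≤ (U : Subgroup G) ∧ (U : Subgroup G) ≤ G₁ ⊓ Cfsg.subgroupConjRight g G₂ := by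
  have hp : p.Prime := Fact.out
  obtain ⟨g₁, hg₁, g₂, hg₂, hgi⟩ := hfact g⁻¹
  have hDK : (S : Subgroup G) ⊓ Cfsg.subgroupConjRight g (S : Subgroup G) ≤ G₁ ⊓ Cfsg.subgroupConjRight g G₂ :=
    inf_le_inf h1 (Subgroup.map_mono h2)
  have hSyK : (S : Subgroup G).map (MulAut.conj g₁).toMonoidHom ≤ G₁ ⊓ Cfsg.subgroupConjRight g G₂ := by
    rintro z ⟨s, hs, rfl⟩
    refine Subgroup.mem_inf.mpr ⟨?_, ?_⟩
    · exact G₁.mul_mem (G₁.mul_mem hg₁ (h1 hs)) (G₁.inv_mem hg₁)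
    · refine ⟨g₂⁻¹ * s * g₂, G₂.mul_mem (G₂.mul_mem (G₂.inv_mem hg₂) (h2 hs)) hg₂, ?_⟩
      show g⁻¹ * (g₂⁻¹ * s * g₂) * g⁻¹⁻¹ = g₁ * s * g₁⁻¹
      rw [hgi]; group
  have hcardSy : Nat.card ((S : Subgroup G).map (MulAut.conj g₁).toMonoidHom) = p ^ (Nat.card G).factorization p := by
    rw [Subgroup.card_map_of_injective (MulAut.conj g₁).injective]
    exact Sylow.card_eq_multiplicity S
  have hK0 : Nat.card ↥(G₁ ⊓ Cfsg.subgroupConjRight g G₂) ≠ 0 := Nat.card_pos.ne'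
  have hG0 : Nat.card G ≠ 0 := Nat.card_pos.ne'
  have hfac : (Nat.card ↥(G₁ ⊓ Cfsg.subgroupConjRight g G₂)).factorization p = (Nat.card G).factorization p := by
    apply le_antisymm
    · exact (Nat.factorization_le_iff_dvd hK0 hG0).mpr (Subgroup.card_subgroup_dvd_card _) p
    · have h3 : p ^ (Nat.card G).factorization p ∣ Nat.card ↥(G₁ ⊓ Cfsg.subgroupConjRight g G₂) := by
        rw [← hcardSy]
        exact Subgroup.card_dvd_of_le hSyK
      exact (Nat.Prime.pow_dvd_iff_le_factorization hp hK0).mp h3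
  have hDp : IsPGroup p ↥(((S : Subgroup G) ⊓ Cfsg.subgroupConjRight g (S : Subgroup G)).subgroupOf
      (G₁ ⊓ Cfsg.subgroupConjRight g G₂)) :=
    (IsPGroup.to_le S.isPGroup' inf_le_left).comap_subtype
  obtain ⟨Q, hQ⟩ := IsPGroup.exists_le_sylow hDp
  have hcardU : Nat.card ((Q : Subgroup ↥(G₁ ⊓ Cfsg.subgroupConjRight g G₂)).map
      (G₁ ⊓ Cfsg.subgroupConjRight g G₂).subtype) = p ^ (Nat.card G).factorization p := by
    rw [Subgroup.card_subtype, ← hfac]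
    exact Sylow.card_eq_multiplicity Q
  refine ⟨Sylow.ofCard _ hcardU, ?_, ?_⟩
  · rw [Sylow.coe_ofCard]
    have := Subgroup.map_mono (f := (G₁ ⊓ Cfsg.subgroupConjRight g G₂).subtype) hQ
    rwa [Subgroup.map_subgroupOf_eq_of_le hDK] at this
  · rw [Sylow.coe_ofCard]
    exact Subgroup.map_subtype_le _

end Cfsg.Agent.S2940
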