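import Cfsg.Statements.S0653
import Mathlib
import Cfsg.Agent.Lib.Helper1.ZJ4
import Cfsg.Agent.Lib.Helper1.Glauberman2
import Cfsg.Agent.Lib.Helper1.Abel

set_option autoImplicit false
open Cfsg

namespace Cfsg.Agent.S0653

open Cfsg.Agent.Lib.Helper1

theorem thompsonSubgroupAOf_eq_sSup {G : Type*} [Group G] (U : Subgroup G) :
    Cfsg.thompsonSubgroupAOf U = sSup (Set.image (fun A : Subgroup ↥U => A.map U.subtype)
      (Cfsg.maxAbelianSubgroups ↥U)) := by
  unfold Cfsg.thompsonSubgroupAOf Cfsg.thompsonSubgroupA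
  apply le_antisymm
  · rw [Subgroup.map_le_iff_le_comap]
    apply sSup_le
    intro A hA
    rw [← Subgroup.map_le_iff_le_comap]
    exact le_sSup ⟨A, hA, rfl⟩
  · apply sSup_le
    rintro _ ⟨A, hA, rfl⟩
    exact Subgroup.map_mono (le_sSup hA)

theorem centerThompsonAOf_eq_zjW {G : Type*} [Group G] [Finite G] (S : Subgroup G) :
    Cfsg.centerThompsonAOf S = zjW (fun U => ∀ x ∈ U, ∀ y ∈ U, x * y = y * x) S := by
  have hset : Set.image (fun A : Subgroup ↥S => A.map S.subtype) (Cfsg.maxAbelianSubgroups ↥S)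
      = {U | IsMaxGood (fun U => ∀ x ∈ U, ∀ y ∈ U, x * y = y * x) S U} := by
    ext U
    rw [mem_image_maxAb_iff]
    rfl
  unfold Cfsg.centerThompsonAOf
  rw [thompsonSubgroupAOf_eq_sSup, hset]
  obtain ⟨A₀, hA₀⟩ := exists_isMaxGood (fun U : Subgroup G => ∀ x ∈ U, ∀ y ∈ U, x * y = y * x) S
    (by intro x hx y hy; rw [Subgroup.mem_bot] at hx hy; rw [hx, hy])
  apply le_antisymm
  · intro x hx
    obtain ⟨hxJ, hxC⟩ := Subgroup.mem_inf.mp hx
    unfold zjW
    rw [Subgroup.mem_sInf]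
    intro A hA
    have hJS : sSup {U | IsMaxGood (fun U => ∀ x ∈ U, ∀ y ∈ U, x * y = y * x) S U} ≤ S :=
      sSup_le (fun U hU => hU.1)
    have hxS := hJS hxJ
    have hAJ : A ≤ sSup {U | IsMaxGood (fun U => ∀ x ∈ U, ∀ y ∈ U, x * y = y * x) S U} :=
      le_sSup hA
    have hxA : ∀ a ∈ A, a * x = x * a :=
      fun a ha => Subgroup.mem_centralizer_iff.mp hxC a (hAJ ha)
    have hcomm := comm_of_isMulCommutative
      (isMulCommutative_sup_zpowers (isMulCommutative_of_comm hA.2.1) x hxA)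
    have hle : A ⊔ Subgroup.zpowers x ≤ S :=
      sup_le hA.1 (by rw [Subgroup.zpowers_le]; exact hxS)
    have hcard := hA.2.2 _ hle hcomm
    have h1 : A = A ⊔ Subgroup.zpowers x := Subgroup.eq_of_le_of_card_ge le_sup_left hcard
    rw [h1]
    exact (le_sup_right : Subgroup.zpowers x ≤ _) (Subgroup.mem_zpowers x)
  · intro x hx
    have hxA : ∀ A, IsMaxGood (fun U => ∀ x ∈ U, ∀ y ∈ U, x * y = y * x) S A → x ∈ A :=
      fun A hA => zjW_le_of _ hA hx
    have hA₀J : A₀ ≤ sSup {U | IsMaxGood (fun U => ∀ x ∈ U, ∀ y ∈ U, x * y = y * x) S U} :=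
      le_sSup hA₀
    refine Subgroup.mem_inf.mpr ⟨hA₀J (hxA A₀ hA₀), ?_⟩
    rw [Subgroup.mem_centralizer_iff]
    intro y hy
    have hle : sSup {U | IsMaxGood (fun U => ∀ x ∈ U, ∀ y ∈ U, x * y = y * x) S U}
        ≤ Subgroup.centralizer ({x} : Set G) := by
      apply sSup_le
      intro A hA a ha
      rw [Subgroup.mem_centralizer_iff]
      intro h hh
      rw [Set.mem_singleton_iff] at hh
      subst hh
      exact hA.2.1 _ (hxA A hA) _ ha
    exact (Subgroup.mem_centralizer_iff.mp (hle hy) x rfl).symm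

/-- Glauberman's ZJ-Theorem: for odd p, if the largest normal p-subgroup of G contains its centralizer and G acts p-stably on every normal p-subgroup, then the centre of the abelian-version Thompson subgroup of a Sylow p-subgroup is a characteristic subgroup of G. -/
theorem result {G : Type*} [Group G] [Finite G] {p : ℕ} [Fact p.Prime] (hp : p ≠ 2) (hc : Subgroup.centralizer (Cfsg.pCore p G : Set G) ≤ Cfsg.pCore p G) (hst : ∀ (P : Subgroup G) [P.Normal], IsPGroup p P → Cfsg.IsPStableOn p P) (S : Sylow p G) : (Cfsg.centerThompsonAOf ((S : Subgroup G))).Characteristic := by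
  rw [centerThompsonAOf_eq_zjW]
  apply zj_characteristic _ hp hc hst S
  · intro x hx y hy
    rw [Subgroup.mem_bot] at hx hy
    rw [hx, hy]
  · intro U h
    exact h
  · rintro U ψ h _ ⟨a, ha, rfl⟩ _ ⟨b, hb, rfl⟩
    rw [← map_mul, ← map_mul, h a ha b hb]
  · intro A A' _ h _
    exact h

end Cfsg.Agent.S0653
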