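import Cfsg.Statements.S3079
import Mathlib
import Cfsg.Agent.Lib.Helper1.ZJD
import Cfsg.Agent.S0653

set_option autoImplicit false
open Cfsg

namespace Cfsg.Agent.S3079

open Cfsg.Agent.Lib.Helper1

theorem thompsonSubgroupOf_eq_sSup {G : Type*} [Group G] (p : ℕ) (U : Subgroup G) :
    Cfsg.thompsonSubgroupOf p U = sSup (Set.image (fun A : Subgroup ↥U => A.map U.subtype)
      (Cfsg.maxElementaryAbelianSubgroups p ↥U)) := by
  unfold Cfsg.thompsonSubgroupOf Cfsg.thompsonSubgroup
  apply le_antisymm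
  · rw [Subgroup.map_le_iff_le_comap]
    apply sSup_le
    intro A hA
    rw [← Subgroup.map_le_iff_le_comap]
    exact le_sSup ⟨A, hA, rfl⟩
  · apply sSup_le
    rintro _ ⟨A, hA, rfl⟩
    exact Subgroup.map_mono (le_sSup hA)

theorem pow_eq_one_of_mem_sup {G : Type*} [Group G] {A B : Subgroup G} (n : ℕ)
    (hcomm : ∀ a ∈ A ⊔ B, ∀ b ∈ A ⊔ B, a * b = b * a)
    (hA : ∀ a ∈ A, a ^ n = 1) (hB : ∀ b ∈ B, b ^ n = 1) : ∀ y ∈ A ⊔ B, y ^ n = 1 := by
  intro y hy
  have hsup : A ⊔ B = Subgroup.closure ((A : Set G) ∪ B) := by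
    rw [Subgroup.closure_union, Subgroup.closure_eq, Subgroup.closure_eq]
  have hy' : y ∈ Subgroup.closure ((A : Set G) ∪ B) := by rw [← hsup]; exact hy
  clear hy
  induction hy' using Subgroup.closure_induction with
  | mem x hx =>
    rcases hx with hx | hx
    · exact hA x hx
    · exact hB x hx
  | one => exact one_pow n
  | mul x y hx hy ihx ihy =>
    have hx' : x ∈ A ⊔ B := by rw [hsup]; exact hx
    have hy'' : y ∈ A ⊔ B := by rw [hsup]; exact hy
    have hc : Commute x y := hcomm x hx' y hy''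
    rw [hc.mul_pow, ihx, ihy, one_mul]
  | inv x hx ih =>
    rw [inv_pow, ih, inv_one]

theorem isElementaryAbelian_bot {G : Type*} [Group G] (p : ℕ) :
    Cfsg.IsElementaryAbelian p (⊥ : Subgroup G) := by
  refine ⟨isMulCommutative_of_comm ?_, ?_⟩
  · intro x hx y hy
    rw [Subgroup.mem_bot] at hx hy
    rw [hx, hy]
  · intro a ha
    rw [Subgroup.mem_bot] at ha
    rw [ha, one_pow]

theorem omegaOne_centerThompsonOf_eq_zjW {G : Type*} [Group G] [Finite G] (p : ℕ)
    (S : Subgroup G) :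
    Cfsg.omegaOne p (Cfsg.centerThompsonOf p S) = zjW (Cfsg.IsElementaryAbelian p) S := by
  have hset : Set.image (fun A : Subgroup ↥S => A.map S.subtype)
      (Cfsg.maxElementaryAbelianSubgroups p ↥S)
      = {U | IsMaxGood (Cfsg.IsElementaryAbelian p) S U} := by
    ext U
    rw [mem_image_maxEA_iff]
    rfl
  obtain ⟨A₀, hA₀⟩ := exists_isMaxGood (Cfsg.IsElementaryAbelian p) S (isElementaryAbelian_bot p)
  unfold Cfsg.omegaOne Cfsg.centerThompsonOf
  rw [thompsonSubgroupOf_eq_sSup, hset]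
  apply le_antisymm
  · rw [Subgroup.closure_le]
    rintro x ⟨hx, hxp⟩
    obtain ⟨hxJ, hxC⟩ := Subgroup.mem_inf.mp hx
    show x ∈ zjW (Cfsg.IsElementaryAbelian p) S
    unfold zjW
    rw [Subgroup.mem_sInf]
    intro A hA
    have hJS : sSup {U | IsMaxGood (Cfsg.IsElementaryAbelian p) S U} ≤ S :=
      sSup_le (fun U hU => hU.1)
    have hxS := hJS hxJ
    have hAJ : A ≤ sSup {U | IsMaxGood (Cfsg.IsElementaryAbelian p) S U} := le_sSup hA
    have hxA : ∀ a ∈ A, a * x = x * a :=
      fun a ha => Subgroup.mem_centralizer_iff.mp hxC a (hAJ ha)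
    have hcm := isMulCommutative_sup_zpowers hA.2.1.1 x hxA
    have hEA : Cfsg.IsElementaryAbelian p (A ⊔ Subgroup.zpowers x) := by
      refine ⟨hcm, ?_⟩
      apply pow_eq_one_of_mem_sup p (comm_of_isMulCommutative hcm) hA.2.1.2
      intro b hb
      obtain ⟨k, rfl⟩ := Subgroup.mem_zpowers_iff.mp hb
      rw [← zpow_natCast, ← zpow_mul, mul_comm, zpow_mul, zpow_natCast, hxp, one_zpow]
    have hle : A ⊔ Subgroup.zpowers x ≤ S :=
      sup_le hA.1 (by rw [Subgroup.zpowers_le]; exact hxS)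
    have hcard := hA.2.2 _ hle hEA
    have h1 : A = A ⊔ Subgroup.zpowers x := Subgroup.eq_of_le_of_card_ge le_sup_left hcard
    rw [h1]
    exact (le_sup_right : Subgroup.zpowers x ≤ _) (Subgroup.mem_zpowers x)
  · intro x hx
    have hxA : ∀ A, IsMaxGood (Cfsg.IsElementaryAbelian p) S A → x ∈ A :=
      fun A hA => zjW_le_of _ hA hx
    apply Subgroup.subset_closure
    have hA₀J : A₀ ≤ sSup {U | IsMaxGood (Cfsg.IsElementaryAbelian p) S U} := le_sSup hA₀
    refine ⟨Subgroup.mem_inf.mpr ⟨hA₀J (hxA A₀ hA₀), ?_⟩, hA₀.2.1.2 x (hxA A₀ hA₀)⟩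
    rw [Subgroup.mem_centralizer_iff]
    intro y hy
    have hle : sSup {U | IsMaxGood (Cfsg.IsElementaryAbelian p) S U}
        ≤ Subgroup.centralizer ({x} : Set G) := by
      apply sSup_le
      intro A hA a ha
      rw [Subgroup.mem_centralizer_iff]
      intro h hh
      rw [Set.mem_singleton_iff] at hh
      subst hh
      exact comm_of_isMulCommutative hA.2.1.1 _ (hxA A hA) _ ha
    exact (Subgroup.mem_centralizer_iff.mp (hle hy) x rfl).symm

theorem pstableOn_of_normalizer {G : Type*} [Group G] [Finite G] {p : ℕ} [Fact p.Prime]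
    (hst : Cfsg.IsNormalizerPStable p G) (B : Subgroup G) [hBn : B.Normal] (hB : IsPGroup p B) :
    Cfsg.IsPStableOn p B := by
  intro a hq
  have hN : Subgroup.normalizer (B : Set G) = ⊤ := Subgroup.normalizer_eq_top_iff.mpr hBn
  have ha : a ∈ Subgroup.normalizer (B : Set G) := by rw [hN]; trivial
  have h := hst B hB a ha hq
  obtain ⟨φ, hφ⟩ : ∃ φ : ↥(Subgroup.normalizer (B : Set G)) ⧸
      (Subgroup.centralizer (B : Set G)).subgroupOf (Subgroup.normalizer (B : Set G)) →*
      G ⧸ Subgroup.centralizer (B : Set G),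
      ∀ x : ↥(Subgroup.normalizer (B : Set G)), φ (QuotientGroup.mk x) = QuotientGroup.mk (x : G) :=
    ⟨QuotientGroup.map _ _ (Subgroup.normalizer (B : Set G)).subtype (fun x hx => hx),
      fun x => rfl⟩
  have hsurj : Function.Surjective φ := by
    intro y
    obtain ⟨g, rfl⟩ := QuotientGroup.mk_surjective y
    exact ⟨QuotientGroup.mk ⟨g, by rw [hN]; trivial⟩, hφ _⟩
  have h2 := pCore_map_le p φ hsurj (Subgroup.mem_map_of_mem φ h)
  rw [hφ] at h2
  exact h2

/-- Glauberman's ZJ-Theorem for strongly closed subgroups, p odd. Let G be a finite group that is p-stable in the normalizer form (for every p-subgroup U and g ∈ N_G(U) with [U, g, g] = 1, the image of g lies in O_p(N_G(U)/C_G(U))), with C_G(O_p(G)) ≤ O_p(G), let P be a Sylow p-subgroup and D a subgroup of P strongly closed in P with respect to G. Then Z(J(D)) is normal in G, where J(D) is generated by the abelian subgroups of D of largest order; and so is Ω₁(Z(J_e(D))), where J_e(D) is generated by the elementary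 abelian subgroups of D of largest order. -/
theorem result {G : Type*} [Group G] [Finite G] {p : ℕ} [Fact p.Prime] (hp : p ≠ 2) (P : Sylow p G) (D : Subgroup G) (hD : Cfsg.IsStronglyClosed D (P : Subgroup G)) (hst : Cfsg.IsNormalizerPStable p G) (hc : Subgroup.centralizer ((Cfsg.pCore p G : Subgroup G) : Set G) ≤ Cfsg.pCore p G) : (Cfsg.centerThompsonAOf D).Normal ∧ (Cfsg.omegaOne p (Cfsg.centerThompsonOf p D)).Normal := by
  have hstOn : ∀ (B : Subgroup G) [B.Normal], IsPGroup p B → Cfsg.IsPStableOn p B :=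
    fun B _ hB => pstableOn_of_normalizer hst B hB
  constructor
  · rw [Cfsg.Agent.S0653.centerThompsonAOf_eq_zjW]
    apply zjd_normal _ hp hc hstOn P D hD
    · intro x hx y hy
      rw [Subgroup.mem_bot] at hx hy
      rw [hx, hy]
    · intro U h
      exact h
    · rintro U ψ h _ ⟨a, ha, rfl⟩ _ ⟨b, hb, rfl⟩
      rw [← map_mul, ← map_mul, h a ha b hb]
    · intro A A' _ h _
      exact h
  · rw [omegaOne_centerThompsonOf_eq_zjW]
    apply zjd_normal _ hp hc hstOn P D hD
    · exact isElementaryAbelian_bot p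
    · intro U h
      exact comm_of_isMulCommutative h.1
    · intro U ψ h
      refine ⟨isMulCommutative_of_comm ?_, ?_⟩
      · rintro _ ⟨a, ha, rfl⟩ _ ⟨b, hb, rfl⟩
        rw [← map_mul, ← map_mul, comm_of_isMulCommutative h.1 a ha b hb]
      · rintro _ ⟨a, ha, rfl⟩
        rw [← map_pow, h.2 a ha, map_one]
    · intro A A' hA hcomm hexp
      exact ⟨isMulCommutative_of_comm hcomm, hexp p hA.2⟩

end Cfsg.Agent.S3079
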