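import Mathlib
import Cfsg.Statements.S0655
import Cfsg.Agent.Lib.Helper1.Thompson

set_option autoImplicit false
open Cfsg
open Cfsg.Agent.Lib.Helper1

namespace Cfsg.Agent.S0655

theorem result {S : Type*} [Group S] [Finite S] {p : ℕ} [Fact p.Prime] (hS : IsPGroup p S) : sInf (Cfsg.maxElementaryAbelianSubgroups p S) = Cfsg.omegaCenterThompson p S ∧ Cfsg.omegaCenterThompson p S = Cfsg.omegaOne p (Subgroup.centralizer (Cfsg.thompsonSubgroup p S : Set S)) := by
  have ha : sInf (maxElementaryAbelianSubgroups p S) ≤ omegaCenterThompson p S := by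
    intro x hx
    rw [Subgroup.mem_sInf] at hx
    apply Subgroup.subset_closure
    obtain ⟨A, hA⟩ := maxEA_nonempty (G := S) p
    have hle : thompsonSubgroup p S ≤ Subgroup.centralizer ({x} : Set S) := by
      apply sSup_le
      intro B hB b hb
      rw [Subgroup.mem_centralizer_iff]; rintro _ rfl
      exact comm_of_isMulCommutative hB.1.1 _ (hx B hB) b hb
    have hxc : x ∈ Subgroup.centralizer (thompsonSubgroup p S : Set S) := by
      rw [Subgroup.mem_centralizer_iff]
      intro h hh
      exact (Subgroup.mem_centralizer_iff.mp (hle hh) x rfl).symm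
    exact ⟨⟨le_sSup hA (hx A hA), hxc⟩, hA.1.2 x (hx A hA)⟩
  have hb : omegaCenterThompson p S ≤
      omegaOne p (Subgroup.centralizer (thompsonSubgroup p S : Set S)) := by
    apply Subgroup.closure_mono
    rintro x ⟨hx, hxp⟩
    exact ⟨hx.2, hxp⟩
  have hc : omegaOne p (Subgroup.centralizer (thompsonSubgroup p S : Set S)) ≤
      sInf (maxElementaryAbelianSubgroups p S) := by
    unfold omegaOne
    rw [Subgroup.closure_le]
    rintro x ⟨hx, hxp⟩
    rw [SetLike.mem_coe, Subgroup.mem_sInf]
    intro A hA
    apply mem_of_maxEA hA x _ hxp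
    intro a ha
    exact Subgroup.mem_centralizer_iff.mp hx a (le_sSup hA ha)
  exact ⟨le_antisymm ha (hb.trans hc), le_antisymm hb (hc.trans ha)⟩

end Cfsg.Agent.S0655
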