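import Cfsg.Statements.S0029
import Mathlib
import Cfsg.Agent.Lib.Lead.Charac
-- import your own Cfsg.Agent.* helpers here

set_option autoImplicit false
open Cfsg

namespace Cfsg.Agent.S0029

open scoped commutatorElement
open scoped Pointwise

/-- An action that is trivial on the Frattini quotient and coprime on the Frattini subgroup is trivial: if A normalises K, the orders of A and of the Frattini subgroup of K are coprime, and every commutator of an element of A with an element of K lies in the Frattini subgroup of K, then A centralises K. -/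
theorem result {G : Type*} [Group G] [Finite G] (A K : Subgroup G)
    (hAK : A ≤ Subgroup.normalizer (K : Set G))
    (hcop : (Nat.card A).Coprime (Nat.card (frattini K)))
    (htriv : ∀ a ∈ A, ∀ k ∈ K, a * k * a⁻¹ * k⁻¹ ∈ (frattini K).map K.subtype) :
    A ≤ Subgroup.centralizer (K : Set G) := by
  have hΦK : (frattini K).map K.subtype ≤ K := Subgroup.map_subtype_le _
  have hNΦ := Cfsg.Agent.Lib.Lead.le_normalizer_map_of_characteristic K (frattini K)
  have hKΦ : K ≤ Subgroup.normalizer (((frattini K).map K.subtype : Subgroup G) : Set G) :=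
    Subgroup.le_normalizer.trans hNΦ
  have hAΦ : A ≤ Subgroup.normalizer (((frattini K).map K.subtype : Subgroup G) : Set G) := hAK.trans hNΦ
  have hcardΦ : Nat.card ((frattini K).map K.subtype) = Nat.card (frattini K) :=
    Subgroup.card_map_of_injective K.subtype_injective
  have hcopΦ : (Nat.card ((frattini K).map K.subtype)).Coprime (Nat.card A) := by
    rw [hcardΦ]; exact hcop.symm
  have hsolvΦ : Group.IsSolvable ((frattini K).map K.subtype) := by
    haveI : Group.IsNilpotent (frattini K) := frattini_nilpotent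
    exact Group.isSolvable_of_isSolvable_injective
      (f := ((frattini K).equivMapOfInjective K.subtype K.subtype_injective).symm.toMonoidHom)
      ((frattini K).equivMapOfInjective K.subtype K.subtype_injective).symm.injective
  have hdisj : (frattini K).map K.subtype ⊓ A = ⊥ := (Subgroup.disjoint_of_coprime_natCard hcopΦ).eq_bot
  have key : ∀ k ∈ K, ∃ d ∈ (frattini K).map K.subtype, k * d ∈ Subgroup.centralizer (A : Set G) := by
    intro k hk
    have hinv : ∀ a ∈ A, k⁻¹ * a * k * a⁻¹ ∈ (frattini K).map K.subtype := by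
      intro a ha
      have h1 := htriv a⁻¹ (A.inv_mem ha) k hk
      have h2 : k⁻¹ * (a⁻¹ * k * a⁻¹⁻¹ * k⁻¹) * k ∈ (frattini K).map K.subtype :=
        (Subgroup.mem_normalizer_iff''.mp (hKΦ hk) _).mp h1
      have h3 := Subgroup.inv_mem _ h2
      have h4 := (Subgroup.mem_normalizer_iff.mp (hAΦ ha) _).mp h3
      have h5 : a * (k⁻¹ * (a⁻¹ * k * a⁻¹⁻¹ * k⁻¹) * k)⁻¹ * a⁻¹ = k⁻¹ * a * k * a⁻¹ := by group
      rwa [h5] at h4
    obtain ⟨d, hd, hdA⟩ := Cfsg.Agent.Lib.Lead.coset_normalizes A _ hAΦ hcopΦ (Or.inr hsolvΦ) k hinv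
    refine ⟨d, hd, ?_⟩
    have hcK : k * d ∈ K := K.mul_mem hk (hΦK hd)
    rw [Subgroup.mem_centralizer_iff]
    intro a ha
    have h1 : (k * d) * a * (k * d)⁻¹ ∈ A := by
      have := Cfsg.Agent.Lib.Lead.conj_mem_conj_smul (g := k * d) ha
      rwa [hdA] at this
    have h2 := Subgroup.inv_mem _ (htriv a ha (k * d) hcK)
    have h3 : (a * (k * d) * a⁻¹ * (k * d)⁻¹)⁻¹ = (k * d) * a * (k * d)⁻¹ * a⁻¹ := by group
    rw [h3] at h2
    have h4 : (k * d) * a * (k * d)⁻¹ * a⁻¹ ∈ (frattini K).map K.subtype ⊓ A :=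
      ⟨h2, A.mul_mem h1 (A.inv_mem ha)⟩
    rw [hdisj, Subgroup.mem_bot] at h4
    have h5 : (k * d) * a = a * (k * d) := by
      have : (k * d) * a * (k * d)⁻¹ * a⁻¹ * (a * (k * d)) = a * (k * d) := by rw [h4, one_mul]
      rw [← this]; group
    exact h5.symm
  have htop : (K ⊓ Subgroup.centralizer (A : Set G)).subgroupOf K = ⊤ := by
    apply frattini_nongenerating
    rw [eq_top_iff]
    rintro ⟨k, hk⟩ -
    obtain ⟨d, hd, hc⟩ := key k hk
    obtain ⟨y, hy, rfl⟩ := hd
    have h1 : (⟨k, hk⟩ : K) = (⟨k, hk⟩ * y) * y⁻¹ := by group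
    rw [h1]
    refine Subgroup.mul_mem _ (Subgroup.mem_sup_left ?_) (Subgroup.mem_sup_right (Subgroup.inv_mem _ hy))
    rw [Subgroup.mem_subgroupOf]
    exact ⟨K.mul_mem hk y.2, hc⟩
  intro a ha
  rw [Subgroup.mem_centralizer_iff]
  intro k hk
  have h1 : (⟨k, hk⟩ : K) ∈ (K ⊓ Subgroup.centralizer (A : Set G)).subgroupOf K := by rw [htop]; trivial
  rw [Subgroup.mem_subgroupOf] at h1
  exact ((Subgroup.mem_centralizer_iff.mp h1.2) a ha).symm

end Cfsg.Agent.S0029
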