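import Mathlib
import Cfsg.Statements.S0602
import Cfsg.Agent.Lib.Helper1.Thompson

set_option autoImplicit false
open Cfsg
open Cfsg.Agent.Lib.Helper1

namespace Cfsg.Agent.S0602

theorem result {G : Type*} [Group G] [Finite G] {p : ℕ} [Fact p.Prime] : (Cfsg.thompsonSubgroup p G).Characteristic ∧ (p ∣ Nat.card G → Cfsg.thompsonSubgroup p G ≠ ⊥) := by
  constructor
  · rw [Subgroup.characteristic_iff_map_le]
    intro ϕ
    rw [Subgroup.map_le_iff_le_comap]
    apply sSup_le
    intro A hA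
    rw [← Subgroup.map_le_iff_le_comap]
    apply le_sSup
    have hcardA : Nat.card (A.map ϕ.toMonoidHom) = Nat.card A :=
      Subgroup.card_map_of_injective ϕ.injective
    refine ⟨⟨isMulCommutative_of_comm ?_, ?_⟩, ?_⟩
    · rintro _ ⟨a, ha, rfl⟩ _ ⟨b, hb, rfl⟩
      show ϕ a * ϕ b = ϕ b * ϕ a
      rw [← map_mul, ← map_mul, comm_of_isMulCommutative hA.1.1 a ha b hb]
    · rintro _ ⟨a, ha, rfl⟩
      show ϕ a ^ p = 1
      rw [← map_pow, hA.1.2 a ha, map_one]
    · intro B hB
      rw [hcardA]; exact hA.2 B hB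
  · intro hp
    obtain ⟨x, hx⟩ := exists_prime_orderOf_dvd_card' p hp
    obtain ⟨A, hA⟩ := maxEA_nonempty (G := G) p
    have hZ : IsElementaryAbelian p (Subgroup.zpowers x) := by
      refine ⟨isMulCommutative_of_comm ?_, ?_⟩
      · intro z hz w hw
        obtain ⟨m, rfl⟩ := Subgroup.mem_zpowers_iff.mp hz
        obtain ⟨n, rfl⟩ := Subgroup.mem_zpowers_iff.mp hw
        exact zpow_mul_comm x m n
      · intro z hz
        obtain ⟨n, rfl⟩ := Subgroup.mem_zpowers_iff.mp hz
        rw [← zpow_natCast, ← zpow_mul, mul_comm, zpow_mul, zpow_natCast, ← hx,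
          pow_orderOf_eq_one, one_zpow]
    have hcard := hA.2 _ hZ
    rw [Nat.card_zpowers, hx] at hcard
    intro hJ
    have hAbot : A = ⊥ := by rw [eq_bot_iff, ← hJ]; exact le_sSup hA
    rw [hAbot, Subgroup.card_bot] at hcard
    have := (Fact.out : p.Prime).two_le
    omega

end Cfsg.Agent.S0602
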