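import Cfsg.Statements.S0607
import Mathlib
import Cfsg.Agent.Lib.Helper1.TReplace2

set_option autoImplicit false
open Cfsg

namespace Cfsg.Agent.S0607

/-- The replacement Theorem for the Thompson subgroup: from A of maximal order among elementary abelian p-subgroups one obtains A₀ = [V, A] C_A([V, A]) of the same kind, quadratic on V and nontrivial on V when A is. -/
theorem result {G : Type*} [Group G] [Finite G] {p : ℕ} [Fact p.Prime] (V : Subgroup G) [V.Normal] (hV : Cfsg.IsElementaryAbelian p V) (A : Subgroup G) (hA : A ∈ Cfsg.maxElementaryAbelianSubgroups p G) : (⁅V, A⁆ ⊔ (A ⊓ Subgroup.centralizer ((⁅V, A⁆ : Subgroup G) : Set G))) ∈ Cfsg.maxElementaryAbelianSubgroups p G ∧ ⁅⁅V, ⁅V, A⁆ ⊔ (A ⊓ Subgroup.centralizer ((⁅V, A⁆ : Subgroup G) : Set G))⁆, ⁅V, A⁆ ⊔ (A ⊓ Subgroup.centralizer ((⁅V, A⁆ : Subgroup G) : Set G))⁆ = ⊥ ∧ (⁅V, A⁆ ≠ ⊥ → ⁅V, ⁅V, A⁆ ⊔ (A ⊓ Subgroup.centralizer ((⁅V, A⁆ : Subgroup G) : Set G))⁆ ≠ ⊥) := by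
  have hVc := Cfsg.Agent.Lib.Helper1.comm_of_isMulCommutative hV.1
  have hAc := Cfsg.Agent.Lib.Helper1.comm_of_isMulCommutative hA.1.1
  have hAV : A ≤ Subgroup.normalizer (V : Set G) := Subgroup.le_normalizer_of_normal
  have hab : ⁅A, A⁆ ≤ Subgroup.centralizer (V : Set G) := by
    rw [Subgroup.commutator_self_eq_bot_iff.mpr hA.1.1]; exact bot_le
  have hmax := fun B hB => Cfsg.Agent.Lib.Helper1.offm_le_of_max hV hA B hB
  obtain ⟨h1, h2⟩ := Cfsg.Agent.Lib.Helper1.replacement V A hVc hAV hab hmax V le_rfl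
  have h1' := h1
  obtain ⟨W, hW⟩ : ∃ W : Subgroup G, W = ⁅V, A⁆ := ⟨_, rfl⟩
  obtain ⟨As, hAs⟩ : ∃ As : Subgroup G, As = A ⊓ Subgroup.centralizer (W : Set G) := ⟨_, rfl⟩
  obtain ⟨C, hC⟩ : ∃ C : Subgroup G, C = V ⊓ Subgroup.centralizer (A : Set G) := ⟨_, rfl⟩
  rw [← hW] at h1 h2 ⊢
  rw [← hAs] at h1 h2 ⊢
  rw [← hC] at h1
  have hWV : W ≤ V := by
    rw [hW]; exact Cfsg.Agent.Lib.Helper1.commutator_le_of_le_normalizer' hAV le_rfl
  have hAsA : As ≤ A := by rw [hAs]; exact inf_le_left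
  have hCA : C ≤ A := by
    have hea := Cfsg.Agent.Lib.Helper1.ea_sup_centralizer hV hA.1
    have hcard := hA.2 _ hea
    have h3 : A = A ⊔ (V ⊓ Subgroup.centralizer (A : Set G)) :=
      Subgroup.eq_of_le_of_card_ge le_sup_left hcard
    calc C = V ⊓ Subgroup.centralizer (A : Set G) := hC
      _ ≤ A ⊔ (V ⊓ Subgroup.centralizer (A : Set G)) := le_sup_right
      _ = A := h3.symm
  have hCAs : C ≤ As := by
    rw [hAs]; refine le_inf hCA ?_
    intro c hc
    rw [Subgroup.mem_centralizer_iff]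
    intro w hw
    exact hVc w (hWV hw) c (by rw [hC] at hc; exact (Subgroup.mem_inf.mp hc).1)
  have hA0 : W ⊔ As = As ⊔ (V ⊓ Subgroup.centralizer (As : Set G)) := by
    rw [h1]
    apply le_antisymm
    · exact sup_le (le_sup_left.trans le_sup_right) le_sup_left
    · exact sup_le le_sup_right (sup_le le_sup_left (hCAs.trans le_sup_right))
  have hAsea : Cfsg.IsElementaryAbelian p As :=
    Cfsg.Agent.Lib.Helper1.isElementaryAbelian_of_le hA.1 hAsA
  have hA0ea : Cfsg.IsElementaryAbelian p (W ⊔ As) := by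
    rw [hA0]; exact Cfsg.Agent.Lib.Helper1.ea_sup_centralizer hV hAsea
  have hcard : Nat.card A ≤ Nat.card ↥(W ⊔ As) := by
    have e1 := Cfsg.Agent.Lib.Helper5.card_mul_card_le As (V ⊓ Subgroup.centralizer (As : Set G))
    rw [← hA0] at e1
    have e2 : As ⊓ (V ⊓ Subgroup.centralizer (As : Set G)) ≤ C := by
      intro x hx
      obtain ⟨hxAs, hxV⟩ := Subgroup.mem_inf.mp hx
      rw [hC]
      refine Subgroup.mem_inf.mpr ⟨(Subgroup.mem_inf.mp hxV).1, ?_⟩
      rw [Subgroup.mem_centralizer_iff]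
      intro a ha
      exact hAc a ha x (hAsA hxAs)
    have e3 := Subgroup.card_le_of_le e2
    unfold Cfsg.Agent.Lib.Helper1.offm at h2
    rw [← hC] at h2
    have e4 : Nat.card A * Nat.card C ≤ Nat.card ↥(W ⊔ As) * Nat.card C := by
      rw [h2]; exact e1.trans (Nat.mul_le_mul_left _ e3)
    exact Nat.le_of_mul_le_mul_right e4 Nat.card_pos
  refine ⟨⟨hA0ea, fun B hB => (hA.2 B hB).trans hcard⟩, ?_, ?_⟩
  · have hle : ⁅V, W ⊔ As⁆ ≤ W := by
      rw [Subgroup.commutator_comm]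
      apply Cfsg.Agent.Lib.Helper1.commutator_sup_le
      · exact Subgroup.le_normalizer
      · exact hAsA.trans (by rw [hW]; exact Subgroup.normalizer_commutator_ge_right V A)
      · have h3 : ⁅W, V⁆ = ⊥ := Subgroup.commutator_eq_bot_iff_le_centralizer.mpr (fun w hw => by
          rw [Subgroup.mem_centralizer_iff]; intro v hv; exact hVc v hv w (hWV hw))
        rw [h3]; exact bot_le
      · rw [Subgroup.commutator_comm, hW]
        exact Subgroup.commutator_mono le_rfl hAsA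
    have hcent : W ≤ Subgroup.centralizer ((W ⊔ As : Subgroup G) : Set G) := by
      rw [Subgroup.le_centralizer_iff]
      apply sup_le
      · intro w hw
        rw [Subgroup.mem_centralizer_iff]
        intro w' hw'
        exact hVc w' (hWV hw') w (hWV hw)
      · rw [hAs]; exact inf_le_right
    exact Subgroup.commutator_eq_bot_iff_le_centralizer.mpr (hle.trans hcent)
  · intro hne h0
    have h3 : ⁅V, As⁆ = ⊥ := by
      rw [← le_bot_iff, ← h0]; exact Subgroup.commutator_mono le_rfl le_sup_right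
    rw [hAs, hW] at h3
    rw [hW] at hne
    exact Cfsg.Agent.Lib.Helper1.repl_nontrivial V A V hV hAV
      (fun a ha => by rw [hA.1.2 a ha]; exact Subgroup.one_mem _) le_rfl h1' hne h3

end Cfsg.Agent.S0607
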