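import Cfsg.Statements.S0659
import Mathlib
import Cfsg.Agent.Lib.Helper1.GT8
import Cfsg.Agent.S0653

set_option autoImplicit false
open Cfsg

namespace Cfsg.Agent.S0659

open Cfsg.Agent.Lib.Helper1

universe u

/-- the functor `Q ↦ Z(J(Q))` (abelian version) -/
def zjFun (Q : Type u) [Group Q] : Subgroup Q := zjW goodAb (⊤ : Subgroup Q)

theorem zjFun_induced {G : Type u} [Group G] [Finite G] (S : Subgroup G) :
    Cfsg.inducedFunctor zjFun S = zjW goodAb S := by
  unfold Cfsg.inducedFunctor zjFun
  rw [← zjW_map (⊤ : Subgroup ↥S) S.subtype (by rw [S.ker_subtype, inf_bot_eq])]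
  congr 1
  rw [← MonoidHom.range_eq_map, Subgroup.range_subtype]

theorem zjFun_char (p : ℕ) [Fact p.Prime] : Cfsg.IsCharPFunctor.{u} p zjFun := by
  constructor
  · intro Q _ _ hQ hnt
    apply zjW_goodAb_ne_bot (⊤ : Subgroup Q) (hQ.to_subgroup ⊤)
    intro h
    obtain ⟨x, hx⟩ := exists_ne (1 : Q)
    have : x ∈ (⊤ : Subgroup Q) := trivial
    rw [h, Subgroup.mem_bot] at this
    exact hx this
  · intro Q R _ _ _ hQ φ
    haveI : Finite R := Finite.of_equiv Q φ.toEquiv
    unfold zjFun
    rw [← zjW_map (⊤ : Subgroup Q) φ.toMonoidHom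
      (by rw [(MonoidHom.ker_eq_bot_iff φ.toMonoidHom).mpr φ.injective, inf_bot_eq])]
    congr 1
    exact Subgroup.map_top_of_surjective _ φ.surjective

/-- Glauberman's normal p-complement Theorem with the abelian-version Thompson subgroup: for odd p, G has a normal p-complement whenever the normalizer of Z(J(P)) does. -/
theorem result {G : Type*} [Group G] [Finite G] {p : ℕ} [Fact p.Prime] (hp : p ≠ 2) (P : Sylow p G) (hN : Cfsg.HasNormalPComplement p ↥(Subgroup.normalizer (Cfsg.centerThompsonAOf ((P : Subgroup G)) : Set G))) : Cfsg.HasNormalPComplement p G := by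
  apply gr zjFun (zjFun_char p) (fun _ _ => True) (fun _ _ _ _ _ => trivial)
    (fun _ _ _ _ _ _ => trivial) ?_ trivial P ?_
  · intro X _ _ _ hc hbar T hT
    rw [zjFun_induced]
    apply zj_normal goodAb hp hc (fun B _ hB => min_pstable hp hbar T hT B hB) T
    · exact goodAb_bot
    · intro U h; exact h
    · intro U ψ h; exact goodAb_equiv U ψ h
    · intro A A' _ h _; exact h
  · have h1 : Cfsg.inducedFunctor zjFun (P : Subgroup G) = Cfsg.centerThompsonAOf (P : Subgroup G) := by
      rw [zjFun_induced]; exact (Cfsg.Agent.S0653.centerThompsonAOf_eq_zjW _).symm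
    rw [h1]; exact hN

end Cfsg.Agent.S0659
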