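import Cfsg.Statements.S2836
import Mathlib
import Cfsg.Statements.S2836
import Cfsg.Agent.Lib.Helper8.Syl
import Cfsg.Agent.Lib.Helper4.Basic
import Cfsg.Agent.Lib.Helper4.PIrr
import Cfsg.Agent.Lib.Helper7.PSolv3
import Cfsg.Agent.Lib.Lead.Coprime
import Cfsg.Agent.Lib.Helper5.OrbitCard

set_option autoImplicit false
open Cfsg
open scoped commutatorElement

namespace Cfsg.Agent.S2836

open scoped commutatorElement
open Cfsg.Agent.Lib.Helper8 Cfsg.Agent.Lib.Helper4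

theorem over_le {L : Type*} [Group L] [Finite L] {L₀ Y : Subgroup L} (hmin : Cfsg.IsMinimalOver Y)
    (hL₀ : IsCoatom L₀) (hY : Y ≤ L₀) (X : Subgroup L) (hYX : Y ≤ X) (hX : X ≠ ⊤) : X ≤ L₀ := by
  obtain ⟨M, hM, hXM⟩ := (eq_top_or_exists_le_coatom X).resolve_left hX
  obtain ⟨M₀, -, huniq⟩ := hmin.2
  have h1 := huniq M ⟨hM, hYX.trans hXM⟩
  have h2 := huniq L₀ ⟨hL₀, hY⟩
  rw [h2, ← h1]; exact hXM

theorem exists_normal_sylIn {L : Type*} [Group L] [Finite L] {p : ℕ} [Fact p.Prime] {L₀ Y : Subgroup L}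
    (hover : ∀ X : Subgroup L, Y ≤ X → X ≠ ⊤ → X ≤ L₀) (hL₀ : L₀ ≠ ⊤) (hYp : IsPGroup p ↥Y)
    (N : Subgroup L) (hN : N.Normal) (hNL : N ≤ L₀) : ∃ P : Subgroup L, SylIn p P N ∧ P.Normal := by
  have hNn : ∀ X : Subgroup L, X ≤ Subgroup.normalizer (N : Set L) := fun X => by
    rw [Subgroup.normalizer_eq_top_iff.mpr hN]; exact le_top
  obtain ⟨R, hR, hYR⟩ := exists_sylIn_ge hYp (le_sup_left : Y ≤ Y ⊔ N)
  have hP : SylIn p (R ⊓ N) N := hR.inf_of_normal le_sup_right (hNn _)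
  have hYP : Y ≤ Subgroup.normalizer ((R ⊓ N : Subgroup L) : Set L) := by
    intro y hy
    rw [mem_normalizer_iff_cj, cj_inf, mem_normalizer_iff_cj.mp (Subgroup.le_normalizer (hYR hy)),
      mem_normalizer_iff_cj.mp (hNn Y hy)]
  have hfr : ∀ g : L, ∃ n ∈ N, n * g ∈ Subgroup.normalizer ((R ⊓ N : Subgroup L) : Set L) := by
    intro g
    have h1 : cj g (R ⊓ N) ≤ N := by
      have := cj_mono (g := g) (inf_le_right : R ⊓ N ≤ N)
      rwa [mem_normalizer_iff_cj.mp (hNn ⊤ (Subgroup.mem_top g))] at this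
    obtain ⟨n, hn, hle⟩ := hP.exists_conj_le (isPGroup_cj hP.2.1 g) h1
    rw [cj_cj] at hle
    exact ⟨n, hn, mem_normalizer_iff_cj.mpr (Subgroup.eq_of_le_of_card_ge hle (by rw [card_cj]))⟩
  by_cases htop : Subgroup.normalizer ((R ⊓ N : Subgroup L) : Set L) = ⊤
  · exact ⟨R ⊓ N, hP, Subgroup.normalizer_eq_top_iff.mp htop⟩
  · exfalso
    have hle := hover _ hYP htop
    apply hL₀
    rw [eq_top_iff]
    intro g _
    obtain ⟨n, hn, hng⟩ := hfr g
    have : g = n⁻¹ * (n * g) := by group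
    rw [this]
    exact L₀.mul_mem (L₀.inv_mem (hNL hn)) (hle hng)

theorem normal_sylIn_props {L : Type*} [Group L] [Finite L] {p : ℕ} [Fact p.Prime] {N P : Subgroup L}
    (hP : SylIn p P N) (hPn : P.Normal) :
    Cfsg.IsPClosed p ↥N ∧ Cfsg.pCore p ↥N = P.subgroupOf N ∧ (Nat.card (↥N ⧸ Cfsg.pCore p ↥N)).Coprime p := by
  obtain ⟨R, hR⟩ := (sylIn_iff hP.1).mp hP
  have hRn : (R : Subgroup ↥N).Normal := by rw [hR]; exact hPn.subgroupOf N
  have hcore : Cfsg.pCore p ↥N = (R : Subgroup ↥N) :=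
    le_antisymm (Cfsg.Agent.Lib.Helper4.pCore_le_sylow R) (Cfsg.Agent.Lib.Helper4.le_pCore hRn R.isPGroup')
  refine ⟨isPClosed_of_sylow_normal R hRn, hcore.trans hR, ?_⟩
  have h1 : Nat.card (↥N ⧸ Cfsg.pCore p ↥N) = (R : Subgroup ↥N).index := by
    rw [hcore, Subgroup.index_eq_card]
  rw [h1]
  have := hRn
  exact ((Nat.Prime.coprime_iff_not_dvd (Fact.out : p.Prime)).mpr R.not_dvd_index).symm

theorem coatom_cj {L : Type*} [Group L] {M : Subgroup L} (hM : IsCoatom M) (g : L) : IsCoatom (cj g M) :=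
  (OrderIso.isCoatom_iff ((MulAut.conj g).mapSubgroup) M).mpr hM

theorem not_dvd_index_of_sup {L : Type*} [Group L] [Finite L] {p : ℕ} [Fact p.Prime] {N P M : Subgroup L}
    (hN : N.Normal) (hP : SylIn p P N) (hPM : P ≤ M) (hsup : M ⊔ N = ⊤) : ¬ p ∣ M.index := by
  intro hdvd
  have hMN : M ≤ Subgroup.normalizer (N : Set L) := by
    rw [Subgroup.normalizer_eq_top_iff.mpr hN]; exact le_top
  have e1 := Cfsg.Agent.Lib.Helper5.card_sup_mul_card_inf_of_le_normalizer M N hMN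
  rw [hsup, Subgroup.card_top] at e1
  have e2 := Subgroup.card_mul_index M
  have hMpos : 0 < Nat.card M := Nat.card_pos
  have e3 : M.index * Nat.card ↥(M ⊓ N) = Nat.card N := by
    have : Nat.card M * (M.index * Nat.card ↥(M ⊓ N)) = Nat.card M * Nat.card N := by
      rw [← mul_assoc, e2, e1]
    exact Nat.eq_of_mul_eq_mul_left hMpos this
  obtain ⟨R, hR⟩ := (sylIn_iff hP.1).mp hP
  have hPcard : Nat.card P = p ^ (Nat.card N).factorization p := by
    rw [← Sylow.card_eq_multiplicity R]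
    show Nat.card P = Nat.card (R : Subgroup ↥N)
    rw [hR]
    exact (Nat.card_congr (Subgroup.subgroupOfEquivOfLe hP.1).toEquiv).symm
  have hd1 : Nat.card P ∣ Nat.card ↥(M ⊓ N) := Subgroup.card_dvd_of_le (le_inf hPM hP.1)
  have hd2 : p * Nat.card P ∣ Nat.card N := by
    rw [← e3]; exact Nat.mul_dvd_mul hdvd hd1
  rw [hPcard, ← pow_succ'] at hd2
  exact Nat.pow_succ_factorization_not_dvd (Nat.card_pos.ne') (Fact.out : p.Prime) hd2

theorem le_coatom_of_normal {L : Type*} [Group L] [Finite L] {p : ℕ} [Fact p.Prime] {L₀ Y : Subgroup L}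
    (hmin : Cfsg.IsMinimalOver Y) (hL₀ : IsCoatom L₀) (hYL₀ : Y ≤ L₀) (hYp : IsPGroup p ↥Y)
    (N : Subgroup L) (hN : N.Normal) (hNL : N ≤ L₀) (M : Subgroup L) (hM : IsCoatom M)
    (hKM : Cfsg.pCore p L ≤ M) : N ≤ M := by
  by_contra hNM
  have hsup : M ⊔ N = ⊤ := hM.2 _ (lt_of_le_of_ne le_sup_left (fun h => hNM (le_sup_right.trans h.ge)))
  obtain ⟨P, hP, hPn⟩ := exists_normal_sylIn (over_le hmin hL₀ hYL₀) hL₀.1 hYp N hN hNL
  have hPM : P ≤ M := (Cfsg.Agent.Lib.Helper4.le_pCore hPn hP.2.1).trans hKM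
  obtain ⟨S, hS⟩ := Cfsg.Agent.Lib.Helper7.PS.exists_sylow_le_of_not_dvd_index p M (not_dvd_index_of_sup hN hP hPM hsup)
  obtain ⟨k, -, hk⟩ := (sylIn_top S).exists_conj_le hYp le_top
  have hY' : Y ≤ cj k⁻¹ M := cj_le_comm.mp (hk.trans hS)
  obtain ⟨M₀, -, huniq⟩ := hmin.2
  have h1 := huniq _ ⟨coatom_cj hM k⁻¹, hY'⟩
  have h2 := huniq L₀ ⟨hL₀, hYL₀⟩
  have hNk : N ≤ cj k⁻¹ M := by rw [h1, ← h2]; exact hNL
  apply hNM
  have h3 : cj k N ≤ M := cj_le_comm.mpr hNk
  have h4 : cj k N = N := mem_normalizer_iff_cj.mp (by rw [Subgroup.normalizer_eq_top_iff.mpr hN]; trivial)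
  rwa [h4] at h3

theorem coatom_map_mk {L : Type*} [Group L] {K L₀ : Subgroup L} [K.Normal] (hL₀ : IsCoatom L₀) (hK : K ≤ L₀) :
    IsCoatom (L₀.map (QuotientGroup.mk' K)) := by
  have hcm : (L₀.map (QuotientGroup.mk' K)).comap (QuotientGroup.mk' K) = L₀ := by
    apply le_antisymm
    · intro x hx
      obtain ⟨y, hy, hyx⟩ := Subgroup.mem_comap.mp hx
      have h3 : y⁻¹ * x ∈ K := QuotientGroup.eq.mp hyx
      have : x = y * (y⁻¹ * x) := by group
      rw [this]; exact L₀.mul_mem hy (hK h3)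
    · exact Subgroup.le_comap_map _ _
  refine ⟨fun h => hL₀.1 ?_, fun X hX => ?_⟩
  · rw [← hcm, h, Subgroup.comap_top]
  · have h1 : L₀ ≤ X.comap (QuotientGroup.mk' K) := by
      rw [← hcm]; exact Subgroup.comap_mono hX.le
    have h2 : L₀ ≠ X.comap (QuotientGroup.mk' K) := by
      intro h
      apply ne_of_lt hX
      rw [← Subgroup.map_comap_eq_self_of_surjective (QuotientGroup.mk'_surjective K) X, ← h]
    have h3 := hL₀.2 _ (lt_of_le_of_ne h1 h2)
    rw [← Subgroup.map_comap_eq_self_of_surjective (QuotientGroup.mk'_surjective K) X, h3]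
    exact Subgroup.map_top_of_surjective _ (QuotientGroup.mk'_surjective K)

/-- Let L be a finite group, L₀ a maximal subgroup, T a Sylow p-subgroup of L₀, Y ≤ T, and suppose L is Y-minimal. Let D be the intersection of the conjugates of L₀ (the core of L₀). Then D contains O_p(L) and D/O_p(L) is the Frattini subgroup of L/O_p(L), so D is p-closed; and every normal subgroup N of L contained in L₀ is p-closed with N/O_p(N) a nilpotent group of order prime to p. -/
theorem result {L : Type*} [Group L] [Finite L] {p : ℕ} [Fact p.Prime] (L₀ : Subgroup L) (hL₀ : IsCoatom L₀) (T : Sylow p ↥L₀) (Y : Subgroup L) (hYT : Y ≤ (T : Subgroup ↥L₀).map L₀.subtype) (hmin : Cfsg.IsMinimalOver Y) : (Cfsg.pCore p L ≤ L₀.normalCore ∧ (L₀.normalCore).map (QuotientGroup.mk' (Cfsg.pCore p L)) = frattini (L ⧸ Cfsg.pCore p L) ∧ Cfsg.IsPClosed p ↥(L₀.normalCore)) ∧ ∀ (N : Subgroup L) [N.Normal], N ≤ L₀ → Cfsg.IsPClosed p ↥N ∧ Group.IsNilpotent (↥N ⧸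 Cfsg.pCore p ↥N) ∧ (Nat.card (↥N ⧸ Cfsg.pCore p ↥N)).Coprime p := by
  have hYL₀ : Y ≤ L₀ := hYT.trans (Subgroup.map_subtype_le _)
  have hYp : IsPGroup p ↥Y := (T.isPGroup'.map L₀.subtype).to_le hYT
  have hover := over_le hmin hL₀ hYL₀
  have hK : Cfsg.pCore p L ≤ L₀ := by
    by_contra hK
    have hX : Cfsg.pCore p L ⊔ Y = ⊤ := by
      by_contra hX
      exact hK (le_sup_left.trans (hover _ le_sup_right hX))
    have hLp : IsPGroup p L := by
      have h1 : IsPGroup p ↥(Cfsg.pCore p L ⊔ Y) :=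
        IsPGroup.to_sup_of_normal_left (Cfsg.Agent.Lib.Helper4.pCore_isPGroup p L) hYp
      rw [hX] at h1
      exact h1.of_equiv Subgroup.topEquiv
    have hnil : Group.IsNilpotent L := hLp.isNilpotent
    have htf : Group.IsNilpotent L ↔ ∀ H : Subgroup L, IsCoatom H → H.Normal :=
      (Group.isNilpotent_of_finite_tfae (G := L)).out 0 2
    have hn : L₀.Normal := htf.mp hnil L₀ hL₀
    have h2 : Subgroup.normalClosure (Y : Set L) ≤ L₀ := Subgroup.normalClosure_le_normal hYL₀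
    rw [hmin.1] at h2
    exact hL₀.1 (eq_top_iff.mpr h2)
  have hKF : Cfsg.pCore p L ≤ L₀.normalCore := Subgroup.normal_le_normalCore.mpr hK
  have hFn : (L₀.normalCore).Normal := inferInstance
  have hFL : L₀.normalCore ≤ L₀ := Subgroup.normalCore_le L₀
  have hb : (L₀.normalCore).map (QuotientGroup.mk' (Cfsg.pCore p L)) = frattini (L ⧸ Cfsg.pCore p L) := by
    apply le_antisymm
    · simp_rw [frattini, Order.radical, le_iInf_iff]
      intro M hM
      rw [Subgroup.map_le_iff_le_comap]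
      apply le_coatom_of_normal hmin hL₀ hYL₀ hYp _ hFn hFL _
        (Subgroup.isCoatom_comap_of_surjective (QuotientGroup.mk'_surjective _) hM)
      intro x hx
      rw [Subgroup.mem_comap]
      have : (QuotientGroup.mk' (Cfsg.pCore p L)) x = 1 := (QuotientGroup.eq_one_iff x).mpr hx
      rw [this]; exact M.one_mem
    · have h1 := frattini_le_coatom (coatom_map_mk hL₀ hK)
      have h2 : (frattini (L ⧸ Cfsg.pCore p L)).comap (QuotientGroup.mk' (Cfsg.pCore p L)) ≤ L₀ := by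
        intro x hx
        obtain ⟨y, hy, hyx⟩ := h1 (Subgroup.mem_comap.mp hx)
        have h3 : y⁻¹ * x ∈ Cfsg.pCore p L := QuotientGroup.eq.mp hyx
        have : x = y * (y⁻¹ * x) := by group
        rw [this]; exact L₀.mul_mem hy (hK h3)
      have h3 : (frattini (L ⧸ Cfsg.pCore p L)).comap (QuotientGroup.mk' (Cfsg.pCore p L)) ≤ L₀.normalCore :=
        Subgroup.normal_le_normalCore.mpr h2
      intro x hx
      obtain ⟨y, rfl⟩ := QuotientGroup.mk'_surjective _ x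
      exact ⟨y, h3 (Subgroup.mem_comap.mpr hx), rfl⟩
  refine ⟨⟨hKF, hb, ?_⟩, ?_⟩
  · obtain ⟨P, hP, hPn⟩ := exists_normal_sylIn hover hL₀.1 hYp _ hFn hFL
    exact (normal_sylIn_props hP hPn).1
  · intro N hNn hNL
    obtain ⟨P, hP, hPn⟩ := exists_normal_sylIn hover hL₀.1 hYp N hNn hNL
    obtain ⟨h1, h2, h3⟩ := normal_sylIn_props hP hPn
    refine ⟨h1, ?_, h3⟩
    have hPK : P ≤ Cfsg.pCore p L := Cfsg.Agent.Lib.Helper4.le_pCore hPn hP.2.1
    have hker : ((QuotientGroup.mk' (Cfsg.pCore p L)).comp N.subtype).ker = Cfsg.pCore p ↥N := by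
      rw [h2]
      ext x
      rw [MonoidHom.mem_ker, Subgroup.mem_subgroupOf]
      show (QuotientGroup.mk' (Cfsg.pCore p L)) (x : L) = 1 ↔ _
      rw [QuotientGroup.mk'_apply, QuotientGroup.eq_one_iff]
      constructor
      · intro hx
        have := hP.2.2 (Cfsg.pCore p L ⊓ N) ((Cfsg.Agent.Lib.Helper4.pCore_isPGroup p L).to_inf_left)
          (le_inf hPK hP.1) inf_le_right
        rw [← this]; exact ⟨hx, x.2⟩
      · intro hx; exact hPK hx
    have hrange : ((QuotientGroup.mk' (Cfsg.pCore p L)).comp N.subtype).range ≤ frattini (L ⧸ Cfsg.pCore p L) := by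
      rw [← hb]
      rintro _ ⟨x, rfl⟩
      exact ⟨x, (Subgroup.normal_le_normalCore.mpr hNL) x.2, rfl⟩
    have hfn : Group.IsNilpotent (frattini (L ⧸ Cfsg.pCore p L)) := frattini_nilpotent
    have hr : Group.IsNilpotent ((QuotientGroup.mk' (Cfsg.pCore p L)).comp N.subtype).range :=
      Group.nilpotent_of_mulEquiv (Subgroup.subgroupOfEquivOfLe hrange)
    have e1 := QuotientGroup.quotientKerEquivRange ((QuotientGroup.mk' (Cfsg.pCore p L)).comp N.subtype)
    have e2 : ↥N ⧸ Cfsg.pCore p ↥N ≃* ↥N ⧸ ((QuotientGroup.mk' (Cfsg.pCore p L)).comp N.subtype).ker :=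
      QuotientGroup.quotientMulEquivOfEq hker.symm
    exact Group.nilpotent_of_mulEquiv (e2.trans e1).symm

end Cfsg.Agent.S2836
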