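import Cfsg.Statements.S0086
import Mathlib
-- import your own Cfsg.Agent.* helpers here

set_option autoImplicit false
open Cfsg

namespace Cfsg.Agent.S0086

/-- A normal complement to a Sylow p-subgroup is exactly the set of elements of order prime to p. -/
theorem result {G : Type*} [Group G] [Finite G] {p : ℕ} [Fact p.Prime] (P : Sylow p G) (N : Subgroup G) [N.Normal] (hN : N.IsComplement' (P : Subgroup G)) (x : G) : x ∈ N ↔ Nat.Coprime (orderOf x) p := by
  have hp : p.Prime := Fact.out
  have hNcard : Nat.card N = (P : Subgroup G).index := (hN.index_eq_card).symm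
  have hPidx : N.index = Nat.card (P : Subgroup G) := hN.symm.index_eq_card
  obtain ⟨n, hn⟩ := IsPGroup.iff_card.mp P.isPGroup'
  have hcop : (Nat.card N).Coprime p := by
    rw [hNcard]
    exact (Nat.Prime.coprime_iff_not_dvd hp).mpr P.not_dvd_index |>.symm
  constructor
  · intro hx
    have h1 : orderOf x ∣ Nat.card N := by
      have := orderOf_dvd_natCard (⟨x, hx⟩ : N)
      rwa [← Subgroup.orderOf_coe] at this
    exact Nat.Coprime.coprime_dvd_left h1 hcop
  · intro hx
    have h1 : orderOf (QuotientGroup.mk' N x) ∣ orderOf x := orderOf_map_dvd _ x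
    have h2 : orderOf (QuotientGroup.mk' N x) ∣ p ^ n := by
      have := orderOf_dvd_natCard (QuotientGroup.mk' N x)
      rwa [← Subgroup.index_eq_card, hPidx, hn] at this
    have h3 : orderOf (QuotientGroup.mk' N x) = 1 := by
      have h4 : (orderOf (QuotientGroup.mk' N x)).Coprime (p ^ n) :=
        Nat.Coprime.pow_right n (Nat.Coprime.coprime_dvd_left h1 hx)
      exact Nat.eq_one_of_dvd_coprimes h4 dvd_rfl h2
    rw [orderOf_eq_one_iff] at h3
    exact (QuotientGroup.eq_one_iff x).mp h3

end Cfsg.Agent.S0086
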