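import Cfsg.Statements.S3061
import Mathlib
import Cfsg.Agent.Lib.Helper5.DStar

set_option autoImplicit false
open Cfsg Cfsg.Agent.Lib.Helper5

namespace Cfsg.Agent.S3061

/-- Let S be a finite p-group. Then D*(S) itself belongs to the family that generates it: D*(S) is abelian, and every x ∈ S with ⟨D*(S), x⟩ of class at most two centralizes D*(S). Hence D*(S) is the unique maximal member of that family. -/
theorem result {S : Type*} [Group S] [Finite S] {p : ℕ} [Fact p.Prime] (hS : IsPGroup p S) :
    Cfsg.dStar S ∈ Cfsg.dStarFamily S := by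
  obtain ⟨M, hMn, hMc, hmax⟩ := exists_max_normal_abelian S
  have hle : Cfsg.dStar S ≤ M := by
    apply sSup_le
    intro A hA
    exact dStarFamily_le_max_normal_abelian hS A hA M hMn hMc hmax
  have hM := comm_of_isMulCommutative hMc
  refine ⟨isMulCommutative_of_comm (fun a ha b hb => hM a (hle ha) b (hle hb)), ?_⟩
  intro x hx
  have h1 : Cfsg.dStar S ≤ Subgroup.centralizer {x} := by
    apply sSup_le
    intro A hA a ha
    rw [Subgroup.mem_centralizer_iff]
    intro y hy
    rw [Set.mem_singleton_iff] at hy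
    rw [hy]
    have hAle : A ≤ Cfsg.dStar S := le_sSup hA
    have h2 : ⁅⁅A ⊔ Subgroup.zpowers x, A ⊔ Subgroup.zpowers x⁆, A ⊔ Subgroup.zpowers x⁆ = ⊥ := by
      rw [eq_bot_iff, ← hx]
      exact Subgroup.commutator_mono (Subgroup.commutator_mono (sup_le_sup_right hAle _)
        (sup_le_sup_right hAle _)) (sup_le_sup_right hAle _)
    exact (hA.2 x h2 a ha).symm
  intro a ha
  exact ((Subgroup.mem_centralizer_iff.mp (h1 ha)) x (Set.mem_singleton x)).symm

end Cfsg.Agent.S3061
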