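import Cfsg.Statements.S0905
import Mathlib
import Cfsg.Agent.Lib.Helper2.PermMod
import Cfsg.Agent.Lib.Lead.Fitting
import Cfsg.Agent.Lib.Lead.Fitting2

set_option autoImplicit false
open Cfsg

namespace Cfsg.Agent.S0905


/-- a sum of an orbit-invariant function vanishes when every relevant orbit has size divisible by `p` -/
theorem orbit_sum_zero {E X M : Type*} [Group E] [MulAction E X] [Fintype X] [AddCommMonoid M]
    (p : ℕ) (hpM : ∀ m : M, p • m = 0) (f : X → M) (hf : ∀ (g : E) (x : X), f (g • x) = f x)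
    (horb : ∀ x : X, p ∣ Nat.card (MulAction.orbit E x) ∨ f x = 0) : ∑ x, f x = 0 := by
  classical
  haveI : Fintype (MulAction.orbitRel.Quotient E X) := Fintype.ofFinite _
  rw [← Finset.sum_fiberwise Finset.univ
    (fun x => (Quotient.mk'' x : MulAction.orbitRel.Quotient E X)) f]
  apply Finset.sum_eq_zero
  intro q _
  induction q using Quotient.inductionOn' with
  | h x0 =>
    have h1 : ∀ x ∈ Finset.univ.filter (fun x =>
        (Quotient.mk'' x : MulAction.orbitRel.Quotient E X) = Quotient.mk'' x0), f x = f x0 := by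
      intro x hx
      rw [Finset.mem_filter] at hx
      have h2 := Quotient.eq''.mp hx.2
      rw [MulAction.orbitRel_apply] at h2
      obtain ⟨g, rfl⟩ := h2
      exact hf g x0
    rw [Finset.sum_congr rfl h1, Finset.sum_const]
    have h3 : Nat.card (MulAction.orbit E x0) = (Finset.univ.filter (fun x =>
        (Quotient.mk'' x : MulAction.orbitRel.Quotient E X) = Quotient.mk'' x0)).card := by
      apply Nat.subtype_card
      intro x
      rw [Finset.mem_filter]
      constructor
      · rintro ⟨-, hx⟩
        have h2 := Quotient.eq''.mp hx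
        rw [MulAction.orbitRel_apply] at h2
        exact h2
      · intro hx
        refine ⟨Finset.mem_univ _, Quotient.eq''.mpr ?_⟩
        rw [MulAction.orbitRel_apply]
        exact hx
    rcases horb x0 with ⟨k, hk⟩ | h0
    · rw [← h3, hk, mul_smul]
      exact hpM _
    · rw [h0, smul_zero]

/-- Let F be a field of characteristic p and let g be an element of the finite group G no conjugate of which centralizes O_p(G). Then the class sum of g is a nilpotent element of the group algebra F[G]. -/
theorem result {G : Type*} [Group G] [Finite G] (p : ℕ) [Fact p.Prime] (F : Type*) [Field F] [CharP F p] (g : G) (hg : ∀ x : G, IsConj g x → x ∉ Subgroup.centralizer (Cfsg.pCore p G : Set G)) : IsNilpotent (∑ᶠ x ∈ ConjClasses.carrier (ConjClasses.mk g), MonoidAlgebra.single x (1 : F) : MonoidAlgebra F G) := by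
  classical
  haveI : Fintype G := Fintype.ofFinite G
  obtain ⟨P, hPdef⟩ : ∃ P : Subgroup G, P = Cfsg.pCore p G := ⟨_, rfl⟩
  rw [← hPdef] at hg
  have hPn : P.Normal := by rw [hPdef]; exact Cfsg.Agent.Lib.Lead.pCore_normal p G
  have hPp : IsPGroup p P := by rw [hPdef]; exact Cfsg.Agent.Lib.Lead.pCore_isPGroup' p
  obtain ⟨C, hCdef⟩ : ∃ C : Set G, C = ConjClasses.carrier (ConjClasses.mk g) := ⟨_, rfl⟩
  rw [← hCdef]
  have hCmem : ∀ x : G, x ∈ C ↔ IsConj g x := by
    intro x
    rw [hCdef, ConjClasses.mem_carrier_iff_mk_eq, ConjClasses.mk_eq_mk_iff_isConj]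
    exact ⟨fun h => h.symm, fun h => h.symm⟩
  have hCconj : ∀ a x : G, a * x * a⁻¹ ∈ C ↔ x ∈ C := by
    intro a x
    rw [hCmem, hCmem, isConj_iff, isConj_iff]
    constructor
    · rintro ⟨d, hd⟩
      refine ⟨a⁻¹ * d, ?_⟩
      calc a⁻¹ * d * g * (a⁻¹ * d)⁻¹ = a⁻¹ * (d * g * d⁻¹) * a := by group
        _ = a⁻¹ * (a * x * a⁻¹) * a := by rw [hd]
        _ = x := by group
    · rintro ⟨d, hd⟩
      refine ⟨a * d, ?_⟩
      calc a * d * g * (a * d)⁻¹ = a * (d * g * d⁻¹) * a⁻¹ := by group
        _ = a * x * a⁻¹ := by rw [hd]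
  obtain ⟨c, hcdef⟩ : ∃ c : MonoidAlgebra F G,
      c = ∑ᶠ x ∈ C, MonoidAlgebra.single x (1 : F) := ⟨_, rfl⟩
  rw [← hcdef]
  have hc : c = ∑ x : G, if x ∈ C then MonoidAlgebra.single x (1 : F) else 0 := by
    rw [hcdef, finsum_mem_def, finsum_eq_sum_of_fintype]
    refine Finset.sum_congr rfl (fun x _ => ?_)
    rw [Set.indicator_apply]
  have hpM : ∀ m : MonoidAlgebra F G, p • m = 0 := by
    intro m
    rw [← Nat.cast_smul_eq_nsmul F p m, CharP.cast_eq_zero F p, zero_smul]
  -- the class sum commutes with group elements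
  have hcomm : ∀ a : G, MonoidAlgebra.single a (1 : F) * c = c * MonoidAlgebra.single a (1 : F) := by
    intro a
    rw [hc, Finset.mul_sum, Finset.sum_mul]
    let e : G ≃ G := ⟨fun x => a * x * a⁻¹, fun x => a⁻¹ * x * a,
      fun x => by simp [mul_assoc], fun x => by simp [mul_assoc]⟩
    refine Fintype.sum_equiv e _ _ (fun x => ?_)
    show MonoidAlgebra.single a (1 : F) * (if x ∈ C then MonoidAlgebra.single x (1 : F) else 0)
      = (if a * x * a⁻¹ ∈ C then MonoidAlgebra.single (a * x * a⁻¹) (1 : F) else 0)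
        * MonoidAlgebra.single a (1 : F)
    by_cases h : x ∈ C
    · rw [if_pos h, if_pos ((hCconj a x).mpr h), MonoidAlgebra.single_mul_single,
        MonoidAlgebra.single_mul_single]
      have e2 : a * x = a * x * a⁻¹ * a := by group
      rw [← e2]
    · rw [if_neg h, if_neg (fun h' => h ((hCconj a x).mp h')), mul_zero, zero_mul]
  -- the class sum kills the fixed vectors of `P`
  have key : ∀ w : MonoidAlgebra F G,
      (∀ u ∈ P, MonoidAlgebra.single u (1 : F) * w = w) → c * w = 0 := by
    intro w hfix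
    rw [hc, Finset.sum_mul]
    letI act : MulAction P G :=
      { smul := fun u x => (u : G) * x * (u : G)⁻¹
        one_smul := fun x => by
          show ((1 : P) : G) * x * ((1 : P) : G)⁻¹ = x
          simp
        mul_smul := fun u v x => by
          show ((u * v : P) : G) * x * ((u * v : P) : G)⁻¹
            = (u : G) * ((v : G) * x * (v : G)⁻¹) * (u : G)⁻¹
          simp [mul_assoc] }
    refine @orbit_sum_zero (↥P) G (MonoidAlgebra F G) _ act _ _ p hpM
      (fun x => (if x ∈ C then MonoidAlgebra.single x (1 : F) else 0) * w) ?_ ?_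
    · intro u x
      show (if (u : G) * x * (u : G)⁻¹ ∈ C
          then MonoidAlgebra.single ((u : G) * x * (u : G)⁻¹) (1 : F) else 0) * w
        = (if x ∈ C then MonoidAlgebra.single x (1 : F) else 0) * w
      by_cases h : x ∈ C
      · rw [if_pos h, if_pos ((hCconj _ x).mpr h)]
        have e1 : MonoidAlgebra.single ((u : G) * x * (u : G)⁻¹) (1 : F)
            = MonoidAlgebra.single x (1 : F) * MonoidAlgebra.single (x⁻¹ * (u : G) * x) (1 : F)
              * MonoidAlgebra.single ((u : G)⁻¹) (1 : F) := by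
          rw [MonoidAlgebra.single_mul_single, MonoidAlgebra.single_mul_single]
          have e2 : (u : G) * x * (u : G)⁻¹ = x * (x⁻¹ * (u : G) * x) * (u : G)⁻¹ := by group
          rw [← e2, mul_one, mul_one]
        have m1 : (u : G)⁻¹ ∈ P := P.inv_mem u.2
        have m2 : x⁻¹ * (u : G) * x ∈ P := by
          have := hPn.conj_mem (u : G) u.2 x⁻¹
          simpa using this
        rw [e1, mul_assoc, mul_assoc, hfix _ m1, hfix _ m2]
      · rw [if_neg h, if_neg (fun h' => h ((hCconj _ x).mp h'))]
    · intro x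
      by_cases h : x ∈ C
      · left
        obtain ⟨n, hn⟩ := @IsPGroup.card_orbit p (↥P) _ hPp _ G act x _
        rcases Nat.eq_zero_or_pos n with rfl | hnpos
        · exfalso
          rw [pow_zero] at hn
          haveI : Subsingleton (MulAction.orbit P x) := (Nat.card_eq_one_iff_unique.mp hn).1
          have hfixed : ∀ u : P, u • x = x := by
            intro u
            have := Subsingleton.elim (⟨u • x, MulAction.mem_orbit x u⟩ : MulAction.orbit P x)
              ⟨x, MulAction.mem_orbit_self x⟩
            exact congrArg Subtype.val this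
          apply hg x ((hCmem x).mp h)
          rw [Subgroup.mem_centralizer_iff]
          intro u hu
          have h1 : u * x * u⁻¹ = x := hfixed ⟨u, hu⟩
          calc u * x = u * x * u⁻¹ * u := by group
            _ = x * u := by rw [h1]
        · rw [hn]
          exact dvd_pow_self p (by omega)
      · right
        show (if x ∈ C then MonoidAlgebra.single x (1 : F) else 0) * w = 0
        rw [if_neg h, zero_mul]
  -- the left regular action of `P`
  obtain ⟨ρ, hρ⟩ : ∃ ρ : Representation F P (MonoidAlgebra F G),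
      ∀ (u : P) (w : MonoidAlgebra F G), ρ u w = MonoidAlgebra.single (u : G) (1 : F) * w := by
    refine ⟨{ toFun := fun u => LinearMap.mulLeft F (MonoidAlgebra.single (u : G) (1 : F))
              map_one' := ?_
              map_mul' := ?_ }, fun u w => rfl⟩
    · refine LinearMap.ext (fun w => ?_)
      show MonoidAlgebra.single ((1 : P) : G) (1 : F) * w = w
      rw [Subgroup.coe_one, ← MonoidAlgebra.one_def, one_mul]
    · intro u v
      refine LinearMap.ext (fun w => ?_)
      show MonoidAlgebra.single ((u * v : P) : G) (1 : F) * w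
        = MonoidAlgebra.single (u : G) (1 : F) * (MonoidAlgebra.single (v : G) (1 : F) * w)
      rw [Subgroup.coe_mul, ← mul_assoc, MonoidAlgebra.single_mul_single, mul_one]
  obtain ⟨T, hTdef⟩ : ∃ T : Module.End F (MonoidAlgebra F G), T = LinearMap.mulLeft F c :=
    ⟨_, rfl⟩
  have hT : ∀ (k : ℕ) (v : MonoidAlgebra F G), (T ^ k) v = c ^ k * v := by
    intro k
    induction k with
    | zero =>
      intro v
      rw [pow_zero, pow_zero, one_mul]
      rfl
    | succ k ih =>
      intro v
      rw [pow_succ', pow_succ', Module.End.mul_apply, ih, hTdef, LinearMap.mulLeft_apply,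
        mul_assoc]
  obtain ⟨k, -, hker⟩ := Module.End.exists_ker_pow_eq_ker_pow_succ T
  refine ⟨k, ?_⟩
  by_contra hne
  have hW : LinearMap.range (T ^ k) ≠ ⊥ := by
    rw [Submodule.ne_bot_iff]
    refine ⟨(T ^ k) 1, LinearMap.mem_range_self _ _, ?_⟩
    rw [hT, mul_one]
    exact hne
  have hinv : ∀ u : P, ∀ w ∈ LinearMap.range (T ^ k), ρ u w ∈ LinearMap.range (T ^ k) := by
    intro u w hw
    obtain ⟨v, rfl⟩ := hw
    refine ⟨MonoidAlgebra.single (u : G) (1 : F) * v, ?_⟩
    have hcm : Commute (MonoidAlgebra.single (u : G) (1 : F)) c := hcomm (u : G)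
    rw [hρ, hT, hT, ← mul_assoc, ← mul_assoc, (hcm.pow_right k).eq]
  obtain ⟨w, hwW, hw0, hwfix⟩ := Cfsg.Agent.Lib.Helper2.PermMod.pgroup_fixed p (K := F)
    (V := MonoidAlgebra F G) (Nat.card P) P le_rfl hPp ρ (LinearMap.range (T ^ k)) hinv hW
  obtain ⟨v, rfl⟩ := hwW
  have h1 : c * ((T ^ k) v) = 0 := by
    apply key
    intro u hu
    have h := hwfix ⟨u, hu⟩
    rw [hρ] at h
    exact h
  have h2 : (T ^ (k + 1)) v = 0 := by
    rw [hT, pow_succ', mul_assoc, ← hT]
    exact h1
  have h3 : v ∈ LinearMap.ker (T ^ k.succ) := LinearMap.mem_ker.mpr h2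
  rw [← hker] at h3
  exact hw0 (LinearMap.mem_ker.mp h3)

end Cfsg.Agent.S0905
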