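import Cfsg.Statements.S0582
import Mathlib
import Cfsg.Agent.Lib.Helper1.Supersolvable2
import Cfsg.Agent.Lib.Helper1.MaxPrime
import Cfsg.Agent.Lib.Lead.Hall
import Cfsg.Agent.Lib.Lead.Basic

set_option autoImplicit false
open Pointwise
open Cfsg

namespace Cfsg.Agent.S0582

open Cfsg.Agent.Lib.Helper1 Cfsg.Agent.Lib.Lead

universe u

theorem ss_map {A B : Type*} [Group A] [Group B] (f : A →* B) (H : Subgroup A)
    (h : Cfsg.IsSupersolvable H) : Cfsg.IsSupersolvable (H.map f) :=
  isSupersolvable_of_surjective (f.subgroupMap H) (f.subgroupMap_surjective H) h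

theorem ss_equiv {A B : Type*} [Group A] [Group B] (e : A ≃* B)
    (h : Cfsg.IsSupersolvable A) : Cfsg.IsSupersolvable B :=
  isSupersolvable_of_surjective e.toMonoidHom e.surjective h

theorem le_normalizer_of_sylow_le {G : Type*} [Group G] [Finite G] (H : Subgroup G)
    (hH : Cfsg.IsSupersolvable H) {p : ℕ} [Fact p.Prime]
    (hmax : ∀ q : ℕ, q.Prime → q ∣ Nat.card H → q ≤ p) (S : Sylow p G)
    (hS : (S : Subgroup G) ≤ H) : H ≤ Subgroup.normalizer ((S : Subgroup G) : Set G) := by
  have hn : ((S.subtype hS : Sylow p H) : Subgroup H).Normal :=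
    sylow_normal_of_coatom_index_prime (fun M hM => index_prime_of_isCoatom hH M hM) hmax
      (S.subtype hS)
  rw [Sylow.coe_subtype] at hn
  exact (Subgroup.normal_subgroupOf_iff_le_normalizer hS).mp hn

theorem exists_sylow_le {G : Type*} [Group G] [Finite G] (L : Subgroup G) {p : ℕ} [Fact p.Prime]
    (hpd : p ∣ Nat.card L) (hcop : (Nat.card L).Coprime L.index) :
    ∃ S : Sylow p G, (S : Subgroup G) ≤ L := by
  have hp : p.Prime := Fact.out
  have hidx : ¬ p ∣ L.index := by
    intro h
    have := Nat.dvd_gcd hpd h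
    rw [Nat.Coprime] at hcop
    rw [hcop] at this
    exact hp.one_lt.ne' (Nat.dvd_one.mp this)
  have hGL : Nat.card G = Nat.card L * L.index := (Subgroup.card_mul_index L).symm
  have hf : (Nat.card G).factorization p = (Nat.card L).factorization p := by
    rw [hGL, Nat.factorization_mul Nat.card_pos.ne' (Subgroup.index_ne_zero_of_finite),
      Finsupp.add_apply, Nat.factorization_eq_zero_of_not_dvd hidx, add_zero]
  obtain ⟨S₀⟩ : Nonempty (Sylow p L) := inferInstance
  have hc : Nat.card ((S₀ : Subgroup L).map L.subtype) = p ^ (Nat.card G).factorization p := by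
    rw [Subgroup.card_subtype, hf, Sylow.card_eq_multiplicity]
  refine ⟨Sylow.ofCard _ hc, ?_⟩
  rw [Sylow.coe_ofCard]
  exact Subgroup.map_subtype_le _

theorem conj_aux : ∀ (n : ℕ) (G : Type u) [Group G] [Finite G], Nat.card G ≤ n →
    ∀ (H K : Subgroup G), Cfsg.IsSupersolvable H → Cfsg.IsSupersolvable K →
      Nat.card H = Nat.card K → (Nat.card H).Coprime H.index →
      ∃ x : G, MulAut.conj x • H = K := by
  intro n
  induction n with
  | zero =>
    intro G _ _ hn
    exact absurd hn (by have := Nat.card_pos (α := G); omega)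
  | succ n ih =>
    intro G _ _ hn H K hH hK hcard hHall
    by_cases hH1 : Nat.card H = 1
    · refine ⟨1, ?_⟩
      have h1 : H = ⊥ := Subgroup.card_eq_one.mp hH1
      have h2 : K = ⊥ := Subgroup.card_eq_one.mp (hcard ▸ hH1)
      rw [h1, h2]; simp
    · have hHpos : 0 < Nat.card H := Nat.card_pos
      have hne : (Nat.card H).primeFactors.Nonempty :=
        Nat.nonempty_primeFactors.mpr (by omega)
      obtain ⟨p, hp⟩ : ∃ p, p = (Nat.card H).primeFactors.max' hne := ⟨_, rfl⟩
      have hpm : p ∈ (Nat.card H).primeFactors := hp ▸ Finset.max'_mem _ hne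
      have hpp : p.Prime := Nat.prime_of_mem_primeFactors hpm
      have hpd : p ∣ Nat.card H := Nat.dvd_of_mem_primeFactors hpm
      have hmax : ∀ q : ℕ, q.Prime → q ∣ Nat.card H → q ≤ p := by
        intro q hq hqd
        rw [hp]
        exact Finset.le_max' _ q (Nat.mem_primeFactors.mpr ⟨hq, hqd, hHpos.ne'⟩)
      have : Fact p.Prime := ⟨hpp⟩
      have hidxK : K.index = H.index := by
        have h1 := Subgroup.card_mul_index H
        have h2 := Subgroup.card_mul_index K
        rw [← hcard, ← h1] at h2
        exact Nat.eq_of_mul_eq_mul_left hHpos h2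
      obtain ⟨SH, hSH⟩ := exists_sylow_le H hpd hHall
      obtain ⟨SK, hSK⟩ := exists_sylow_le K (hcard ▸ hpd) (by rw [← hcard, hidxK]; exact hHall)
      obtain ⟨g, hg⟩ := MulAction.exists_smul_eq G SH SK
      obtain ⟨H', hH'def⟩ : ∃ H' : Subgroup G, H' = MulAut.conj g • H := ⟨_, rfl⟩
      have hcardH' : Nat.card H' = Nat.card H := by rw [hH'def]; exact card_conj_smul g H
      have hidxH' : H'.index = H.index := by
        have h1 := Subgroup.card_mul_index H
        have h2 := Subgroup.card_mul_index H'
        rw [hcardH', ← h1] at h2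
        exact Nat.eq_of_mul_eq_mul_left hHpos h2
      have hH'ss : Cfsg.IsSupersolvable H' := by
        rw [hH'def, Subgroup.pointwise_smul_def]
        exact ss_map _ H hH
      have hSKH' : (SK : Subgroup G) ≤ H' := by
        rw [← hg, Sylow.coe_subgroup_smul, hH'def]
        intro y hy
        rw [mem_conj_smul] at hy ⊢
        exact hSH hy
      obtain ⟨N, hNdef⟩ : ∃ N : Subgroup G, N = Subgroup.normalizer ((SK : Subgroup G) : Set G) :=
        ⟨_, rfl⟩
      have hH'N : H' ≤ N := by
        rw [hNdef]
        exact le_normalizer_of_sylow_le H' hH'ss (by rw [hcardH']; exact hmax) SK hSKH'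
      have hKN : K ≤ N := by
        rw [hNdef]
        exact le_normalizer_of_sylow_le K hK (by rw [← hcard]; exact hmax) SK hSK
      have hSKN : (SK : Subgroup G) ≤ N := by rw [hNdef]; exact Subgroup.le_normalizer
      obtain ⟨Q, hQdef⟩ : ∃ Q : Subgroup N, Q = (SK : Subgroup G).subgroupOf N := ⟨_, rfl⟩
      have hQn : Q.Normal := by
        rw [hQdef]
        subst hNdef
        exact Subgroup.normal_in_normalizer
      have hQcard : Nat.card Q = Nat.card (SK : Subgroup G) := by
        rw [hQdef]
        exact Nat.card_congr (Subgroup.subgroupOfEquivOfLe hSKN).toEquiv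
      have hpG : p ∣ Nat.card G := hpd.trans (Subgroup.card_subgroup_dvd_card H)
      have hQ2 : 2 ≤ Nat.card Q := by
        rw [hQcard]
        have hne1 : Nat.card (SK : Subgroup G) ≠ 1 := fun h =>
          Sylow.ne_bot_of_dvd_card SK hpG (Subgroup.card_eq_one.mp h)
        have hpos1 : 0 < Nat.card (SK : Subgroup G) := Nat.card_pos
        omega
      have hcardG' : Nat.card (N ⧸ Q) ≤ n := by
        have h1 := Subgroup.card_eq_card_quotient_mul_card_subgroup Q
        have h2 : Nat.card N ≤ Nat.card G := Subgroup.card_le_card_group N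
        have h3 : Nat.card (N ⧸ Q) * 2 ≤ Nat.card (N ⧸ Q) * Nat.card Q :=
          Nat.mul_le_mul_left _ hQ2
        have h4 := Nat.card_pos (α := N ⧸ Q)
        omega
      have hQH' : Q ≤ H'.subgroupOf N := by
        rw [hQdef]
        intro y hy
        rw [Subgroup.mem_subgroupOf] at hy ⊢
        exact hSKH' hy
      have hQK : Q ≤ K.subgroupOf N := by
        rw [hQdef]
        intro y hy
        rw [Subgroup.mem_subgroupOf] at hy ⊢
        exact hSK hy
      have hcm : ∀ A : Subgroup N, Q ≤ A →
          Nat.card Q * Nat.card (A.map (QuotientGroup.mk' Q)) = Nat.card A := by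
        intro A hA
        rw [← card_comap_mk Q, Subgroup.comap_map_eq, QuotientGroup.ker_mk', sup_eq_left.mpr hA]
      have hcH := hcm _ hQH'
      have hcK := hcm _ hQK
      rw [Nat.card_congr (Subgroup.subgroupOfEquivOfLe hH'N).toEquiv] at hcH
      rw [Nat.card_congr (Subgroup.subgroupOfEquivOfLe hKN).toEquiv] at hcK
      have hcardb : Nat.card ((H'.subgroupOf N).map (QuotientGroup.mk' Q)) =
          Nat.card ((K.subgroupOf N).map (QuotientGroup.mk' Q)) := by
        have : Nat.card Q * Nat.card ((H'.subgroupOf N).map (QuotientGroup.mk' Q)) =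
            Nat.card Q * Nat.card ((K.subgroupOf N).map (QuotientGroup.mk' Q)) := by
          rw [hcH, hcK, hcardH', hcard]
        exact Nat.eq_of_mul_eq_mul_left (by omega) this
      have hidxb : ((H'.subgroupOf N).map (QuotientGroup.mk' Q)).index ∣ H'.index := by
        rw [Subgroup.index_map_eq _ (QuotientGroup.mk'_surjective Q)
          (by rw [QuotientGroup.ker_mk']; exact hQH')]
        exact Dvd.intro _ (Subgroup.relIndex_mul_index hH'N)
      have hcopb : (Nat.card ((H'.subgroupOf N).map (QuotientGroup.mk' Q))).Coprime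
          ((H'.subgroupOf N).map (QuotientGroup.mk' Q)).index := by
        have h0 : (Nat.card H').Coprime H'.index := by rw [hcardH', hidxH']; exact hHall
        exact (h0.coprime_dvd_left (Dvd.intro_left _ hcH)).coprime_dvd_right hidxb
      have hHb : Cfsg.IsSupersolvable ((H'.subgroupOf N).map (QuotientGroup.mk' Q)) :=
        ss_map _ _ (ss_equiv (Subgroup.subgroupOfEquivOfLe hH'N).symm hH'ss)
      have hKb : Cfsg.IsSupersolvable ((K.subgroupOf N).map (QuotientGroup.mk' Q)) :=
        ss_map _ _ (ss_equiv (Subgroup.subgroupOfEquivOfLe hKN).symm hK)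
      obtain ⟨xb, hxb⟩ := ih (N ⧸ Q) hcardG' _ _ hHb hKb hcardb hcopb
      obtain ⟨x, rfl⟩ := QuotientGroup.mk'_surjective Q xb
      have hmap : MulAut.conj (QuotientGroup.mk' Q x) • (H'.subgroupOf N).map (QuotientGroup.mk' Q)
          = (MulAut.conj x • H'.subgroupOf N).map (QuotientGroup.mk' Q) := by
        ext y
        rw [mem_conj_smul, Subgroup.mem_map, Subgroup.mem_map]
        constructor
        · rintro ⟨a, ha, hay⟩
          refine ⟨x * a * x⁻¹, conj_mem_conj_smul ha, ?_⟩
          rw [map_mul, map_mul, hay, map_inv]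
          group
        · rintro ⟨a, ha, rfl⟩
          rw [mem_conj_smul] at ha
          exact ⟨_, ha, by simp⟩
      rw [hmap, Subgroup.map_eq_map_iff, QuotientGroup.ker_mk'] at hxb
      have hQx : Q ≤ MulAut.conj x • H'.subgroupOf N := by
        intro q hq
        rw [mem_conj_smul]
        exact hQH' (by
          have := hQn.conj_mem q hq x⁻¹
          simpa using this)
      rw [sup_eq_left.mpr hQx, sup_eq_left.mpr hQK] at hxb
      refine ⟨(x : G) * g, ?_⟩
      symm
      apply Subgroup.eq_of_le_of_card_ge
      · intro k hk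
        have hkN : k ∈ N := hKN hk
        have h1 : (⟨k, hkN⟩ : N) ∈ K.subgroupOf N := by
          rw [Subgroup.mem_subgroupOf]; exact hk
        rw [← hxb, mem_conj_smul, Subgroup.mem_subgroupOf, hH'def, mem_conj_smul] at h1
        rw [mem_conj_smul]
        have h2 : ((x * g : G))⁻¹ * k * (x * g) =
            g⁻¹ * ((x⁻¹ * (⟨k, hkN⟩ : N) * x : N) : G) * g := by
          simp [mul_assoc]
        rw [h2]
        exact h1
      · rw [card_conj_smul, hcard]

/-- Let H and K be supersolvable subgroups of a finite group G of the same order, that order being coprime to their index. Then H and K are conjugate in G. -/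
theorem result {G : Type*} [Group G] [Finite G] (H K : Subgroup G) (hH : Cfsg.IsSupersolvable H) (hK : Cfsg.IsSupersolvable K) (hcard : Nat.card H = Nat.card K) (hHall : (Nat.card H).Coprime H.index) : ∃ x : G, MulAut.conj x • H = K := by
  exact conj_aux (Nat.card G) G le_rfl H K hH hK hcard hHall

end Cfsg.Agent.S0582
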