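import Cfsg.Statements.S0581
import Mathlib
import Cfsg.Agent.Lib.Helper1.Schmidt3
import Cfsg.Agent.Lib.Helper4.PPrime
import Cfsg.Agent.Lib.Helper6.Primary
import Cfsg.Agent.Lib.Helper6.Comm
import Cfsg.Agent.Lib.Lead.Sylow
import Cfsg.Agent.S0582

set_option autoImplicit false
open Pointwise
open Cfsg

namespace Cfsg.Agent.S0581

open Cfsg.Agent.Lib.Helper1 Cfsg.Agent.Lib.Lead Cfsg.Agent.Lib.Helper6

universe u

theorem mem_pPrimeCore_of_coprime {N : Type*} [Group N] [Finite N] (hN : Group.IsNilpotent N)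
    (p : ℕ) [Fact p.Prime] (x : N) (hx : (orderOf x).Coprime p) : x ∈ Cfsg.pPrimeCore p N := by
  apply mem_of_forall_prime_pow (Cfsg.pPrimeCore p N) p _ x hx
  rintro y ⟨r, b, hr, hrp, hy⟩
  have : Fact r.Prime := ⟨hr⟩
  obtain ⟨S⟩ : Nonempty (Sylow r N) := inferInstance
  have hsyl := ((Group.isNilpotent_of_finite_tfae (G := N)).out 0 3).mp hN
  have hSn : (S : Subgroup N).Normal := hsyl r inferInstance S
  have hyS := mem_sylow_of_normal_of_orderOf S hSn y b hy
  obtain ⟨k, hk⟩ := IsPGroup.iff_card.mp S.isPGroup'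
  exact Cfsg.Agent.Lib.Helper4.le_pPrimeCore hSn
    (by rw [hk]; exact Nat.Coprime.pow_left k ((Nat.coprime_primes hr Fact.out).mpr hrp)) hyS

theorem coprime_of_mem_pPrimeCore {N : Type*} [Group N] [Finite N] (p : ℕ) (x : N)
    (hx : x ∈ Cfsg.pPrimeCore p N) : (orderOf x).Coprime p := by
  have h1 := Cfsg.Agent.Lib.Helper4.pPrimeCore_coprime p N
  have h2 : orderOf x ∣ Nat.card (Cfsg.pPrimeCore p N) := by
    have := orderOf_dvd_natCard (⟨x, hx⟩ : Cfsg.pPrimeCore p N)
    rwa [Subgroup.orderOf_mk] at this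
  exact Nat.Coprime.coprime_dvd_left h2 h1

theorem exists_pprime_subgroup {G : Type*} [Group G] [Finite G] (H₁ : Subgroup G)
    (hH₁ : Group.IsNilpotent H₁) (p : ℕ) [Fact p.Prime] :
    ∃ R : Subgroup G, ∀ g, g ∈ R ↔ g ∈ H₁ ∧ (orderOf g).Coprime p := by
  refine ⟨(Cfsg.pPrimeCore p H₁).map H₁.subtype, fun g => ?_⟩
  constructor
  · rintro ⟨x, hx, rfl⟩
    refine ⟨x.2, ?_⟩
    have := coprime_of_mem_pPrimeCore p x hx
    rwa [← Subgroup.orderOf_coe] at this
  · rintro ⟨hg, hc⟩
    exact ⟨⟨g, hg⟩, mem_pPrimeCore_of_coprime hH₁ p ⟨g, hg⟩ (by rwa [Subgroup.orderOf_mk]), rfl⟩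

theorem nilpotent_of_le {G : Type*} [Group G] {L M : Subgroup G} (h : L ≤ M)
    (hM : Group.IsNilpotent M) : Group.IsNilpotent L :=
  Group.nilpotent_of_mulEquiv (Subgroup.subgroupOfEquivOfLe h)

theorem nilpotent_conj {G : Type*} [Group G] (x : G) {H : Subgroup G}
    (hH : Group.IsNilpotent H) : Group.IsNilpotent ↥(MulAut.conj x • H) :=
  Group.nilpotent_of_mulEquiv (Subgroup.equivSMul (MulAut.conj x) H)

theorem wielandt_aux {G : Type u} [Group G] [Finite G] : ∀ (n : ℕ) (H K : Subgroup G),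
    Group.IsNilpotent H → (Nat.card H).Coprime H.index →
    (∀ p : ℕ, p.Prime → p ∣ Nat.card K → p ∣ Nat.card H) → Nat.card K ≤ n →
    ∃ x : G, K ≤ MulAut.conj x • H := by
  intro n
  induction n with
  | zero =>
    intro H K _ _ _ hn
    exact absurd hn (by have := Nat.card_pos (α := K); omega)
  | succ n ih =>
    intro H K hH hHall hK hn
    by_cases hKbot : K = ⊥
    · exact ⟨1, by rw [hKbot]; exact bot_le⟩
    have hprop : ∀ L : Subgroup G, L < K → Group.IsNilpotent L := by
      intro L hL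
      have hcl := card_lt_of_lt hL
      obtain ⟨x, hx⟩ := ih H L hH hHall
        (fun p hp hpd => hK p hp (hpd.trans (Subgroup.card_dvd_of_le hL.le))) (by omega)
      exact nilpotent_of_le hx (nilpotent_conj x hH)
    have htop_of_map : ∀ L' : Subgroup K, L'.map K.subtype = K → L' = ⊤ := by
      intro L' heq
      rw [eq_top_iff]
      intro y _
      have h1 : (y : G) ∈ L'.map K.subtype := by rw [heq]; exact y.2
      obtain ⟨z, hz, hzy⟩ := h1
      have h2 : z = y := Subtype.ext hzy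
      rwa [← h2]
    have hpropK : ∀ L' : Subgroup K, L' ≠ ⊤ → Group.IsNilpotent L' := by
      intro L' hL'
      have hlt : L'.map K.subtype < K :=
        lt_of_le_of_ne (Subgroup.map_subtype_le L') (fun heq => hL' (htop_of_map L' heq))
      have := hprop _ hlt
      exact Group.nilpotent_of_mulEquiv
        (L'.equivMapOfInjective K.subtype (Subgroup.subtype_injective K)).symm
    have : Group.IsSolvable K := isSolvable_of_proper_nilpotent hpropK
    have : Nontrivial K := (Subgroup.nontrivial_iff_ne_bot K).mpr hKbot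
    obtain ⟨K₁', hK₁n, hK₁p⟩ := exists_normal_prime_index K
    obtain ⟨p, hp⟩ : ∃ p, p = K₁'.index := ⟨_, rfl⟩
    have hpp : p.Prime := hp ▸ hK₁p
    have : Fact p.Prime := ⟨hpp⟩
    obtain ⟨K₁, hK₁def⟩ : ∃ K₁ : Subgroup G, K₁ = K₁'.map K.subtype := ⟨_, rfl⟩
    have hK₁K : K₁ ≤ K := hK₁def ▸ Subgroup.map_subtype_le K₁'
    have hK₁lt : K₁ < K := by
      refine lt_of_le_of_ne hK₁K ?_
      intro heq
      have h1 : K₁' = ⊤ := htop_of_map K₁' (hK₁def ▸ heq)
      rw [h1, Subgroup.index_top] at hp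
      exact hpp.ne_one hp
    obtain ⟨x, hx⟩ := ih H K₁ hH hHall
      (fun r hr hrd => hK r hr (hrd.trans (Subgroup.card_dvd_of_le hK₁K)))
      (by have := card_lt_of_lt hK₁lt; omega)
    obtain ⟨H₁, hH₁def⟩ : ∃ H₁ : Subgroup G, H₁ = MulAut.conj x • H := ⟨_, rfl⟩
    rw [← hH₁def] at hx
    have hH₁nil : Group.IsNilpotent H₁ := hH₁def ▸ nilpotent_conj x hH
    have hcardH₁ : Nat.card H₁ = Nat.card H := by rw [hH₁def]; exact card_conj_smul x H
    have hidxH₁ : H₁.index = H.index := by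
      have h1 := Subgroup.card_mul_index H
      have h2 := Subgroup.card_mul_index H₁
      rw [hcardH₁, ← h1] at h2
      exact Nat.eq_of_mul_eq_mul_left Nat.card_pos h2
    have hpK : p ∣ Nat.card K := by rw [hp]; exact Subgroup.index_dvd_card K₁'
    have hpH₁ : p ∣ Nat.card H₁ := by rw [hcardH₁]; exact hK p hpp hpK
    obtain ⟨P₁, hP₁⟩ := Cfsg.Agent.S0582.exists_sylow_le H₁ hpH₁
      (by rw [hcardH₁, hidxH₁]; exact hHall)
    obtain ⟨R, hR⟩ := exists_pprime_subgroup H₁ hH₁nil p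
    obtain ⟨A, hAdef⟩ : ∃ A : Subgroup G, A = K₁ ⊓ R := ⟨_, rfl⟩
    have hA : ∀ g, g ∈ A ↔ g ∈ K₁ ∧ (orderOf g).Coprime p := by
      intro g
      rw [hAdef, Subgroup.mem_inf, hR]
      constructor
      · rintro ⟨h1, _, h3⟩
        exact ⟨h1, h3⟩
      · rintro ⟨h1, h3⟩
        exact ⟨h1, hx h1, h3⟩
    have hAH₁ : A ≤ H₁ := fun g hg => hx ((hA g).mp hg).1
    have hKK₁ : ∀ k ∈ K, ∀ g ∈ K₁, k * g * k⁻¹ ∈ K₁ := by
      intro k hk g hg
      rw [hK₁def] at hg ⊢
      obtain ⟨g', hg', rfl⟩ := hg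
      exact ⟨⟨k, hk⟩ * g' * ⟨k, hk⟩⁻¹, hK₁n.conj_mem g' hg' ⟨k, hk⟩, rfl⟩
    have hKA : K ≤ Subgroup.normalizer (A : Set G) := by
      intro k hk
      apply mem_normalizer_of_conj_mem
      intro d hd
      rw [hA] at hd ⊢
      refine ⟨hKK₁ k hk d hd.1, ?_⟩
      have h1 : orderOf (k * d * k⁻¹) = orderOf d := by
        rw [← MulAut.conj_apply]
        exact MulEquiv.orderOf_eq _ _
      rw [h1]
      exact hd.2
    have hPA : (P₁ : Subgroup G) ≤ Subgroup.centralizer (A : Set G) := by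
      intro u hu
      rw [Subgroup.mem_centralizer_iff]
      intro v hv
      obtain ⟨i, hi⟩ := orderOf_mem_sylow P₁ hu
      exact (comm_of_nilpotent_subgroup H₁ hH₁nil (hP₁ hu) (hAH₁ hv) hi ((hA v).mp hv).2).symm
    obtain ⟨S'⟩ : Nonempty (Sylow p K) := inferInstance
    obtain ⟨S, hSdef⟩ : ∃ S : Subgroup G, S = (S' : Subgroup K).map K.subtype := ⟨_, rfl⟩
    have hSK : S ≤ K := hSdef ▸ Subgroup.map_subtype_le _
    have hSp : IsPGroup p S := hSdef ▸ S'.isPGroup'.map K.subtype
    have hKSA : K ≤ S ⊔ A := by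
      rw [← Subgroup.subgroupOf_eq_top]
      apply eq_top_of_sylow_le
      intro r hr
      by_cases hrp : r = p
      · subst hrp
        refine ⟨S', ?_⟩
        intro y hy
        rw [Subgroup.mem_subgroupOf]
        exact Subgroup.mem_sup_left (hSdef ▸ Subgroup.mem_map_of_mem K.subtype hy)
      · obtain ⟨T'⟩ : Nonempty (Sylow r K) := inferInstance
        refine ⟨T', ?_⟩
        intro t ht
        rw [Subgroup.mem_subgroupOf]
        apply Subgroup.mem_sup_right
        rw [hA]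
        obtain ⟨j, hj⟩ := orderOf_mem_sylow T' ht
        have hcop' : (orderOf t).Coprime p := by
          rw [hj]
          exact Nat.Coprime.pow_left j ((Nat.coprime_primes hr.out hpp).mpr hrp)
        have hcop : (orderOf (t : G)).Coprime p := by
          rw [Subgroup.orderOf_coe]
          exact hcop'
        refine ⟨?_, hcop⟩
        have htp : t ^ p ∈ K₁' := by
          rw [← QuotientGroup.eq_one_iff, QuotientGroup.mk_pow, hp, Subgroup.index_eq_card]
          exact pow_card_eq_one'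
        obtain ⟨m, hm⟩ := exists_pow_eq_self_of_coprime hcop'.symm
        have h2 : t ∈ K₁' := by
          rw [← hm]
          exact Subgroup.pow_mem _ htp m
        rw [hK₁def]
        exact Subgroup.mem_map_of_mem K.subtype h2
    obtain ⟨c, hcN, Q, hP₁Q, hcS⟩ := exists_conj_le_common_sylow
      (Subgroup.normalizer (A : Set G)) (P₁ : Subgroup G) S
      (hPA.trans (Subgroup.centralizer_le_normalizer (A : Set G))) (hSK.trans hKA) P₁.isPGroup' hSp
    have hQP : (Q : Subgroup G) = P₁ := P₁.is_maximal' Q.isPGroup' hP₁Q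
    refine ⟨c⁻¹ * x, ?_⟩
    have hfinal : S ⊔ A ≤ MulAut.conj (c⁻¹ * x) • H := by
      refine sup_le ?_ ?_
      · intro s hs
        rw [mem_conj_smul]
        have h1 : c * s * c⁻¹ ∈ H₁ := hP₁ (hQP ▸ hcS s hs)
        rw [hH₁def, mem_conj_smul] at h1
        have e : (c⁻¹ * x)⁻¹ * s * (c⁻¹ * x) = x⁻¹ * (c * s * c⁻¹) * x := by group
        rw [e]
        exact h1
      · intro a ha
        rw [mem_conj_smul]
        have h0 : c * a * c⁻¹ ∈ A := by
          have h3 := conj_mem_conj_smul (g := c) ha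
          rwa [conj_smul_eq_of_mem_normalizer hcN] at h3
        have h1 : c * a * c⁻¹ ∈ H₁ := hAH₁ h0
        rw [hH₁def, mem_conj_smul] at h1
        have e : (c⁻¹ * x)⁻¹ * a * (c⁻¹ * x) = x⁻¹ * (c * a * c⁻¹) * x := by group
        rw [e]
        exact h1
    exact hKSA.trans hfinal

/-- Let H be a nilpotent subgroup of a finite group G whose order is coprime to its index, and K a subgroup every prime divisor of whose order divides the order of H. Then K lies in some conjugate of H. -/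
theorem result {G : Type*} [Group G] [Finite G] (H K : Subgroup G) (hH : Group.IsNilpotent H) (hHall : (Nat.card H).Coprime H.index) (hK : ∀ p : ℕ, p.Prime → p ∣ Nat.card K → p ∣ Nat.card H) : ∃ x : G, K ≤ MulAut.conj x • H := by
  exact wielandt_aux (Nat.card K) H K hH hHall hK le_rfl

end Cfsg.Agent.S0581
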