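import Mathlib
import Cfsg.Statements.S4303
import Cfsg.Agent.Lib.Helper7.CoprimeCount

namespace Cfsg.Agent.S4303

open Cfsg.Agent.Lib

universe u

def Good (p : ℕ) (m : ℕ) : Prop :=
  ∃ l : List ℕ, l.prod = m ∧
      ∀ x ∈ l, (IsPrimePow x ∧ x % p = 1) ∨
        ∃ (S : Type u) (_ : Group S) (_ : Finite S), IsSimpleGroup S ∧ x = Nat.card (Sylow p S)

theorem Good.one (p : ℕ) : Good.{u} p 1 := ⟨[], by simp, by simp⟩

theorem Good.mul {p a b : ℕ} (ha : Good.{u} p a) (hb : Good.{u} p b) : Good.{u} p (a * b) := by
  obtain ⟨l1, h1, h1'⟩ := ha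
  obtain ⟨l2, h2, h2'⟩ := hb
  refine ⟨l1 ++ l2, by rw [List.prod_append, h1, h2], ?_⟩
  intro x hx
  rcases List.mem_append.mp hx with h | h
  · exact h1' x h
  · exact h2' x h

theorem Good.of_parts (p : ℕ) [Fact p.Prime] (n : ℕ) (hn : n ≠ 0)
    (h : ∀ q : ℕ, q.Prime → q ^ n.factorization q ≡ 1 [MOD p]) : Good.{u} p n := by
  have hp : p.Prime := Fact.out
  refine ⟨n.primeFactors.toList.map (fun q => q ^ n.factorization q), ?_, ?_⟩
  · rw [Finset.prod_map_toList]
    have := Nat.prod_factorization_pow_eq_self hn
    rw [Finsupp.prod, Nat.support_factorization] at this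
    exact this
  · intro x hx
    obtain ⟨q, hq, rfl⟩ := List.mem_map.mp hx
    rw [Finset.mem_toList] at hq
    have hqp := Nat.prime_of_mem_primeFactors hq
    have hqd := Nat.dvd_of_mem_primeFactors hq
    left
    refine ⟨hqp.prime.isPrimePow.pow (hqp.factorization_pos_of_dvd hn hqd).ne', ?_⟩
    have h1 := h q hqp
    rw [Nat.ModEq] at h1
    rw [h1]
    exact Nat.one_mod_eq_one.mpr hp.one_lt.ne'

theorem aux (p : ℕ) [Fact p.Prime] : ∀ n : ℕ, ∀ (G : Type u) [Group G] [Finite G],
    Nat.card G = n → Good.{u} p (Nat.card (Sylow p G)) := by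
  intro n
  induction n using Nat.strong_induction_on with
  | _ n ih =>
    intro G _ _ hn
    by_cases hsimple : IsSimpleGroup G
    · refine ⟨[Nat.card (Sylow p G)], by simp, ?_⟩
      intro x hx
      right
      exact ⟨G, inferInstance, inferInstance, hsimple, by simpa using hx⟩
    by_cases htriv : Nontrivial G
    swap
    · rw [not_nontrivial_iff_subsingleton] at htriv
      have : Nat.card (Sylow p G) = 1 := by
        have h2 : Nat.card (Sylow p G) ∣ Nat.card G := by
          rw [Sylow.card_eq_index_normalizer (default : Sylow p G)]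
          exact Subgroup.index_dvd_card _
        rw [Nat.card_of_subsingleton (1 : G)] at h2
        exact Nat.dvd_one.mp h2
      rw [this]
      exact Good.one p
    have hex : ∃ K : Subgroup G, K.Normal ∧ K ≠ ⊥ ∧ K ≠ ⊤ := by
      by_contra hcon
      push Not at hcon
      apply hsimple
      refine IsSimpleGroup.mk ?_
      intro H hH
      by_cases hb : H = ⊥
      · exact Or.inl hb
      · exact Or.inr (hcon H hH hb)
    obtain ⟨K, hKn, hKbot, hKtop⟩ := hex
    let P : Sylow p G := default
    have hmul := Helper7.card_sylow_eq_mul p K P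
    have hlt : Nat.card (G ⧸ K) < n := by
      rw [← hn, ← Subgroup.index_eq_card]
      exact Helper7.index_lt_card_of_ne_bot K hKbot
    have hih1 := ih _ hlt (G ⧸ K) rfl
    have hcard_lt : ∀ H : Subgroup G, H ≠ ⊤ → Nat.card H < n := by
      intro H hH
      rw [← hn]
      have h1 := H.card_mul_index
      have h2 : H.index ≠ 1 := fun h => hH (Subgroup.index_eq_one.mp h)
      have h3 : 0 < H.index := Nat.pos_of_ne_zero (Subgroup.index_ne_zero_of_finite)
      have h4 : 0 < Nat.card H := Nat.card_pos
      have h5 : 2 ≤ H.index := by omega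
      nlinarith
    by_cases hM : (P : Subgroup G) ⊔ K = ⊤
    swap
    · rw [hmul]
      exact Good.mul hih1 (ih _ (hcard_lt _ hM) _ rfl)
    by_cases hD : (P : Subgroup G) ⊓ K = ⊥
    · -- coprime case
      have hcop : (Nat.card K).Coprime p := by
        have hp : p.Prime := Fact.out
        rw [Nat.coprime_comm, Nat.Prime.coprime_iff_not_dvd hp]
        intro hdvd
        have h1 := Helper7.card_sup_mul_card_inf (P : Subgroup G) K
        rw [hM, inf_comm, hD, Subgroup.card_bot, mul_one, Subgroup.card_top] at h1
        have h2 := (P : Subgroup G).card_mul_index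
        rw [h1] at h2
        have h3 : (P : Subgroup G).index = Nat.card K :=
          Nat.eq_of_mul_eq_mul_left Nat.card_pos h2
        exact P.not_dvd_index (h3 ▸ hdvd)
      exact Good.of_parts p _ Nat.card_pos.ne'
        (fun q hq => Helper7.coprime_case p K P hM hcop q hq)
    · -- P ⊓ K ≠ ⊥
      set D := (P : Subgroup G) ⊓ K with hDdef
      set N := ((P : Subgroup G) ⊔ K) ⊓ Subgroup.normalizer (D : Set G) with hNdef
      have hDN : D ≤ N := le_inf (inf_le_left.trans le_sup_left) Subgroup.le_normalizer
      haveI hn' : (D.subgroupOf N).Normal :=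
        (Subgroup.normal_subgroupOf_iff_le_normalizer hDN).mpr inf_le_right
      have h3 := Cfsg.Agent.S4341.result p K P N hNdef
      rw [h3]
      refine Good.mul (Good.mul hih1 (ih _ (hcard_lt K hKtop) K rfl)) ?_
      have hlt2 : Nat.card (N ⧸ D.subgroupOf N) < n := by
        rw [← Subgroup.index_eq_card]
        have h4 : D.subgroupOf N ≠ ⊥ := by
          intro h
          rw [Subgroup.subgroupOf_eq_bot, disjoint_iff, inf_eq_left.mpr hDN] at h
          exact hD h
        have h5 := Helper7.index_lt_card_of_ne_bot (D.subgroupOf N) h4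
        have h6 : Nat.card N ≤ Nat.card G := Subgroup.card_le_card_group N
        omega
      exact ih _ hlt2 _ rfl

/-- For a finite group `G` and a prime `p`, the number of Sylow `p`-subgroups of `G` is a product of natural numbers each of which is either a prime power congruent to 1 modulo `p` or the number of Sylow `p`-subgroups of some finite simple group. -/
theorem result {G : Type u} [Group G] [Finite G]
    (p : ℕ) [Fact p.Prime] :
    ∃ l : List ℕ, l.prod = Nat.card (Sylow p G) ∧
      ∀ m ∈ l, (IsPrimePow m ∧ m % p = 1) ∨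
        ∃ (S : Type u) (_ : Group S) (_ : Finite S), IsSimpleGroup S ∧ m = Nat.card (Sylow p S) := by
  exact aux p (Nat.card G) G rfl

end Cfsg.Agent.S4303
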