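import Mathlib
import Cfsg.Statements.S4343
import Cfsg.Agent.Lib.Helper7.Basic
import Cfsg.Agent.Lib.Helper7.PPrime

set_option autoImplicit false
open Cfsg

namespace Cfsg.Agent.S4343

open Cfsg.Agent.Lib.Helper7

/-- the stabilizer of the Sylow subgroup `R` in the Sylow subgroup `Q` is `Q ⊓ R` -/
theorem stab_eq {S : Type*} [Group S] [Finite S] {p : ℕ} [Fact p.Prime] (Q R : Sylow p S) :
    MulAction.stabilizer (Q : Subgroup S) R = (R : Subgroup S).subgroupOf Q := by
  ext u
  rw [MulAction.mem_stabilizer_iff, Subgroup.mem_subgroupOf]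
  have h1 : u • R = R ↔ (u : S) ∈ Subgroup.normalizer (R : Set S) :=
    Sylow.smul_eq_iff_mem_normalizer
  rw [h1]
  have h2 := Q.2.inf_normalizer_sylow R
  constructor
  · intro h
    have h3 : (u : S) ∈ (Q : Subgroup S) ⊓ Subgroup.normalizer (R : Set S) := ⟨u.2, h⟩
    rw [h2] at h3
    exact h3.2
  · intro h
    have h3 : (u : S) ∈ (Q : Subgroup S) ⊓ (R : Subgroup S) := ⟨u.2, h⟩
    rw [← h2] at h3
    exact h3.2

theorem orbit_card {S : Type*} [Group S] [Finite S] {p : ℕ} [Fact p.Prime] (Q R : Sylow p S) :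
    Nat.card (MulAction.orbit (Q : Subgroup S) R) = (R : Subgroup S).relIndex Q := by
  rw [Nat.card_congr (MulAction.orbitEquivQuotientStabilizer (Q : Subgroup S) R), stab_eq]
  rfl

theorem relIndex_eq {S : Type*} [Group S] [Finite S] {p : ℕ} [Fact p.Prime]
    (hn : Nat.card (Sylow p S) < p ^ 2) (Q R : Sylow p S) (hne : Q ≠ R) :
    (R : Subgroup S).relIndex Q = p := by
  have hp := (Fact.out : p.Prime)
  obtain ⟨j, hj⟩ := Q.2.index ((R : Subgroup S).subgroupOf Q)
  have hj' : (R : Subgroup S).relIndex Q = p ^ j := hj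
  have hle : (R : Subgroup S).relIndex Q ≤ Nat.card (Sylow p S) := by
    rw [← orbit_card]
    exact Nat.card_le_card_of_injective Subtype.val Subtype.val_injective
  have hne1 : (R : Subgroup S).relIndex Q ≠ 1 := by
    rw [Ne, Subgroup.relIndex_eq_one]
    intro hle'
    apply hne
    exact (Sylow.ext (Q.3 R.2 hle')).symm
  rw [hj'] at hle hne1 ⊢
  have h1 : j = 1 := by
    rcases j with _ | _ | j
    · simp at hne1
    · rfl
    · exfalso
      have h2 : p ^ 2 ≤ p ^ (j + 1 + 1) := Nat.pow_le_pow_right hp.pos (by omega)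
      omega
  rw [h1, pow_one]

theorem card_inf_mul {S : Type*} [Group S] [Finite S] {p : ℕ} [Fact p.Prime]
    (hn : Nat.card (Sylow p S) < p ^ 2) (Q R : Sylow p S) (hne : Q ≠ R) :
    Nat.card ((Q : Subgroup S) ⊓ R : Subgroup S) * p = Nat.card Q := by
  have h1 := relIndex_eq hn Q R hne
  rw [← Subgroup.inf_relIndex_right, inf_comm] at h1
  have h2 := relIndex_mul_card_of_le (inf_le_left : (Q : Subgroup S) ⊓ R ≤ Q)
  rw [h1] at h2
  rw [mul_comm]; exact h2

theorem conj_mem_inf {S : Type*} [Group S] [Finite S] {p : ℕ} [Fact p.Prime]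
    (hn : Nat.card (Sylow p S) < p ^ 2) (Q R : Sylow p S) (hne : Q ≠ R) (u : S)
    (hu : u ∈ (Q : Subgroup S)) (d : S) (hd : d ∈ (Q : Subgroup S) ⊓ R) :
    u * d * u⁻¹ ∈ (Q : Subgroup S) ⊓ R := by
  have hp := (Fact.out : p.Prime)
  have hrel := relIndex_eq hn Q R hne
  have hidx : ((R : Subgroup S).subgroupOf Q).index = (Nat.card (Q : Subgroup S)).minFac := by
    obtain ⟨a, ha⟩ := IsPGroup.iff_card.mp Q.2
    have ha0 : a ≠ 0 := by
      rintro rfl
      have h1 : (R : Subgroup S).relIndex Q ∣ Nat.card (Q : Subgroup S) :=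
        Subgroup.relIndex_dvd_card _ _
      rw [hrel, ha, pow_zero] at h1
      exact hp.one_lt.ne' (Nat.dvd_one.mp h1)
    rw [ha, Nat.Prime.pow_minFac hp ha0]
    exact hrel
  have hnorm := Subgroup.normal_of_index_eq_minFac_card hidx
  have h3 := hnorm.conj_mem ⟨d, hd.1⟩ (Subgroup.mem_subgroupOf.mpr hd.2) ⟨u, hu⟩
  exact ⟨(Q : Subgroup S).mul_mem ((Q : Subgroup S).mul_mem hu hd.1) ((Q : Subgroup S).inv_mem hu),
    Subgroup.mem_subgroupOf.mp h3⟩

theorem inf_smul_eq {S : Type*} [Group S] [Finite S] {p : ℕ} [Fact p.Prime]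
    (hn : Nat.card (Sylow p S) < p ^ 2) (Q R : Sylow p S) (hne : Q ≠ R) (u : S)
    (hu : u ∈ (Q : Subgroup S)) :
    (Q : Subgroup S) ⊓ ((u • R : Sylow p S) : Subgroup S) = (Q : Subgroup S) ⊓ R := by
  ext y
  rw [Subgroup.mem_inf, Subgroup.mem_inf, Sylow.coe_subgroup_smul, mem_conj_smul_iff]
  constructor
  · rintro ⟨hyQ, hy⟩
    have h1 : u⁻¹ * y * u ∈ (Q : Subgroup S) ⊓ R :=
      ⟨(Q : Subgroup S).mul_mem ((Q : Subgroup S).mul_mem ((Q : Subgroup S).inv_mem hu) hyQ) hu, hy⟩
    have h2 := conj_mem_inf hn Q R hne u hu _ h1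
    have e : u * (u⁻¹ * y * u) * u⁻¹ = y := by group
    rw [e] at h2
    exact h2
  · rintro ⟨hyQ, hyR⟩
    have h2 := conj_mem_inf hn Q R hne u⁻¹ ((Q : Subgroup S).inv_mem hu) y ⟨hyQ, hyR⟩
    rw [inv_inv] at h2
    exact ⟨hyQ, h2.2⟩

theorem iInf_sylow_normal {S : Type*} [Group S] [Finite S] (p : ℕ) [Fact p.Prime] :
    (⨅ Q : Sylow p S, (Q : Subgroup S)).Normal := by
  constructor
  intro x hx g
  rw [Subgroup.mem_iInf] at hx ⊢
  intro Q
  have h1 := hx (g⁻¹ • Q)
  rw [Sylow.coe_subgroup_smul, mem_conj_smul_iff] at h1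
  simpa using h1

/-- Let S be a finite non-abelian simple group and p a prime dividing its order. If S has fewer than p² Sylow p-subgroups, then its Sylow p-subgroups have order p. -/
theorem result {S : Type*} [Group S] [Finite S]
    [IsSimpleGroup S] (hS : ¬ IsMulCommutative S) (p : ℕ) [Fact p.Prime] (hp : p ∣ Nat.card S)
    (hn : Nat.card (Sylow p S) < p ^ 2) (P : Sylow p S) : Nat.card P = p := by
  classical
  have hpp := (Fact.out : p.Prime)
  by_contra hne
  have hcard : ∀ Q : Sylow p S, Nat.card Q = Nat.card P := fun Q => by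
    rw [Sylow.card_eq_multiplicity, Sylow.card_eq_multiplicity]
  have hDn := iInf_sylow_normal (S := S) p
  have hD : (⨅ Q : Sylow p S, (Q : Subgroup S)) = ⊥ := by
    rcases hDn.eq_bot_or_eq_top with h | h
    · exact h
    · exfalso
      have hPtop : (P : Subgroup S) = ⊤ := top_le_iff.mp (h ▸ iInf_le _ P)
      have hpg : IsPGroup p S := by
        intro g
        obtain ⟨k, hk⟩ := P.2 ⟨g, by rw [hPtop]; trivial⟩
        exact ⟨k, by have := congrArg Subtype.val hk; simpa using this⟩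
      haveI : Nontrivial S := IsSimpleGroup.toNontrivial
      have hcn := hpg.center_nontrivial
      rcases (inferInstance : (Subgroup.center S).Normal).eq_bot_or_eq_top with hc | hc
      · exact (Subgroup.nontrivial_iff_ne_bot _).mp hcn hc
      · apply hS
        refine ⟨⟨fun a b => ?_⟩⟩
        have ha : a ∈ Subgroup.center S := by rw [hc]; trivial
        exact (Subgroup.mem_center_iff.mp ha b).symm
  have hP1 : Nat.card P ≠ 1 := by
    rw [Sylow.card_eq_multiplicity]
    have h0 := Nat.Prime.factorization_pos_of_dvd hpp Nat.card_pos.ne' hp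
    intro h
    rcases Nat.pow_eq_one.mp h with h | h
    · exact hpp.one_lt.ne' h
    · omega
  have hex : ∃ Q₁ Q₂ : Sylow p S, Q₁ ≠ P ∧ Q₂ ≠ P ∧
      (P : Subgroup S) ⊓ Q₁ ≠ (P : Subgroup S) ⊓ Q₂ := by
    by_contra hcon
    push Not at hcon
    by_cases hQ : ∃ Q₀ : Sylow p S, Q₀ ≠ P
    · obtain ⟨Q₀, hQ₀⟩ := hQ
      have hle : (P : Subgroup S) ⊓ Q₀ ≤ ⨅ Q : Sylow p S, (Q : Subgroup S) := by
        apply le_iInf
        intro Q
        by_cases hQP : Q = P
        · rw [hQP]; exact inf_le_left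
        · rw [hcon Q₀ Q hQ₀ hQP]; exact inf_le_right
      rw [hD, le_bot_iff] at hle
      have h1 := card_inf_mul hn P Q₀ (Ne.symm hQ₀)
      rw [hle, Subgroup.card_bot, one_mul] at h1
      exact hne h1.symm
    · push Not at hQ
      have hle : (P : Subgroup S) ≤ ⨅ Q : Sylow p S, (Q : Subgroup S) := by
        apply le_iInf
        intro Q
        rw [hQ Q]
      rw [hD, le_bot_iff] at hle
      apply hP1
      rw [hle, Subgroup.card_bot]
  obtain ⟨Q₁, Q₂, hQ₁, hQ₂, hD12⟩ := hex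
  have horb : ∀ R : MulAction.orbit (P : Subgroup S) Q₁,
      (P : Subgroup S) ⊓ ((R : Sylow p S) : Subgroup S) = (P : Subgroup S) ⊓ Q₁ := by
    rintro ⟨R, u, rfl⟩
    exact inf_smul_eq hn P Q₁ (Ne.symm hQ₁) (u : S) u.2
  obtain ⟨Rj, hRj⟩ : ∃ Rj : Option (MulAction.orbit (P : Subgroup S) Q₁) → Sylow p S,
      Rj = fun j => match j with
        | none => P
        | some R => (R : Sylow p S) := ⟨_, rfl⟩
  have hRn : Rj none = P := by rw [hRj]
  have hRs : ∀ R : MulAction.orbit (P : Subgroup S) Q₁, Rj (some R) = (R : Sylow p S) := by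
    intro R; rw [hRj]
  -- (a)
  have ha : ∀ j, Rj j ≠ Q₂ := by
    intro j
    cases j with
    | none => rw [hRn]; exact Ne.symm hQ₂
    | some R =>
      rw [hRs]
      intro h
      apply hD12
      rw [← horb R, h]
  -- cardinalities
  have hcD1 : Nat.card ((P : Subgroup S) ⊓ Q₁ : Subgroup S) * p = Nat.card P :=
    card_inf_mul hn P Q₁ (Ne.symm hQ₁)
  have hcD2 : Nat.card ((P : Subgroup S) ⊓ Q₂ : Subgroup S) * p = Nat.card P :=
    card_inf_mul hn P Q₂ (Ne.symm hQ₂)
  have hppos : 0 < p := hpp.pos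
  -- (b)
  have hb : ∀ j j', j ≠ j' →
      ((Rj j : Sylow p S) : Subgroup S) ⊓ (Rj j' : Sylow p S) = (P : Subgroup S) ⊓ Q₁ := by
    intro j j' hjj
    cases j with
    | none =>
      cases j' with
      | none => exact absurd rfl hjj
      | some R => rw [hRn, hRs]; exact horb R
    | some R =>
      cases j' with
      | none => rw [hRn, hRs, inf_comm]; exact horb R
      | some R' =>
        rw [hRs, hRs]
        have hRR : (R : Sylow p S) ≠ (R' : Sylow p S) := by
          intro h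
          apply hjj
          rw [Subtype.ext h]
        have hle : (P : Subgroup S) ⊓ Q₁ ≤
            ((R : Sylow p S) : Subgroup S) ⊓ ((R' : Sylow p S) : Subgroup S) := by
          apply le_inf
          · rw [← horb R]; exact inf_le_right
          · rw [← horb R']; exact inf_le_right
        have hc := card_inf_mul hn (R : Sylow p S) (R' : Sylow p S) hRR
        rw [hcard] at hc
        symm
        apply Subgroup.eq_of_le_of_card_ge hle
        have : Nat.card (((R : Sylow p S) : Subgroup S) ⊓ ((R' : Sylow p S) : Subgroup S) :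
            Subgroup S) * p = Nat.card ((P : Subgroup S) ⊓ Q₁ : Subgroup S) * p := by
          rw [hc, hcD1]
        exact (Nat.eq_of_mul_eq_mul_right hppos this).le
  have hinj : ∀ j j', (Q₂ : Subgroup S) ⊓ (Rj j : Sylow p S) =
      (Q₂ : Subgroup S) ⊓ (Rj j' : Sylow p S) → j = j' := by
    intro j j' hF
    by_contra hjj
    have h1 : (Q₂ : Subgroup S) ⊓ (Rj j : Sylow p S) ≤ (P : Subgroup S) ⊓ Q₁ := by
      rw [← hb j j' hjj]
      apply le_inf
      · exact inf_le_right
      · rw [hF]; exact inf_le_right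
    have h2 : (Q₂ : Subgroup S) ⊓ (Rj j : Sylow p S) ≤ (P : Subgroup S) ⊓ Q₂ :=
      le_inf (h1.trans inf_le_left) inf_le_left
    have hcF := card_inf_mul hn Q₂ (Rj j) (Ne.symm (ha j))
    rw [hcard] at hcF
    have h3 : (Q₂ : Subgroup S) ⊓ (Rj j : Sylow p S) = (P : Subgroup S) ⊓ Q₂ := by
      apply Subgroup.eq_of_le_of_card_ge h2
      have : Nat.card ((P : Subgroup S) ⊓ Q₂ : Subgroup S) * p =
          Nat.card ((Q₂ : Subgroup S) ⊓ (Rj j : Sylow p S) : Subgroup S) * p := by
        rw [hcF, hcD2]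
      exact (Nat.eq_of_mul_eq_mul_right hppos this).le
    rw [h3] at h1
    apply hD12
    symm
    apply Subgroup.eq_of_le_of_card_ge h1
    have : Nat.card ((P : Subgroup S) ⊓ Q₁ : Subgroup S) * p =
        Nat.card ((P : Subgroup S) ⊓ Q₂ : Subgroup S) * p := by
      rw [hcD1, hcD2]
    exact (Nat.eq_of_mul_eq_mul_right hppos this).le
  -- the injection
  have hΨ : Function.Injective
      (fun x : (Σ j : Option (MulAction.orbit (P : Subgroup S) Q₁),
        MulAction.orbit (Q₂ : Subgroup S) (Rj j)) => (x.2 : Sylow p S)) := by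
    rintro ⟨j, ⟨R', ⟨v, hv⟩⟩⟩ ⟨j', ⟨R'', ⟨v', hv'⟩⟩⟩ h
    have h' : R' = R'' := h
    have e1 : (Q₂ : Subgroup S) ⊓ (R' : Sylow p S) = (Q₂ : Subgroup S) ⊓ (Rj j : Sylow p S) := by
      rw [← hv]
      exact inf_smul_eq hn Q₂ (Rj j) (Ne.symm (ha j)) (v : S) v.2
    have e2 : (Q₂ : Subgroup S) ⊓ (R'' : Sylow p S) = (Q₂ : Subgroup S) ⊓ (Rj j' : Sylow p S) := by
      rw [← hv']
      exact inf_smul_eq hn Q₂ (Rj j') (Ne.symm (ha j')) (v' : S) v'.2
    have hj : j = j' := hinj j j' (by rw [← e1, ← e2, h'])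
    subst hj
    subst h'
    rfl
  have hcount : Nat.card (Σ j : Option (MulAction.orbit (P : Subgroup S) Q₁),
        MulAction.orbit (Q₂ : Subgroup S) (Rj j)) = (p + 1) * p := by
    haveI : Fintype (Option (MulAction.orbit (P : Subgroup S) Q₁)) := Fintype.ofFinite _
    rw [Nat.card_sigma]
    have h1 : ∀ j, Nat.card (MulAction.orbit (Q₂ : Subgroup S) (Rj j)) = p := fun j => by
      rw [orbit_card, relIndex_eq hn Q₂ (Rj j) (Ne.symm (ha j))]
    simp_rw [h1]
    rw [Finset.sum_const, Finset.card_univ, smul_eq_mul, ← Nat.card_eq_fintype_card,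
      Finite.card_option, orbit_card, relIndex_eq hn P Q₁ (Ne.symm hQ₁)]
  have hle := Nat.card_le_card_of_injective _ hΨ
  rw [hcount] at hle
  have : (p + 1) * p = p ^ 2 + p := by ring
  omega

end Cfsg.Agent.S4343
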