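import Cfsg.Statements.S5191
import Cfsg.Agent.Lib.Helper8.Syl

set_option autoImplicit false
open Cfsg

namespace Cfsg.Agent.S5191

open Cfsg.Agent.Lib.Helper8 in
theorem aux {G : Type*} [Group G] [Finite G] {p : ℕ} [Fact p.Prime] (N : Subgroup G) [N.Normal]
    (S : Sylow p G) (P : Subgroup G) (hP : P ≤ (S : Subgroup G)) (γ : G ⧸ N)
    (hγ : ∀ x ∈ P, γ * QuotientGroup.mk x * γ⁻¹ ∈ ((S : Subgroup G).map (QuotientGroup.mk' N))) :
    ∃ g : G, ∀ x ∈ P, g * x * g⁻¹ ∈ S ∧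
      (QuotientGroup.mk (g * x * g⁻¹) : G ⧸ N) = γ * QuotientGroup.mk x * γ⁻¹ := by
  obtain ⟨g₀, rfl⟩ := QuotientGroup.mk_surjective γ
  have hle : cj g₀ P ≤ (S : Subgroup G) ⊔ N := by
    rw [cj_le_iff]
    intro x hx
    obtain ⟨s, hs, hsx⟩ := hγ x hx
    have h1 : (QuotientGroup.mk s : G ⧸ N) = QuotientGroup.mk (g₀ * x * g₀⁻¹) := by
      rw [QuotientGroup.mk_mul, QuotientGroup.mk_mul, QuotientGroup.mk_inv]
      exact hsx
    have h2 : s⁻¹ * (g₀ * x * g₀⁻¹) ∈ N := QuotientGroup.eq.mp h1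
    have e : g₀ * x * g₀⁻¹ = s * (s⁻¹ * (g₀ * x * g₀⁻¹)) := by group
    rw [e]
    exact Subgroup.mul_mem_sup hs h2
  have hsyl : SylIn p (S : Subgroup G) ((S : Subgroup G) ⊔ N) := (sylIn_top S).mono le_sup_left le_top
  have hnorm : (S : Subgroup G) ≤ Subgroup.normalizer (N : Set G) := by
    rw [Subgroup.normalizer_eq_top_iff.mpr inferInstance]
    exact le_top
  have hPp : IsPGroup p (cj g₀ P) := isPGroup_cj (S.isPGroup'.to_le hP) g₀
  obtain ⟨k, hk, hkle⟩ := hsyl.exists_conj_le_of_sup hnorm hPp hle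
  refine ⟨k * g₀, fun x hx => ⟨?_, ?_⟩⟩
  · have h3 := hkle (cj_mem (g := k) (cj_mem (g := g₀) hx))
    have e : k * g₀ * x * (k * g₀)⁻¹ = k * (g₀ * x * g₀⁻¹) * k⁻¹ := by group
    rw [e]
    exact h3
  · have hk1 : (QuotientGroup.mk k : G ⧸ N) = 1 := (QuotientGroup.eq_one_iff k).mpr hk
    simp only [QuotientGroup.mk_mul, QuotientGroup.mk_inv, hk1, one_mul, mul_inv_rev, inv_one, mul_one]

/-- Fusion in a finite group G and in its quotient by O_{p'}(G) agree. Let S be a Sylow p-subgroup of G, N = O_{p'}(G) and P ≤ S. If an element of G/N conjugates the image of P into the image of S, then some element g of G conjugates P into S and induces the same map on P modulo N. (Together with the injectivity of S → G/N this says that g ↦ gN induces an isomorphism of the fusion system of G on S with that of G/N on SN/N.) -/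
theorem result {G : Type*} [Group G] [Finite G] {p : ℕ} [Fact p.Prime]
    [hN : (Cfsg.pPrimeCore p G).Normal] (S : Sylow p G) (P : Subgroup G) (hP : P ≤ (S : Subgroup G))
    (γ : G ⧸ Cfsg.pPrimeCore p G)
    (hγ : ∀ x ∈ P, γ * QuotientGroup.mk x * γ⁻¹ ∈ ((S : Subgroup G).map (QuotientGroup.mk' (Cfsg.pPrimeCore p G)))) :
    ∃ g : G, ∀ x ∈ P, g * x * g⁻¹ ∈ S ∧
      (QuotientGroup.mk (g * x * g⁻¹) : G ⧸ Cfsg.pPrimeCore p G) = γ * QuotientGroup.mk x * γ⁻¹ := by
  exact aux (Cfsg.pPrimeCore p G) S P hP γ hγ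

end Cfsg.Agent.S5191
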