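import Cfsg.Statements.S5135
import Cfsg.Agent.S5191

set_option autoImplicit false
open Cfsg

namespace Cfsg.Agent.S5135

/-- Let G be a finite group, S a Sylow p-subgroup and H a normal subgroup of G. Then the fusion system of G/H on the image SH/H of S is the factor system of the fusion system of G on S modulo S ∩ H, read through the quotient map restricted to S: for each subgroup P' of SH/H, the conjugation maps by elements of G/H defined on P' with values in SH/H are exactly the homomorphisms induced by the conjugation maps by elements of G defined on the full preimage of P' in S with values in S. -/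
theorem result {G : Type*} [Group G] [Finite G] (p : ℕ) [Fact p.Prime] (S : Sylow p G) (H : Subgroup G) [H.Normal] : (Cfsg.groupFusionSystem (S : Subgroup G)).IsFactorSystem ((S : Subgroup G) ⊓ H) ((QuotientGroup.mk' H).comp (S : Subgroup G).subtype) (Cfsg.groupFusionSystem ((S : Subgroup G).map (QuotientGroup.mk' H))) := by
  refine ⟨inf_le_left, ?_, ?_, ?_⟩
  · intro s
    show (QuotientGroup.mk (s : G) : G ⧸ H) = 1 ↔ _
    rw [QuotientGroup.eq_one_iff]
    exact ⟨fun h => ⟨s.2, h⟩, fun h => h.2⟩
  · rw [MonoidHom.range_comp, Subgroup.range_subtype]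
  · intro P' φ'
    have hPS : FusionSystem.preimageAlong ((QuotientGroup.mk' H).comp (S : Subgroup G).subtype) P' ≤
        (S : Subgroup G) := by
      rintro _ ⟨s, -, rfl⟩
      exact s.2
    have hPmem : ∀ x ∈ FusionSystem.preimageAlong ((QuotientGroup.mk' H).comp (S : Subgroup G).subtype) P',
        (QuotientGroup.mk x : G ⧸ H) ∈ P' := by
      rintro _ ⟨s, hs, rfl⟩
      exact hs
    constructor
    · rintro ⟨hP', hφ'S, γ, hγ⟩
      refine ⟨hP', ?_⟩
      have hcond : ∀ x ∈ FusionSystem.preimageAlong ((QuotientGroup.mk' H).comp (S : Subgroup G).subtype) P',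
          γ * QuotientGroup.mk x * γ⁻¹ ∈ (S : Subgroup G).map (QuotientGroup.mk' H) := by
        intro x hx
        have h0 := hφ'S ⟨_, hPmem x hx⟩
        rwa [hγ] at h0
      obtain ⟨g, hg⟩ := Cfsg.Agent.S5191.aux H S _ hPS γ hcond
      refine ⟨conjHom _ g, ⟨hPS, fun x => (hg x x.2).1, g, fun x => rfl⟩, hPS,
        fun x => (hg x x.2).1, fun x => hPmem x x.2, ?_⟩
      intro x
      rw [hγ]
      exact ((hg x x.2).2).symm
    · rintro ⟨hP', φ, ⟨-, hφS, g, hg⟩, hP, hφ, hP'x, hind⟩
      have hsurj : ∀ y : P', ∃ x : FusionSystem.preimageAlong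
          ((QuotientGroup.mk' H).comp (S : Subgroup G).subtype) P',
          (QuotientGroup.mk (x : G) : G ⧸ H) = y := by
        intro y
        obtain ⟨s, hs, hsy⟩ := hP' y.2
        refine ⟨⟨s, ⟨⟨s, hs⟩, ?_, rfl⟩⟩, hsy⟩
        show (QuotientGroup.mk s : G ⧸ H) ∈ P'
        have hsy' : (QuotientGroup.mk s : G ⧸ H) = y := hsy
        rw [hsy']
        exact y.2
      have hval : ∀ y : P', φ' y = QuotientGroup.mk g * (y : G ⧸ H) * (QuotientGroup.mk g)⁻¹ ∧
          φ' y ∈ (S : Subgroup G).map (QuotientGroup.mk' H) := by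
        intro y
        obtain ⟨x, hx⟩ := hsurj y
        have h1 := hind x
        have h2 : (⟨((QuotientGroup.mk' H).comp (S : Subgroup G).subtype) ⟨x, hP x.2⟩, hP'x x⟩ : P') = y :=
          Subtype.ext hx
        rw [h2] at h1
        rw [h1]
        refine ⟨?_, ⟨φ x, hφ x, rfl⟩⟩
        show (QuotientGroup.mk (φ x) : G ⧸ H) = _
        rw [hg x, ← hx]
        simp only [QuotientGroup.mk_mul, QuotientGroup.mk_inv]
      exact ⟨hP', fun y => (hval y).2, QuotientGroup.mk g, fun y => (hval y).1⟩

end Cfsg.Agent.S5135
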