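import Cfsg.Statements.S5124
import Cfsg.Agent.Lib.Helper8.Hyp

set_option autoImplicit false
open Cfsg

namespace Cfsg.Agent.S5124

/-- In a saturated fusion system over a finite p-group S the hyperfocal subgroup is strongly closed in the system. -/
theorem result {Ω : Type*} [Group Ω] {S : Subgroup Ω} [Finite S] (p : ℕ) [Fact p.Prime] (hS : IsPGroup p S) (F : Cfsg.FusionSystem S) (hF : F.IsSaturated p) : F.StronglyClosed (F.hyperfocalSubgroup p) := by
  open Cfsg.Agent.Lib.Helper8 in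
  refine ⟨hyp_le F p, fun R hR φ hφ x => ?_⟩
  obtain ⟨s, hs, h⟩ := exists_conj_mod_hyp hS F hF hφ
  have h1 := hyp_conj_mem F p s hs _ (hR x.2)
  have e : φ x = (s * (x : Ω) * s⁻¹) * ((s * (x : Ω) * s⁻¹)⁻¹ * φ x) := by group
  rw [e]
  exact Subgroup.mul_mem _ h1 (h x)

end Cfsg.Agent.S5124
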