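import Cfsg.Statements.S0263
import Mathlib
-- import your own Cfsg.Agent.* helpers here

set_option autoImplicit false
open Cfsg

namespace Cfsg.Agent.S0263

/-- A Sylow p-subgroup of GL_n(q), p the characteristic, has order q^(n(n-1)/2). -/
theorem result {F : Type*} [Field F] [Fintype F] {q : ℕ} (hF : Fintype.card F = q) (p : ℕ) [Fact p.Prime] [CharP F p] (n : ℕ) (P : Sylow p (Matrix.GeneralLinearGroup (Fin n) F)) : Nat.card P = q ^ (n * (n - 1) / 2) := by
  classical
  subst hF
  obtain ⟨f, -, hf⟩ := FiniteField.card F p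
  have hp := (Fact.out : p.Prime)
  have hcard := Matrix.card_GL_field (𝔽 := F) n
  have hq1 : 1 ≤ Fintype.card F := Fintype.card_pos
  have hprod : ∏ i : Fin n, (Fintype.card F ^ n - Fintype.card F ^ (i : ℕ)) =
      Fintype.card F ^ (n * (n - 1) / 2) *
        ∏ i : Fin n, (Fintype.card F ^ (n - (i:ℕ)) - 1) := by
    rw [← Finset.sum_range_id, ← Fin.sum_univ_eq_sum_range (fun i => i) n,
      ← Finset.prod_pow_eq_pow_sum, ← Finset.prod_mul_distrib]
    refine Finset.prod_congr rfl (fun i _ => ?_)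
    have hi : (i : ℕ) < n := i.2
    rw [Nat.mul_sub, mul_one, ← pow_add]
    congr 2
    omega
  have hnd : ¬ p ∣ ∏ i : Fin n, (Fintype.card F ^ (n - (i:ℕ)) - 1) := by
    intro hd
    obtain ⟨i, -, hi⟩ := (Prime.dvd_finsetProd_iff hp.prime _).mp hd
    have hi' : (i : ℕ) < n := i.2
    have h1 : p ∣ Fintype.card F ^ (n - (i:ℕ)) := by
      rw [hf, ← pow_mul]
      refine dvd_pow_self p ?_
      have := f.pos
      have h5 : 0 < n - (i : ℕ) := by omega
      exact (Nat.mul_pos this h5).ne'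
    have h2 : 0 < Fintype.card F ^ (n - (i:ℕ)) := by positivity
    have h3 : p ∣ 1 := by
      have h4 := Nat.dvd_sub h1 hi
      have h6 : Fintype.card F ^ (n - (i:ℕ)) - (Fintype.card F ^ (n - (i:ℕ)) - 1) = 1 := by omega
      rwa [h6] at h4
    exact hp.one_lt.ne' (Nat.dvd_one.mp h3)
  have hm0 : ∏ i : Fin n, (Fintype.card F ^ (n - (i:ℕ)) - 1) ≠ 0 := by
    intro h0
    rw [h0] at hnd
    exact hnd (dvd_zero p)
  rw [Sylow.card_eq_multiplicity, hcard, hprod,
    Nat.factorization_mul (by positivity) hm0, Finsupp.add_apply,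
    Nat.factorization_eq_zero_of_not_dvd hnd, add_zero, hf, ← pow_mul,
    Nat.Prime.factorization_pow hp, Finsupp.single_eq_same]

end Cfsg.Agent.S0263
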