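import Cfsg.Statements.S5763
import Mathlib
-- import your own Cfsg.Agent.* helpers here

set_option autoImplicit false
open Cfsg

namespace Cfsg.Agent.S5763

def x1 (n : ℕ) : ℕ := if n % 2 = 0 then n + 1 else n - 1

def dg (N i : ℕ) : ℕ := (N / 8 ^ i) % 8

theorem dg_lt (N i : ℕ) : dg N i < 8 := Nat.mod_lt _ (by norm_num)

def force {β : Type} (t : ℕ) (g : ℕ → β) : β := Nat.rec (g 0) (fun n _ => g (n + 1)) t

theorem force_eq {β : Type} (t : ℕ) (g : ℕ → β) : force t g = g t := by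
  cases t <;> rfl

def all8 (g : ℕ → Bool) : Bool := g 0 && g 1 && g 2 && g 3 && g 4 && g 5 && g 6 && g 7

theorem all8_spec (g : ℕ → Bool) (h : all8 g = true) (a : ℕ) (ha : a < 8) : g a = true := by
  simp only [all8, Bool.and_eq_true] at h
  obtain ⟨⟨⟨⟨⟨⟨⟨h0, h1⟩, h2⟩, h3⟩, h4⟩, h5⟩, h6⟩, h7⟩ := h
  interval_cases a <;> assumption

/-- Pruned enumeration of injective digit strings. -/
def enumN (filt : ℕ → ℕ → Bool) (k : ℕ) : ℕ → ℕ → ℕ → ℕ → (ℕ → Bool) → Bool :=
  Nat.rec (fun _ _ _ acc f => f acc)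
    (fun _ ih pos pw used acc f =>
      force (pos + 1) (fun pos' => force (pw * 8) (fun pw' =>
      all8 (fun a => Nat.testBit used a ||
        force (acc + a * pw) (fun acc' => !(filt pos' acc') ||
          force (used ||| 2 ^ a) (fun used' => ih pos' pw' used' acc' f)))))) k

theorem enumN_zero (filt : ℕ → ℕ → Bool) (pos pw used acc : ℕ) (f : ℕ → Bool) :
    enumN filt 0 pos pw used acc f = f acc := rfl

theorem enumN_succ (filt : ℕ → ℕ → Bool) (k pos pw used acc : ℕ) (f : ℕ → Bool) :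
    enumN filt (k + 1) pos pw used acc f =
      all8 (fun a => Nat.testBit used a || (!(filt (pos + 1) (acc + a * pw)) ||
        enumN filt k (pos + 1) (pw * 8) (used ||| 2 ^ a) (acc + a * pw) f)) := by
  show force (pos + 1) (fun pos' => force (pw * 8) (fun pw' =>
      all8 (fun a => Nat.testBit used a ||
        force (acc + a * pw) (fun acc' => !(filt pos' acc') ||
          force (used ||| 2 ^ a) (fun used' => enumN filt k pos' pw' used' acc' f))))) = _
  simp only [force_eq]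

def encl : List ℕ → ℕ
  | [] => 0
  | a :: t => a + 8 * encl t

def maskL : List ℕ → ℕ
  | [] => 0
  | a :: t => 2 ^ a ||| maskL t

theorem encl_append_single (vs : List ℕ) (a : ℕ) : encl (vs ++ [a]) = encl vs + a * 8 ^ vs.length := by
  induction vs with
  | nil => simp [encl]
  | cons b t ih => simp only [List.cons_append, encl, ih, List.length_cons]; ring

theorem maskL_append_single (vs : List ℕ) (a : ℕ) : maskL (vs ++ [a]) = maskL vs ||| 2 ^ a := by
  induction vs with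
  | nil => simp [maskL]
  | cons b t ih => simp only [List.cons_append, maskL, ih, Nat.lor_assoc]

theorem testBit_maskL (l : List ℕ) (a : ℕ) : Nat.testBit (maskL l) a = decide (a ∈ l) := by
  induction l with
  | nil => simp [maskL]
  | cons b t ih =>
    simp only [maskL, Nat.testBit_lor, ih, Nat.testBit_two_pow, List.mem_cons]
    by_cases h : b = a
    · subst h; simp
    · have h' : ¬ a = b := fun e => h e.symm
      simp [h, h']

theorem encl_append_mod (l₁ l₂ : List ℕ) (h : ∀ a ∈ l₁, a < 8) :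
    encl (l₁ ++ l₂) % 8 ^ l₁.length = encl l₁ := by
  induction l₁ with
  | nil => simp [encl, Nat.mod_one]
  | cons b t ih =>
    have hb : b < 8 := h b (List.mem_cons_self)
    have ht := ih (fun a ha => h a (List.mem_cons_of_mem _ ha))
    simp only [List.cons_append, encl, List.length_cons, pow_succ]
    rw [mul_comm (8 ^ t.length) 8, Nat.mod_mul, Nat.add_mul_mod_self_left, Nat.mod_eq_of_lt hb,
      Nat.add_mul_div_left _ _ (by norm_num : 0 < 8), Nat.div_eq_of_lt hb, zero_add, ht]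

theorem enum_spec (filt : ℕ → ℕ → Bool) (f : ℕ → Bool) :
    ∀ (k : ℕ) (vs : List ℕ), enumN filt k vs.length (8 ^ vs.length) (maskL vs) (encl vs) f = true →
      (∀ a ∈ vs, a < 8) →
      ∀ ws : List ℕ, ws.length = k → (∀ a ∈ ws, a < 8) → (vs ++ ws).Nodup →
      (∀ j, vs.length < j → j ≤ vs.length + k → filt j (encl (vs ++ ws) % 8 ^ j) = true) →
      f (encl (vs ++ ws)) = true := by
  intro k
  induction k with
  | zero =>
    intro vs h _ ws hws _ _ _
    have : ws = [] := List.length_eq_zero_iff.mp hws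
    subst this
    simpa [enumN_zero] using h
  | succ k ih =>
    intro vs h hvs ws hws hws8 hnd hfilt
    match ws, hws with
    | a :: ws', hws' =>
      have ha : a < 8 := hws8 a (List.mem_cons_self)
      rw [enumN_succ] at h
      have h1 := all8_spec _ h a ha
      have hnot : a ∉ vs := by
        intro hmem
        have := List.nodup_append.mp hnd
        exact this.2.2 a hmem a (List.mem_cons_self) rfl
      have hvs' : ∀ b ∈ vs ++ [a], b < 8 := by
        intro b hb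
        rcases List.mem_append.mp hb with hb | hb
        · exact hvs b hb
        · rw [List.mem_singleton] at hb; rw [hb]; exact ha
      have hassoc : vs ++ a :: ws' = (vs ++ [a]) ++ ws' := by simp
      have hfa : filt (vs.length + 1) (encl vs + a * 8 ^ vs.length) = true := by
        have := hfilt (vs.length + 1) (by omega) (by omega)
        rw [hassoc] at this
        have hmod := encl_append_mod (vs ++ [a]) ws' hvs'
        rw [List.length_append, List.length_singleton] at hmod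
        rw [hmod, encl_append_single] at this
        exact this
      rw [testBit_maskL] at h1
      simp only [hnot, decide_false, Bool.false_or, hfa, Bool.not_true] at h1
      have h2 := ih (vs ++ [a]) (by
        rw [List.length_append, List.length_singleton, pow_succ, maskL_append_single, encl_append_single]
        exact h1) hvs' ws' (by simpa using hws') (fun b hb => hws8 b (List.mem_cons_of_mem _ hb))
        (by rw [← hassoc]; exact hnd)
        (by
          intro j hj1 hj2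
          rw [← hassoc]
          apply hfilt j
          · rw [List.length_append, List.length_singleton] at hj1; omega
          · rw [List.length_append, List.length_singleton] at hj2; omega)
      rw [← hassoc] at h2
      exact h2

def E (y : Equiv.Perm (Fin 8)) : ℕ :=
  encl [(y 0).val, (y 1).val, (y 2).val, (y 3).val, (y 4).val, (y 5).val, (y 6).val, (y 7).val]

theorem E_eq (y : Equiv.Perm (Fin 8)) :
    E y = (y 0).val + 8 * ((y 1).val + 8 * ((y 2).val + 8 * ((y 3).val + 8 * ((y 4).val +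
      8 * ((y 5).val + 8 * ((y 6).val + 8 * ((y 7).val + 8 * 0))))))) := rfl

theorem dgE (y : Equiv.Perm (Fin 8)) :
    dg (E y) 0 = (y 0).val ∧ dg (E y) 1 = (y 1).val ∧ dg (E y) 2 = (y 2).val ∧ dg (E y) 3 = (y 3).val ∧
    dg (E y) 4 = (y 4).val ∧ dg (E y) 5 = (y 5).val ∧ dg (E y) 6 = (y 6).val ∧ dg (E y) 7 = (y 7).val := by
  have h0 := (y 0).isLt
  have h1 := (y 1).isLt
  have h2 := (y 2).isLt
  have h3 := (y 3).isLt
  have h4 := (y 4).isLt
  have h5 := (y 5).isLt
  have h6 := (y 6).isLt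
  have h7 := (y 7).isLt
  rw [E_eq]
  refine ⟨?_, ?_, ?_, ?_, ?_, ?_, ?_, ?_⟩ <;> simp only [dg] <;> omega

theorem dgE' (y : Equiv.Perm (Fin 8)) (k : Fin 8) : dg (E y) k.val = (y k).val := by
  obtain ⟨h0, h1, h2, h3, h4, h5, h6, h7⟩ := dgE y
  fin_cases k
  · exact h0
  · exact h1
  · exact h2
  · exact h3
  · exact h4
  · exact h5
  · exact h6
  · exact h7

theorem E_injective : Function.Injective E := by
  intro σ τ h
  ext k
  rw [← dgE' σ k, ← dgE' τ k, h]

theorem enum_perm (filt : ℕ → ℕ → Bool) (f : ℕ → Bool) (h : enumN filt 8 0 1 0 0 f = true)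
    (u : Equiv.Perm (Fin 8)) (hf : ∀ j, 0 < j → j ≤ 8 → filt j (E u % 8 ^ j) = true) :
    f (E u) = true := by
  have hnd : ([(u 0).val, (u 1).val, (u 2).val, (u 3).val, (u 4).val, (u 5).val, (u 6).val, (u 7).val] :
      List ℕ).Nodup := by
    have e : ([(u 0).val, (u 1).val, (u 2).val, (u 3).val, (u 4).val, (u 5).val, (u 6).val, (u 7).val] :
      List ℕ) = List.map (fun i : Fin 8 => (u i).val) [0, 1, 2, 3, 4, 5, 6, 7] := rfl
    rw [e]
    exact List.Nodup.map (fun a b hab => u.injective (Fin.ext hab)) (by decide)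
  have := enum_spec filt f 8 [] h (by simp)
    [(u 0).val, (u 1).val, (u 2).val, (u 3).val, (u 4).val, (u 5).val, (u 6).val, (u 7).val] rfl
    (by
      intro a ha
      simp only [List.mem_cons, List.not_mem_nil, or_false] at ha
      rcases ha with rfl | rfl | rfl | rfl | rfl | rfl | rfl | rfl <;> exact Fin.isLt _)
    (by simpa using hnd)
    (by
      intro j hj1 hj2
      exact hf j (by simpa using hj1) (by simpa using hj2))
  exact this

/-- the pair-partner map `i ↦ i xor 1` -/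
def X1 (i : Fin 8) : Fin 8 := ⟨x1 i.val, by have := i.isLt; unfold x1; split <;> omega⟩

/-- The stabiliser of the binary tree structure `{{0,1},{2,3}}, {{4,5},{6,7}}`. -/
def P0 : Subgroup (Equiv.Perm (Fin 8)) where
  carrier := {σ | (∀ i : Fin 8, σ (X1 i) = X1 (σ i)) ∧
    ((∀ i : Fin 8, (σ i).val / 4 = i.val / 4) ∨ (∀ i : Fin 8, (σ i).val / 4 = 1 - i.val / 4))}
  mul_mem' := by
    rintro σ τ ⟨hσ, hσb⟩ ⟨hτ, hτb⟩
    refine ⟨fun i => ?_, ?_⟩
    · simp only [Equiv.Perm.mul_apply, hτ, hσ]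
    · rcases hσb with hσb | hσb <;> rcases hτb with hτb | hτb
      · left; intro i; simp only [Equiv.Perm.mul_apply]; rw [hσb, hτb]
      · right; intro i; simp only [Equiv.Perm.mul_apply]; rw [hσb, hτb]
      · right; intro i; simp only [Equiv.Perm.mul_apply]; rw [hσb, hτb]
      · left; intro i; simp only [Equiv.Perm.mul_apply]; rw [hσb, hτb]
        have := i.isLt; omega
  one_mem' := ⟨fun i => rfl, Or.inl fun i => rfl⟩
  inv_mem' := by
    rintro σ ⟨hσ, hσb⟩
    refine ⟨fun i => ?_, ?_⟩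
    · apply σ.injective
      rw [hσ]
      simp
    · rcases hσb with hσb | hσb
      · left; intro i
        have := hσb (σ⁻¹ i)
        have e : σ (σ⁻¹ i) = i := by simp
        rw [e] at this
        exact this.symm
      · right; intro i
        have := hσb (σ⁻¹ i)
        have e : σ (σ⁻¹ i) = i := by simp
        rw [e] at this
        have h2 := (σ⁻¹ i).isLt
        omega

theorem mem_P0 (σ : Equiv.Perm (Fin 8)) : σ ∈ P0 ↔ (∀ i : Fin 8, σ (X1 i) = X1 (σ i)) ∧
    ((∀ i : Fin 8, (σ i).val / 4 = i.val / 4) ∨ (∀ i : Fin 8, (σ i).val / 4 = 1 - i.val / 4)) := Iff.rfl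

theorem forall8 (p : Fin 8 → Prop) : (∀ i : Fin 8, p i) ↔ p 0 ∧ p 1 ∧ p 2 ∧ p 3 ∧ p 4 ∧ p 5 ∧ p 6 ∧ p 7 := by
  constructor
  · intro h; exact ⟨h 0, h 1, h 2, h 3, h 4, h 5, h 6, h 7⟩
  · rintro ⟨h0, h1, h2, h3, h4, h5, h6, h7⟩ i
    fin_cases i <;> assumption

def inPP (N : ℕ) : Prop :=
  dg N 1 = x1 (dg N 0) ∧ dg N 0 = x1 (dg N 1) ∧ dg N 3 = x1 (dg N 2) ∧ dg N 2 = x1 (dg N 3) ∧
  dg N 5 = x1 (dg N 4) ∧ dg N 4 = x1 (dg N 5) ∧ dg N 7 = x1 (dg N 6) ∧ dg N 6 = x1 (dg N 7) ∧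
  ((dg N 0 / 4 = 0 ∧ dg N 1 / 4 = 0 ∧ dg N 2 / 4 = 0 ∧ dg N 3 / 4 = 0 ∧
    dg N 4 / 4 = 1 ∧ dg N 5 / 4 = 1 ∧ dg N 6 / 4 = 1 ∧ dg N 7 / 4 = 1) ∨
   (dg N 0 / 4 = 1 ∧ dg N 1 / 4 = 1 ∧ dg N 2 / 4 = 1 ∧ dg N 3 / 4 = 1 ∧
    dg N 4 / 4 = 0 ∧ dg N 5 / 4 = 0 ∧ dg N 6 / 4 = 0 ∧ dg N 7 / 4 = 0))

instance inPP_decidable (N : ℕ) : Decidable (inPP N) := by unfold inPP; infer_instance

theorem mem_P0_iff_inPP (σ : Equiv.Perm (Fin 8)) : σ ∈ P0 ↔ inPP (E σ) := by
  obtain ⟨h0, h1, h2, h3, h4, h5, h6, h7⟩ := dgE σ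
  rw [mem_P0, inPP, h0, h1, h2, h3, h4, h5, h6, h7, forall8, forall8, forall8]
  have e0 : X1 0 = 1 := rfl
  have e1 : X1 1 = 0 := rfl
  have e2 : X1 2 = 3 := rfl
  have e3 : X1 3 = 2 := rfl
  have e4 : X1 4 = 5 := rfl
  have e5 : X1 5 = 4 := rfl
  have e6 : X1 6 = 7 := rfl
  have e7 : X1 7 = 6 := rfl
  rw [e0, e1, e2, e3, e4, e5, e6, e7]
  simp only [Fin.ext_iff, X1]
  norm_num
  constructor
  · rintro ⟨⟨a1, a2, a3, a4, a5, a6, a7, a8⟩, hb⟩
    exact ⟨a1, a2, a3, a4, a5, a6, a7, a8, hb⟩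
  · rintro ⟨a1, a2, a3, a4, a5, a6, a7, a8, hb⟩
    exact ⟨⟨a1, a2, a3, a4, a5, a6, a7, a8⟩, hb⟩

theorem dg_mod (N i j : ℕ) (h : i < j) : dg (N % 8 ^ j) i = dg N i := by
  unfold dg
  obtain ⟨d, rfl⟩ : ∃ d, j = i + (d + 1) := ⟨j - i - 1, by omega⟩
  rw [pow_add, Nat.mod_mul_right_div_self, Nat.mod_mod_of_dvd _ (dvd_pow_self 8 (by omega))]

def compE (A B : ℕ) : ℕ :=
  dg A (dg B 0) + 8 * (dg A (dg B 1) + 8 * (dg A (dg B 2) + 8 * (dg A (dg B 3) + 8 * (dg A (dg B 4) +
    8 * (dg A (dg B 5) + 8 * (dg A (dg B 6) + 8 * (dg A (dg B 7) + 8 * 0)))))))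

theorem E_mul (σ τ : Equiv.Perm (Fin 8)) : E (σ * τ) = compE (E σ) (E τ) := by
  obtain ⟨h0, h1, h2, h3, h4, h5, h6, h7⟩ := dgE τ
  rw [compE, h0, h1, h2, h3, h4, h5, h6, h7, dgE' σ (τ 0), dgE' σ (τ 1), dgE' σ (τ 2), dgE' σ (τ 3),
    dgE' σ (τ 4), dgE' σ (τ 5), dgE' σ (τ 6), dgE' σ (τ 7)]
  rfl

def conjE (S U : ℕ) : ℕ :=
  dg U (dg S 0) * 8 ^ dg U 0 + dg U (dg S 1) * 8 ^ dg U 1 + dg U (dg S 2) * 8 ^ dg U 2 +
  dg U (dg S 3) * 8 ^ dg U 3 + dg U (dg S 4) * 8 ^ dg U 4 + dg U (dg S 5) * 8 ^ dg U 5 +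
  dg U (dg S 6) * 8 ^ dg U 6 + dg U (dg S 7) * 8 ^ dg U 7

theorem E_sum (y : Equiv.Perm (Fin 8)) : E y = ∑ i : Fin 8, (y i).val * 8 ^ i.val := by
  rw [Fin.sum_univ_eight, E_eq]
  simp only [Fin.val_zero, Fin.val_one, Fin.val_two]
  have e3 : ((3 : Fin 8) : ℕ) = 3 := rfl
  have e4 : ((4 : Fin 8) : ℕ) = 4 := rfl
  have e5 : ((5 : Fin 8) : ℕ) = 5 := rfl
  have e6 : ((6 : Fin 8) : ℕ) = 6 := rfl
  have e7 : ((7 : Fin 8) : ℕ) = 7 := rfl
  rw [e3, e4, e5, e6, e7]
  ring

theorem E_conj (u σ : Equiv.Perm (Fin 8)) (S : ℕ) (hS : ∀ k : Fin 8, (σ k).val = dg S k.val) :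
    E (u * σ * u⁻¹) = conjE S (E u) := by
  calc E (u * σ * u⁻¹) = ∑ i : Fin 8, ((u * σ * u⁻¹) i).val * 8 ^ i.val := E_sum _
    _ = ∑ k : Fin 8, ((u * σ * u⁻¹) (u k)).val * 8 ^ (u k).val :=
        (Equiv.sum_comp u (fun i => ((u * σ * u⁻¹) i).val * 8 ^ i.val)).symm
    _ = ∑ k : Fin 8, dg (E u) (dg S k.val) * 8 ^ (dg (E u) k.val) := by
        apply Finset.sum_congr rfl
        intro k _
        have e : (u * σ * u⁻¹) (u k) = u (σ k) := by simp
        rw [e, dgE' u k, ← hS k, dgE' u (σ k)]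
    _ = conjE S (E u) := by
        rw [Fin.sum_univ_eight]
        rfl

/-- The involution with digit string `S` (the identity if `S` is not an involution string). -/
def permOfN (S : ℕ) : Equiv.Perm (Fin 8) :=
  if h : ∀ i : Fin 8, dg S (dg S i.val) = i.val then
    ⟨fun i => ⟨dg S i.val, dg_lt _ _⟩, fun i => ⟨dg S i.val, dg_lt _ _⟩,
      fun i => Fin.ext (h i), fun i => Fin.ext (h i)⟩
  else 1

theorem permOfN_apply (S : ℕ) (h : ∀ i : Fin 8, dg S (dg S i.val) = i.val) (i : Fin 8) :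
    ((permOfN S) i).val = dg S i.val := by
  rw [permOfN, dif_pos h]
  rfl

theorem E_permOfN (S : ℕ) (h : ∀ i : Fin 8, dg S (dg S i.val) = i.val) (hS : S < 16777216) :
    E (permOfN S) = S := by
  rw [E_eq, permOfN_apply S h, permOfN_apply S h, permOfN_apply S h, permOfN_apply S h,
    permOfN_apply S h, permOfN_apply S h, permOfN_apply S h, permOfN_apply S h]
  simp only [dg, Fin.val_zero, Fin.val_one, Fin.val_two]
  have e3 : ((3 : Fin 8) : ℕ) = 3 := rfl
  have e4 : ((4 : Fin 8) : ℕ) = 4 := rfl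
  have e5 : ((5 : Fin 8) : ℕ) = 5 := rfl
  have e6 : ((6 : Fin 8) : ℕ) = 6 := rfl
  have e7 : ((7 : Fin 8) : ℕ) = 7 := rfl
  rw [e3, e4, e5, e6, e7]
  omega

theorem E_one : E 1 = 16434824 := by decide

def candsN : List ℕ := [14570689, 11789505, 9925825, 14599816, 16406152, 16434376, 16434817, 6852524,
  5017068, 6823845, 4988389, 2206526, 2177406, 371511, 342391]

theorem cands_ok : ∀ S ∈ candsN, (∀ i : Fin 8, dg S (dg S i.val) = i.val) ∧ S < 16777216 ∧ inPP S ∧
    S ≠ 16434824 := by decide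

def canF (j acc : ℕ) : Bool :=
  if j = 2 then decide (dg acc 1 < dg acc 0)
  else if j = 4 then decide (dg acc 3 < dg acc 2 ∧ dg acc 3 < dg acc 1)
  else if j = 6 then decide (dg acc 5 < dg acc 4)
  else if j = 8 then decide (dg acc 7 < dg acc 6 ∧ dg acc 7 < dg acc 5 ∧ dg acc 7 < dg acc 3)
  else true

def chkN (U : ℕ) : Bool := candsN.any (fun S => force (conjE S U) (fun T => decide (inPP T)))

set_option maxRecDepth 100000 in
theorem all_ok : enumN canF 8 0 1 0 0 chkN = true := by decide +kernel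

def inF (j acc : ℕ) : Bool :=
  if j = 2 then decide (dg acc 1 = x1 (dg acc 0))
  else if j = 4 then decide (dg acc 3 = x1 (dg acc 2))
  else if j = 6 then decide (dg acc 5 = x1 (dg acc 4))
  else if j = 8 then decide (dg acc 7 = x1 (dg acc 6))
  else true

def chk8 (U : ℕ) : Bool :=
  !(decide (inPP U)) ||
    force (compE U U) (fun U2 => force (compE U2 U2) (fun U4 => decide (compE U4 U4 = 16434824)))

set_option maxRecDepth 100000 in
theorem all_ok8 : enumN inF 8 0 1 0 0 chk8 = true := by decide +kernel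

theorem P0_pow8 (σ : Equiv.Perm (Fin 8)) (hσ : σ ∈ P0) : σ ^ 8 = 1 := by
  have hin := (mem_P0_iff_inPP σ).mp hσ
  have hin' := hin
  obtain ⟨a1, _, a3, _, a5, _, a7, _, _⟩ := hin'
  have hf : ∀ j, 0 < j → j ≤ 8 → inF j (E σ % 8 ^ j) = true := by
    intro j hj1 hj2
    interval_cases j
    · rfl
    · simp only [inF, if_true, decide_eq_true_eq]
      rw [dg_mod _ 1 2 (by norm_num), dg_mod _ 0 2 (by norm_num)]; exact a1
    · rfl
    · simp only [inF, if_true, decide_eq_true_eq, show (4 : ℕ) ≠ 2 by norm_num, if_false]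
      rw [dg_mod _ 3 4 (by norm_num), dg_mod _ 2 4 (by norm_num)]; exact a3
    · rfl
    · simp only [inF, if_true, decide_eq_true_eq, show (6 : ℕ) ≠ 2 by norm_num,
        show (6 : ℕ) ≠ 4 by norm_num, if_false]
      rw [dg_mod _ 5 6 (by norm_num), dg_mod _ 4 6 (by norm_num)]; exact a5
    · rfl
    · simp only [inF, if_true, decide_eq_true_eq, show (8 : ℕ) ≠ 2 by norm_num,
        show (8 : ℕ) ≠ 4 by norm_num, show (8 : ℕ) ≠ 6 by norm_num, if_false]
      rw [dg_mod _ 7 8 (by norm_num), dg_mod _ 6 8 (by norm_num)]; exact a7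
  have h := enum_perm inF chk8 all_ok8 σ hf
  simp only [chk8, force_eq, hin, decide_true, Bool.not_true, Bool.false_or, decide_eq_true_eq] at h
  have e8 : σ ^ 8 = ((σ * σ) * (σ * σ)) * ((σ * σ) * (σ * σ)) := by
    simp only [pow_succ, pow_zero, one_mul, mul_assoc]
  apply E_injective
  rw [e8, E_mul, E_mul, E_mul, E_one]
  exact h

theorem P0_isPGroup : IsPGroup 2 P0 := by
  intro g
  refine ⟨3, ?_⟩
  apply Subtype.ext
  have := P0_pow8 g.1 g.2
  simpa using this

def g1 : Equiv.Perm (Fin 8) := Equiv.swap 0 1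
def g2 : Equiv.Perm (Fin 8) := Equiv.swap 2 3
def g3 : Equiv.Perm (Fin 8) := Equiv.swap 4 5
def g4 : Equiv.Perm (Fin 8) := Equiv.swap 6 7
def g5 : Equiv.Perm (Fin 8) := Equiv.swap 0 2 * Equiv.swap 1 3
def g6 : Equiv.Perm (Fin 8) := Equiv.swap 4 6 * Equiv.swap 5 7
def g7 : Equiv.Perm (Fin 8) := Equiv.swap 0 4 * Equiv.swap 1 5 * Equiv.swap 2 6 * Equiv.swap 3 7

theorem gens_mem : g1 ∈ P0 ∧ g2 ∈ P0 ∧ g3 ∈ P0 ∧ g4 ∈ P0 ∧ g5 ∈ P0 ∧ g6 ∈ P0 ∧ g7 ∈ P0 := by
  simp only [mem_P0]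
  decide

theorem canon_exists (u : Equiv.Perm (Fin 8)) :
    ∃ p ∈ P0, ∀ j, 0 < j → j ≤ 8 → canF j (E (u * p) % 8 ^ j) = true := by
  classical
  obtain ⟨m1, m2, m3, m4, m5, m6, m7⟩ := gens_mem
  let T : Finset (Equiv.Perm (Fin 8)) := (Finset.univ.filter (fun p => p ∈ P0)).image (fun p => u * p)
  have hT : T.Nonempty := ⟨u * 1, Finset.mem_image.mpr ⟨1, by simp [P0.one_mem], rfl⟩⟩
  obtain ⟨v, hvT, hmin⟩ := Finset.exists_min_image T E hT
  obtain ⟨p, hp, rfl⟩ := Finset.mem_image.mp hvT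
  have hpP : p ∈ P0 := (Finset.mem_filter.mp hp).2
  refine ⟨p, hpP, ?_⟩
  have hle : ∀ g ∈ P0, E (u * p) ≤ E (u * p * g) := by
    intro g hg
    apply hmin
    refine Finset.mem_image.mpr ⟨p * g, by simp [P0.mul_mem hpP hg], by group⟩
  have l1 := hle g1 m1
  have l2 := hle g2 m2
  have l3 := hle g3 m3
  have l4 := hle g4 m4
  have l5 := hle g5 m5
  have l6 := hle g6 m6
  have l7 := hle g7 m7
  obtain ⟨d0, d1, d2, d3, d4, d5, d6, d7⟩ := dgE (u * p)
  generalize hv : u * p = v at *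
  have b0 := (v 0).isLt
  have b1 := (v 1).isLt
  have b2 := (v 2).isLt
  have b3 := (v 3).isLt
  have b4 := (v 4).isLt
  have b5 := (v 5).isLt
  have b6 := (v 6).isLt
  have b7 := (v 7).isLt
  have n01 : (v 0).val ≠ (v 1).val := fun h => by
    have := v.injective (Fin.ext h); revert this; decide
  have n23 : (v 2).val ≠ (v 3).val := fun h => by
    have := v.injective (Fin.ext h); revert this; decide
  have n45 : (v 4).val ≠ (v 5).val := fun h => by
    have := v.injective (Fin.ext h); revert this; decide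
  have n67 : (v 6).val ≠ (v 7).val := fun h => by
    have := v.injective (Fin.ext h); revert this; decide
  have n13 : (v 1).val ≠ (v 3).val := fun h => by
    have := v.injective (Fin.ext h); revert this; decide
  have n57 : (v 5).val ≠ (v 7).val := fun h => by
    have := v.injective (Fin.ext h); revert this; decide
  have n37 : (v 3).val ≠ (v 7).val := fun h => by
    have := v.injective (Fin.ext h); revert this; decide
  simp only [E_eq, Equiv.Perm.mul_apply, g1, g2, g3, g4, g5, g6, g7] at l1 l2 l3 l4 l5 l6 l7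
  simp [Equiv.swap_apply_def] at l1 l2 l3 l4 l5 l6 l7
  have c1 : (v 1).val < (v 0).val := by omega
  have c2 : (v 3).val < (v 2).val := by omega
  have c3 : (v 5).val < (v 4).val := by omega
  have c4 : (v 7).val < (v 6).val := by omega
  have c5 : (v 3).val < (v 1).val := by omega
  have c6 : (v 7).val < (v 5).val := by omega
  have c7 : (v 7).val < (v 3).val := by omega
  intro j hj1 hj2
  interval_cases j
  · rfl
  · simp only [canF, if_true, decide_eq_true_eq]
    rw [dg_mod _ 1 2 (by norm_num), dg_mod _ 0 2 (by norm_num), d0, d1]; exact c1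
  · rfl
  · simp only [canF, if_true, decide_eq_true_eq, show (4 : ℕ) ≠ 2 by norm_num, if_false]
    rw [dg_mod _ 3 4 (by norm_num), dg_mod _ 2 4 (by norm_num), dg_mod _ 1 4 (by norm_num), d1, d2, d3]
    exact ⟨c2, c5⟩
  · rfl
  · simp only [canF, if_true, decide_eq_true_eq, show (6 : ℕ) ≠ 2 by norm_num,
      show (6 : ℕ) ≠ 4 by norm_num, if_false]
    rw [dg_mod _ 5 6 (by norm_num), dg_mod _ 4 6 (by norm_num), d4, d5]; exact c3
  · rfl
  · simp only [canF, if_true, decide_eq_true_eq, show (8 : ℕ) ≠ 2 by norm_num,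
      show (8 : ℕ) ≠ 4 by norm_num, show (8 : ℕ) ≠ 6 by norm_num, if_false]
    rw [dg_mod _ 7 8 (by norm_num), dg_mod _ 6 8 (by norm_num), dg_mod _ 5 8 (by norm_num),
      dg_mod _ 3 8 (by norm_num), d3, d5, d6, d7]
    exact ⟨c4, c6, c7⟩

/-- Every conjugate of `P0` meets `P0` non-trivially. -/
theorem star (u : Equiv.Perm (Fin 8)) : ∃ σ ∈ P0, σ ≠ 1 ∧ u * σ * u⁻¹ ∈ P0 := by
  obtain ⟨p, hp, hcan⟩ := canon_exists u
  have h := enum_perm canF chkN all_ok (u * p) hcan
  simp only [chkN, List.any_eq_true, force_eq, decide_eq_true_eq] at h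
  obtain ⟨S, hS, hin⟩ := h
  obtain ⟨hinv, hlt, hSP, hne⟩ := cands_ok S hS
  have hE : E (permOfN S) = S := E_permOfN S hinv hlt
  have hmem : permOfN S ∈ P0 := by rw [mem_P0_iff_inPP, hE]; exact hSP
  have hne1 : permOfN S ≠ 1 := by
    intro h1
    apply hne
    rw [← hE, h1, E_one]
  have hconj : (u * p) * permOfN S * (u * p)⁻¹ ∈ P0 := by
    rw [mem_P0_iff_inPP, E_conj (u * p) (permOfN S) S (fun k => permOfN_apply S hinv k)]
    exact hin
  refine ⟨p * permOfN S * p⁻¹, P0.mul_mem (P0.mul_mem hp hmem) (P0.inv_mem hp), ?_, ?_⟩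
  · intro h1
    apply hne1
    calc permOfN S = p⁻¹ * (p * permOfN S * p⁻¹) * p := by group
      _ = 1 := by rw [h1]; group
  · have e : u * (p * permOfN S * p⁻¹) * u⁻¹ = (u * p) * permOfN S * (u * p)⁻¹ := by group
    rw [e]; exact hconj

/-- In the symmetric group on 8 letters any two Sylow 2-subgroups have non-trivial intersection: for a Sylow 2-subgroup H and every element x, H ∩ xHx⁻¹ ≠ 1. -/
theorem result (H : Sylow 2 (Equiv.Perm (Fin 8))) (x : Equiv.Perm (Fin 8)) :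
    (H : Subgroup (Equiv.Perm (Fin 8))) ⊓ (H : Subgroup (Equiv.Perm (Fin 8))).map (MulAut.conj x).toMonoidHom ≠ ⊥ := by
  classical
  haveI : Fact (Nat.Prime 2) := ⟨Nat.prime_two⟩
  obtain ⟨Q, hQ⟩ := IsPGroup.exists_le_sylow P0_isPGroup
  obtain ⟨g, hg⟩ := MulAction.exists_smul_eq (Equiv.Perm (Fin 8)) Q H
  have hconj : ∀ σ ∈ P0, g * σ * g⁻¹ ∈ (H : Subgroup (Equiv.Perm (Fin 8))) := by
    intro σ hσ
    rw [← hg, Sylow.coe_subgroup_smul]
    have := Subgroup.smul_mem_pointwise_smul σ (MulAut.conj g) _ (hQ hσ)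
    simpa [MulAut.smul_def, MulAut.conj_apply] using this
  obtain ⟨σ, hσ, hσ1, hσc⟩ := star (g⁻¹ * x * g)
  intro hbot
  have ht1 : (x * g) * σ * (x * g)⁻¹ ∈ (H : Subgroup (Equiv.Perm (Fin 8))) := by
    have := hconj _ hσc
    have e : g * (g⁻¹ * x * g * σ * (g⁻¹ * x * g)⁻¹) * g⁻¹ = (x * g) * σ * (x * g)⁻¹ := by group
    rwa [e] at this
  have ht2 : (x * g) * σ * (x * g)⁻¹ ∈
      (H : Subgroup (Equiv.Perm (Fin 8))).map (MulAut.conj x).toMonoidHom := by
    refine Subgroup.mem_map.mpr ⟨g * σ * g⁻¹, hconj σ hσ, ?_⟩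
    simp only [MulEquiv.coe_toMonoidHom, MulAut.conj_apply]
    group
  have hmem : (x * g) * σ * (x * g)⁻¹ ∈ (H : Subgroup (Equiv.Perm (Fin 8))) ⊓
      (H : Subgroup (Equiv.Perm (Fin 8))).map (MulAut.conj x).toMonoidHom := ⟨ht1, ht2⟩
  rw [hbot, Subgroup.mem_bot] at hmem
  apply hσ1
  calc σ = (x * g)⁻¹ * ((x * g) * σ * (x * g)⁻¹) * (x * g) := by group
    _ = 1 := by rw [hmem]; group

end Cfsg.Agent.S5763
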