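import Cfsg.Statements.S5904

set_option autoImplicit false
open scoped Pointwise
open Cfsg

namespace Cfsg.Agent.S5904

/-- Let Ω be a finite set with more than two elements and O ⊆ Ω a subset with exactly as many elements as its complement. Then the setwise stabilizer of O in the symmetric group on Ω is not a maximal subgroup (it is properly contained in the stabilizer of the partition {O, Ω ∖ O}, which is proper). -/
theorem result {Ω : Type*} [Fintype Ω] [DecidableEq Ω] (hΩ : 2 < Fintype.card Ω)
    (O : Set Ω) (hO : Nat.card O = Nat.card ↥Oᶜ) :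
    ¬ IsCoatom (MulAction.stabilizer (Equiv.Perm Ω) O) := by
  classical
  intro hco
  have hOfin : O.Finite := Set.toFinite O
  have hOcfin : Oᶜ.Finite := Set.toFinite _
  have hcard : O.ncard = Oᶜ.ncard := by
    rw [← Nat.card_coe_set_eq, ← Nat.card_coe_set_eq]
    exact hO
  have hsum : O.ncard + Oᶜ.ncard = Fintype.card Ω := by
    rw [Set.ncard_add_ncard_compl O hOfin hOcfin, Nat.card_eq_fintype_card]
  have h2 : 1 < O.ncard := by omega
  have h2c : 0 < Oᶜ.ncard := by omega
  obtain ⟨a, a', ha, ha', haa'⟩ := (Set.one_lt_ncard_iff hOfin).mp h2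
  obtain ⟨b, hb⟩ := (Set.ncard_pos hOcfin).mp h2c
  -- the stabilizer of the pair {O, Oᶜ}
  set B : Subgroup (Equiv.Perm Ω) := MulAction.stabilizer (Equiv.Perm Ω) ({O, Oᶜ} : Set (Set Ω)) with hB
  have hmemB : ∀ g : Equiv.Perm Ω, g ∈ B ↔ (g • O = O ∨ g • O = Oᶜ) := by
    intro g
    rw [hB, MulAction.mem_stabilizer_iff, Set.smul_set_insert, Set.smul_set_singleton, Set.smul_set_compl]
    constructor
    · intro h
      have : g • O ∈ ({g • O, (g • O)ᶜ} : Set (Set Ω)) := Set.mem_insert _ _
      rw [h] at this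
      rcases this with h1 | h1
      · left; exact h1
      · right; exact h1
    · rintro (h | h)
      · rw [h]
      · rw [h, compl_compl, Set.pair_comm]
  have hle : MulAction.stabilizer (Equiv.Perm Ω) O ≤ B := by
    intro g hg
    rw [MulAction.mem_stabilizer_iff] at hg
    exact (hmemB g).mpr (Or.inl hg)
  -- an element swapping O and Oᶜ
  obtain ⟨e⟩ := Finite.card_eq.mp hO
  let e' : {x // x ∈ O} ≃ {x // x ∈ Oᶜ} := e
  have hswap : (Equiv.extendSubtype e') • O = Oᶜ := by
    apply Set.eq_of_subset_of_ncard_le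
    · rintro x ⟨y, hy, rfl⟩
      show (Equiv.extendSubtype e') y ∈ Oᶜ
      rw [Equiv.extendSubtype_apply_of_mem e' y hy]
      exact (e' ⟨y, hy⟩).2
    · rw [Set.ncard_smul_set, hcard]
    · exact Set.toFinite _
  have hOne : O ≠ Oᶜ := by
    intro h
    have : a ∈ Oᶜ := h ▸ ha
    exact this ha
  have hlt : MulAction.stabilizer (Equiv.Perm Ω) O < B := by
    refine lt_of_le_of_ne hle ?_
    intro heq
    have h1 : Equiv.extendSubtype e' ∈ B := (hmemB _).mpr (Or.inr hswap)
    rw [← heq, MulAction.mem_stabilizer_iff, hswap] at h1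
    exact hOne h1.symm
  have hBtop : B = ⊤ := hco.2 B hlt
  have h3 : Equiv.swap a b ∈ B := by rw [hBtop]; trivial
  have hab : a ≠ b := fun h => hb (h ▸ ha)
  have hbin : b ∈ Equiv.swap a b • O := ⟨a, ha, by simp [Equiv.Perm.smul_def]⟩
  have ha'in : a' ∈ Equiv.swap a b • O := by
    refine ⟨a', ha', ?_⟩
    show Equiv.swap a b a' = a'
    apply Equiv.swap_apply_of_ne_of_ne
    · exact fun h => haa' h.symm
    · exact fun h => hb (h ▸ ha')
  rcases (hmemB _).mp h3 with h4 | h4
  · rw [h4] at hbin
    exact hb hbin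
  · rw [h4] at ha'in
    exact ha'in ha'

end Cfsg.Agent.S5904
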