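import Cfsg.Statements.S0014
import Mathlib
import Cfsg.Agent.Lib.Lead.Basic
import Cfsg.Agent.Lib.Lead.PFrat
-- import your own Cfsg.Agent.* helpers here

set_option autoImplicit false
open Cfsg

namespace Cfsg.Agent.S0014

/-- Burnside's basis Theorem: in a finite p-group whose Frattini quotient has order p ^ n, every generating set contains n elements that already generate, and no set with fewer than n elements generates. -/
theorem result {G : Type*} [Group G] [Finite G] (p n : ℕ) [Fact p.Prime]
    (hG : IsPGroup p G) (hn : (frattini G).index = p ^ n) :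
    (∀ S : Finset G, Subgroup.closure (S : Set G) = ⊤ → ∃ T : Finset G, T ⊆ S ∧ T.card = n ∧ Subgroup.closure (T : Set G) = ⊤) ∧
    (∀ T : Finset G, Subgroup.closure (T : Set G) = ⊤ → n ≤ T.card) := by
  classical
  obtain ⟨hcomm, hpow⟩ := Cfsg.Agent.Lib.Lead.commutator_le_frattini_and_pow_mem hG
  have hp : p.Prime := Fact.out
  have step : ∀ H : Subgroup G, frattini G ≤ H → ∀ a : G, a ∉ H →
      Nat.card ↥(H ⊔ Subgroup.zpowers a) = p * Nat.card H := by
    intro H hH a ha
    haveI hHn : H.Normal := by
      constructor
      intro x hx g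
      have h1 : g * x * g⁻¹ * x⁻¹ ∈ H := by
        apply hH
        apply hcomm
        rw [commutator_def]
        exact Subgroup.commutator_mem_commutator (Subgroup.mem_top g) (Subgroup.mem_top x)
      have h2 : g * x * g⁻¹ = (g * x * g⁻¹ * x⁻¹) * x := by group
      rw [h2]
      exact H.mul_mem h1 hx
    have h1 := Cfsg.Agent.Lib.Lead.relIndex_mul_card_of_le (le_sup_left : H ≤ H ⊔ Subgroup.zpowers a)
    rw [Subgroup.relIndex_sup_left] at h1
    have h2 : H.relIndex (Subgroup.zpowers a) = p := by
      have h3 := Subgroup.relIndex_ker (K := Subgroup.zpowers a) (QuotientGroup.mk' H)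
      rw [QuotientGroup.ker_mk'] at h3
      rw [h3, MonoidHom.map_zpowers, Nat.card_zpowers]
      apply orderOf_eq_prime
      · rw [← map_pow]
        exact (QuotientGroup.eq_one_iff _).mpr (hH (hpow a))
      · intro h
        exact ha ((QuotientGroup.eq_one_iff _).mp h)
    rw [h2] at h1
    exact h1.symm
  have greedy : ∀ S : Finset G, ∃ T : Finset G, T ⊆ S ∧
      Subgroup.closure (T : Set G) ⊔ frattini G = Subgroup.closure (S : Set G) ⊔ frattini G ∧
      Nat.card ↥(Subgroup.closure (T : Set G) ⊔ frattini G) = p ^ T.card * Nat.card (frattini G) := by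
    intro S
    induction S using Finset.induction_on with
    | empty =>
      refine ⟨∅, subset_rfl, rfl, ?_⟩
      simp
    | insert a S ha ih =>
      obtain ⟨T, hTS, hcl, hcard⟩ := ih
      have hins : ∀ U : Finset G, Subgroup.closure ((insert a U : Finset G) : Set G) ⊔ frattini G =
          (Subgroup.closure (U : Set G) ⊔ frattini G) ⊔ Subgroup.zpowers a := by
        intro U
        rw [Finset.coe_insert, Set.insert_eq, Subgroup.closure_union, Subgroup.zpowers_eq_closure]
        ac_rfl
      by_cases haH : a ∈ Subgroup.closure (T : Set G) ⊔ frattini G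
      · refine ⟨T, hTS.trans (Finset.subset_insert a S), ?_, hcard⟩
        rw [hins S, ← hcl]
        exact (sup_of_le_left (Subgroup.zpowers_le.mpr haH)).symm
      · have haT : a ∉ T := fun h =>
          haH ((le_sup_left : Subgroup.closure (T : Set G) ≤ _) (Subgroup.subset_closure h))
        refine ⟨insert a T, Finset.insert_subset_insert a hTS, ?_, ?_⟩
        · rw [hins S, hins T, hcl]
        · rw [hins T, step _ le_sup_right a haH, hcard, Finset.card_insert_of_notMem haT, pow_succ]
          ring
  have hΦcard : Nat.card G = p ^ n * Nat.card (frattini G) := by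
    rw [← hn]; exact (Subgroup.index_mul_card (frattini G)).symm
  have main : ∀ S : Finset G, Subgroup.closure (S : Set G) = ⊤ →
      ∃ T : Finset G, T ⊆ S ∧ T.card = n ∧ Subgroup.closure (T : Set G) = ⊤ := by
    intro S hS
    obtain ⟨T, hTS, hcl, hcard⟩ := greedy S
    rw [hS, top_sup_eq] at hcl
    refine ⟨T, hTS, ?_, frattini_nongenerating hcl⟩
    rw [hcl, Subgroup.card_top, hΦcard] at hcard
    have hc : 0 < Nat.card (frattini G) := Nat.card_pos
    have h5 := Nat.eq_of_mul_eq_mul_right hc hcard
    exact (Nat.pow_right_injective hp.two_le h5).symm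
  refine ⟨main, fun T hT => ?_⟩
  obtain ⟨T', hT'T, hcard, -⟩ := main T hT
  rw [← hcard]
  exact Finset.card_le_card hT'T

end Cfsg.Agent.S0014
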