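import Cfsg.Statements.S0033
import Cfsg.Agent.Lib.Helper2.Fpf2
set_option autoImplicit false
open Cfsg

namespace Cfsg.Agent.S0033

theorem result {G : Type*} [Group G] [Finite G] (φ : G ≃* G)
    (hφ : MonoidHom.FixedPointFree (φ : G →* G)) (p : ℕ) (hp : p.Prime) (hord : orderOf φ = p) :
    Group.IsNilpotent G := by
  have hp1 : ∀ g, (φ : G →* G)^[p] g = g := by
    intro g
    have h1 : φ ^ p = 1 := by rw [← hord]; exact pow_orderOf_eq_one φ
    have h2 : ∀ k : ℕ, ((φ ^ k : G ≃* G) g) = (φ : G →* G)^[k] g := by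
      intro k
      induction k with
      | zero => rfl
      | succ k ih => rw [pow_succ', Function.iterate_succ_apply', ← ih]; rfl
    rw [← h2, h1]; rfl
  exact Cfsg.Agent.Lib.Helper2.Fpf.nilpotent_aux p hp _ G le_rfl (φ : G →* G) hφ hp1
end Cfsg.Agent.S0033
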