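import Cfsg.Statements.S0042
import Cfsg.Agent.Lib.Helper2.Fpf2
import Cfsg.Agent.Lib.Lead.Frob5
set_option autoImplicit false
open Cfsg

namespace Cfsg.Agent.S0042

open scoped Pointwise
theorem result {G : Type*} [Group G] [Finite G] (H : Subgroup G) (hH : Cfsg.IsFrobeniusComplement H) :
    ∃ N : Subgroup G, (N : Set G) = Cfsg.frobeniusKernel H ∧ N.Normal ∧ Group.IsNilpotent N := by
  obtain ⟨N, hNset, hNn, hNc⟩ := Cfsg.Agent.Lib.Lead.frobenius_kernel_subgroup H hH
  refine ⟨N, hNset, hNn, ?_⟩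
  haveI := hNn
  obtain ⟨hHbot, hHtop, hHfrob⟩ := hH
  have hcard : Nat.card H ≠ 1 := fun h => hHbot (Subgroup.card_eq_one.mp h)
  obtain ⟨p, hp, hpdvd⟩ := Nat.exists_prime_and_dvd hcard
  haveI : Fact p.Prime := ⟨hp⟩
  obtain ⟨h, hh⟩ := exists_prime_orderOf_dvd_card' p hpdvd
  have hh1 : (h : G) ≠ 1 := by
    intro h1
    have h2 : h = 1 := Subtype.ext h1
    rw [h2, orderOf_one] at hh
    exact hp.one_lt.ne hh
  have hhp : (h : G) ^ p = 1 := by
    have h1 := pow_orderOf_eq_one h
    rw [hh] at h1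
    have h2 := congrArg Subtype.val h1
    rw [Subgroup.coe_pow] at h2
    exact h2
  let φ : N →* N := (MulAut.conjNormal (h : G) : N ≃* N).toMonoidHom
  have hφ : MonoidHom.FixedPointFree φ := by
    intro x hx
    by_contra hx1
    have hxG : (x : G) ≠ 1 := fun h0 => hx1 (Subtype.ext h0)
    have hcomm : (h : G) * x * (h : G)⁻¹ = x := by
      have h1 := congrArg Subtype.val hx
      have h2 : ((φ x : N) : G) = (h : G) * x * (h : G)⁻¹ := MulAut.conjNormal_apply _ _
      rw [h2] at h1
      exact h1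
    have hxk : (x : G) ∈ Cfsg.frobeniusKernel H := by rw [← hNset]; exact x.2
    rcases hxk with h0 | hxk
    · exact hxG h0
    have hxH : (x : G) ∉ H := by
      have h1 := hxk 1
      rwa [map_one, one_smul] at h1
    have hint := hHfrob x hxH
    have hmem : (h : G) ∈ H ⊓ (MulAut.conj (x : G) • H) := by
      refine Subgroup.mem_inf.mpr ⟨h.2, ?_⟩
      have h1 : MulAut.conj (x : G) • (h : G) ∈ MulAut.conj (x : G) • H :=
        Subgroup.smul_mem_pointwise_smul _ _ _ h.2
      rw [MulAut.smul_def, MulAut.conj_apply] at h1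
      have e : (x : G) * h * (x : G)⁻¹ = h := by
        calc (x : G) * h * (x : G)⁻¹ = ((h : G) * x * (h : G)⁻¹) * h * (x : G)⁻¹ := by rw [hcomm]
          _ = h := by group
      rwa [e] at h1
    rw [hint, Subgroup.mem_bot] at hmem
    exact hh1 hmem
  have hiter : ∀ (k : ℕ) (x : N), φ^[k] x = MulAut.conjNormal ((h : G) ^ k) x := by
    intro k
    induction k with
    | zero => intro x; simp
    | succ k ih =>
      intro x
      rw [Function.iterate_succ_apply', ih, pow_succ', map_mul]; rfl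
  have hp1 : ∀ x, φ^[p] x = x := by
    intro x
    rw [hiter, hhp, map_one]; rfl
  exact Cfsg.Agent.Lib.Helper2.Fpf.nilpotent_aux p hp _ N le_rfl φ hφ hp1
end Cfsg.Agent.S0042
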