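import Cfsg.Statements.S0095
import Mathlib
import Cfsg.Agent.Lib.Lead.Extra
-- import your own Cfsg.Agent.* helpers here

set_option autoImplicit false
open Cfsg

namespace Cfsg.Agent.S0095

/-- The order of an extraspecial p-group is an odd power p^(2n+1) of p with n ≥ 1. -/
theorem result {P : Type*} [Group P] [Finite P] {p : ℕ} [Fact p.Prime] (h : Cfsg.IsExtraspecial p P) : ∃ n : ℕ, 1 ≤ n ∧ Nat.card P = p ^ (2 * n + 1) := by
  classical
  have hp : p.Prime := Fact.out
  obtain ⟨⟨hPG, hfrat, hcomm⟩, hZ⟩ := h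
  haveI : Fintype (Cfsg.IrrCharacter P) := Fintype.ofFinite _
  have hsplit := Cfsg.Agent.Lib.Helper7.Extra.sum_split (G := P)
  have hidx : (commutator P).index * p = Nat.card P := by
    rw [← hZ, ← hcomm]; exact Subgroup.index_mul_card _
  have hex : ∃ χ : Cfsg.IrrCharacter P, Cfsg.charDegree χ.1 ≠ 1 := by
    by_contra hno
    push Not at hno
    have hempty : Finset.univ.filter (fun χ : Cfsg.IrrCharacter P => Cfsg.charDegree χ.1 ≠ 1) = ∅ := by
      apply Finset.filter_eq_empty_iff.mpr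
      intro χ _
      simp [hno χ]
    rw [hempty, Finset.sum_empty, add_zero] at hsplit
    rw [hsplit] at hidx
    have hpos : 0 < Nat.card P := Nat.card_pos
    have h1 : p = 1 := Nat.eq_of_mul_eq_mul_left hpos (hidx.trans (mul_one _).symm)
    exact hp.one_lt.ne' h1
  obtain ⟨χ, hχ⟩ := hex
  have hsq := Cfsg.Agent.Lib.Lead.extra_deg_sq_p p hcomm hZ χ hχ
  obtain ⟨m, hm⟩ := IsPGroup.iff_card.mp hPG
  obtain ⟨-, -, hdvd⟩ := Cfsg.Agent.Lib.Helper7.DZ.charDegree_spec χ
  rw [hm] at hdvd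
  obtain ⟨n, -, hn⟩ := (Nat.dvd_prime_pow hp).mp hdvd
  refine ⟨n, ?_, ?_⟩
  · rcases Nat.eq_zero_or_pos n with h0 | h0
    · rw [h0, pow_zero] at hn; exact absurd hn hχ
    · exact h0
  · rw [← hsq, hn, ← pow_mul, ← pow_succ']
    congr 1
    ring

end Cfsg.Agent.S0095
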