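import Cfsg.Statements.S0214
import Mathlib
import Cfsg.Agent.Lib.Lead.StrEmb
-- import your own Cfsg.Agent.* helpers here

set_option autoImplicit false
open Cfsg

namespace Cfsg.Agent.S0214

/-- Let H be a proper subgroup of the finite group G and P a nontrivial Sylow 2-subgroup of H. Then H is strongly embedded in G if and only if N_G(X) ≤ H for every nontrivial subgroup X of P. -/
theorem result {G : Type*} [Group G] [Finite G] (H : Subgroup G) (hH : H ≠ ⊤) (P : Sylow 2 ↥H) (hP : (P : Subgroup ↥H) ≠ ⊥) : Cfsg.IsStronglyEmbedded H ↔ (∀ X : Subgroup ↥H, X ≤ (P : Subgroup ↥H) → X ≠ ⊥ → Subgroup.normalizer ((X.map H.subtype : Subgroup G) : Set G) ≤ H) := by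
  haveI : Fact (Nat.Prime 2) := ⟨Nat.prime_two⟩
  constructor
  · rintro ⟨-, -, h3⟩ X hXP hX
    rw [Cfsg.Agent.Lib.Lead.se_third_iff] at h3
    have hX2 : IsPGroup 2 X := P.2.to_le hXP
    obtain ⟨k, hk⟩ := IsPGroup.iff_card.mp hX2
    have hk0 : k ≠ 0 := by
      rintro rfl
      rw [pow_zero] at hk
      exact hX (Subgroup.card_eq_one.mp hk)
    have h2dvd : 2 ∣ Nat.card X := by rw [hk]; exact dvd_pow_self 2 hk0
    obtain ⟨t', ht'⟩ := exists_prime_orderOf_dvd_card' 2 h2dvd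
    intro g hg
    have htH : ((t' : ↥H) : G) ∈ H := (t' : ↥H).2
    have ht2 : orderOf ((t' : ↥H) : G) = 2 := by
      rw [Subgroup.orderOf_coe, Subgroup.orderOf_coe]; exact ht'
    apply h3 g _ htH ht2
    have hmem : ((t' : ↥H) : G) ∈ X.map H.subtype := ⟨(t' : ↥H), t'.2, rfl⟩
    have h5 := (Subgroup.mem_normalizer_iff.mp hg _).mp hmem
    obtain ⟨y, -, hy⟩ := h5
    rw [← hy]; exact y.2
  · intro hN
    refine ⟨hH, ?_, ?_⟩
    · obtain ⟨k, hk⟩ := IsPGroup.iff_card.mp P.2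
      have hk0 : k ≠ 0 := by
        rintro rfl
        rw [pow_zero] at hk
        exact hP (Subgroup.card_eq_one.mp hk)
      have h2dvd : 2 ∣ Nat.card (P : Subgroup ↥H) := by rw [hk]; exact dvd_pow_self 2 hk0
      exact even_iff_two_dvd.mpr (h2dvd.trans (Subgroup.card_subgroup_dvd_card _))
    · rw [Cfsg.Agent.Lib.Lead.se_third_iff]
      exact Cfsg.Agent.Lib.Lead.se_of_normalizers H P hP hN

end Cfsg.Agent.S0214
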