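import Cfsg.Statements.S0224
import Mathlib
import Cfsg.Agent.Lib.Lead.StrEmb
-- import your own Cfsg.Agent.* helpers here

set_option autoImplicit false
open Cfsg

namespace Cfsg.Agent.S0224

/-- Let H be a proper subgroup of even order of the finite group G. Then H is strongly embedded if and only if each involution of H fixes exactly one point (namely the coset H) in the action of G on the cosets of H. -/
theorem result {G : Type*} [Group G] [Finite G] (H : Subgroup G) (hH : H ≠ ⊤) (heven : Even (Nat.card H)) : Cfsg.IsStronglyEmbedded H ↔ ∀ t ∈ H, orderOf t = 2 → Nat.card {c : G ⧸ H // t • c = c} = 1 := by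
  unfold Cfsg.IsStronglyEmbedded
  rw [Cfsg.Agent.Lib.Lead.se_third_iff]
  have hfix : ∀ t g : G, (t • (QuotientGroup.mk g : G ⧸ H) = QuotientGroup.mk g) ↔
      g⁻¹ * t * g ∈ H := by
    intro t g
    have h0 : t • (QuotientGroup.mk g : G ⧸ H) = QuotientGroup.mk (t * g) := rfl
    rw [h0, QuotientGroup.eq]
    have e : (t * g)⁻¹ * g = (g⁻¹ * t * g)⁻¹ := by group
    rw [e, Subgroup.inv_mem_iff]
  constructor
  · rintro ⟨-, -, hE⟩ t ht ht2
    rw [Nat.card_eq_one_iff_unique]
    have key : ∀ c : G ⧸ H, t • c = c → c = QuotientGroup.mk 1 := by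
      intro c hc
      induction c using QuotientGroup.induction_on with
      | H g =>
        rw [hfix] at hc
        have hg : g⁻¹ ∈ H := hE g⁻¹ t ht ht2 (by rw [inv_inv]; exact hc)
        rw [QuotientGroup.eq]
        simpa using hg
    constructor
    · constructor
      rintro ⟨c, hc⟩ ⟨d, hd⟩
      apply Subtype.ext
      show c = d
      rw [key c hc, key d hd]
    · exact ⟨⟨QuotientGroup.mk 1, by rw [hfix]; simpa using ht⟩⟩
  · intro h
    refine ⟨hH, heven, ?_⟩
    intro g t ht ht2 hgt
    have h1 := h t ht ht2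
    rw [Nat.card_eq_one_iff_unique] at h1
    obtain ⟨hsub, -⟩ := h1
    have hf1 : t • (QuotientGroup.mk g⁻¹ : G ⧸ H) = QuotientGroup.mk g⁻¹ := by
      rw [hfix, inv_inv]; exact hgt
    have hf2 : t • (QuotientGroup.mk 1 : G ⧸ H) = QuotientGroup.mk 1 := by
      rw [hfix]; simpa using ht
    have h2 := congrArg Subtype.val (hsub.elim ⟨_, hf1⟩ ⟨_, hf2⟩)
    have h3 : (QuotientGroup.mk g⁻¹ : G ⧸ H) = QuotientGroup.mk 1 := h2
    rw [QuotientGroup.eq] at h3
    simpa using h3

end Cfsg.Agent.S0224
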