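import Cfsg.Statements.S0558
import Mathlib
import Mathlib
import Cfsg.Agent.Lib.Helper6.WHall
import Cfsg.Agent.S0079

set_option autoImplicit false
open Cfsg

namespace Cfsg.Agent.S0558

open Cfsg.Agent.Lib.Helper6 in
theorem card_eq_prime_pow_aux (n p : ℕ) (hn : n ≠ 0) (hp : p.Prime)
    (h : ∀ q : ℕ, q.Prime → q ∣ n → q = p) : n = p ^ n.factorization p := by
  have h1 := Nat.ordProj_mul_ordCompl_eq_self n p
  have h2 : n / p ^ n.factorization p = 1 := by
    rw [Nat.eq_one_iff_not_exists_prime_dvd]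
    intro q hq hqd
    have hqn : q ∣ n := dvd_trans hqd (Nat.ordCompl_dvd n p)
    have := h q hq hqn
    subst this
    exact Nat.not_dvd_ordCompl hq hn hqd
  rw [h2, mul_one] at h1
  exact h1.symm


/-- Let H be a subgroup of a finite group G that is not a Sylow subgroup of G for any prime, and suppose that for every prime p dividing the order of H and every Sylow p-subgroup P of H the normalizer of P in G is exactly H. Then some normal subgroup of G is a complement to H. -/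
theorem result {G : Type*} [Group G] [Finite G] (H : Subgroup G) (hnot : ∀ p : ℕ, p.Prime → ∀ P : Sylow p G, (P : Subgroup G) ≠ H) (hnorm : ∀ p : ℕ, p.Prime → p ∣ Nat.card H → ∀ P : Sylow p H, Subgroup.normalizer (((P : Subgroup H).map H.subtype : Subgroup G) : Set G) = H) : ∃ N : Subgroup G, N.Normal ∧ Subgroup.IsComplement' N H := by
  classical
  have hsyln : ∀ (p : ℕ) (_hp : Fact p.Prime) (P : Sylow p H), (P : Subgroup H).Normal := by
    intro p hp P
    by_cases hpH : p ∣ Nat.card H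
    · have hN := hnorm p hp.out hpH P
      constructor
      intro x hx h
      have hh : (h : G) ∈ Subgroup.normalizer
          (((P : Subgroup H).map H.subtype : Subgroup G) : Set G) := by rw [hN]; exact h.2
      have h1 := (Subgroup.mem_normalizer_iff.mp hh (x : G)).mp ⟨x, hx, rfl⟩
      obtain ⟨z, hz, hzx⟩ := h1
      have e : z = h * x * h⁻¹ := Subtype.ext (by
        have e0 : (z : G) = ↑h * ↑x * (↑h)⁻¹ := hzx
        rw [e0]; simp)
      rw [← e]; exact hz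
    · have hcard : Nat.card (P : Subgroup H) = 1 := by
        rw [Sylow.card_eq_multiplicity, Nat.factorization_eq_zero_of_not_dvd hpH, pow_zero]
      rw [Subgroup.card_eq_one.mp hcard]
      infer_instance
  have hnil : Group.IsNilpotent H := by
    have htfae := Group.isNilpotent_of_finite_tfae (G := ↥H)
    have h03 : Group.IsNilpotent ↥H ↔ ∀ (p : ℕ) (_hp : Fact p.Prime) (P : Sylow p ↥H),
        (↑P : Subgroup ↥H).Normal := htfae.out 0 3
    exact h03.mpr hsyln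
  have hsylG : ∀ (p : ℕ) [Fact p.Prime], p ∣ Nat.card H → ∀ P : Sylow p H,
      ∃ S : Sylow p G, (S : Subgroup G) = (P : Subgroup H).map H.subtype := by
    intro p _ hpH P
    have hp := (Fact.out : p.Prime)
    have hPn := hsyln p inferInstance P
    have hN := hnorm p hp hpH P
    have hPpg : IsPGroup p ((P : Subgroup H).map H.subtype) := P.2.map H.subtype
    obtain ⟨S, hS⟩ := hPpg.exists_le_sylow
    refine ⟨S, ?_⟩
    by_contra hne
    have hlt : (P : Subgroup H).map H.subtype < (S : Subgroup G) :=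
      lt_of_le_of_ne hS (Ne.symm hne)
    obtain ⟨x, hxS, hxN, hxP⟩ := Cfsg.Agent.Lib.Helper6.exists_mem_normalizer_not_mem S.2 hlt
    rw [hN] at hxN
    apply hxP
    obtain ⟨k, hk⟩ := (IsPGroup.iff_orderOf.mp S.2) ⟨x, hxS⟩
    have hord : orderOf (⟨x, hxN⟩ : ↥H) = p ^ k := by
      rw [Subgroup.orderOf_mk, ← Subgroup.orderOf_mk x hxS]; exact hk
    have h1 := Cfsg.Agent.Lib.Helper6.mem_sylow_of_mem_normalizer P hord (by
      rw [Subgroup.normalizer_eq_top_iff.mpr hPn]; exact Subgroup.mem_top _)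
    exact ⟨⟨x, hxN⟩, h1, rfl⟩
  have hHall : Nat.Coprime (Nat.card H) H.index := by
    apply Nat.coprime_of_dvd
    intro p hp hpH hpi
    haveI : Fact p.Prime := ⟨hp⟩
    obtain ⟨S, hS⟩ := hsylG p hpH default
    have hle : (S : Subgroup G) ≤ H := by rw [hS]; exact Subgroup.map_subtype_le _
    exact S.not_dvd_index (dvd_trans hpi (Subgroup.index_dvd_of_le hle))
  rw [Cfsg.Agent.S0079.result H hnil hHall]
  rintro x hx y hy ⟨u, hu⟩
  by_cases hH1 : Nat.card H = 1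
  · have hbot : H = ⊥ := Subgroup.card_eq_one.mp hH1
    rw [hbot, Subgroup.mem_bot] at hx hy
    refine ⟨1, one_mem _, ?_⟩
    rw [hx, hy]; group
  · obtain ⟨p, hp, hpH⟩ := Nat.exists_prime_and_dvd hH1
    haveI : Fact p.Prime := ⟨hp⟩
    obtain ⟨P₁, K', hK'H, hF1, hF2, hF3, hF4⟩ :=
      Cfsg.Agent.Lib.Helper6.nilpotent_p_decomp H hnil p
    obtain ⟨S, hS⟩ := hsylG p hpH P₁
    have hNS : Subgroup.normalizer ((S : Subgroup G) : Set G) = H := by
      rw [hS]; exact hnorm p hp hpH P₁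
    have hP'H : (P₁ : Subgroup H).map H.subtype ≤ H := Subgroup.map_subtype_le _
    obtain ⟨q, hq, hqH, hqp⟩ : ∃ q : ℕ, q.Prime ∧ q ∣ Nat.card H ∧ q ≠ p := by
      by_contra hcon
      push Not at hcon
      have hcard : Nat.card (P₁ : Subgroup H) = Nat.card H := by
        rw [Sylow.card_eq_multiplicity]
        exact (card_eq_prime_pow_aux (Nat.card H) p Nat.card_pos.ne' hp hcon).symm
      have htop : (P₁ : Subgroup H) = ⊤ := Subgroup.eq_top_of_card_eq _ hcard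
      apply hnot p hp S
      rw [hS, htop, ← MonoidHom.range_eq_map, Subgroup.range_subtype]
    haveI : Fact q.Prime := ⟨hq⟩
    obtain ⟨Sq, hSq⟩ := hsylG q hqH default
    have hNSq : Subgroup.normalizer ((Sq : Subgroup G) : Set G) = H := by
      rw [hSq]; exact hnorm q hq hqH default
    have hSqK : ∀ z ∈ (Sq : Subgroup G), z ∈ K' := by
      intro z hz
      apply hF4 z (by rw [hSq] at hz; exact Subgroup.map_subtype_le _ hz)
      obtain ⟨m, hm⟩ := (IsPGroup.iff_orderOf.mp Sq.2) ⟨z, hz⟩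
      rw [Subgroup.orderOf_mk] at hm
      rw [hm]
      exact Nat.Coprime.pow_left m ((Nat.coprime_primes hq hp).mpr hqp)
    obtain ⟨a, b, hab, haz, hbz, ⟨m, ham⟩, hbcop⟩ :=
      Cfsg.Agent.Lib.Helper6.exists_p_decomp' p hp x
    obtain ⟨i, hi⟩ := Subgroup.mem_zpowers_iff.mp haz
    obtain ⟨j, hj⟩ := Subgroup.mem_zpowers_iff.mp hbz
    have haH : a ∈ H := by rw [← hi]; exact zpow_mem hx i
    have hbH : b ∈ H := by rw [← hj]; exact zpow_mem hx j
    have ha'H : u * a * u⁻¹ ∈ H := by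
      have e : u * a * u⁻¹ = y ^ i := by rw [← hu, ← hi, conj_zpow]
      rw [e]; exact zpow_mem hy i
    have hb'H : u * b * u⁻¹ ∈ H := by
      have e : u * b * u⁻¹ = y ^ j := by rw [← hu, ← hj, conj_zpow]
      rw [e]; exact zpow_mem hy j
    have haP : a ∈ (P₁ : Subgroup H).map H.subtype := hF3 a haH ⟨m, ham⟩
    have ha'P : u * a * u⁻¹ ∈ (P₁ : Subgroup H).map H.subtype :=
      hF3 _ ha'H ⟨m, by rw [Cfsg.Agent.Lib.Helper6.orderOf_conj_eq]; exact ham⟩
    have hbK : b ∈ K' := hF4 b hbH hbcop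
    have hb'K : u * b * u⁻¹ ∈ K' :=
      hF4 _ hb'H (by rw [Cfsg.Agent.Lib.Helper6.orderOf_conj_eq]; exact hbcop)
    obtain ⟨h₁, hh₁, h₁a⟩ := Cfsg.Agent.Lib.Helper6.fusion_of_sylow_centralizes H q Sq hNSq a
      (u * a * u⁻¹) u rfl
      (fun z hz => hF2 z (hSqK z hz) a haP) (fun z hz => hF2 z (hSqK z hz) _ ha'P)
    obtain ⟨k₁, hk₁, s₁, hs₁, rfl⟩ := hF1 h₁ hh₁
    have ha1 : s₁ * a * s₁⁻¹ = u * a * u⁻¹ := by
      have hmem : s₁ * a * s₁⁻¹ ∈ (P₁ : Subgroup H).map H.subtype :=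
        mul_mem (mul_mem hs₁ haP) (inv_mem hs₁)
      have hc := hF2 k₁ hk₁ _ hmem
      rw [← h₁a]
      calc s₁ * a * s₁⁻¹ = (s₁ * a * s₁⁻¹) * k₁ * k₁⁻¹ := by group
        _ = k₁ * (s₁ * a * s₁⁻¹) * k₁⁻¹ := by rw [hc]
        _ = k₁ * s₁ * a * (k₁ * s₁)⁻¹ := by group
    obtain ⟨h₂, hh₂, h₂b⟩ := Cfsg.Agent.Lib.Helper6.fusion_of_sylow_centralizes H p S hNS b
      (u * b * u⁻¹) u rfl
      (fun z hz => (hF2 b hbK z (hS ▸ hz)).symm) (fun z hz => (hF2 _ hb'K z (hS ▸ hz)).symm)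
    obtain ⟨k₂, hk₂, s₂, hs₂, rfl⟩ := hF1 h₂ hh₂
    have hb1 : k₂ * b * k₂⁻¹ = u * b * u⁻¹ := by
      have hc := hF2 b hbK s₂ hs₂
      rw [← h₂b]
      calc k₂ * b * k₂⁻¹ = k₂ * (b * s₂) * s₂⁻¹ * k₂⁻¹ := by group
        _ = k₂ * (s₂ * b) * s₂⁻¹ * k₂⁻¹ := by rw [hc]
        _ = k₂ * s₂ * b * (k₂ * s₂)⁻¹ := by group
    refine ⟨s₁ * k₂, mul_mem (hP'H hs₁) (hK'H hk₂), ?_⟩
    have hc1 := hF2 k₂ hk₂ a haP
    have hc2 := hF2 _ hb'K s₁ hs₁
    rw [← hu, ← hab]
    calc s₁ * k₂ * (a * b) * (s₁ * k₂)⁻¹ = s₁ * (k₂ * a) * b * k₂⁻¹ * s₁⁻¹ := by group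
      _ = s₁ * (a * k₂) * b * k₂⁻¹ * s₁⁻¹ := by rw [hc1]
      _ = s₁ * a * (k₂ * b * k₂⁻¹) * s₁⁻¹ := by group
      _ = s₁ * a * (u * b * u⁻¹) * s₁⁻¹ := by rw [hb1]
      _ = s₁ * a * s₁⁻¹ * (s₁ * (u * b * u⁻¹)) * s₁⁻¹ := by group
      _ = s₁ * a * s₁⁻¹ * ((u * b * u⁻¹) * s₁) * s₁⁻¹ := by rw [hc2]
      _ = (s₁ * a * s₁⁻¹) * (u * b * u⁻¹) := by group
      _ = (u * a * u⁻¹) * (u * b * u⁻¹) := by rw [ha1]
      _ = u * (a * b) * u⁻¹ := by group

end Cfsg.Agent.S0558
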