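import Cfsg.Statements.S0632
import Mathlib
import Cfsg.Agent.Lib.Helper1.ZJ8
import Cfsg.Agent.Lib.Lead.PCore2

set_option autoImplicit false
open Cfsg

namespace Cfsg.Agent.S0632

open Cfsg.Agent.Lib.Helper1

/-- For a group with a nontrivial normal p-subgroup, p-stability passes to and from the quotient by the largest normal subgroup of order prime to p. -/
theorem result {G : Type*} [Group G] [Finite G] {p : ℕ} [Fact p.Prime] (hO : Cfsg.pCore p G ≠ ⊥) : Cfsg.IsPStable p G ↔ Cfsg.IsPStable p (G ⧸ Cfsg.pPrimeCore p G) := by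
  classical
  obtain ⟨π, hπ⟩ : ∃ π : G →* G ⧸ Cfsg.pPrimeCore p G, π = QuotientGroup.mk' _ := ⟨_, rfl⟩
  have hπs : Function.Surjective π := by rw [hπ]; exact QuotientGroup.mk'_surjective _
  have hπk : π.ker = Cfsg.pPrimeCore p G := by rw [hπ]; exact QuotientGroup.ker_mk' _
  have hcop := Cfsg.Agent.Lib.Helper4.pPrimeCore_coprime p G
  have hdisj : ∀ P : Subgroup G, IsPGroup p P → P ⊓ Cfsg.pPrimeCore p G = ⊥ := by
    intro P hP
    apply disjoint_iff.mp
    apply Subgroup.disjoint_of_coprime_natCard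
    obtain ⟨n, hn'⟩ := IsPGroup.iff_card.mp hP
    rw [hn']
    exact Nat.Coprime.pow_left n hcop.symm
  have hObar : Cfsg.pPrimeCore p (G ⧸ Cfsg.pPrimeCore p G) = ⊥ :=
    Cfsg.Agent.Lib.Lead.pPrimeCore_quotient p
  constructor
  · rintro ⟨hodd, -, hst⟩
    refine ⟨hodd, ?_, ?_⟩
    · intro hbot
      apply hO
      have h1 : (Cfsg.pCore p G).map π ≤ Cfsg.pCore p (G ⧸ Cfsg.pPrimeCore p G) :=
        pCore_map_le p π hπs
      rw [hbot, le_bot_iff, Subgroup.map_eq_bot_iff, hπk] at h1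
      rw [eq_bot_iff, ← hdisj _ (Cfsg.Agent.Lib.Helper4.pCore_isPGroup p G)]
      exact le_inf le_rfl h1
    · intro Ab Pb hAb hPb hAPb hPble hPbn hquad
      have hPbn' : Pb.Normal := by
        rw [hObar, bot_sup_eq] at hPbn; exact hPbn
      obtain ⟨Rb, hRb⟩ := hAb.exists_le_sylow
      obtain ⟨R, hR⟩ := Sylow.mapSurjective_surjective hπs p Rb
      have hRb' : (Rb : Subgroup (G ⧸ Cfsg.pPrimeCore p G)) = (R : Subgroup G).map π := by
        rw [← hR]; rfl
      have hPbR : Pb ≤ Rb := Cfsg.Agent.Lib.Helper4.normal_pGroup_le_sylow Rb hPbn' hPb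
      obtain ⟨A, hA⟩ : ∃ A, A = (R : Subgroup G) ⊓ Ab.comap π := ⟨_, rfl⟩
      obtain ⟨P, hP⟩ : ∃ P, P = (R : Subgroup G) ⊓ Pb.comap π := ⟨_, rfl⟩
      have hAR : A ≤ R := by rw [hA]; exact inf_le_left
      have hPR : P ≤ R := by rw [hP]; exact inf_le_left
      have hAmap : A.map π = Ab := by
        apply le_antisymm
        · rintro _ ⟨a, ha, rfl⟩
          rw [hA] at ha
          exact (Subgroup.mem_inf.mp ha).2
        · intro ab hab
          have h1 := hRb hab
          rw [hRb'] at h1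
          obtain ⟨r, hr, rfl⟩ := h1
          refine ⟨r, ?_, rfl⟩
          rw [hA]
          exact Subgroup.mem_inf.mpr ⟨hr, hab⟩
      have hPmap : P.map π = Pb := by
        apply le_antisymm
        · rintro _ ⟨a, ha, rfl⟩
          rw [hP] at ha
          exact (Subgroup.mem_inf.mp ha).2
        · intro ab hab
          have h1 := hPbR hab
          rw [hRb'] at h1
          obtain ⟨r, hr, rfl⟩ := h1
          refine ⟨r, ?_, rfl⟩
          rw [hP]
          exact Subgroup.mem_inf.mpr ⟨hr, hab⟩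
      have hAp : IsPGroup p A := R.isPGroup'.to_le hAR
      have hPp : IsPGroup p P := R.isPGroup'.to_le hPR
      have hAP : ∀ a ∈ A, ∀ x ∈ P, a * x * a⁻¹ ∈ P := by
        intro a ha x hx
        rw [hP] at hx ⊢
        obtain ⟨hx1, hx2⟩ := Subgroup.mem_inf.mp hx
        refine Subgroup.mem_inf.mpr ⟨?_, ?_⟩
        · exact (R : Subgroup G).mul_mem ((R : Subgroup G).mul_mem (hAR ha) hx1)
            ((R : Subgroup G).inv_mem (hAR ha))
        · rw [Subgroup.mem_comap, map_mul, map_mul, map_inv]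
          exact hPbn'.conj_mem _ hx2 _
      have hAN : A ≤ Subgroup.normalizer (P : Set G) :=
        fun a ha => Cfsg.Agent.Lib.Helper6.mem_normalizer_of_conj_mem (hAP a ha)
      have hPle : P ≤ Cfsg.pPrimePCore p G := by
        intro x hx
        have h1 : π x ∈ Pb := by rw [← hPmap]; exact Subgroup.mem_map_of_mem π hx
        have h2 := Cfsg.Agent.Lib.Helper4.le_pCore hPbn' hPb h1
        unfold Cfsg.pPrimePCore
        rw [Subgroup.mem_comap, ← hπ]
        exact h2
      have hnorm : (Cfsg.pPrimeCore p G ⊔ P).Normal := by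
        have h1 : Cfsg.pPrimeCore p G ⊔ P = Pb.comap π := by
          rw [← hPmap, Subgroup.comap_map_eq, hπk, sup_comm]
        rw [h1]; exact hPbn'.comap π
      have hq : ⁅⁅P, A⁆, A⁆ = ⊥ := by
        have h1 : ⁅⁅P, A⁆, A⁆ ≤ P :=
          commutator_le_of_le_normalizer' hAN (commutator_le_of_le_normalizer' hAN le_rfl)
        have h2 : ⁅⁅P, A⁆, A⁆ ≤ Cfsg.pPrimeCore p G := by
          have h3 : (⁅⁅P, A⁆, A⁆).map π = ⊥ := by
            rw [Subgroup.map_commutator, Subgroup.map_commutator, hAmap, hPmap]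
            exact hquad
          rw [← hπk]
          exact (Subgroup.map_eq_bot_iff _).mp h3
        rw [eq_bot_iff, ← hdisj P hPp]
        exact le_inf h1 h2
      have h := hst A P hAp hPp hAP hPle hnorm hq
      subst hPmap
      rintro _ ⟨y, hy, rfl⟩
      rw [SetLike.mem_coe, Subgroup.mem_subgroupOf, ← hAmap] at hy
      obtain ⟨a, haA, hay⟩ := hy
      have haN : a ∈ Subgroup.normalizer (P : Set G) := hAN haA
      have hay' : π a ∈ Subgroup.normalizer ((P.map π : Subgroup (G ⧸ Cfsg.pPrimeCore p G)) :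
          Set (G ⧸ Cfsg.pPrimeCore p G)) := by
        rw [hay]; exact y.2
      have key := (stable_transfer π hπs hπk P hPp hPbn' a haN hay').mp
        (h ⟨⟨a, haN⟩, Subgroup.mem_subgroupOf.mpr haA, rfl⟩)
      have e : (⟨π a, hay'⟩ : ↥(Subgroup.normalizer ((P.map π :
          Subgroup (G ⧸ Cfsg.pPrimeCore p G)) : Set (G ⧸ Cfsg.pPrimeCore p G)))) = y :=
        Subtype.ext hay
      rw [e] at key
      exact key
  · rintro ⟨hodd, -, hst⟩
    refine ⟨hodd, hO, ?_⟩
    intro A P hAp hPp hAP hPle hnorm hquad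
    have hPbn : (P.map π).Normal := by
      have h1 : P.map π = (Cfsg.pPrimeCore p G ⊔ P).map π := by
        rw [Subgroup.map_sup, (Subgroup.map_eq_bot_iff _).mpr hπk.ge, bot_sup_eq]
      rw [h1]; exact hnorm.map π hπs
    have h := hst (A.map π) (P.map π) (hAp.map π) (hPp.map π) ?_ ?_ ?_ ?_
    · rintro _ ⟨y, hy, rfl⟩
      rw [SetLike.mem_coe, Subgroup.mem_subgroupOf] at hy
      have hy' : π (y : G) ∈ Subgroup.normalizer ((P.map π :
          Subgroup (G ⧸ Cfsg.pPrimeCore p G)) : Set (G ⧸ Cfsg.pPrimeCore p G)) := by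
        rw [Subgroup.normalizer_eq_top_iff.mpr hPbn]; trivial
      apply (stable_transfer π hπs hπk P hPp hPbn (y : G) y.2 hy').mpr
      apply h
      exact ⟨⟨π y, hy'⟩, Subgroup.mem_subgroupOf.mpr (Subgroup.mem_map_of_mem π hy), rfl⟩
    · rintro _ ⟨a, ha, rfl⟩ _ ⟨x, hx, rfl⟩
      rw [← map_mul, ← map_inv, ← map_mul]
      exact Subgroup.mem_map_of_mem π (hAP a ha x hx)
    · exact (Cfsg.Agent.Lib.Helper4.le_pCore hPbn (hPp.map π)).trans (pCore_le_pPrimePCore p)
    · haveI := hPbn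
      infer_instance
    · rw [← Subgroup.map_commutator, ← Subgroup.map_commutator, hquad, Subgroup.map_bot]

end Cfsg.Agent.S0632
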