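import Mathlib
import Cfsg.Statements.S0647
import Cfsg.Agent.Lib.Helper1.Abel

set_option autoImplicit false
open Cfsg
open Cfsg.Agent.Lib.Helper1

namespace Cfsg.Agent.S0647

theorem result {S : Type*} [Group S] [Finite S] (𝒜 : Set (Subgroup S)) (hne : 𝒜.Nonempty) (hab : ∀ A ∈ 𝒜, IsMulCommutative A) (hmax : ∀ A ∈ 𝒜, ∀ B : Subgroup S, IsMulCommutative B → A ≤ B → B = A) : sInf 𝒜 = sSup 𝒜 ⊓ Subgroup.centralizer ((sSup 𝒜 : Subgroup S) : Set S) ∧ sInf 𝒜 = Subgroup.centralizer ((sSup 𝒜 : Subgroup S) : Set S) := by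
  have h1 : Subgroup.centralizer ((sSup 𝒜 : Subgroup S) : Set S) ≤ sInf 𝒜 := by
    intro x hx
    rw [Subgroup.mem_sInf]
    intro A hA
    have hxA : ∀ a ∈ A, a * x = x * a := by
      intro a ha
      exact Subgroup.mem_centralizer_iff.mp hx a (le_sSup hA ha)
    have hB := isMulCommutative_sup_zpowers (hab A hA) x hxA
    have h := hmax A hA _ hB le_sup_left
    rw [← h]
    exact Subgroup.mem_sup_right (Subgroup.mem_zpowers x)
  have h2 : sInf 𝒜 ≤ Subgroup.centralizer ((sSup 𝒜 : Subgroup S) : Set S) := by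
    intro x hx
    rw [Subgroup.mem_sInf] at hx
    have hle : sSup 𝒜 ≤ Subgroup.centralizer ({x} : Set S) := by
      apply sSup_le
      intro A hA a ha
      rw [Subgroup.mem_centralizer_iff]; rintro _ rfl
      exact comm_of_isMulCommutative (hab A hA) _ (hx A hA) a ha
    rw [Subgroup.mem_centralizer_iff]
    intro h hh
    exact (Subgroup.mem_centralizer_iff.mp (hle hh) x rfl).symm
  have h3 : sInf 𝒜 ≤ sSup 𝒜 := by
    obtain ⟨A, hA⟩ := hne
    exact (sInf_le hA).trans (le_sSup hA)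
  have e := le_antisymm h2 h1
  exact ⟨le_antisymm (le_inf h3 h2) (inf_le_right.trans h1), e⟩

end Cfsg.Agent.S0647
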