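import Cfsg.Statements.S0652
import Mathlib
import Cfsg.Agent.Lib.Helper1.Glauberman2

set_option autoImplicit false
open Cfsg

namespace Cfsg.Agent.S0652

/-- For odd p and D normal in the p-group S, the elementary abelian subgroups of D of largest order satisfy the replacement property for class-2 normal subgroups of S. -/
theorem result {S : Type*} [Group S] [Finite S] {p : ℕ} [Fact p.Prime] (hS : IsPGroup p S) (hp : p ≠ 2) (D : Subgroup S) [D.Normal] : ∀ (B : Subgroup S) [B.Normal], ⁅⁅B, B⁆, B⁆ = ⊥ → (∃ U ∈ (Set.image (fun A : Subgroup ↥D => A.map D.subtype) (Cfsg.maxElementaryAbelianSubgroups p ↥D)), ⁅B, B⁆ ≤ U ∧ ¬ B ≤ U) → ∃ A ∈ (Set.image (fun A : Subgroup ↥D => A.map D.subtype) (Cfsg.maxElementaryAbelianSubgroups p ↥D)), ⁅B, B⁆ ≤ A ∧ ¬ B ≤ A ∧ B ≤ Subgroup.normalizer (A : Set S) := by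
  intro B _ _ hex
  obtain ⟨U, hU, hBU, hnBU⟩ := hex
  refine Cfsg.Agent.Lib.Helper1.replacement_family hS hp B
    (fun U => U ∈ Set.image (fun A : Subgroup ↥D => A.map D.subtype)
      (Cfsg.maxElementaryAbelianSubgroups p ↥D))
    ?_ ?_ U hU hBU hnBU
  · intro U hU
    exact Cfsg.Agent.Lib.Helper1.comm_of_isMulCommutative
      ((Cfsg.Agent.Lib.Helper1.mem_image_maxEA_iff p D U).mp hU).2.1.1
  · intro U b hU hG
    obtain ⟨hUD, hUc, hUmax⟩ := (Cfsg.Agent.Lib.Helper1.mem_image_maxEA_iff p D U).mp hU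
    apply (Cfsg.Agent.Lib.Helper1.mem_image_maxEA_iff p D _).mpr
    refine ⟨Cfsg.Agent.Lib.Helper1.gStar_le_of_normal hUD b,
      ⟨Cfsg.Agent.Lib.Helper1.isMulCommutative_of_comm hG.star_comm, ?_⟩, ?_⟩
    · intro x hx
      have h1 := hG.pow_exponent_star hp x hx
      have h2 : Monoid.exponent ↥U ∣ p :=
        Monoid.exponent_dvd_of_forall_pow_eq_one (fun g => Subtype.ext (by simpa using hUc.2 g g.2))
      obtain ⟨m, hm⟩ := h2
      rw [hm, pow_mul, h1, one_pow]
    · intro C hCD hCc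
      rw [hG.card_star]
      exact hUmax C hCD hCc

end Cfsg.Agent.S0652
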