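import Cfsg.Statements.S0654
import Mathlib
import Cfsg.Agent.Lib.Helper1.ZJ4
import Cfsg.Agent.Lib.Helper1.Glauberman2
import Cfsg.Agent.Lib.Helper1.Abel
import Cfsg.Agent.Lib.Helper1.Thompson

set_option autoImplicit false
open Cfsg

namespace Cfsg.Agent.S0654

open Cfsg.Agent.Lib.Helper1

theorem omegaCenterThompson_map_eq_zjW {G : Type*} [Group G] [Finite G] (p : ℕ) (S : Subgroup G) :
    (Cfsg.omegaCenterThompson p ↥S).map S.subtype
      = zjW (fun U => Cfsg.IsElementaryAbelian p U) S := by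
  have hiff : ∀ U, IsMaxGood (fun U => Cfsg.IsElementaryAbelian p U) S U ↔
      U ∈ Set.image (fun A : Subgroup ↥S => A.map S.subtype)
        (Cfsg.maxElementaryAbelianSubgroups p ↥S) := by
    intro U
    rw [mem_image_maxEA_iff]
    rfl
  obtain ⟨A₀, hA₀⟩ := maxEA_nonempty (G := ↥S) p
  apply le_antisymm
  · rw [Subgroup.map_le_iff_le_comap]
    unfold Cfsg.omegaCenterThompson Cfsg.omegaOne
    rw [Subgroup.closure_le]
    rintro x ⟨hxZ, hxp⟩
    show (S.subtype x) ∈ zjW _ S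
    unfold zjW
    rw [Subgroup.mem_sInf]
    intro U hU
    obtain ⟨A, hA, rfl⟩ := (hiff U).mp hU
    have hAJ : A ≤ Cfsg.thompsonSubgroup p ↥S := le_sSup hA
    have hxA : x ∈ A := mem_of_maxEA hA x
      (fun a ha => Subgroup.mem_centralizer_iff.mp (Subgroup.mem_inf.mp hxZ).2 a (hAJ ha)) hxp
    exact ⟨x, hxA, rfl⟩
  · intro x hx
    have hxA₀ : x ∈ A₀.map S.subtype := zjW_le_of _ ((hiff _).mpr ⟨A₀, hA₀, rfl⟩) hx
    obtain ⟨x₀, hx₀, rfl⟩ := hxA₀
    refine ⟨x₀, ?_, rfl⟩
    have hall : ∀ A ∈ Cfsg.maxElementaryAbelianSubgroups p ↥S, x₀ ∈ A := by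
      intro A hA
      have h1 : S.subtype x₀ ∈ A.map S.subtype := zjW_le_of _ ((hiff _).mpr ⟨A, hA, rfl⟩) hx
      obtain ⟨y, hy, hyx⟩ := h1
      have h2 : y = x₀ := Subtype.ext hyx
      rw [← h2]; exact hy
    unfold Cfsg.omegaCenterThompson Cfsg.omegaOne
    apply Subgroup.subset_closure
    have hA₀J : A₀ ≤ Cfsg.thompsonSubgroup p ↥S := le_sSup hA₀
    refine ⟨Subgroup.mem_inf.mpr ⟨hA₀J hx₀, ?_⟩, hA₀.1.2 x₀ hx₀⟩
    rw [Subgroup.mem_centralizer_iff]
    intro y hy
    have hle : Cfsg.thompsonSubgroup p ↥S ≤ Subgroup.centralizer ({x₀} : Set ↥S) := by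
      apply sSup_le
      intro A hA a ha
      rw [Subgroup.mem_centralizer_iff]
      intro h hh
      rw [Set.mem_singleton_iff] at hh
      subst hh
      exact comm_of_isMulCommutative hA.1.1 _ (hall A hA) _ ha
    exact (Subgroup.mem_centralizer_iff.mp (hle hy) x₀ rfl).symm

/-- The ZJ-Theorem for the elementary-abelian Thompson subgroup: for an odd prime p, a finite group G with C_G(O_p(G)) ≤ O_p(G) acting p-stably on its normal p-subgroups, and a Sylow p-subgroup S of G, the subgroup generated by the elements of order dividing p in Z(J_e(S)) is characteristic in G. -/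
theorem result {G : Type*} [Group G] [Finite G] {p : ℕ} [Fact p.Prime] (hp : p ≠ 2) (hc : Subgroup.centralizer (Cfsg.pCore p G : Set G) ≤ Cfsg.pCore p G) (hst : ∀ (P : Subgroup G) [P.Normal], IsPGroup p P → Cfsg.IsPStableOn p P) (S : Sylow p G) : ((Cfsg.omegaCenterThompson p ↥(S : Subgroup G)).map (S : Subgroup G).subtype).Characteristic := by
  rw [omegaCenterThompson_map_eq_zjW]
  apply zj_characteristic _ hp hc hst S
  · exact isElementaryAbelian_bot p
  · intro U h
    exact comm_of_isMulCommutative h.1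
  · intro U ψ h
    refine ⟨isMulCommutative_of_comm ?_, ?_⟩
    · rintro _ ⟨a, ha, rfl⟩ _ ⟨b, hb, rfl⟩
      rw [← map_mul, ← map_mul, comm_of_isMulCommutative h.1 a ha b hb]
    · rintro _ ⟨b, hb, rfl⟩
      rw [← map_pow, h.2 b hb, map_one]
  · intro A A' hA hcomm hexp
    exact ⟨isMulCommutative_of_comm hcomm, hexp p hA.2⟩

end Cfsg.Agent.S0654
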