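import Cfsg.Statements.S0667
import Mathlib
import Cfsg.Agent.Lib.Helper1.ZJ6
import Cfsg.Agent.Lib.Helper2.Comp16
import Cfsg.Agent.S0653

set_option autoImplicit false
open Cfsg

namespace Cfsg.Agent.S0667

open Cfsg.Agent.Lib.Helper1

/-- Glauberman's Theorem in the p-constrained, p-stable vocabulary: for odd p such a group is the product of its largest normal subgroup of order prime to p with the normalizer of Z(J(P)), and Z(J(P)) is normal when that p'-subgroup is trivial. -/
theorem result {G : Type*} [Group G] [Finite G] {p : ℕ} [Fact p.Prime] (hp : p ≠ 2) (hc : Cfsg.IsPConstrained p G) (hs : Cfsg.IsPStable p G) (P : Sylow p G) : Cfsg.pPrimeCore p G ⊔ Subgroup.normalizer (Cfsg.centerThompsonAOf ((P : Subgroup G)) : Set G) = ⊤ ∧ (Cfsg.pPrimeCore p G = ⊥ → (Cfsg.centerThompsonAOf ((P : Subgroup G))).Normal) := by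
  classical
  haveI hOn : (Cfsg.pPrimeCore p G).Normal := Cfsg.Agent.Lib.Helper4.pPrimeCore_normal' p G
  have hπs : Function.Surjective (QuotientGroup.mk' (Cfsg.pPrimeCore p G)) :=
    QuotientGroup.mk'_surjective _
  have hcb := (Cfsg.Agent.Lib.Helper2.Comp.isPConstrained_iff p).mp hc
  have hZn : (zjW goodAb ((P.mapSurjective hπs : Sylow p (G ⧸ Cfsg.pPrimeCore p G)) :
      Subgroup (G ⧸ Cfsg.pPrimeCore p G))).Normal :=
    zj_normal goodAb hp hcb
      (fun Pb hn h => by haveI := hn; exact isPStableOn_quotient hs Pb h)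
      (P.mapSurjective hπs) goodAb_bot (fun U h => h)
      (fun U ψ h => goodAb_map U ψ.toMonoidHom h) (fun A A' _ h _ => h)
  have hPO : (P : Subgroup G) ⊓ (QuotientGroup.mk' (Cfsg.pPrimeCore p G)).ker = ⊥ := by
    rw [QuotientGroup.ker_mk']
    apply disjoint_iff.mp
    apply Subgroup.disjoint_of_coprime_natCard
    obtain ⟨n, hn⟩ := IsPGroup.iff_card.mp P.isPGroup'
    rw [hn]
    exact Nat.Coprime.pow_left n (Cfsg.Agent.Lib.Helper4.pPrimeCore_coprime p G).symm
  rw [Sylow.coe_mapSurjective, zjW_map (P : Subgroup G) (QuotientGroup.mk' _) hPO] at hZn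
  have hZeq : Cfsg.centerThompsonAOf (P : Subgroup G) = zjW goodAb (P : Subgroup G) :=
    Cfsg.Agent.S0653.centerThompsonAOf_eq_zjW _
  have hZp : IsPGroup p (zjW goodAb (P : Subgroup G)) :=
    P.isPGroup'.to_le (zjW_le goodAb goodAb_bot _)
  have h1 := sup_normalizer_eq_top_of_map_normal (Cfsg.pPrimeCore p G)
    (Cfsg.Agent.Lib.Helper4.pPrimeCore_coprime p G) _ hZp hZn
  rw [hZeq]
  refine ⟨h1, fun hbot => ?_⟩
  rw [hbot, bot_sup_eq] at h1
  exact Subgroup.normalizer_eq_top_iff.mp h1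

end Cfsg.Agent.S0667
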