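import Cfsg.Statements.S0658
import Mathlib
import Cfsg.Agent.Lib.Helper1.ZJ7
import Cfsg.Agent.Lib.Lead.Invol2
import Cfsg.Agent.S0653
import Cfsg.Agent.S0667

set_option autoImplicit false
open Cfsg

namespace Cfsg.Agent.S0658

open Cfsg.Agent.Lib.Helper1

theorem zj_local {G : Type*} [Group G] [Finite G] {p : ℕ} [Fact p.Prime] (hp : p ≠ 2)
    (N : Subgroup G) (hO : Cfsg.pPrimeCore p ↥N = ⊥) (hc : Cfsg.IsPConstrained p ↥N)
    (hs : Cfsg.IsPStable p ↥N) (R : Sylow p ↥N) :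
    N ≤ Subgroup.normalizer (zjW goodAb ((R : Subgroup ↥N).map N.subtype) : Set G) := by
  have h1 := (Cfsg.Agent.S0667.result hp hc hs R).2 hO
  rw [Cfsg.Agent.S0653.centerThompsonAOf_eq_zjW] at h1
  have h2 : zjW goodAb ((R : Subgroup ↥N).map N.subtype)
      = (zjW goodAb (R : Subgroup ↥N)).map N.subtype :=
    zjW_map _ N.subtype (by rw [Subgroup.ker_subtype, inf_bot_eq])
  rw [h2]
  intro n hn
  apply Cfsg.Agent.Lib.Helper6.mem_normalizer_of_conj_mem
  rintro _ ⟨y, hy, rfl⟩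
  exact ⟨⟨n, hn⟩ * y * ⟨n, hn⟩⁻¹, h1.conj_mem y hy ⟨n, hn⟩, rfl⟩

theorem case_full {G : Type*} [Group G] [Finite G] {p : ℕ} [Fact p.Prime] (hp : p ≠ 2)
    (hloc : ∀ Q : Subgroup G, IsPGroup p Q → Q ≠ ⊥ →
      Cfsg.pPrimeCore p ↥(Subgroup.normalizer (Q : Set G)) = ⊥ ∧
      Cfsg.IsPConstrained p ↥(Subgroup.normalizer (Q : Set G)) ∧
      Cfsg.IsPStable p ↥(Subgroup.normalizer (Q : Set G)))
    (P : Sylow p G) (Q : Subgroup G) (hQP : Q ≤ (P : Subgroup G)) (hQ1 : Q ≠ ⊥)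
    (hPN : (P : Subgroup G) ≤ Subgroup.normalizer (Q : Set G)) :
    Subgroup.normalizer (Q : Set G) ≤
      Subgroup.normalizer (zjW goodAb (P : Subgroup G) : Set G) := by
  obtain ⟨hO, hc, hs⟩ := hloc Q (P.isPGroup'.to_le hQP) hQ1
  have h1 := zj_local hp _ hO hc hs (P.subtype hPN)
  rw [Sylow.coe_subtype, Subgroup.map_subgroupOf_eq_of_le hPN] at h1
  exact h1

set_option maxHeartbeats 1000000 in
theorem main {G : Type*} [Group G] [Finite G] {p : ℕ} [Fact p.Prime] (hp : p ≠ 2)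
    (hloc : ∀ Q : Subgroup G, IsPGroup p Q → Q ≠ ⊥ →
      Cfsg.pPrimeCore p ↥(Subgroup.normalizer (Q : Set G)) = ⊥ ∧
      Cfsg.IsPConstrained p ↥(Subgroup.normalizer (Q : Set G)) ∧
      Cfsg.IsPStable p ↥(Subgroup.normalizer (Q : Set G)))
    (P : Sylow p G) :
    ∀ n : ℕ, ∀ Q : Subgroup G, Q ≤ (P : Subgroup G) → Q ≠ ⊥ →
      Nat.card (P : Subgroup G) ≤
        Nat.card ((P : Subgroup G) ⊓ Subgroup.normalizer (Q : Set G) : Subgroup G) + n →
      Subgroup.normalizer (Q : Set G) ≤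
        Subgroup.normalizer (zjW goodAb (P : Subgroup G) : Set G) := by
  intro n
  induction n with
  | zero =>
    intro Q hQP hQ1 hcard
    have hPN : (P : Subgroup G) ≤ Subgroup.normalizer (Q : Set G) := by
      have h1 : (P : Subgroup G) ⊓ Subgroup.normalizer (Q : Set G) = P :=
        Subgroup.eq_of_le_of_card_ge inf_le_left (by omega)
      rw [← h1]; exact inf_le_right
    exact case_full hp hloc P Q hQP hQ1 hPN
  | succ n ih =>
    intro Q hQP hQ1 hcard
    by_cases hPN : (P : Subgroup G) ≤ Subgroup.normalizer (Q : Set G)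
    · exact case_full hp hloc P Q hQP hQ1 hPN
    obtain ⟨M, hM⟩ : ∃ M, M = Subgroup.normalizer (zjW goodAb (P : Subgroup G) : Set G) :=
      ⟨_, rfl⟩
    rw [← hM]
    rw [← hM] at ih
    obtain ⟨T, hT⟩ : ∃ T, T = (P : Subgroup G) ⊓ Subgroup.normalizer (Q : Set G) := ⟨_, rfl⟩
    rw [← hT] at hcard
    have hTP : T ≤ P := by rw [hT]; exact inf_le_left
    have hTN : T ≤ Subgroup.normalizer (Q : Set G) := by rw [hT]; exact inf_le_right
    have hTltP : T < P := by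
      refine lt_of_le_of_ne hTP ?_
      intro h
      apply hPN
      rw [← h]; exact hTN
    have hQT : Q ≤ T := by rw [hT]; exact le_inf hQP Subgroup.le_normalizer
    have hT1 : T ≠ ⊥ := by
      intro h
      apply hQ1
      rw [eq_bot_iff, ← h]; exact hQT
    have hQp : IsPGroup p Q := P.isPGroup'.to_le hQP
    have hTp : IsPGroup p T := P.isPGroup'.to_le hTP
    obtain ⟨x₀, hx₀P, hx₀T, hx₀N⟩ := exists_normalizing_of_lt (P : Subgroup G) T P.isPGroup' hTltP
    have hIH : ∀ Q' : Subgroup G, Q' ≤ P → Q' ≠ ⊥ →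
        (∃ T₁ : Subgroup G, Nat.card T < Nat.card T₁ ∧ T₁ ≤ P ∧
          T₁ ≤ Subgroup.normalizer (Q' : Set G)) →
        Subgroup.normalizer (Q' : Set G) ≤ M := by
      rintro Q' hQ'P hQ'1 ⟨T₁, hlt, hT₁P, hT₁N⟩
      apply ih Q' hQ'P hQ'1
      have h2 : Nat.card T₁ ≤
          Nat.card ((P : Subgroup G) ⊓ Subgroup.normalizer (Q' : Set G) : Subgroup G) :=
        Subgroup.card_le_of_le (le_inf hT₁P hT₁N)
      omega
    have hlt₂ : T < T ⊔ Subgroup.zpowers x₀ := by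
      refine lt_of_le_of_ne le_sup_left ?_
      intro h
      apply hx₀T
      rw [h]
      exact (le_sup_right : Subgroup.zpowers x₀ ≤ _) (Subgroup.mem_zpowers x₀)
    have hle₂P : T ⊔ Subgroup.zpowers x₀ ≤ P :=
      sup_le hTP (by rw [Subgroup.zpowers_le]; exact hx₀P)
    have hle₂N : T ⊔ Subgroup.zpowers x₀ ≤ Subgroup.normalizer (T : Set G) :=
      sup_le Subgroup.le_normalizer (by rw [Subgroup.zpowers_le]; exact hx₀N)
    have hNT : Subgroup.normalizer (T : Set G) ≤ M :=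
      hIH T hTP hT1 ⟨_, Cfsg.Agent.Lib.Lead.card_lt_of_lt hlt₂, hle₂P, hle₂N⟩
    have hNZ : Subgroup.normalizer (zjW goodAb T : Set G) ≤ M :=
      hIH (zjW goodAb T) ((zjW_le goodAb goodAb_bot T).trans hTP) (zjW_goodAb_ne_bot T hTp hT1)
        ⟨_, Cfsg.Agent.Lib.Lead.card_lt_of_lt hlt₂, hle₂P,
          hle₂N.trans (normalizer_le_normalizer_zjW goodAb goodAb_equiv T)⟩
    obtain ⟨hO, hc, hs⟩ := hloc Q hQp hQ1
    obtain ⟨R, hR⟩ := (hTp.comap_subtype (K := Subgroup.normalizer (Q : Set G))).exists_le_sylow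
    have hzj := zj_local hp (Subgroup.normalizer (Q : Set G)) hO hc hs R
    obtain ⟨R', hR'⟩ : ∃ R', R' = (R : Subgroup ↥(Subgroup.normalizer (Q : Set G))).map
        (Subgroup.normalizer (Q : Set G)).subtype := ⟨_, rfl⟩
    rw [← hR'] at hzj
    have hTR' : T ≤ R' := by
      intro t ht
      rw [hR']
      exact ⟨⟨t, hTN ht⟩, hR ht, rfl⟩
    have hR'N : R' ≤ Subgroup.normalizer (Q : Set G) := by
      rw [hR']; exact Subgroup.map_subtype_le _
    have hR'p : IsPGroup p R' := by rw [hR']; exact R.isPGroup'.map _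
    by_cases hTR : T = R'
    · rw [← hTR] at hzj
      exact hzj.trans hNZ
    have hlt : T < R' := lt_of_le_of_ne hTR' hTR
    obtain ⟨x, hxR, hxT, hxN⟩ := exists_normalizing_of_lt R' T hR'p hlt
    obtain ⟨T₁, hT₁⟩ : ∃ T₁, T₁ = T ⊔ Subgroup.zpowers x := ⟨_, rfl⟩
    have hTT₁ : T < T₁ := by
      rw [hT₁]
      refine lt_of_le_of_ne le_sup_left ?_
      intro h
      apply hxT
      rw [h]
      exact (le_sup_right : Subgroup.zpowers x ≤ _) (Subgroup.mem_zpowers x)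
    have hT₁R : T₁ ≤ R' := by
      rw [hT₁]; exact sup_le hTR' (by rw [Subgroup.zpowers_le]; exact hxR)
    have hT₁p : IsPGroup p T₁ := hR'p.to_le hT₁R
    have hT₁N : T₁ ≤ Subgroup.normalizer (Q : Set G) := hT₁R.trans hR'N
    have hT₁M : T₁ ≤ M := by
      refine le_trans ?_ hNT
      rw [hT₁]
      exact sup_le Subgroup.le_normalizer (by rw [Subgroup.zpowers_le]; exact hxN)
    have hPM : (P : Subgroup G) ≤ M := by
      rw [hM]; exact le_normalizer_zjW goodAb goodAb_equiv _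
    obtain ⟨m, hm⟩ := Cfsg.Agent.Lib.Lead.exists_conj_into_sylow (P.subtype hPM)
      (T₁.subgroupOf M) hT₁p.comap_subtype
    have hconj : ∀ t ∈ T₁, (m : G) * t * (m : G)⁻¹ ∈ (P : Subgroup G) := by
      intro t ht
      have h1 := hm ⟨t, hT₁M ht⟩ (Subgroup.mem_subgroupOf.mpr ht)
      rw [Sylow.coe_subtype, Subgroup.mem_subgroupOf] at h1
      exact h1
    obtain ⟨Q', hQ'⟩ : ∃ Q', Q' = Q.map (MulAut.conj (m : G)).toMonoidHom := ⟨_, rfl⟩
    have hQ'P : Q' ≤ P := by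
      rw [hQ']
      rintro _ ⟨q, hq, rfl⟩
      exact hconj q (hTT₁.le (hQT hq))
    have hQ'1 : Q' ≠ ⊥ := by
      rw [hQ']
      intro h
      apply hQ1
      exact (Subgroup.map_eq_bot_iff_of_injective _ (MulAut.conj (m : G)).injective).mp h
    have hconjN : ∀ g ∈ Subgroup.normalizer (Q : Set G),
        (m : G) * g * (m : G)⁻¹ ∈ Subgroup.normalizer (Q' : Set G) := by
      intro g hg
      apply Cfsg.Agent.Lib.Helper6.mem_normalizer_of_conj_mem
      rw [hQ']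
      rintro _ ⟨q, hq, rfl⟩
      refine ⟨g * q * g⁻¹, (Subgroup.mem_normalizer_iff.mp hg q).mp hq, ?_⟩
      simp only [MulEquiv.coe_toMonoidHom, MulAut.conj_apply]
      group
    have hNQ' : Subgroup.normalizer (Q' : Set G) ≤ M := by
      apply hIH Q' hQ'P hQ'1
      refine ⟨T₁.map (MulAut.conj (m : G)).toMonoidHom, ?_, ?_, ?_⟩
      · rw [Subgroup.card_map_of_injective (MulAut.conj (m : G)).injective]
        exact Cfsg.Agent.Lib.Lead.card_lt_of_lt hTT₁
      · rintro _ ⟨t, ht, rfl⟩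
        exact hconj t ht
      · rintro _ ⟨t, ht, rfl⟩
        exact hconjN t (hT₁N ht)
    intro g hg
    have h2 := hNQ' (hconjN g hg)
    have h3 : g = (m : G)⁻¹ * ((m : G) * g * (m : G)⁻¹) * (m : G) := by group
    rw [h3]
    exact M.mul_mem (M.mul_mem (M.inv_mem m.2) h2) m.2

/-- In a group of characteristic p type all of whose p-locals are p-stable (p odd), the normalizer of Z(J(P)) contains the normalizer of every nontrivial subgroup of the Sylow p-subgroup P. -/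
theorem result {G : Type*} [Group G] [Finite G] {p : ℕ} [Fact p.Prime] (hp : p ≠ 2) (hloc : ∀ Q : Subgroup G, IsPGroup p Q → Q ≠ ⊥ → Cfsg.pPrimeCore p ↥(Subgroup.normalizer (Q : Set G)) = ⊥ ∧ Cfsg.IsPConstrained p ↥(Subgroup.normalizer (Q : Set G)) ∧ Cfsg.IsPStable p ↥(Subgroup.normalizer (Q : Set G))) (P : Sylow p G) (Q : Subgroup G) (hQP : Q ≤ (P : Subgroup G)) (hQ1 : Q ≠ ⊥) : Subgroup.normalizer (Q : Set G) ≤ Subgroup.normalizer (Cfsg.centerThompsonAOf ((P : Subgroup G)) : Set G) := by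
  rw [Cfsg.Agent.S0653.centerThompsonAOf_eq_zjW]
  exact main hp hloc P (Nat.card (P : Subgroup G)) Q hQP hQ1 (Nat.le_add_left _ _)

end Cfsg.Agent.S0658
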