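import Cfsg.Statements.S0661
import Cfsg.Agent.Lib.Helper2.Comp21

set_option autoImplicit false
open Cfsg

namespace Cfsg.Agent.S0661

open Cfsg.Agent.Lib.Helper2.Comp in
theorem result {G : Type*} [Group G] [Finite G] {p : ℕ} [Fact p.Prime] (hc : Subgroup.centralizer (Cfsg.pCore p (G ⧸ Cfsg.pPrimeCore p G) : Set (G ⧸ Cfsg.pPrimeCore p G)) ≤ Cfsg.pCore p (G ⧸ Cfsg.pPrimeCore p G)) (P : Subgroup G) (hP : IsPGroup p P) : (Cfsg.pPrimeCore p ↥(Subgroup.normalizer (P : Set G))).map (Subgroup.normalizer (P : Set G)).subtype = Cfsg.pPrimeCore p G ⊓ Subgroup.normalizer (P : Set G) := by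
  have hX : pLayer p G = ⊥ := (isPConstrained_iff_pLayer p).mp ((isPConstrained_iff p).mpr hc)
  apply le_antisymm
  · exact le_inf (map_pPrimeCore_le_of_local p hX hP le_rfl (Subgroup.centralizer_le_normalizer _)
      (Or.inl Subgroup.le_normalizer)) (Subgroup.map_subtype_le _)
  · apply le_map_pPrimeCore p inf_le_right
    · exact le_normalizer_inf (pPrimeCore_le_normalizer p _) Subgroup.le_normalizer
    · exact Nat.Coprime.coprime_dvd_left (Subgroup.card_dvd_of_le inf_le_left)
        (Cfsg.Agent.Lib.Lead.pPrimeCore_coprime p)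

end Cfsg.Agent.S0661
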