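import Cfsg.Statements.S0861
import Mathlib
import Cfsg.Agent.Lib.Lead.Char4
import Cfsg.Agent.S4955
-- import your own Cfsg.Agent.* helpers here

set_option autoImplicit false
open Cfsg

namespace Cfsg.Agent.S0861

/-- Let P be a normal abelian Sylow p-subgroup of the finite group G and suppose some element g of P has centralizer exactly P. Then the number of irreducible characters of G is at most the order of P, and if equality holds then G / P is abelian (the commutator subgroup lies in P). -/
theorem result {G : Type*} [Group G] [Finite G] (p : ℕ) [Fact p.Prime] (P : Sylow p G) [(P : Subgroup G).Normal] (hab : ∀ a ∈ P, ∀ b ∈ P, a * b = b * a) (g : G) (hg : g ∈ P) (hC : Subgroup.centralizer ({g} : Set G) = P) : Nat.card (Cfsg.IrrCharacter G) ≤ Nat.card P ∧ (Nat.card (Cfsg.IrrCharacter G) = Nat.card P → commutator G ≤ P) := by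
  classical
  open scoped commutatorElement in
  have hcop : Nat.Coprime (Nat.card (P : Subgroup G)) (P : Subgroup G).index := P.card_coprime_index
  obtain ⟨H, hH⟩ := Subgroup.exists_right_complement'_of_coprime hcop
  have hidx : ¬ p ∣ (P : Subgroup G).index := P.not_dvd_index
  have hVp : IsPGroup p (P : Subgroup G) := P.isPGroup'
  have key := Cfsg.Agent.S4955.result p (P : Subgroup G) hVp hidx hab H hH g hg
  have hbot : H ⊓ Subgroup.centralizer ({g} : Set G) = ⊥ := by
    rw [hC]
    exact disjoint_iff.1 hH.disjoint.symm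
  rw [hbot, Subgroup.card_bot, one_mul] at key
  have hkH : Nat.card (ConjClasses H) ≤ Nat.card H :=
    Nat.card_le_card_of_surjective _ (ConjClasses.mk_surjective)
  rw [Lib.Lead.card_irr]
  refine ⟨by omega, fun heq => ?_⟩
  have heqH : Nat.card (ConjClasses H) = Nat.card H := by omega
  have hbij : Function.Bijective (ConjClasses.mk : H → ConjClasses H) := by
    rw [Nat.bijective_iff_surjective_and_card]
    exact ⟨ConjClasses.mk_surjective, heqH.symm⟩
  have hcomm : ∀ a b : H, a * b = b * a := by
    intro a b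
    have h1 : ConjClasses.mk (a * b * a⁻¹) = ConjClasses.mk b := by
      rw [ConjClasses.mk_eq_mk_iff_isConj]
      exact (isConj_iff.2 ⟨a, rfl⟩).symm
    have h2 := hbij.1 h1
    calc a * b = a * b * a⁻¹ * a := by group
      _ = b * a := by rw [h2]
  rw [commutator_def, Subgroup.commutator_le]
  intro x _ y _
  obtain ⟨⟨a, b⟩, hx⟩ := hH.2 x
  obtain ⟨⟨c, d⟩, hy⟩ := hH.2 y
  simp only at hx hy
  have hbd : (b : G) * d = d * b := by
    have := hcomm b d
    exact_mod_cast congrArg Subtype.val this
  have hmem : ∀ z : G, z ∈ (P : Subgroup G) ↔ (QuotientGroup.mk z : G ⧸ (P : Subgroup G)) = 1 := fun z =>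
    (QuotientGroup.eq_one_iff z).symm
  show ⁅x, y⁆ ∈ (P : Subgroup G)
  rw [hmem, ← hx, ← hy, commutatorElement_def]
  have ha : (QuotientGroup.mk (a : G) : G ⧸ (P : Subgroup G)) = 1 := (hmem _).1 a.2
  have hc : (QuotientGroup.mk (c : G) : G ⧸ (P : Subgroup G)) = 1 := (hmem _).1 c.2
  simp only [QuotientGroup.mk_mul, QuotientGroup.mk_inv, ha, hc, one_mul]
  rw [← QuotientGroup.mk_mul, hbd, QuotientGroup.mk_mul]
  group

end Cfsg.Agent.S0861
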