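import Mathlib
import Cfsg.Statements.S0994

set_option autoImplicit false
open Cfsg

namespace Cfsg.Agent.S0994

theorem arith (r m c c' : ℕ) (h1 : r * m = c) (h2 : c * (11 * c') = 1188) (hr : r ∣ 10)
    (hm : m % 11 = 1) : m = 1 ∨ r = 1 := by
  have h3 : c * c' = 108 := by
    have : 11 * (c * c') = 11 * 108 := by
      have e : 11 * (c * c') = c * (11 * c') := by ring
      rw [e, h2]
    exact Nat.eq_of_mul_eq_mul_left (by norm_num) this
  have hc : c ∣ 108 := ⟨c', h3.symm⟩
  have hmc : m ∣ c := ⟨r, by rw [← h1]; ring⟩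
  have hrc : r ∣ c := ⟨m, h1.symm⟩
  have hm108 : m ∣ 108 := hmc.trans hc
  have hmem : m ∈ Nat.divisors 108 := by simp [hm108]
  have hdec : ∀ x ∈ Nat.divisors 108, x % 11 = 1 → x = 1 ∨ x = 12 := by decide
  have hm' : m = 1 ∨ m = 12 := hdec m hmem hm
  rcases hm' with hm1 | hm12
  · left; exact hm1
  · right
    subst hm12
    have h4 : r * c' = 9 := by
      have : 12 * (r * c') = 12 * 9 := by
        rw [← h1] at h3
        have e : 12 * (r * c') = r * 12 * c' := by ring
        rw [e, h3]
      exact Nat.eq_of_mul_eq_mul_left (by norm_num) this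
    have hr9 : r ∣ 9 := ⟨c', h4.symm⟩
    have hr1 : r ∣ Nat.gcd 10 9 := Nat.dvd_gcd hr hr9
    have : Nat.gcd 10 9 = 1 := by norm_num
    rw [this] at hr1
    exact Nat.dvd_one.mp hr1

/-- No finite simple group has order 1188 = 2^2 * 3^3 * 11. -/
theorem result {G : Type*} [Group G] [Finite G] [IsSimpleGroup G] : Nat.card G ≠ 1188 := by
  intro hG
  have : Fact (Nat.Prime 11) := ⟨by norm_num⟩
  obtain ⟨P⟩ : Nonempty (Sylow 11 G) := inferInstance
  have hP11 : Nat.card P = 11 := by
    obtain ⟨k, hk⟩ := (IsPGroup.iff_card.mp P.isPGroup')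
    have h1 : 11 ∣ Nat.card P := P.dvd_card_of_dvd_card (by rw [hG]; norm_num)
    have h2 : Nat.card P ∣ Nat.card G := Subgroup.card_subgroup_dvd_card _
    rw [hk] at h1 h2 ⊢
    rw [hG] at h2
    have hk1 : k ≠ 0 := by
      rintro rfl
      norm_num at h1
    have hk2 : k < 2 := by
      by_contra hk2
      push Not at hk2
      have : 11 ^ 2 ∣ 1188 := (pow_dvd_pow 11 hk2).trans h2
      norm_num at this
    interval_cases k
    · exact absurd rfl hk1
    · norm_num
  have hcyc : IsCyclic (P : Subgroup G) := isCyclic_of_prime_card hP11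
  have key := Subgroup.card_dvd_of_injective _
    (QuotientGroup.kerLift_injective (P : Subgroup G).normalizerMonoidHom)
  rw [Subgroup.normalizerMonoidHom_ker, ← Subgroup.index, ← Subgroup.relIndex,
    IsCyclic.card_mulAut, hP11, Nat.totient_prime (by norm_num)] at key
  have hCN : Subgroup.centralizer ((P : Subgroup G) : Set G) ≤
      Subgroup.normalizer ((P : Subgroup G) : Set G) := Subgroup.centralizer_le_normalizer _
  have h7 := Subgroup.relIndex_mul_index hCN
  have h8 := Subgroup.index_mul_card (Subgroup.centralizer ((P : Subgroup G) : Set G))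
  rw [hG] at h8
  have hPC : Nat.card (P : Subgroup G) ∣ Nat.card (Subgroup.centralizer ((P : Subgroup G) : Set G)) :=
    Subgroup.card_dvd_of_le (P : Subgroup G).le_centralizer
  rw [hP11] at hPC
  obtain ⟨c', hc'⟩ := hPC
  rw [hc'] at h8
  have h9 : Nat.card (Sylow 11 G) = (Subgroup.normalizer ((P : Subgroup G) : Set G)).index :=
    Sylow.card_eq_index_normalizer P
  have h10 := card_sylow_modEq_one 11 G
  rw [h9] at h10
  have h11 : (Subgroup.normalizer ((P : Subgroup G) : Set G)).index % 11 = 1 := h10
  rcases arith _ _ _ _ h7 h8 key h11 with hm | hr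
  · -- P is normal
    have hN : Subgroup.normalizer ((P : Subgroup G) : Set G) = ⊤ := Subgroup.index_eq_one.mp hm
    have hPn : (P : Subgroup G).Normal := Subgroup.normalizer_eq_top_iff.mp hN
    rcases hPn.eq_bot_or_eq_top with h | h
    · rw [h, Subgroup.card_bot] at hP11; norm_num at hP11
    · rw [h, Subgroup.card_top, hG] at hP11; norm_num at hP11
  · have hNC : Subgroup.normalizer ((P : Subgroup G) : Set G) ≤
        Subgroup.centralizer ((P : Subgroup G) : Set G) := Subgroup.relIndex_eq_one.mp hr
    have hcompl := MonoidHom.ker_transferSylow_isComplement' P hNC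
    have hcard := hcompl.card_mul_card
    rw [hP11, hG] at hcard
    rcases (MonoidHom.normal_ker (MonoidHom.transferSylow P hNC)).eq_bot_or_eq_top with h | h
    · rw [h, Subgroup.card_bot] at hcard; norm_num at hcard
    · rw [h, Subgroup.card_top, hG] at hcard; norm_num at hcard

end Cfsg.Agent.S0994
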