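import Cfsg.Statements.S1246
import Cfsg.Agent.Lib.Helper2.Comp23

set_option autoImplicit false
open Cfsg

namespace Cfsg.Agent.S1246

open Cfsg.Agent.Lib.Helper2.Comp in
theorem result {G : Type*} [Group G] [Finite G] {p : ℕ} [Fact p.Prime] (U V : Subgroup G) (hVU : V ≤ U) (hU : IsPGroup p U) (hV : IsPGroup p ↥(Cfsg.generalizedFittingSubgroup ↥(Subgroup.centralizer (V : Set G)))) : IsPGroup p ↥(Cfsg.generalizedFittingSubgroup ↥(Subgroup.centralizer (U : Set G))) := by
  rw [gfs_isPGroup_iff] at hV ⊢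
  exact gfs_centralizer_of_le p (Nat.card U) V U hVU hU (Nat.le_add_left _ _) hV

end Cfsg.Agent.S1246
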