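import Cfsg.Statements.S1249
import Mathlib

set_option autoImplicit false
open Cfsg

namespace Cfsg.Agent.S1249

open Pointwise in
theorem mem_smul_sylow {G : Type*} [Group G] {p : ℕ} (P : Sylow p G) (h x : G) :
    x ∈ ((h • P : Sylow p G) : Subgroup G) ↔ h⁻¹ * x * h ∈ (P : Subgroup G) := by
  rw [Sylow.coe_subgroup_smul, Subgroup.mem_pointwise_smul_iff_inv_smul_mem]
  simp [MulAut.smul_def]

/-- Let P and Q be Sylow p-subgroups of the finite group G both containing the subgroup A. If A is strongly closed in P, then A is strongly closed in Q. -/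
theorem result {G : Type*} [Group G] [Finite G] {p : ℕ} [Fact p.Prime] (P Q : Sylow p G) (A : Subgroup G) (hAQ : A ≤ Q) (hA : Cfsg.IsStronglyClosed A (P : Subgroup G)) : Cfsg.IsStronglyClosed A (Q : Subgroup G) := by
  obtain ⟨h, rfl⟩ := MulAction.exists_smul_eq G P Q
  obtain ⟨hAP, hcl⟩ := hA
  refine ⟨hAQ, ?_⟩
  -- conjugation by h⁻¹ maps A into A
  have key : ∀ a ∈ A, h⁻¹ * a * h ∈ A := by
    intro a ha
    have h1 : h⁻¹ * a * h ∈ (P : Subgroup G) := (mem_smul_sylow P h a).1 (hAQ ha)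
    have h2 := hcl a ha h⁻¹
    simp only [inv_inv] at h2
    exact h2 h1
  let φ : A → A := fun a => ⟨h⁻¹ * a * h, key a a.2⟩
  have hinj : Function.Injective φ := by
    intro a b hab
    have : h⁻¹ * (a : G) * h = h⁻¹ * (b : G) * h := congrArg Subtype.val hab
    apply Subtype.ext
    simpa using this
  have hsurj : Function.Surjective φ := Finite.injective_iff_surjective.1 hinj
  intro x hx g hg
  have h1 : h⁻¹ * (g * x * g⁻¹) * h ∈ (P : Subgroup G) := (mem_smul_sylow P h _).1 hg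
  have h2 := hcl x hx (h⁻¹ * g)
  have e : h⁻¹ * g * x * (h⁻¹ * g)⁻¹ = h⁻¹ * (g * x * g⁻¹) * h := by group
  rw [e] at h2
  have h3 := h2 h1
  obtain ⟨a, ha⟩ := hsurj ⟨_, h3⟩
  have h4 : h⁻¹ * (a : G) * h = h⁻¹ * (g * x * g⁻¹) * h := congrArg Subtype.val ha
  have h5 : (a : G) = g * x * g⁻¹ := by simpa using h4
  rw [← h5]
  exact a.2

end Cfsg.Agent.S1249
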