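import Cfsg.Statements.S1250
import Cfsg.Agent.Lib.Helper2.Fusion

set_option autoImplicit false
open Cfsg

namespace Cfsg.Agent.S1250

open Cfsg.Agent.Lib.Helper2 in
/-- Let S be a Sylow p-subgroup of the finite group G, A ≤ S strongly closed in S, and N a normal subgroup. Then the image of A in G ⧸ N is strongly closed in the image of S (which is a Sylow p-subgroup of G ⧸ N). -/
theorem result {G : Type*} [Group G] [Finite G] {p : ℕ} [Fact p.Prime] (S : Sylow p G) (A : Subgroup G) (hA : Cfsg.IsStronglyClosed A (S : Subgroup G)) (N : Subgroup G) [N.Normal] : Cfsg.IsStronglyClosed (A.map (QuotientGroup.mk' N)) ((S : Subgroup G).map (QuotientGroup.mk' N)) := by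
  obtain ⟨hAS, hcl⟩ := hA
  refine ⟨Subgroup.map_mono hAS, ?_⟩
  rintro _ ⟨a, ha, rfl⟩ gbar hg
  obtain ⟨g, rfl⟩ := QuotientGroup.mk'_surjective N gbar
  have hAp : IsPGroup p A := S.isPGroup'.to_le hAS
  set y := g * a * g⁻¹ with hy
  have hyK : y ∈ (S : Subgroup G) ⊔ N := by
    obtain ⟨s, hs, hsy⟩ := hg
    have h1 : QuotientGroup.mk' N s = QuotientGroup.mk' N y := by
      rw [hsy, hy]; simp
    have h2 : s⁻¹ * y ∈ N := by
      have := QuotientGroup.eq.1 (show (s : G ⧸ N) = (y : G ⧸ N) from h1)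
      exact this
    have : y = s * (s⁻¹ * y) := by group
    rw [this]
    exact Subgroup.mul_mem _ (Subgroup.mem_sup_left hs) (Subgroup.mem_sup_right h2)
  set K : Subgroup G := (S : Subgroup G) ⊔ N with hK
  -- the conjugate of A by g, inside K, is a p-group
  have hp2 : IsPGroup p ((A.map (MulAut.conj g).toMonoidHom).subgroupOf K) :=
    (isPGroup_map_conj A g hAp).comap_subtype
  obtain ⟨R, hR⟩ := hp2.exists_le_sylow
  have hSK : (S : Subgroup G) ≤ K := le_sup_left
  obtain ⟨k, hk⟩ := MulAction.exists_smul_eq K (S.subtype hSK) R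
  have hyR : (⟨y, hyK⟩ : K) ∈ (R : Subgroup K) := by
    apply hR
    rw [Subgroup.mem_subgroupOf]
    exact conj_mem_map_conj A g a ha
  rw [← hk, mem_smul_sylow, Sylow.coe_subtype, Subgroup.mem_subgroupOf] at hyR
  have hyS : (k : G)⁻¹ * y * k ∈ (S : Subgroup G) := by
    have e0 : (k : G)⁻¹ * y * k = ((k⁻¹ * (⟨y, hyK⟩ : K) * k : K) : G) := by simp
    rw [e0]
    exact hyR
  -- strong closure
  have h3 := hcl a ha ((k : G)⁻¹ * g)
  have e : (k : G)⁻¹ * g * a * ((k : G)⁻¹ * g)⁻¹ = (k : G)⁻¹ * y * k := by rw [hy]; group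
  rw [e] at h3
  have ha' : (k : G)⁻¹ * y * k ∈ A := h3 hyS
  -- π k = π s' for some s' ∈ S
  have hk' : QuotientGroup.mk' N (k : G) ∈ (S : Subgroup G).map (QuotientGroup.mk' N) := by
    have : QuotientGroup.mk' N (k : G) ∈ ((S : Subgroup G) ⊔ N).map (QuotientGroup.mk' N) :=
      Subgroup.mem_map_of_mem _ k.2
    rw [Subgroup.map_sup, QuotientGroup.map_mk'_self, sup_bot_eq] at this
    exact this
  obtain ⟨s', hs', hsk⟩ := hk'
  -- s' a' s'⁻¹ ∈ A
  have h4 := hcl _ ha' s'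
  have h5 : s' * ((k : G)⁻¹ * y * k) * s'⁻¹ ∈ A :=
    h4 (Subgroup.mul_mem _ (Subgroup.mul_mem _ hs' (hAS ha')) (Subgroup.inv_mem _ hs'))
  refine ⟨s' * ((k : G)⁻¹ * y * k) * s'⁻¹, h5, ?_⟩
  simp only [map_mul, map_inv, hsk]
  rw [hy]
  simp only [map_mul, map_inv]
  group

end Cfsg.Agent.S1250
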