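import Cfsg.Statements.S1292
import Cfsg.Agent.Lib.Helper2.Comp12

set_option autoImplicit false
open Cfsg

namespace Cfsg.Agent.S1292

open Cfsg.Agent.Lib.Helper2.Comp

theorem result {G : Type*} [Group G] [Finite G] (h : ∀ t : G, orderOf t = 2 → Cfsg.generalizedFittingSubgroup ↥(Subgroup.centralizer ({t} : Set G)) = Cfsg.pCore 2 ↥(Subgroup.centralizer ({t} : Set G))) (T : Subgroup G) (hT : IsPGroup 2 ↥T) (hT1 : T ≠ ⊥) : Cfsg.generalizedFittingSubgroup ↥(Subgroup.normalizer (T : Set G)) = Cfsg.pCore 2 ↥(Subgroup.normalizer (T : Set G)) := by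
  have : Fact (Nat.Prime 2) := ⟨Nat.prime_two⟩
  obtain ⟨t, htT, ht, htc⟩ := exists_central_of_pgroup 2 hT hT1
  have hTC : T ≤ Subgroup.centralizer ({t} : Set G) := by
    intro x hx
    rw [Subgroup.mem_centralizer_iff]
    intro y hy
    rw [Set.mem_singleton_iff] at hy
    rw [hy]
    exact (htc x hx).symm
  have hCT : Subgroup.centralizer (T : Set G) ≤ Subgroup.centralizer ({t} : Set G) :=
    Subgroup.centralizer_le (Set.singleton_subset_iff.mpr htT)
  exact gfs_eq_pCore_of_local 2 hT hTC hCT Subgroup.le_normalizer le_rfl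
    (Subgroup.centralizer_le_normalizer _) (h t ht)

end Cfsg.Agent.S1292
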