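import Cfsg.Statements.S1302
import Cfsg.Agent.Lib.Helper2.PQOdd
import Cfsg.Agent.Lib.Helper2.Comp22

set_option autoImplicit false
open Cfsg

namespace Cfsg.Agent.S1302

open Cfsg.Agent.Lib.Helper2.Comp in
theorem result {X : Type*} [Group X] [Finite X] (p : ℕ) [Fact p.Prime] (hp : p ≠ 2) (hX : Cfsg.IsPConstrained p X) (A : Subgroup X) (hA : IsMulCommutative ↥A) (hAp : IsPGroup p ↥A) (hΩ : ∀ x ∈ Subgroup.centralizer (A : Set X), orderOf x = p → x ∈ A) (Q : Subgroup X) (hQ : ¬ p ∣ Nat.card ↥Q) (hAQ : A ≤ Subgroup.normalizer (Q : Set X)) : Q ≤ Cfsg.pPrimeCore p X := by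
  have hpp : p.Prime := Fact.out
  have hQc : (Nat.card ↥Q).Coprime p := ((Nat.Prime.coprime_iff_not_dvd hpp).mpr hQ).symm
  obtain ⟨π, hπ⟩ : ∃ π : X →* X ⧸ pPrimeCore p X, π = QuotientGroup.mk' (pPrimeCore p X) := ⟨_, rfl⟩
  have hX' := (isPConstrained_iff p).mp hX
  obtain ⟨Pb, hPb⟩ : ∃ Pb, Pb = pCore p (X ⧸ pPrimeCore p X) := ⟨_, rfl⟩
  rw [← hPb] at hX'
  have hPbn : Pb.Normal := by rw [hPb]; exact Cfsg.Agent.Lib.Lead.pCore_normal p _
  have hPbp : IsPGroup p Pb := by rw [hPb]; exact Cfsg.Agent.Lib.Lead.pCore_isPGroup' p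
  have hAb : IsPGroup p (A.map π) := hAp.map π
  have hQb : (Nat.card (Q.map π)).Coprime p :=
    Nat.Coprime.coprime_dvd_left (Subgroup.card_map_dvd Q π) hQc
  have hAQb : A.map π ≤ Subgroup.normalizer ((Q.map π : Subgroup _) : Set _) :=
    (Subgroup.map_mono hAQ).trans (Subgroup.le_normalizer_map π)
  have hnormP : ∀ H : Subgroup (X ⧸ pPrimeCore p X), H ≤ Subgroup.normalizer (Pb : Set _) := by
    intro H
    have h0 : Subgroup.normalizer (Pb : Set (X ⧸ pPrimeCore p X)) = ⊤ :=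
      Subgroup.normalizer_eq_top_iff.mpr hPbn
    rw [h0]
    exact le_top
  have hcop1 : ∀ c ∈ Pb, c ∈ Q.map π → c = 1 := by
    intro c hcP hcQ
    apply eq_one_of_mem_pGroup_of_coprime p hPbp hcP
    exact Nat.Coprime.coprime_dvd_left (Subgroup.orderOf_dvd_natCard _ hcQ) hQb
  have hC : ∀ x ∈ Pb, x ∈ Subgroup.centralizer ((A.map π : Subgroup _) : Set _) → x ^ p = 1 →
      x ∈ Subgroup.centralizer ((Q.map π : Subgroup _) : Set _) := by
    intro xb hxP hxA hxp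
    by_cases hx1 : xb = 1
    · rw [hx1]; exact Subgroup.one_mem _
    have hxA' : xb ∈ A.map π := by
      have hsurj : Function.Surjective π := by rw [hπ]; exact QuotientGroup.mk'_surjective _
      obtain ⟨r, rfl⟩ := hsurj xb
      have hr : QuotientGroup.mk' (pPrimeCore p X) r ∈ Subgroup.centralizer
          ((A.map (QuotientGroup.mk' (pPrimeCore p X)) : Subgroup _) : Set _) := by
        rw [← hπ]; exact hxA
      obtain ⟨d, hd, hyd⟩ := exists_mul_mem_centralizer p hAp hr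
      obtain ⟨y, hy⟩ : ∃ y, y = r * d := ⟨_, rfl⟩
      rw [← hy] at hyd
      have hπd : π d = 1 := by rw [hπ]; exact mk_eq_one_of_mem p hd
      have hπy : π y = π r := by rw [hy, map_mul, hπd, mul_one]
      have hyp : y ^ p ∈ pPrimeCore p X := by
        apply mem_of_mk_eq_one p
        rw [← hπ, map_pow, hπy]
        exact hxp
      obtain ⟨m, hm⟩ : ∃ m, m = orderOf (y ^ p) := ⟨_, rfl⟩
      have hmc : m.Coprime p := by
        rw [hm]
        exact Nat.Coprime.coprime_dvd_left (Subgroup.orderOf_dvd_natCard _ hyp)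
          (Cfsg.Agent.Lib.Lead.pPrimeCore_coprime p)
      obtain ⟨t, -, ht⟩ := Nat.exists_mul_mod_eq_one_of_coprime hmc hpp.one_lt
      obtain ⟨y', hy'⟩ : ∃ y', y' = y ^ (m * t) := ⟨_, rfl⟩
      have hy'p : y' ^ p = 1 := by
        rw [hy', ← pow_mul, mul_comm, pow_mul, pow_mul, hm, pow_orderOf_eq_one, one_pow]
      have hπy' : π y' = π r := by
        rw [hy', map_pow, hπy, pow_eq_pow_mod (m * t) hxp, ht, pow_one]
      have hy'1 : y' ≠ 1 := by
        intro h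
        rw [h, map_one] at hπy'
        exact hx1 hπy'.symm
      have hy'o : orderOf y' = p := orderOf_eq_prime hy'p hy'1
      have hy'c : y' ∈ Subgroup.centralizer (A : Set X) := by
        rw [hy']; exact Subgroup.pow_mem _ hyd _
      rw [← hπy']
      exact Subgroup.mem_map_of_mem π (hΩ y' hy'c hy'o)
    rw [Subgroup.mem_centralizer_iff]
    intro qb hqb
    have h1 : xb * qb * xb⁻¹ ∈ Q.map π := (Subgroup.mem_normalizer_iff.mp (hAQb hxA') qb).mp hqb
    have h2 : xb * qb * xb⁻¹ * qb⁻¹ ∈ Q.map π := Subgroup.mul_mem _ h1 (Subgroup.inv_mem _ hqb)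
    have h3 : qb * xb⁻¹ * qb⁻¹ ∈ Pb := hPbn.conj_mem _ (Pb.inv_mem hxP) qb
    have h4 : xb * qb * xb⁻¹ * qb⁻¹ ∈ Pb := by
      have h5 := Pb.mul_mem hxP h3
      have e : xb * (qb * xb⁻¹ * qb⁻¹) = xb * qb * xb⁻¹ * qb⁻¹ := by group
      rw [e] at h5
      exact h5
    have h6 := hcop1 _ h4 h2
    calc qb * xb = (xb * qb * xb⁻¹ * qb⁻¹)⁻¹ * (xb * qb) := by group
      _ = xb * qb := by rw [h6, inv_one, one_mul]
  have hfin := Cfsg.Agent.Lib.Helper2.PQ.pq_odd_le p hp (A.map π) (Q.map π) Pb hAb hQb hAQb hPbp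
    (hnormP _) (hnormP _) hC
  intro q hq
  apply mem_of_mk_eq_one p
  rw [← hπ]
  have hq' : π q ∈ Q.map π := Subgroup.mem_map_of_mem π hq
  exact hcop1 _ (hX' (hfin hq')) hq'

end Cfsg.Agent.S1302
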