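import Cfsg.Statements.S1907
import Mathlib
import Cfsg.Agent.Lib.Helper3.PPrimeP

set_option autoImplicit false
open Cfsg

namespace Cfsg.Agent.S1907

/-- Let P be a Sylow p-subgroup of a finite group G, H = P ∩ O_{p',p}(G), N = N_G(H) and D = O_{p'}(G). (a) If y is an element of p-power order of N and d ∈ D with d⁻¹ y d ∈ N, then d = d₁ d₂ with d₁ ∈ C_D(y) and d₂ ∈ C_D(H). (b) Two elements of P that are conjugate in G are conjugate in N. -/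
theorem result {G : Type*} [Group G] [Finite G] {p : ℕ} [Fact p.Prime] (P : Sylow p G) :
    (∀ y ∈ Subgroup.normalizer (((P : Subgroup G) ⊓ Cfsg.pPrimePCore p G : Subgroup G) : Set G), (∃ k : ℕ, orderOf y = p ^ k) →
      ∀ d ∈ Cfsg.pPrimeCore p G, d⁻¹ * y * d ∈ Subgroup.normalizer (((P : Subgroup G) ⊓ Cfsg.pPrimePCore p G : Subgroup G) : Set G) →
        ∃ d₁ ∈ Cfsg.pPrimeCore p G ⊓ Subgroup.centralizer ({y} : Set G),
          ∃ d₂ ∈ Cfsg.pPrimeCore p G ⊓ Subgroup.centralizer (((P : Subgroup G) ⊓ Cfsg.pPrimePCore p G : Subgroup G) : Set G), d = d₁ * d₂) ∧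
    ∀ x y : G, x ∈ (P : Subgroup G) → y ∈ (P : Subgroup G) → IsConj x y →
      ∃ n ∈ Subgroup.normalizer (((P : Subgroup G) ⊓ Cfsg.pPrimePCore p G : Subgroup G) : Set G), n * x * n⁻¹ = y := by
  have hKn : (Cfsg.pPrimeCore p G).Normal := Cfsg.Agent.Lib.Lead.pPrimeCore_normal p G
  have hKc : (Nat.card (Cfsg.pPrimeCore p G)).Coprime p := Cfsg.Agent.Lib.Lead.pPrimeCore_coprime p
  have hRp : IsPGroup p (((P : Subgroup G) ⊓ Cfsg.pPrimePCore p G : Subgroup G)) :=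
    P.isPGroup'.to_le inf_le_left
  have hA : ∀ y ∈ Subgroup.normalizer (((P : Subgroup G) ⊓ Cfsg.pPrimePCore p G : Subgroup G) : Set G), (∃ k : ℕ, orderOf y = p ^ k) →
      ∀ d ∈ Cfsg.pPrimeCore p G, d⁻¹ * y * d ∈ Subgroup.normalizer (((P : Subgroup G) ⊓ Cfsg.pPrimePCore p G : Subgroup G) : Set G) →
        ∃ d₁ ∈ Cfsg.pPrimeCore p G ⊓ Subgroup.centralizer ({y} : Set G),
          ∃ d₂ ∈ Cfsg.pPrimeCore p G ⊓ Subgroup.centralizer (((P : Subgroup G) ⊓ Cfsg.pPrimePCore p G : Subgroup G) : Set G), d = d₁ * d₂ :=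
    fun y hy hyp d hd hy' =>
      Cfsg.Agent.Lib.Helper3.coprime_conj_split (Cfsg.pPrimeCore p G) _ hKc hRp y hy hyp d hd hy'
  refine ⟨hA, ?_⟩
  intro x y hx hy hxy
  obtain ⟨g, hg⟩ := isConj_iff.mp hxy
  have hLn := Cfsg.Agent.Lib.Helper3.pPrimePCore_normal' p G
  -- elements of `P` normalize `P ⊓ L`
  have hPN : ∀ z ∈ (P : Subgroup G),
      z ∈ Subgroup.normalizer (((P : Subgroup G) ⊓ Cfsg.pPrimePCore p G : Subgroup G) : Set G) := by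
    intro z hz
    apply Cfsg.Agent.Lib.Helper3.mem_normalizer_of_forall_conj_mem
    intro a ha
    exact ⟨Subgroup.mul_mem _ (Subgroup.mul_mem _ hz ha.1) (Subgroup.inv_mem _ hz),
      hLn.conj_mem _ ha.2 z⟩
  obtain ⟨k, hk, n, hn, rfl⟩ := Cfsg.Agent.Lib.Helper3.pPrimePCore_frattini P g
  have hyp : ∃ j : ℕ, orderOf y = p ^ j := by
    obtain ⟨j, hj⟩ := (IsPGroup.iff_orderOf.mp P.isPGroup') ⟨y, hy⟩
    exact ⟨j, by rw [← hj, Subgroup.orderOf_mk]⟩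
  have hx' : k⁻¹ * y * k ∈ Subgroup.normalizer (((P : Subgroup G) ⊓ Cfsg.pPrimePCore p G : Subgroup G) : Set G) := by
    have e : k⁻¹ * y * k = n * x * n⁻¹ := by rw [← hg]; group
    rw [e]
    exact Subgroup.mul_mem _ (Subgroup.mul_mem _ hn (hPN x hx)) (Subgroup.inv_mem _ hn)
  obtain ⟨d₁, hd₁, d₂, hd₂, hkd⟩ := hA y (hPN y hy) hyp k hk hx'
  have hd₁y : y * d₁ = d₁ * y := (Subgroup.mem_centralizer_iff.mp hd₁.2) y rfl
  refine ⟨d₂ * n, Subgroup.mul_mem _ (Subgroup.centralizer_le_normalizer _ hd₂.2) hn, ?_⟩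
  have e1 : d₂ * n * x * (d₂ * n)⁻¹ = d₁⁻¹ * (d₁ * d₂ * n * x * (d₁ * d₂ * n)⁻¹) * d₁ := by group
  rw [e1, ← hkd, hg]
  have e2 : d₁⁻¹ * y * d₁ = d₁⁻¹ * (y * d₁) := by group
  rw [e2, hd₁y]; group

end Cfsg.Agent.S1907
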