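import Cfsg.Statements.S1921
import Mathlib
import Cfsg.Agent.Lib.Helper3.ConjFam
import Cfsg.Agent.Lib.Helper2.Comp18
import Cfsg.Agent.Lib.Lead.Coprime

set_option autoImplicit false
open Cfsg

namespace Cfsg.Agent.S1921

open Cfsg.Agent.Lib.Helper2.Comp Cfsg.Agent.Lib.Helper3 Cfsg.Agent.Lib.Lead in
theorem aux {H : Type*} [Group H] [Finite H] (a : H) (L : Subgroup H) (hL : Cfsg.IsComponent L)
    (hLa : L.map (MulAut.conj a).toMonoidHom ≠ L) (x : H)
    (hxM : x ∈ L ⊔ L.map (MulAut.conj a).toMonoidHom)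
    (hxJ : x ∉ Subgroup.closure {y : H | ∃ l ∈ L, y = l * (a * l * a⁻¹)} ⊔
      ((L ⊔ L.map (MulAut.conj a).toMonoidHom) ⊓
        Subgroup.centralizer ((L ⊔ L.map (MulAut.conj a).toMonoidHom : Subgroup H) : Set H))) :
    Subgroup.closure {y : H | ∃ l ∈ L, y = l * (a * l * a⁻¹)} ⊔ Subgroup.zpowers x =
      L ⊔ L.map (MulAut.conj a).toMonoidHom := by
  obtain ⟨La, hLaeq⟩ : ∃ La, La = L.map (MulAut.conj a).toMonoidHom := ⟨_, rfl⟩
  obtain ⟨J, hJ⟩ : ∃ J, J = Subgroup.closure {y : H | ∃ l ∈ L, y = l * (a * l * a⁻¹)} := ⟨_, rfl⟩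
  rw [← hLaeq] at hLa hxM hxJ ⊢
  rw [← hJ] at hxJ ⊢
  have hLa' : Cfsg.IsComponent La := hLaeq ▸ isComponent_map_conj hL a
  have hc1 : La ≤ Subgroup.centralizer (L : Set H) := components_commute hLa' hL hLa
  have hc2 : L ≤ Subgroup.centralizer (La : Set H) := components_commute hL hLa' (Ne.symm hLa)
  have hconj : ∀ l ∈ L, a * l * a⁻¹ ∈ La := fun l hl => hLaeq ▸ conj_mem_map_conj L a l hl
  have hJmem : ∀ l ∈ L, l * (a * l * a⁻¹) ∈ J := fun l hl =>
    hJ ▸ Subgroup.subset_closure ⟨l, hl, rfl⟩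
  have hJM : J ≤ L ⊔ La := by
    rw [hJ, Subgroup.closure_le]
    rintro _ ⟨l, hl, rfl⟩
    exact Subgroup.mul_mem _ (Subgroup.mem_sup_left hl) (Subgroup.mem_sup_right (hconj l hl))
  apply le_antisymm (sup_le hJM (by rw [Subgroup.zpowers_le]; exact hxM))
  obtain ⟨N, hN⟩ : ∃ N, N = J ⊔ Subgroup.zpowers x := ⟨_, rfl⟩
  rw [← hN]
  have hJN : J ≤ N := hN ▸ le_sup_left
  have hxN : x ∈ N := hN ▸ Subgroup.mem_sup_right (Subgroup.mem_zpowers x)
  obtain ⟨u, hu, v, hv, rfl⟩ := mem_sup_of_le_normalizer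
    (hc1.trans (Subgroup.centralizer_le_normalizer _)) hxM
  have hwN : (a * u * a⁻¹)⁻¹ * v ∈ N := by
    have : (a * u * a⁻¹)⁻¹ * v = (u * (a * u * a⁻¹))⁻¹ * (u * v) := by group
    rw [this]
    exact N.mul_mem (inv_mem (hJN (hJmem u hu))) hxN
  have hwLa : (a * u * a⁻¹)⁻¹ * v ∈ La := La.mul_mem (inv_mem (hconj u hu)) hv
  have hn : La ≤ Subgroup.normalizer ((N ⊓ La : Subgroup H) : Set H) := by
    intro b hb
    apply mem_normalizer_of_forall_conj_mem
    intro d hd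
    obtain ⟨hdN, hdLa⟩ := Subgroup.mem_inf.mp hd
    have hbd : b * d * b⁻¹ ∈ La := La.mul_mem (La.mul_mem hb hdLa) (inv_mem hb)
    refine Subgroup.mem_inf.mpr ⟨?_, hbd⟩
    have hb' : b ∈ L.map (MulAut.conj a).toMonoidHom := hLaeq ▸ hb
    obtain ⟨l, hl, hlb⟩ := hb'
    have hlb' : a * l * a⁻¹ = b := hlb
    have hcl : l * (b * d * b⁻¹) = (b * d * b⁻¹) * l :=
      (Subgroup.mem_centralizer_iff.mp (hc2 hl) _ hbd).symm
    have e : b * d * b⁻¹ = (l * b) * d * (l * b)⁻¹ := by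
      calc b * d * b⁻¹ = (l * (b * d * b⁻¹)) * l⁻¹ := by rw [hcl]; group
        _ = (l * b) * d * (l * b)⁻¹ := by group
    rw [e]
    have hlbJ : l * b ∈ N := by rw [← hlb']; exact hJN (hJmem l hl)
    exact N.mul_mem (N.mul_mem hlbJ hdN) (inv_mem hlbJ)
  rcases normal_sub hLa'.2 (inf_le_right : N ⊓ La ≤ La) hn with h | h
  · have hLaN : La ≤ N := by rw [← h]; exact inf_le_left
    refine sup_le ?_ hLaN
    intro l hl
    have : l = (l * (a * l * a⁻¹)) * (a * l * a⁻¹)⁻¹ := by group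
    rw [this]
    exact N.mul_mem (hJN (hJmem l hl)) (inv_mem (hLaN (hconj l hl)))
  · exfalso
    apply hxJ
    have hw1 : (a * u * a⁻¹)⁻¹ * v ∈ Subgroup.centralizer (La : Set H) :=
      h (Subgroup.mem_inf.mpr ⟨hwN, hwLa⟩)
    have hw2 : (a * u * a⁻¹)⁻¹ * v ∈ Subgroup.centralizer (L : Set H) := hc1 hwLa
    have hwZ : (a * u * a⁻¹)⁻¹ * v ∈ Subgroup.centralizer ((L ⊔ La : Subgroup H) : Set H) := by
      have h3 : Subgroup.zpowers ((a * u * a⁻¹)⁻¹ * v) ≤
          Subgroup.centralizer ((L ⊔ La : Subgroup H) : Set H) := by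
        rw [Subgroup.le_centralizer_iff]
        apply sup_le
        · rw [← Subgroup.le_centralizer_iff, Subgroup.zpowers_le]; exact hw2
        · rw [← Subgroup.le_centralizer_iff, Subgroup.zpowers_le]; exact hw1
      exact h3 (Subgroup.mem_zpowers _)
    have e : u * v = (u * (a * u * a⁻¹)) * ((a * u * a⁻¹)⁻¹ * v) := by group
    rw [e]
    exact Subgroup.mul_mem _ (Subgroup.mem_sup_left (hJmem u hu))
      (Subgroup.mem_sup_right (Subgroup.mem_inf.mpr ⟨Subgroup.mem_sup_right hwLa, hwZ⟩))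

/-- Let a be an involution of a finite group H and L a component of H with a L a⁻¹ ≠ L; put M = ⟨L, aLa⁻¹⟩ and let J be the subgroup generated by the elements x · a x a⁻¹ with x ∈ L (the diagonal). Then every element of M outside J·Z(M) generates M together with J. -/
theorem result {H : Type*} [Group H] [Finite H] (a : H) (ha : orderOf a = 2) (L : Subgroup H) (hL : Cfsg.IsComponent L)
    (hLa : L.map (MulAut.conj a).toMonoidHom ≠ L) (x : H) (hxM : x ∈ L ⊔ L.map (MulAut.conj a).toMonoidHom)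
    (hxJ : x ∉ Subgroup.closure {y : H | ∃ l ∈ L, y = l * (a * l * a⁻¹)} ⊔
      ((L ⊔ L.map (MulAut.conj a).toMonoidHom) ⊓ Subgroup.centralizer ((L ⊔ L.map (MulAut.conj a).toMonoidHom : Subgroup H) : Set H))) :
    Subgroup.closure {y : H | ∃ l ∈ L, y = l * (a * l * a⁻¹)} ⊔ Subgroup.zpowers x = L ⊔ L.map (MulAut.conj a).toMonoidHom := by
  exact aux a L hL hLa x hxM hxJ

end Cfsg.Agent.S1921
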