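import Cfsg.Statements.S1922
import Mathlib
import Cfsg.Agent.Lib.Helper3.SylowIn

set_option autoImplicit false
open Cfsg

namespace Cfsg.Agent.S1922

section aux
variable {G : Type*} [Group G]

theorem conj_pow_inv' {a r : G} (h : a * r * a⁻¹ = r⁻¹) (i : ℕ) : a * r ^ i * a⁻¹ = (r ^ i)⁻¹ := by
  rw [← conj_pow, h, inv_pow]

theorem isPGroup_zpowers_of_sq {x : G} (h : x * x = 1) : IsPGroup 2 (Subgroup.zpowers x) := by
  have hd : orderOf x ∣ 2 := orderOf_dvd_of_pow_eq_one (by rw [pow_two]; exact h)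
  rcases (Nat.dvd_prime Nat.prime_two).mp hd with h1 | h2
  · exact IsPGroup.of_card (n := 0) (by rw [Nat.card_zpowers, h1, pow_zero])
  · exact IsPGroup.of_card (n := 1) (by rw [Nat.card_zpowers, h2, pow_one])

theorem mem_zpowers_of_sq {s p : G} (hs : s * s = 1) (hp : p ∈ Subgroup.zpowers s) : p = 1 ∨ p = s := by
  obtain ⟨k, rfl⟩ := Subgroup.mem_zpowers_iff.mp hp
  have h2 : s ^ (2 : ℤ) = 1 := by
    have : s ^ (2 : ℤ) = s * s := by
      rw [show (2 : ℤ) = 1 + 1 from rfl, zpow_add, zpow_one]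
    rw [this, hs]
  rcases Int.even_or_odd' k with ⟨i, rfl | rfl⟩
  · left
    rw [zpow_mul, h2, one_zpow]
  · right
    rw [zpow_add, zpow_mul, h2, one_zpow, one_mul, zpow_one]

theorem eq_of_sq_eq_of_odd {x y : G} (hx : Odd (orderOf x)) (hy : Odd (orderOf y))
    (h : x ^ 2 = y ^ 2) : x = y := by
  have hox : orderOf (x ^ 2) = orderOf x :=
    (Nat.Coprime.orderOf_pow (Nat.Coprime.symm (Nat.coprime_two_left.mpr hx)))
  have hoy : orderOf (y ^ 2) = orderOf y :=
    (Nat.Coprime.orderOf_pow (Nat.Coprime.symm (Nat.coprime_two_left.mpr hy)))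
  have hxy : orderOf x = orderOf y := by rw [← hox, ← hoy, h]
  obtain ⟨l, hl⟩ := hx
  have e1 : x = (x ^ 2) ^ (l + 1) := by
    rw [← pow_mul]
    have : 2 * (l + 1) = orderOf x + 1 := by omega
    rw [this, pow_succ, pow_orderOf_eq_one, one_mul]
  have e2 : y = (y ^ 2) ^ (l + 1) := by
    rw [← pow_mul]
    have : 2 * (l + 1) = orderOf y + 1 := by omega
    rw [this, pow_succ, pow_orderOf_eq_one, one_mul]
  rw [e1, e2, h]

/-- conjugates of `z` inside `H` -/
def setA (z : G) (H : Subgroup G) : Set G := {a | ∃ x ∈ H, a = x * z * x⁻¹}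

/-- conjugates of `z` carrying the coset `H` to the coset `g₀ H` -/
def setS (z g₀ : G) (H : Subgroup G) : Set G := {s | (∃ x, s = x * z * x⁻¹) ∧ g₀⁻¹ * s ∈ H}

theorem exists_fixed_of_odd [Finite G] (K : Subgroup G) (hK : IsPGroup 2 K) (A : Set G)
    (hA : ∀ p ∈ K, ∀ a ∈ A, p * a * p⁻¹ ∈ A) (hodd : Odd (Nat.card A)) :
    ∃ a ∈ A, ∀ p ∈ K, p * a * p⁻¹ = a := by
  have : Fact (Nat.Prime 2) := ⟨Nat.prime_two⟩
  let act : MulAction K A :=
    { smul := fun p a => ⟨(p : G) * a * (p : G)⁻¹, hA p p.2 a a.2⟩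
      one_smul := fun a => by
        apply Subtype.ext
        show ((1 : K) : G) * (a : G) * ((1 : K) : G)⁻¹ = a
        simp
      mul_smul := fun p q a => by
        apply Subtype.ext
        show ((p * q : K) : G) * (a : G) * ((p * q : K) : G)⁻¹ = (p : G) * ((q : G) * (a : G) * (q : G)⁻¹) * (p : G)⁻¹
        simp [mul_assoc] }
  obtain ⟨a, ha⟩ := hK.nonempty_fixed_point_of_prime_not_dvd_card A
    (by intro h; exact (Nat.not_even_iff_odd.mpr hodd) (even_iff_two_dvd.mpr h))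
  refine ⟨a.1, a.2, fun p hp => ?_⟩
  have := ha ⟨p, hp⟩
  exact congrArg Subtype.val this

theorem odd_card_of_unique_fixed [Finite G] (K : Subgroup G) (hK : IsPGroup 2 K) (A : Set G)
    (hA : ∀ p ∈ K, ∀ a ∈ A, p * a * p⁻¹ ∈ A) (a₀ : G) (ha₀ : a₀ ∈ A)
    (hfix : ∀ p ∈ K, p * a₀ * p⁻¹ = a₀)
    (huniq : ∀ a ∈ A, (∀ p ∈ K, p * a * p⁻¹ = a) → a = a₀) : Odd (Nat.card A) := by
  have : Fact (Nat.Prime 2) := ⟨Nat.prime_two⟩
  let act : MulAction K A :=
    { smul := fun p a => ⟨(p : G) * a * (p : G)⁻¹, hA p p.2 a a.2⟩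
      one_smul := fun a => by
        apply Subtype.ext
        show ((1 : K) : G) * (a : G) * ((1 : K) : G)⁻¹ = a
        simp
      mul_smul := fun p q a => by
        apply Subtype.ext
        show ((p * q : K) : G) * (a : G) * ((p * q : K) : G)⁻¹ = (p : G) * ((q : G) * (a : G) * (q : G)⁻¹) * (p : G)⁻¹
        simp [mul_assoc] }
  have h := hK.card_modEq_card_fixedPoints A
  have h1 : Nat.card (MulAction.fixedPoints K A) = 1 := by
    rw [Nat.card_eq_one_iff_unique]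
    refine ⟨⟨fun a b => ?_⟩, ⟨⟨⟨a₀, ha₀⟩, fun p => Subtype.ext (hfix p p.2)⟩⟩⟩
    apply Subtype.ext
    apply Subtype.ext
    have ea : (a.1 : G) = a₀ := huniq _ a.1.2 (fun p hp => congrArg Subtype.val (a.2 ⟨p, hp⟩))
    have eb : (b.1 : G) = a₀ := huniq _ b.1.2 (fun p hp => congrArg Subtype.val (b.2 ⟨p, hp⟩))
    rw [ea, eb]
  rw [h1] at h
  rw [Nat.odd_iff]
  exact h

theorem odd_card_setA [Finite G] (z : G) (hz2 : z * z = 1) (H : Subgroup G)
    (h0' : ∀ x : G, x * z * x⁻¹ ∈ H ↔ x ∈ H)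
    (L1 : ∀ x y : G, x * z * x⁻¹ ≠ y * z * y⁻¹ →
      (x * z * x⁻¹) * (y * z * y⁻¹) = (y * z * y⁻¹) * (x * z * x⁻¹) →
      ∀ g : G, g⁻¹ * ((x * z * x⁻¹) * (y * z * y⁻¹)) * g ∈ H ↔ x⁻¹ * g ∈ H)
    (F1 : ∀ x y : G, x⁻¹ * y ∉ H → Odd (orderOf ((x * z * x⁻¹) * (y * z * y⁻¹))))
    (g₀ : G) (hg₀ : g₀ ∉ H) : Odd (Nat.card (setA z H)) := by
  have hconj2 : ∀ x : G, (x * z * x⁻¹) * (x * z * x⁻¹) = 1 := by
    intro x
    calc (x * z * x⁻¹) * (x * z * x⁻¹) = x * (z * z) * x⁻¹ := by group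
      _ = 1 := by rw [hz2]; group
  have hconjinv : ∀ x : G, (x * z * x⁻¹)⁻¹ = x * z * x⁻¹ := fun x =>
    inv_eq_of_mul_eq_one_right (hconj2 x)
  obtain ⟨j₀, hj₀⟩ : ∃ j₀, j₀ = g₀ * z * g₀⁻¹ := ⟨_, rfl⟩
  have hjj : j₀ * j₀ = 1 := by rw [hj₀]; exact hconj2 g₀
  have hjinv : j₀⁻¹ = j₀ := inv_eq_of_mul_eq_one_right hjj
  -- facts on `setS`
  have hSinv : ∀ s ∈ setS z g₀ H, s⁻¹ = s := by
    rintro s ⟨⟨x, rfl⟩, _⟩
    exact hconjinv x
  have hSg : ∀ s ∈ setS z g₀ H, s * g₀ ∈ H := by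
    intro s hs
    have h1 : s * g₀ = (g₀⁻¹ * s)⁻¹ := by rw [mul_inv_rev, inv_inv, hSinv s hs]
    rw [h1]
    exact H.inv_mem hs.2
  have hSodd : ∀ s ∈ setS z g₀ H, Odd (orderOf (s * j₀)) := by
    rintro s ⟨⟨x, rfl⟩, hs2⟩
    rw [hj₀]
    apply F1
    intro hx
    apply hg₀
    have h1 : (g₀⁻¹ * x) * z * (g₀⁻¹ * x)⁻¹ ∈ H := by
      rw [h0']
      have : g₀⁻¹ * x = (x⁻¹ * g₀)⁻¹ := by group
      rw [this]; exact H.inv_mem hx
    have h2 : g₀ = (g₀⁻¹ * (x * z * x⁻¹))⁻¹ * ((g₀⁻¹ * x) * z * (g₀⁻¹ * x)⁻¹) := by group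
    rw [h2]
    exact H.mul_mem (H.inv_mem hs2) h1
  have hψ : ∀ s ∈ setS z g₀ H, s * j₀ * s⁻¹ ∈ setA z H := by
    intro s hs
    refine ⟨s * g₀, hSg s hs, ?_⟩
    rw [hj₀]; group
  -- injectivity
  have hinj : ∀ s ∈ setS z g₀ H, ∀ s' ∈ setS z g₀ H, s * j₀ * s⁻¹ = s' * j₀ * s'⁻¹ → s = s' := by
    intro s hs s' hs' h
    have e : (s * j₀) ^ 2 = (s' * j₀) ^ 2 := by
      have e1 : (s * j₀) ^ 2 = (s * j₀ * s⁻¹) * j₀ := by
        rw [pow_two, hSinv s hs]; group
      have e2 : (s' * j₀) ^ 2 = (s' * j₀ * s'⁻¹) * j₀ := by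
        rw [pow_two, hSinv s' hs']; group
      rw [e1, e2, h]
    exact mul_right_cancel (eq_of_sq_eq_of_odd (hSodd s hs) (hSodd s' hs') e)
  -- surjectivity
  have hsurj : ∀ a ∈ setA z H, ∃ s ∈ setS z g₀ H, s * j₀ * s⁻¹ = a := by
    rintro a ⟨x, hx, rfl⟩
    obtain ⟨a, ha⟩ : ∃ a, a = x * z * x⁻¹ := ⟨_, rfl⟩
    rw [← ha]
    have haa : a * a = 1 := by rw [ha]; exact hconj2 x
    have hainv : a⁻¹ = a := inv_eq_of_mul_eq_one_right haa
    have haH : a ∈ H := by rw [ha]; exact (h0' x).mpr hx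
    obtain ⟨r, hr⟩ : ∃ r, r = a * j₀ := ⟨_, rfl⟩
    have hodd : Odd (orderOf r) := by
      rw [hr, ha, hj₀]
      apply F1
      intro h
      apply hg₀
      have : g₀ = x * (x⁻¹ * g₀) := by group
      rw [this]; exact H.mul_mem hx h
    obtain ⟨l, hl⟩ := hodd
    have har : a * r * a⁻¹ = r⁻¹ := by
      rw [hr, mul_inv_rev, hjinv, hainv, ← mul_assoc, haa, one_mul]
    obtain ⟨w, hw⟩ : ∃ w, w = r ^ (l + 1) := ⟨_, rfl⟩
    have hww : w * w = r := by
      rw [hw, ← pow_add]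
      have : l + 1 + (l + 1) = orderOf r + 1 := by omega
      rw [this, pow_succ, pow_orderOf_eq_one, one_mul]
    obtain ⟨v, hv⟩ : ∃ v, v = r ^ ((l + 1) * (l + 1)) := ⟨_, rfl⟩
    have hvv : v * v = w := by
      rw [hv, ← pow_add, hw]
      have : (l + 1) * (l + 1) + (l + 1) * (l + 1) = (l + 1) + orderOf r * (l + 1) := by
        rw [hl]; ring
      rw [this, pow_add, pow_mul, pow_orderOf_eq_one, one_pow, mul_one]
    have hav : a * v = v⁻¹ * a := by
      have := conj_pow_inv' har ((l + 1) * (l + 1))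
      rw [← hv] at this
      calc a * v = (a * v * a⁻¹) * a := by group
        _ = v⁻¹ * a := by rw [this]
    have haw : a * w = w⁻¹ * a := by
      have := conj_pow_inv' har (l + 1)
      rw [← hw] at this
      calc a * w = (a * w * a⁻¹) * a := by group
        _ = w⁻¹ * a := by rw [this]
    have hs1 : a * w = (v⁻¹ * x) * z * (v⁻¹ * x)⁻¹ := by
      calc a * w = (a * v) * v := by rw [← hvv]; group
        _ = v⁻¹ * a * v := by rw [hav]
        _ = (v⁻¹ * x) * z * (v⁻¹ * x)⁻¹ := by rw [ha]; group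
    have hsinv : (a * w)⁻¹ = a * w := by rw [hs1]; exact hconjinv _
    have hajr : j₀ = a * r := by rw [hr, ← mul_assoc, haa, one_mul]
    have hs3 : (a * w) * j₀ * (a * w)⁻¹ = a := by
      rw [hsinv, hajr]
      calc a * w * (a * r) * (a * w) = (a * w) * (a * r) * (a * w) := by group
        _ = (w⁻¹ * a) * (a * r) * (w⁻¹ * a) := by rw [haw]
        _ = w⁻¹ * (a * a) * r * w⁻¹ * a := by group
        _ = w⁻¹ * (a * a) * (w * w) * w⁻¹ * a := by rw [hww]
        _ = a := by rw [haa]; group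
    refine ⟨a * w, ⟨⟨_, hs1⟩, ?_⟩, hs3⟩
    have h1 : (a * w * g₀) * z * (a * w * g₀)⁻¹ ∈ H := by
      have : (a * w * g₀) * z * (a * w * g₀)⁻¹ = (a * w) * j₀ * (a * w)⁻¹ := by rw [hj₀]; group
      rw [this, hs3]; exact haH
    have h2 := (h0' _).mp h1
    have h3 : g₀⁻¹ * (a * w) = (a * w * g₀)⁻¹ := by
      rw [mul_inv_rev, hsinv]
    rw [h3]
    exact H.inv_mem h2
  -- the bijection
  have hcard : Nat.card (setS z g₀ H) = Nat.card (setA z H) := by
    apply Nat.card_eq_of_bijective (fun s : setS z g₀ H => (⟨s.1 * j₀ * s.1⁻¹, hψ s.1 s.2⟩ : setA z H))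
    constructor
    · intro s s' h
      apply Subtype.ext
      exact hinj s.1 s.2 s'.1 s'.2 (congrArg Subtype.val h)
    · intro a
      obtain ⟨s, hs, hsa⟩ := hsurj a.1 a.2
      exact ⟨⟨s, hs⟩, Subtype.ext hsa⟩
  rw [← hcard]
  -- parity on `setS`
  have hzA : z ∈ setA z H := ⟨1, H.one_mem, by group⟩
  obtain ⟨s₀, hs₀, -⟩ := hsurj z hzA
  have hs₀sq : s₀ * s₀ = 1 := by
    have := hSinv s₀ hs₀
    calc s₀ * s₀ = s₀⁻¹ * s₀ := by rw [this]
      _ = 1 := by group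
  refine odd_card_of_unique_fixed (Subgroup.zpowers s₀) (isPGroup_zpowers_of_sq hs₀sq) _ ?_ s₀ hs₀ ?_ ?_
  · intro p hp s hs
    rcases mem_zpowers_of_sq hs₀sq hp with rfl | rfl
    · have : (1 : G) * s * (1 : G)⁻¹ = s := by group
      rw [this]; exact hs
    · obtain ⟨⟨x, hx⟩, hs2⟩ := hs
      refine ⟨⟨p * x, by rw [hx]; group⟩, ?_⟩
      have : g₀⁻¹ * (p * s * p⁻¹) = (g₀⁻¹ * p) * (s * g₀) * (p * g₀)⁻¹ := by group
      rw [this]
      have hsg := hSg s ⟨⟨x, hx⟩, hs2⟩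
      exact H.mul_mem (H.mul_mem hs₀.2 hsg) (H.inv_mem (hSg p hs₀))
  · intro p hp
    rcases mem_zpowers_of_sq hs₀sq hp with rfl | rfl
    · group
    · group
  · intro s hs hfix
    by_contra hne
    have hcomm : s₀ * s = s * s₀ := by
      have := hfix s₀ (Subgroup.mem_zpowers s₀)
      calc s₀ * s = (s₀ * s * s₀⁻¹) * s₀ := by group
        _ = s * s₀ := by rw [this]
    obtain ⟨⟨x₀, hx₀⟩, hs₀2⟩ := hs₀
    obtain ⟨⟨x, hx⟩, hs2⟩ := hs
    have hL := L1 x₀ x (by rw [← hx₀, ← hx]; exact fun h => hne h.symm) (by rw [← hx₀, ← hx]; exact hcomm)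
    rw [← hx₀, ← hx] at hL
    have hsg : s * g₀ ∈ H := hSg s ⟨⟨x, hx⟩, hs2⟩
    have hs₀g : s₀ * g₀ ∈ H := hSg s₀ ⟨⟨x₀, hx₀⟩, hs₀2⟩
    have h1 : x₀⁻¹ * 1 ∈ H := by
      apply (hL 1).mp
      have : (1 : G)⁻¹ * (s₀ * s) * 1 = (s₀ * g₀) * (g₀⁻¹ * s) := by group
      rw [this]
      exact H.mul_mem hs₀g hs2
    have h2 : x₀⁻¹ * g₀ ∈ H := by
      apply (hL g₀).mp
      have : g₀⁻¹ * (s₀ * s) * g₀ = (g₀⁻¹ * s₀) * (s * g₀) := by group
      rw [this]
      exact H.mul_mem hs₀2 hsg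
    apply hg₀
    have : g₀ = (x₀⁻¹ * 1)⁻¹ * (x₀⁻¹ * g₀) := by group
    rw [this]
    exact H.mul_mem (H.inv_mem h1) h2

end aux

/-- Let z be an involution of a finite group G and H a proper subgroup such that z lies in gHg⁻¹ exactly when g ∈ H. Then the following are equivalent: (1) for every conjugate t ≠ z of z commuting with z, the product zt lies in gHg⁻¹ exactly when g ∈ H; (2) z lies in the centre of some Sylow 2-subgroup of G, and for every conjugate t ≠ z of z commuting with z, the centralizer of zt is contained in H. -/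
theorem result {G : Type*} [Group G] [Finite G] (z : G) (hz : orderOf z = 2) (H : Subgroup G) (hH : H ≠ ⊤)
    (h0 : ∀ g : G, z ∈ H.map (MulAut.conj g).toMonoidHom ↔ g ∈ H) :
    (∀ t : G, IsConj z t → t ≠ z → t * z = z * t → ∀ g : G, z * t ∈ H.map (MulAut.conj g).toMonoidHom ↔ g ∈ H) ↔
      ((∃ P : Sylow 2 G, z ∈ (Subgroup.center ↥(P : Subgroup G)).map (P : Subgroup G).subtype) ∧
        ∀ t : G, IsConj z t → t ≠ z → t * z = z * t → Subgroup.centralizer ({z * t} : Set G) ≤ H) := by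
  classical
  have : Fact (Nat.Prime 2) := ⟨Nat.prime_two⟩
  have hz2 : z * z = 1 := by rw [← pow_two, ← hz, pow_orderOf_eq_one]
  have hzinv : z⁻¹ = z := inv_eq_of_mul_eq_one_right hz2
  have h0' : ∀ x : G, x * z * x⁻¹ ∈ H ↔ x ∈ H := by
    intro x
    have := h0 x⁻¹
    rw [Cfsg.Agent.Lib.Helper3.mem_map_conj_iff, inv_inv] at this
    rw [this]
    exact H.inv_mem_iff
  have hzH : z ∈ H := by
    have := (h0' 1).mpr H.one_mem
    simpa using this
  have hCz : ∀ c : G, c * z = z * c → c ∈ H := by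
    intro c hc
    apply (h0' c).mp
    rw [hc, mul_inv_cancel_right]
    exact hzH
  have hconj2 : ∀ x : G, (x * z * x⁻¹) * (x * z * x⁻¹) = 1 := by
    intro x
    calc (x * z * x⁻¹) * (x * z * x⁻¹) = x * (z * z) * x⁻¹ := by group
      _ = 1 := by rw [hz2]; group
  have hconjinv : ∀ x : G, (x * z * x⁻¹)⁻¹ = x * z * x⁻¹ := fun x =>
    inv_eq_of_mul_eq_one_right (hconj2 x)
  constructor
  · intro hL
    have hL' : ∀ t : G, IsConj z t → t ≠ z → t * z = z * t →
        ∀ g : G, g⁻¹ * (z * t) * g ∈ H ↔ g ∈ H := by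
      intro t ht htz hc g
      rw [← Cfsg.Agent.Lib.Helper3.mem_map_conj_iff]
      exact hL t ht htz hc g
    refine ⟨?_, ?_⟩
    swap
    · intro t ht htz hc c hcc
      rw [Subgroup.mem_centralizer_iff] at hcc
      have h1 := hcc (z * t) rfl
      apply (hL' t ht htz hc c).mp
      have hzt : z * t ∈ H := by
        have := (hL' t ht htz hc 1).mpr H.one_mem
        simpa using this
      have : c⁻¹ * (z * t) * c = z * t := by
        rw [mul_assoc, h1]; group
      rw [this]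
      exact hzt
    have L1 : ∀ x y : G, x * z * x⁻¹ ≠ y * z * y⁻¹ →
        (x * z * x⁻¹) * (y * z * y⁻¹) = (y * z * y⁻¹) * (x * z * x⁻¹) →
        ∀ g : G, g⁻¹ * ((x * z * x⁻¹) * (y * z * y⁻¹)) * g ∈ H ↔ x⁻¹ * g ∈ H := by
      intro x y hne hcomm g
      have ht : IsConj z ((x⁻¹ * y) * z * (x⁻¹ * y)⁻¹) := isConj_iff.mpr ⟨x⁻¹ * y, rfl⟩
      have htz : (x⁻¹ * y) * z * (x⁻¹ * y)⁻¹ ≠ z := by
        intro h
        apply hne
        have : y * z * y⁻¹ = x * ((x⁻¹ * y) * z * (x⁻¹ * y)⁻¹) * x⁻¹ := by group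
        rw [this, h]
      have hc : (x⁻¹ * y) * z * (x⁻¹ * y)⁻¹ * z = z * ((x⁻¹ * y) * z * (x⁻¹ * y)⁻¹) := by
        have e1 : (x⁻¹ * y) * z * (x⁻¹ * y)⁻¹ * z =
            x⁻¹ * ((y * z * y⁻¹) * (x * z * x⁻¹)) * x := by group
        have e2 : z * ((x⁻¹ * y) * z * (x⁻¹ * y)⁻¹) =
            x⁻¹ * ((x * z * x⁻¹) * (y * z * y⁻¹)) * x := by group
        rw [e1, e2, hcomm]
      have := hL' _ ht htz hc (x⁻¹ * g)
      have e : (x⁻¹ * g)⁻¹ * (z * ((x⁻¹ * y) * z * (x⁻¹ * y)⁻¹)) * (x⁻¹ * g) =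
          g⁻¹ * ((x * z * x⁻¹) * (y * z * y⁻¹)) * g := by group
      rw [e] at this
      exact this
    have F1 : ∀ x y : G, x⁻¹ * y ∉ H → Odd (orderOf ((x * z * x⁻¹) * (y * z * y⁻¹))) := by
      intro x y hxy
      by_contra hodd
      rw [Nat.not_odd_iff_even] at hodd
      obtain ⟨m₁, hm⟩ := hodd
      obtain ⟨a, ha⟩ : ∃ a, a = x * z * x⁻¹ := ⟨_, rfl⟩
      obtain ⟨b, hb⟩ : ∃ b, b = y * z * y⁻¹ := ⟨_, rfl⟩
      rw [← ha, ← hb] at hm
      have haa : a * a = 1 := by rw [ha]; exact hconj2 x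
      have hbb : b * b = 1 := by rw [hb]; exact hconj2 y
      have hainv : a⁻¹ = a := inv_eq_of_mul_eq_one_right haa
      have hbinv : b⁻¹ = b := inv_eq_of_mul_eq_one_right hbb
      obtain ⟨r, hr⟩ : ∃ r, r = a * b := ⟨_, rfl⟩
      rw [← hr] at hm
      have hm1 : 0 < m₁ := by
        have := orderOf_pos r
        omega
      have har : a * r * a⁻¹ = r⁻¹ := by
        rw [hr, mul_inv_rev, hainv, hbinv, ← mul_assoc, haa, one_mul]
      have hbr : b * r * b⁻¹ = r⁻¹ := by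
        rw [hr, mul_inv_rev, hainv, hbinv, mul_assoc, mul_assoc, hbb, mul_one]
      obtain ⟨k, hk⟩ : ∃ k, k = r ^ m₁ := ⟨_, rfl⟩
      have hk1 : k ≠ 1 := by
        rw [hk]
        intro h
        have := orderOf_le_of_pow_eq_one hm1 h
        omega
      have hkk : k * k = 1 := by rw [hk, ← pow_add, ← hm, pow_orderOf_eq_one]
      have hkinv : k⁻¹ = k := inv_eq_of_mul_eq_one_right hkk
      have hak : a * k * a⁻¹ = k := by rw [hk, conj_pow_inv' har, ← hk, hkinv]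
      have hbk : b * k * b⁻¹ = k := by rw [hk, conj_pow_inv' hbr, ← hk, hkinv]
      have hconj : ∃ c : G, a * k = c * z * c⁻¹ := by
        rcases Nat.even_or_odd' m₁ with ⟨i, hi | hi⟩
        · refine ⟨(r ^ i)⁻¹ * x, ?_⟩
          have e : a * r ^ i = (r ^ i)⁻¹ * a := by
            have := conj_pow_inv' har i
            calc a * r ^ i = (a * r ^ i * a⁻¹) * a := by group
              _ = (r ^ i)⁻¹ * a := by rw [this]
          calc a * k = a * (r ^ i * r ^ i) := by rw [hk, hi, two_mul, pow_add]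
            _ = (a * r ^ i) * r ^ i := by group
            _ = (r ^ i)⁻¹ * a * r ^ i := by rw [e]
            _ = (r ^ i)⁻¹ * x * z * ((r ^ i)⁻¹ * x)⁻¹ := by rw [ha]; group
        · refine ⟨(r ^ i)⁻¹ * y, ?_⟩
          have e : b * r ^ i = (r ^ i)⁻¹ * b := by
            have := conj_pow_inv' hbr i
            calc b * r ^ i = (b * r ^ i * b⁻¹) * b := by group
              _ = (r ^ i)⁻¹ * b := by rw [this]
          have e0 : a * r = b := by rw [hr, ← mul_assoc, haa, one_mul]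
          calc a * k = a * (r * (r ^ i * r ^ i)) := by
                rw [hk, hi, pow_succ', two_mul, pow_add]
            _ = (a * r) * r ^ i * r ^ i := by group
            _ = (b * r ^ i) * r ^ i := by rw [e0]
            _ = (r ^ i)⁻¹ * b * r ^ i := by rw [e]
            _ = (r ^ i)⁻¹ * y * z * ((r ^ i)⁻¹ * y)⁻¹ := by rw [hb]; group
      obtain ⟨c, hc⟩ := hconj
      have hakc : a * k = k * a := by
        calc a * k = (a * k * a⁻¹) * a := by group
          _ = k * a := by rw [hak]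
      have hne : x * z * x⁻¹ ≠ c * z * c⁻¹ := by
        rw [← ha, ← hc]
        intro h
        apply hk1
        have : a * k = a * 1 := by rw [mul_one]; exact h.symm
        exact mul_left_cancel this
      have hcm : (x * z * x⁻¹) * (c * z * c⁻¹) = (c * z * c⁻¹) * (x * z * x⁻¹) := by
        rw [← ha, ← hc, hakc]
        calc a * (k * a) = (a * k) * a := by group
          _ = k * a * a := by rw [hakc]
      have h1 := L1 x c hne hcm y
      have hprod : (x * z * x⁻¹) * (c * z * c⁻¹) = k := by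
        rw [← ha, ← hc, ← mul_assoc, haa, one_mul]
      rw [hprod] at h1
      apply hxy
      apply h1.mp
      apply hCz
      have hbk' : k * b = b * k := by
        calc k * b = (b * k * b⁻¹) * b := by rw [hbk]
          _ = b * k := by group
      calc y⁻¹ * k * y * z = y⁻¹ * (k * (y * z * y⁻¹)) * y := by group
        _ = y⁻¹ * (k * b) * y := by rw [hb]
        _ = y⁻¹ * (b * k) * y := by rw [hbk']
        _ = y⁻¹ * ((y * z * y⁻¹) * k) * y := by rw [hb]
        _ = z * (y⁻¹ * k * y) := by group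
    obtain ⟨g₀, hg₀⟩ : ∃ g₀ : G, g₀ ∉ H := by
      by_contra h
      push Not at h
      exact hH (eq_top_iff.mpr fun x _ => h x)
    have hodd := odd_card_setA z hz2 H h0' L1 F1 g₀ hg₀
    obtain ⟨P, hzP⟩ := (isPGroup_zpowers_of_sq hz2).exists_le_sylow
    have hzP' : z ∈ (P : Subgroup G) := hzP (Subgroup.mem_zpowers z)
    have hPH : (P : Subgroup G) ≤ H := by
      intro q hq
      by_contra hqH
      have h1 := F1 1 q (by simpa using hqH)
      simp only [one_mul, inv_one, mul_one] at h1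
      have hmem : z * (q * z * q⁻¹) ∈ (P : Subgroup G) :=
        Subgroup.mul_mem _ hzP' (Subgroup.mul_mem _ (Subgroup.mul_mem _ hq hzP') (Subgroup.inv_mem _ hq))
      obtain ⟨j, hj⟩ := P.isPGroup' ⟨_, hmem⟩
      have hj' : (z * (q * z * q⁻¹)) ^ (2 ^ j) = 1 := by
        have := congrArg Subtype.val hj
        simpa using this
      have hd := orderOf_dvd_of_pow_eq_one hj'
      obtain ⟨i, -, hi⟩ := (Nat.dvd_prime_pow Nat.prime_two).mp hd
      have hi0 : i = 0 := by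
        by_contra hi0
        rw [hi] at h1
        exact (Nat.not_even_iff_odd.mpr h1) ((Nat.even_pow' hi0).mpr even_two)
      rw [hi0, pow_zero, orderOf_eq_one_iff] at hi
      have h2 : q * z * q⁻¹ = z := by
        have : q * z * q⁻¹ = z⁻¹ * (z * (q * z * q⁻¹)) := by group
        rw [this, hi, mul_one, hzinv]
      apply hqH
      apply (h0' q).mp
      rw [h2]
      exact hzH
    obtain ⟨a, haA, hafix⟩ := exists_fixed_of_odd (P : Subgroup G) P.isPGroup' (setA z H)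
      (by
        rintro q hq a ⟨x, hx, rfl⟩
        exact ⟨q * x, H.mul_mem (hPH hq) hx, by group⟩) hodd
    obtain ⟨y, hy, hay⟩ := haA
    have haa : a * a = 1 := by rw [hay]; exact hconj2 y
    have haP : a ∈ (P : Subgroup G) := by
      have key : ∀ q ∈ (P : Subgroup G), ∀ h ∈ Subgroup.zpowers a, q * h * q⁻¹ = h := by
        intro q hq h hh
        obtain ⟨i, rfl⟩ := Subgroup.mem_zpowers_iff.mp hh
        rw [← conj_zpow, hafix q hq]
      have hnorm : (P : Subgroup G) ≤ Subgroup.normalizer ((Subgroup.zpowers a : Subgroup G) : Set G) := by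
        intro q hq
        rw [Subgroup.mem_normalizer_iff]
        intro h
        constructor
        · intro hh
          rw [key q hq h hh]; exact hh
        · intro hh
          have := key q⁻¹ (Subgroup.inv_mem _ hq) _ hh
          have e : q⁻¹ * (q * h * q⁻¹) * q⁻¹⁻¹ = h := by group
          rw [e] at this
          rw [this]; exact hh
      have hsup := IsPGroup.to_sup_of_normal_right' P.isPGroup' (isPGroup_zpowers_of_sq haa) hnorm
      have := P.is_maximal' hsup le_sup_left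
      have h2 : a ∈ (P : Subgroup G) ⊔ Subgroup.zpowers a := (le_sup_right : Subgroup.zpowers a ≤ _) (Subgroup.mem_zpowers a)
      rw [this] at h2
      exact h2
    have hmemP : ∀ x : G, x ∈ ((y⁻¹ • P : Sylow 2 G) : Subgroup G) ↔ y * x * y⁻¹ ∈ (P : Subgroup G) := by
      intro x
      rw [Sylow.coe_subgroup_smul, Subgroup.mem_pointwise_smul_iff_inv_smul_mem, MulAut.smul_def,
        ← map_inv, MulAut.conj_apply, inv_inv]
    have hzP2 : z ∈ ((y⁻¹ • P : Sylow 2 G) : Subgroup G) := by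
      rw [hmemP, ← hay]; exact haP
    refine ⟨y⁻¹ • P, ⟨⟨z, hzP2⟩, Subgroup.mem_center_iff.mpr ?_, rfl⟩⟩
    rintro ⟨q, hq⟩
    apply Subtype.ext
    show q * z = z * q
    have hq' := (hmemP q).mp hq
    have h1 := hafix _ hq'
    rw [hay] at h1
    have e1 : q * z = y⁻¹ * ((y * q * y⁻¹) * (y * z * y⁻¹) * (y * q * y⁻¹)⁻¹) * y * q := by group
    rw [e1, h1]
    group
  · rintro ⟨⟨P, hzP⟩, hC⟩ t ht htz hcomm g
    rw [Cfsg.Agent.Lib.Helper3.mem_map_conj_iff]
    have htH : t ∈ H := hCz t hcomm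
    obtain ⟨c, hc⟩ := isConj_iff.mp ht
    have htt : t * t = 1 := by rw [← hc]; exact hconj2 c
    constructor
    · intro hu
      obtain ⟨⟨zz, hzz⟩, hzc, hzeq⟩ := hzP
      have hzeq' : zz = z := hzeq
      subst hzeq'
      have hcen : ∀ x ∈ (P : Subgroup G), x * zz = zz * x := by
        intro x hx
        have := Subgroup.mem_center_iff.mp hzc ⟨x, hx⟩
        exact congrArg Subtype.val this
      have hPH : (P : Subgroup G) ≤ H := fun x hx => hCz x (hcen x hx)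
      obtain ⟨u₁, hu₁⟩ : ∃ u₁, u₁ = g⁻¹ * (zz * t) * g := ⟨_, rfl⟩
      rw [← hu₁] at hu
      have hu1sq : u₁ * u₁ = 1 := by
        rw [hu₁]
        calc g⁻¹ * (zz * t) * g * (g⁻¹ * (zz * t) * g) = g⁻¹ * (zz * (t * zz) * t) * g := by group
          _ = g⁻¹ * (zz * (zz * t) * t) * g := by rw [hcomm]
          _ = g⁻¹ * ((zz * zz) * (t * t)) * g := by group
          _ = 1 := by rw [hz2, htt]; group
      have hidx : ¬ 2 ∣ (P : Subgroup G).relIndex H := fun h =>
        P.not_dvd_index (h.trans (Subgroup.relIndex_dvd_index_of_le hPH))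
      obtain ⟨n, hn, hnX⟩ := Cfsg.Agent.Lib.Helper3.conj_into_sylowIn H (P : Subgroup G)
        (Subgroup.zpowers u₁) P.isPGroup' hidx ((Subgroup.zpowers_le).mpr hu)
        (isPGroup_zpowers_of_sq hu1sq)
      have h1 : n * u₁ * n⁻¹ ∈ (P : Subgroup G) := hnX u₁ (Subgroup.mem_zpowers u₁)
      have h2 : (n * u₁ * n⁻¹) * zz = zz * (n * u₁ * n⁻¹) := hcen _ h1
      have h3 : (g * n⁻¹) * zz * (g * n⁻¹)⁻¹ ∈ Subgroup.centralizer ({zz * t} : Set G) := by
        rw [Subgroup.mem_centralizer_iff]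
        intro w hw
        rw [Set.mem_singleton_iff] at hw
        subst hw
        have e1 : zz * t * (g * n⁻¹ * zz * (g * n⁻¹)⁻¹) =
            g * n⁻¹ * ((n * u₁ * n⁻¹) * zz) * n * g⁻¹ := by rw [hu₁]; group
        have e2 : (g * n⁻¹ * zz * (g * n⁻¹)⁻¹) * (zz * t) =
            g * n⁻¹ * (zz * (n * u₁ * n⁻¹)) * n * g⁻¹ := by rw [hu₁]; group
        rw [e1, e2, h2]
      have h4 := hC t ht htz hcomm h3
      have h5 := (h0' _).mp h4
      have : g = (g * n⁻¹) * n := by group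
      rw [this]
      exact H.mul_mem h5 hn
    · intro hg
      exact H.mul_mem (H.mul_mem (H.inv_mem hg) (H.mul_mem hzH htH)) hg


end Cfsg.Agent.S1922
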