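import Cfsg.Statements.S1944
import Mathlib
import Cfsg.Agent.Lib.Helper3.PPrimeP
import Cfsg.Agent.Lib.Helper3.RelTrace
import Cfsg.Agent.S1907

set_option autoImplicit false
open Cfsg

namespace Cfsg.Agent.S1944

open scoped IsMulCommutative in
theorem aux {G : Type*} [Group G] [Finite G] {p : ℕ} [Fact p.Prime] (S : Sylow p G)
    (hZ : ((S : Subgroup G) ⊓ Subgroup.centralizer ((S : Subgroup G) : Set G)) ≤ Cfsg.pPrimePCore p G) :
    ∃ W K : Subgroup G, (∀ x : G, x ∈ W ↔ (x ∈ (S : Subgroup G) ∧ ∀ g : G, g * x * g⁻¹ ∈ (S : Subgroup G) → g * x * g⁻¹ = x)) ∧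
      K ≤ ((S : Subgroup G) ⊓ Subgroup.centralizer ((S : Subgroup G) : Set G)) ∧ W ⊓ K = ⊥ ∧ W ⊔ K = ((S : Subgroup G) ⊓ Subgroup.centralizer ((S : Subgroup G) : Set G)) := by
  obtain ⟨L, hL⟩ : ∃ L : Subgroup G, L = Cfsg.pPrimePCore p G := ⟨_, rfl⟩
  rw [← hL] at hZ
  obtain ⟨R, hR⟩ : ∃ R : Subgroup G, R = (S : Subgroup G) ⊓ L := ⟨_, rfl⟩
  obtain ⟨N, hN⟩ : ∃ N : Subgroup G, N = Subgroup.normalizer (R : Set G) := ⟨_, rfl⟩
  obtain ⟨VV, hVV⟩ : ∃ VV : Subgroup G, VV = R ⊓ Subgroup.centralizer (R : Set G) := ⟨_, rfl⟩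
  have hfus : ∀ x y : G, x ∈ (S : Subgroup G) → y ∈ (S : Subgroup G) → IsConj x y →
      ∃ n ∈ N, n * x * n⁻¹ = y := by
    rw [hN, hR, hL]; exact (Cfsg.Agent.S1907.result S).2
  have hLn : L.Normal := hL ▸ Cfsg.Agent.Lib.Helper3.pPrimePCore_normal' p G
  have hRS : R ≤ (S : Subgroup G) := hR ▸ inf_le_left
  have hVR : VV ≤ R := hVV ▸ inf_le_left
  have hSN : (S : Subgroup G) ≤ N := by
    intro z hz
    rw [hN]
    apply Cfsg.Agent.Lib.Helper3.mem_normalizer_of_forall_conj_mem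
    intro a ha
    rw [hR] at ha ⊢
    exact Subgroup.mem_inf.mpr ⟨Subgroup.mul_mem _ (Subgroup.mul_mem _ hz ha.1) (Subgroup.inv_mem _ hz),
      hLn.conj_mem _ ha.2 z⟩
  have hZV : ((S : Subgroup G) ⊓ Subgroup.centralizer ((S : Subgroup G) : Set G)) ≤ VV := by
    intro z hz
    rw [hVV]
    refine Subgroup.mem_inf.mpr ⟨hR ▸ Subgroup.mem_inf.mpr ⟨hz.1, hZ hz⟩, ?_⟩
    rw [Subgroup.mem_centralizer_iff]
    intro r hr
    exact (Subgroup.mem_centralizer_iff.mp hz.2) r (hRS hr)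
  have hNV : ∀ n ∈ N, ∀ v ∈ VV, n * v * n⁻¹ ∈ VV := by
    intro n hn v hv
    rw [hVV] at hv ⊢
    rw [hN] at hn
    have hn' := Subgroup.mem_normalizer_iff.mp hn
    refine Subgroup.mem_inf.mpr ⟨(hn' v).mp hv.1, ?_⟩
    rw [Subgroup.mem_centralizer_iff]
    intro r hr
    have hr' : n⁻¹ * r * n ∈ R := by
      apply (hn' (n⁻¹ * r * n)).mpr
      have e : n * (n⁻¹ * r * n) * n⁻¹ = r := by group
      rw [e]; exact hr
    have hc := (Subgroup.mem_centralizer_iff.mp hv.2) _ hr'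
    calc r * (n * v * n⁻¹) = n * ((n⁻¹ * r * n) * v) * n⁻¹ := by group
      _ = n * (v * (n⁻¹ * r * n)) * n⁻¹ := by rw [hc]
      _ = n * v * n⁻¹ * r := by group
  have hVcomm : ∀ a ∈ VV, ∀ b ∈ VV, a * b = b * a := by
    intro a ha b hb
    rw [hVV] at ha hb
    exact (Subgroup.mem_centralizer_iff.mp hb.2) a ha.1
  have hVcommI : IsMulCommutative ↥VV := ⟨⟨fun a b => Subtype.ext (hVcomm a a.2 b b.2)⟩⟩
  have hcop : ∀ v : ↥VV, (orderOf v).Coprime (((S : Subgroup G).subgroupOf N).index) := by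
    intro v
    obtain ⟨k, hk⟩ := (IsPGroup.iff_orderOf.mp (S.isPGroup'.to_le (hVR.trans hRS))) v
    rw [hk]
    apply Nat.Coprime.pow_left
    have h1 : ((S : Subgroup G).subgroupOf N).index ∣ (S : Subgroup G).index :=
      Subgroup.relIndex_dvd_index_of_le hSN
    exact Nat.Coprime.coprime_dvd_right h1
      ((Nat.Prime.coprime_iff_not_dvd Fact.out).mpr S.not_dvd_index)
  obtain ⟨W', K', Z', hW', hZ', hKZ', hWK', hWKZ'⟩ :=
    Cfsg.Agent.Lib.Helper3.exists_fixed_complement (N := ↥N) (V := ↥VV)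
      (fun n v => ⟨(n : G) * v * (n : G)⁻¹, hNV n n.2 v v.2⟩)
      (by intro a b v; apply Subtype.ext; simp [mul_assoc])
      (by intro a v w; apply Subtype.ext; simp [mul_assoc])
      ((S : Subgroup G).subgroupOf N) hcop
  -- characterization of `Z'`
  have hZchar : ∀ x : G, x ∈ Z'.map VV.subtype ↔
      x ∈ ((S : Subgroup G) ⊓ Subgroup.centralizer ((S : Subgroup G) : Set G)) := by
    intro x
    constructor
    · rintro ⟨v, hv, rfl⟩
      have h1 := (hZ' v).mp hv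
      refine Subgroup.mem_inf.mpr ⟨hRS (hVR v.2), ?_⟩
      rw [Subgroup.mem_centralizer_iff]
      intro s hs
      have h2 := h1 ⟨s, hSN hs⟩ (Subgroup.mem_subgroupOf.mpr hs)
      have h3 : s * (v : G) * s⁻¹ = v := congrArg Subtype.val h2
      show s * (v : G) = (v : G) * s
      calc s * (v : G) = (s * (v : G) * s⁻¹) * s := by group
        _ = (v : G) * s := by rw [h3]
    · intro hx
      refine ⟨⟨x, hZV hx⟩, (hZ' _).mpr ?_, rfl⟩
      intro s hs
      apply Subtype.ext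
      show (s : G) * x * (s : G)⁻¹ = x
      have h1 := (Subgroup.mem_centralizer_iff.mp hx.2) (s : G) (Subgroup.mem_subgroupOf.mp hs)
      rw [h1]; group
  refine ⟨W'.map VV.subtype, K'.map VV.subtype, ?_, ?_, ?_, ?_⟩
  · intro x
    constructor
    · rintro ⟨v, hv, rfl⟩
      have h1 := (hW' v).mp hv
      have hvS : (v : G) ∈ (S : Subgroup G) := hRS (hVR v.2)
      refine ⟨hvS, ?_⟩
      intro g hg
      obtain ⟨n, hn, hnv⟩ := hfus (v : G) (g * (v : G) * g⁻¹) hvS hg (isConj_iff.mpr ⟨g, rfl⟩)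
      have h2 := h1 ⟨n, hn⟩
      have h3 : n * (v : G) * n⁻¹ = v := congrArg Subtype.val h2
      show g * (v : G) * g⁻¹ = (v : G)
      rw [← hnv, h3]
    · rintro ⟨hxS, hx⟩
      have hxZ : x ∈ ((S : Subgroup G) ⊓ Subgroup.centralizer ((S : Subgroup G) : Set G)) := by
        refine Subgroup.mem_inf.mpr ⟨hxS, ?_⟩
        rw [Subgroup.mem_centralizer_iff]
        intro s hs
        have h1 := hx s (Subgroup.mul_mem _ (Subgroup.mul_mem _ hs hxS) (Subgroup.inv_mem _ hs))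
        calc s * x = (s * x * s⁻¹) * s := by group
          _ = x * s := by rw [h1]
      refine ⟨⟨x, hZV hxZ⟩, (hW' _).mpr ?_, rfl⟩
      intro n
      apply Subtype.ext
      show (n : G) * x * (n : G)⁻¹ = x
      exact hx (n : G) (hRS (hVR (hNV n n.2 x (hZV hxZ))))
  · intro x hx
    obtain ⟨v, hv, rfl⟩ := hx
    exact (hZchar _).mp ⟨v, hKZ' hv, rfl⟩
  · rw [← Subgroup.map_inf _ _ _ (Subgroup.subtype_injective _), hWK', Subgroup.map_bot]
  · rw [← Subgroup.map_sup, hWKZ']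
    ext x
    exact hZchar x

/-- Let S be a Sylow p-subgroup of the finite group G and suppose that the centre Z(S) lies in O_{p',p}(G). The elements of S each of which is its only G-conjugate in S form a subgroup W of Z(S); W is then a direct factor of Z(S): there is a subgroup K of Z(S) with W ∩ K = 1 and WK = Z(S). -/
theorem result {G : Type*} [Group G] [Finite G] {p : ℕ} [Fact p.Prime] (S : Sylow p G)
    (hZ : ((S : Subgroup G) ⊓ Subgroup.centralizer ((S : Subgroup G) : Set G)) ≤ Cfsg.pPrimePCore p G) :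
    ∃ W K : Subgroup G, (∀ x : G, x ∈ W ↔ (x ∈ (S : Subgroup G) ∧ ∀ g : G, g * x * g⁻¹ ∈ (S : Subgroup G) → g * x * g⁻¹ = x)) ∧
      K ≤ ((S : Subgroup G) ⊓ Subgroup.centralizer ((S : Subgroup G) : Set G)) ∧ W ⊓ K = ⊥ ∧ W ⊔ K = ((S : Subgroup G) ⊓ Subgroup.centralizer ((S : Subgroup G) : Set G)) := by
  exact aux S hZ

end Cfsg.Agent.S1944
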