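import Cfsg.Statements.S1969
import Mathlib
import Cfsg.Agent.Lib.Helper1.FC6

set_option autoImplicit false
universe u
open Cfsg

namespace Cfsg.Agent.S1969

open Cfsg.Agent.Lib.Helper1 Cfsg.Agent.Lib.Helper3

/-- Let p be a prime, G a finite group and W an isomorphism-invariant p-group functor (W assigns to every group Q a subgroup W(Q), nontrivial whenever Q is a nontrivial finite p-group, and every isomorphism from a finite p-group Q onto a group R carries W(Q) onto W(R)). Suppose that W(S*) is normal in G* whenever G* = K/R is a section of G with C_{G*}(O_p(G*)) ≤ O_p(G*) and S* is a Sylow p-subgroup of G*. Then W controls strong fusion in every section of G: for every section K/R and every Sylow p-subgroup T of K/R, the subgroup W(T) controls strong fusion in K/R. -/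
theorem result {G : Type u} [Group G] [Finite G] {p : ℕ} [Fact p.Prime] (W : ∀ (Q : Type u) [Group Q], Subgroup Q) (hW : Cfsg.IsCharPFunctor.{u} p W) (hloc : ∀ (K R : Subgroup G) [hR : (R.subgroupOf K).Normal], Subgroup.centralizer ((Cfsg.pCore p (↥K ⧸ R.subgroupOf K) : Subgroup (↥K ⧸ R.subgroupOf K)) : Set (↥K ⧸ R.subgroupOf K)) ≤ Cfsg.pCore p (↥K ⧸ R.subgroupOf K) → ∀ T : Sylow p (↥K ⧸ R.subgroupOf K), (Cfsg.inducedFunctor (G := (↥K ⧸ R.subgroupOf K)) W ((T : Subgroup (↥K ⧸ R.subgroupOf K)))).Normal) : ∀ (K R : Subgroup G) [hR : (R.subgroupOf K).Normal], ∀ T : Sylow p (↥K ⧸ R.subgroupOf K), Cfsg.ControlsStrongFusion p (Cfsg.inducedFunctor (G := (↥K ⧸ R.subgroupOf K)) W ((T : Subgroup (↥K ⧸ R.subgroupOf K)))) := by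
  intro K R hR T
  have h𝓦 : ∀ W' ∈ ({W} : Set (∀ (Q : Type u) [Group Q], Subgroup Q)),
      Cfsg.IsCharPFunctor.{u} p W' := by
    intro W' hW'
    rw [Set.mem_singleton_iff] at hW'
    rw [hW']; exact hW
  have hloc' : ∀ (K R : Subgroup G) [hR : (R.subgroupOf K).Normal],
      Subgroup.centralizer ((Cfsg.pCore p (↥K ⧸ R.subgroupOf K) :
        Subgroup (↥K ⧸ R.subgroupOf K)) : Set (↥K ⧸ R.subgroupOf K)) ≤
          Cfsg.pCore p (↥K ⧸ R.subgroupOf K) →
      ∀ T : Sylow p (↥K ⧸ R.subgroupOf K),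
        Ctl {W} (↥K ⧸ R.subgroupOf K) (T : Subgroup (↥K ⧸ R.subgroupOf K)) := by
    intro K R hR hcon T A g hA hAg
    have hn := hloc K R hcon T
    refine gf_step (mem_SS.mpr ⟨W, rfl, ?_⟩) hA hAg
    rw [Subgroup.normalizer_eq_top_iff.mpr hn]
    exact Subgroup.mem_top g
  have hctl := fc_sections {W} h𝓦 ⟨W, rfl⟩ hloc' (↥K ⧸ R.subgroupOf K)
    (isSectionOf_section K R) T
  refine ⟨T, indW_le W _, fun A hA => ⟨hA, fun g hg => ?_⟩⟩
  obtain ⟨c, hc, hca⟩ := hctl A g hA hg
  refine ⟨c, chain_mem_of_steps _ ?_ hc, fun a ha => (hca a ha).symm⟩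
  intro s hs
  obtain ⟨W', hW', hs'⟩ := mem_SS.mp hs
  rw [Set.mem_singleton_iff] at hW'
  rw [hW'] at hs'
  exact hs'

end Cfsg.Agent.S1969
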