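import Cfsg.Statements.S1990
import Mathlib
import Cfsg.Agent.Lib.Helper1.GT9
import Cfsg.Agent.Lib.Helper1.PS1

set_option autoImplicit false
universe u
open Cfsg

namespace Cfsg.Agent.S1990

/-- Let p be an odd prime, G a finite group with Sylow p-subgroup S, and W an isomorphism-invariant p-group functor (W assigns to every group Q a subgroup W(Q), nontrivial whenever Q is a nontrivial finite p-group, and every isomorphism from a finite p-group Q onto a group R carries W(Q) onto W(R)). Suppose N_G(W(S)) has a normal p-complement, and W(T) controls strong fusion in every section G* = K/R of G all of whose sections are p-stable in the normalizer form, for every Sylow p-subgroup T of G*. Then G has a normal p-complement. -/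
theorem result {G : Type u} [Group G] [Finite G] {p : ℕ} [Fact p.Prime] (hp : p ≠ 2) (W : ∀ (Q : Type u) [Group Q], Subgroup Q) (hW : Cfsg.IsCharPFunctor.{u} p W) (S : Sylow p G) (hN : Cfsg.HasNormalPComplement p ↥(Subgroup.normalizer ((Cfsg.inducedFunctor (G := G) W (S : Subgroup G) : Subgroup G) : Set G))) (hctl : ∀ (K R : Subgroup G) [hR : (R.subgroupOf K).Normal], (∀ (K' R' : Subgroup (↥K ⧸ R.subgroupOf K)) [hR' : (R'.subgroupOf K').Normal], Cfsg.IsNormalizerPStable p (↥K' ⧸ R'.subgroupOf K')) → ∀ T : Sylow p (↥K ⧸ R.subgroupOf K), Cfsg.ControlsStrongFusion p (Cfsg.inducedFunctor (G := (↥K ⧸ R.subgroupOf K)) W (T : Subgroup (↥K ⧸ R.subgroupOf K)))) : Cfsg.HasNormalPComplement p G := by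
  apply Cfsg.Agent.Lib.Helper1.gr W hW (fun X _ => Cfsg.Agent.Lib.Helper1.IsSectionOf G X)
    (fun X _ _ hX M => Cfsg.Agent.Lib.Helper1.isSectionOf_subgroup hX M)
    (fun X _ _ hX N _ => Cfsg.Agent.Lib.Helper1.isSectionOf_quotient hX N) ?_
    (Cfsg.Agent.Lib.Helper1.isSectionOf_self G) S hN
  intro X _ _ hX hc hbar T hT
  obtain ⟨K, R, hR, ⟨e⟩⟩ := hX
  haveI := hR
  refine Cfsg.Agent.Lib.Helper1.hloc_transport W hW e ?_ hc hbar T hT
  intro hcY hbarY T' hT'
  have hD : Cfsg.Agent.Lib.Helper1.InD p (↥K ⧸ R.subgroupOf K) :=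
    Cfsg.Agent.Lib.Helper1.inD_of_min hbarY T' hT'
  have hst : ∀ (K' R' : Subgroup (↥K ⧸ R.subgroupOf K)) [hR' : (R'.subgroupOf K').Normal],
      Cfsg.IsNormalizerPStable p (↥K' ⧸ R'.subgroupOf K') := by
    intro K' R' hR'
    exact Cfsg.Agent.Lib.Helper1.normalizerPStable_of_inD hp
      (Cfsg.Agent.Lib.Helper1.inD_of_surjective (QuotientGroup.mk' _)
        (QuotientGroup.mk'_surjective _) (Cfsg.Agent.Lib.Helper1.inD_subgroup hD K'))
  have hctl' := hctl K R hst T'
  refine Cfsg.Agent.Lib.Helper1.normal_of_controls hcY _ ?_ hctl'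
  exact (Cfsg.Agent.Lib.Helper4.pCore_le_sylow T').trans (Subgroup.le_normalizer.trans
    (Cfsg.Agent.Lib.Helper1.indW_normalizer W hW (T' : Subgroup (↥K ⧸ R.subgroupOf K))
      T'.isPGroup'))

end Cfsg.Agent.S1990
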