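import Cfsg.Statements.S1996
import Mathlib
import Cfsg.Agent.Lib.Helper1.FC6

set_option autoImplicit false
universe u
open Cfsg

namespace Cfsg.Agent.S1996

open Cfsg.Agent.Lib.Helper1 Cfsg.Agent.Lib.Helper3

/-- Let p be a prime, G a finite group and W₁, W₂ two isomorphism-invariant p-group functors (W assigns to every group Q a subgroup W(Q), nontrivial whenever Q is a nontrivial finite p-group, and every isomorphism from a finite p-group Q onto a group R carries W(Q) onto W(R)). Suppose that G* = N_{G*}(W₁(S*)) N_{G*}(W₂(S*)) whenever G* = K/R is a section of G with C_{G*}(O_p(G*)) ≤ O_p(G*) and S* is a Sylow p-subgroup of G*. Then the pair {W₁, W₂} controls strong fusion in G. -/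
theorem result {G : Type u} [Group G] [Finite G] {p : ℕ} [Fact p.Prime] (W₁ W₂ : ∀ (Q : Type u) [Group Q], Subgroup Q) (hW₁ : Cfsg.IsCharPFunctor.{u} p W₁) (hW₂ : Cfsg.IsCharPFunctor.{u} p W₂) (hfac : ∀ (K R : Subgroup G) [hR : (R.subgroupOf K).Normal], Subgroup.centralizer ((Cfsg.pCore p (↥K ⧸ R.subgroupOf K) : Subgroup (↥K ⧸ R.subgroupOf K)) : Set (↥K ⧸ R.subgroupOf K)) ≤ Cfsg.pCore p (↥K ⧸ R.subgroupOf K) → ∀ T : Sylow p (↥K ⧸ R.subgroupOf K), ∀ x : (↥K ⧸ R.subgroupOf K), ∃ a ∈ Subgroup.normalizer ((Cfsg.inducedFunctor (G := (↥K ⧸ R.subgroupOf K)) W₁ (T : Subgroup (↥K ⧸ R.subgroupOf K)) : Subgroup (↥K ⧸ R.subgroupOf K)) : Set (↥K ⧸ R.subgroupOf K)), ∃ b ∈ Subgroup.normalizer ((Cfsg.inducedFunctor (G := (↥K ⧸ R.subgroupOf K)) W₂ (T : Subgroup (↥K ⧸ R.subgroupOf K)) : Subgroup (↥K ⧸ R.subgroupOf K)) : Set (↥K ⧸ R.subgroupOf K)), x = a * b) : Cfsg.FamilyControlsStrongFusionIn p {Cfsg.inducedFunctor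 (G := G) W₁, Cfsg.inducedFunctor (G := G) W₂} ⊤ := by
  have hset : ({Cfsg.inducedFunctor (G := G) W₁, Cfsg.inducedFunctor (G := G) W₂} :
      Set (Subgroup G → Subgroup G)) = indSet {W₁, W₂} G := by
    unfold indSet
    rw [Set.image_pair]
  rw [hset]
  have h𝓦 : ∀ W' ∈ ({W₁, W₂} : Set (∀ (Q : Type u) [Group Q], Subgroup Q)),
      Cfsg.IsCharPFunctor.{u} p W' := by
    intro W' hW'
    rcases hW' with rfl | hW'
    · exact hW₁
    · rw [Set.mem_singleton_iff] at hW'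
      rw [hW']; exact hW₂
  have hloc' : ∀ (K R : Subgroup G) [hR : (R.subgroupOf K).Normal],
      Subgroup.centralizer ((Cfsg.pCore p (↥K ⧸ R.subgroupOf K) :
        Subgroup (↥K ⧸ R.subgroupOf K)) : Set (↥K ⧸ R.subgroupOf K)) ≤
          Cfsg.pCore p (↥K ⧸ R.subgroupOf K) →
      ∀ T : Sylow p (↥K ⧸ R.subgroupOf K),
        Ctl {W₁, W₂} (↥K ⧸ R.subgroupOf K) (T : Subgroup (↥K ⧸ R.subgroupOf K)) := by
    intro K R hR hcon T A g hA hAg
    obtain ⟨a, ha, b, hb, rfl⟩ := hfac K R hcon T g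
    have hTN₁ : (T : Subgroup (↥K ⧸ R.subgroupOf K)) ≤ Subgroup.normalizer
        ((Cfsg.inducedFunctor W₁ (T : Subgroup (↥K ⧸ R.subgroupOf K)) :
          Subgroup (↥K ⧸ R.subgroupOf K)) : Set (↥K ⧸ R.subgroupOf K)) :=
      Subgroup.le_normalizer.trans (indW_normalizer W₁ hW₁ _ T.isPGroup')
    have hTN₂ : (T : Subgroup (↥K ⧸ R.subgroupOf K)) ≤ Subgroup.normalizer
        ((Cfsg.inducedFunctor W₂ (T : Subgroup (↥K ⧸ R.subgroupOf K)) :
          Subgroup (↥K ⧸ R.subgroupOf K)) : Set (↥K ⧸ R.subgroupOf K)) :=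
      Subgroup.le_normalizer.trans (indW_normalizer W₂ hW₂ _ T.isPGroup')
    have hN : lconj b A ⊆ ((Subgroup.normalizer
        ((Cfsg.inducedFunctor W₁ (T : Subgroup (↥K ⧸ R.subgroupOf K)) :
          Subgroup (↥K ⧸ R.subgroupOf K)) : Set (↥K ⧸ R.subgroupOf K)) ⊓ Subgroup.normalizer
        ((Cfsg.inducedFunctor W₂ (T : Subgroup (↥K ⧸ R.subgroupOf K)) :
          Subgroup (↥K ⧸ R.subgroupOf K)) : Set (↥K ⧸ R.subgroupOf K)) :
            Subgroup (↥K ⧸ R.subgroupOf K)) : Set (↥K ⧸ R.subgroupOf K)) := by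
      rintro _ ⟨x, hx, rfl⟩
      refine Subgroup.mem_inf.mpr ⟨?_, ?_⟩
      · have h1 : a * b * x * (a * b)⁻¹ ∈ Subgroup.normalizer
            ((Cfsg.inducedFunctor W₁ (T : Subgroup (↥K ⧸ R.subgroupOf K)) :
              Subgroup (↥K ⧸ R.subgroupOf K)) : Set (↥K ⧸ R.subgroupOf K)) :=
          hTN₁ (hAg ⟨x, hx, rfl⟩)
        have e : b * x * b⁻¹ = a⁻¹ * (a * b * x * (a * b)⁻¹) * a := by group
        show b * x * b⁻¹ ∈ _
        rw [e]
        exact Subgroup.mul_mem _ (Subgroup.mul_mem _ (Subgroup.inv_mem _ ha) h1) ha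
      · exact Subgroup.mul_mem _ (Subgroup.mul_mem _ hb (hTN₂ (hA hx))) (Subgroup.inv_mem _ hb)
    obtain ⟨k, hk, hkA⟩ := sylow_adjust T _ ⊤ (le_inf hTN₁ hTN₂) A hA b hN
      (by rw [sup_top_eq]; intro x _; exact Subgroup.mem_top x)
    have hk₁ := (Subgroup.mem_inf.mp (Subgroup.mem_inf.mp hk).2).1
    have hk₂ := (Subgroup.mem_inf.mp (Subgroup.mem_inf.mp hk).2).2
    have h1 : GF (SS {W₁, W₂} (↥K ⧸ R.subgroupOf K) (T : Subgroup (↥K ⧸ R.subgroupOf K)))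
        ((T : Subgroup (↥K ⧸ R.subgroupOf K)) : Set (↥K ⧸ R.subgroupOf K)) A (k * b) :=
      gf_step (mem_SS.mpr ⟨W₂, Set.mem_insert_of_mem _ rfl, Subgroup.mul_mem _ hk₂ hb⟩) hA hkA
    have h2 : GF (SS {W₁, W₂} (↥K ⧸ R.subgroupOf K) (T : Subgroup (↥K ⧸ R.subgroupOf K)))
        ((T : Subgroup (↥K ⧸ R.subgroupOf K)) : Set (↥K ⧸ R.subgroupOf K)) (lconj (k * b) A)
        (a * k⁻¹) := by
      refine gf_step (mem_SS.mpr ⟨W₁, Set.mem_insert _ _,
        Subgroup.mul_mem _ ha (Subgroup.inv_mem _ hk₁)⟩) hkA ?_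
      rw [← lconj_mul]
      have : a * k⁻¹ * (k * b) = a * b := by group
      rw [this]; exact hAg
    have h3 := gf_trans h1 h2
    have : a * k⁻¹ * (k * b) = a * b := by group
    rw [this] at h3
    exact h3
  obtain ⟨S⟩ : Nonempty (Sylow p G) := inferInstance
  exact fam_of_ctl S (fc_sections {W₁, W₂} h𝓦 ⟨W₁, Set.mem_insert _ _⟩ hloc' G
    (isSectionOf_self G) S)

end Cfsg.Agent.S1996
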