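import Cfsg.Statements.S1998
import Mathlib
import Cfsg.Agent.Lib.Helper1.TC5

set_option autoImplicit false
universe u
open Cfsg

namespace Cfsg.Agent.S1998

open Cfsg.Agent.Lib.Helper1 Cfsg.Agent.Lib.Helper3

/-- Let p be a prime, G a finite group with Sylow p-subgroup S, and 𝓦 a nonempty set of isomorphism-invariant p-group functors (W assigns to every group Q a subgroup W(Q), nontrivial whenever Q is a nontrivial finite p-group, and every isomorphism from a finite p-group Q onto a group R carries W(Q) onto W(R)). Suppose the induced conjugacy functors control transfer in every section of G other than G itself, but not in G. Let T be the subgroup generated by the S ∩ (N_G(W(S)))', W ∈ 𝓦, and M = N_G(T ∩ O_p(G)). Then: C_G(O_p(G)) ≤ O_p(G); M is a proper subgroup of G containing every proper subgroup of G that contains S (the unique maximal subgroup over S); [O_p(G), M] ≤ O_p(G) ∩ M' ≤ O_p(G) ∩ T; and every element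 u of S outside O_p(G) satisfies [X, u, …, u] ≰ Y with p − 1 entries u, for some chief factor X/Y of G with X ≤ O_p(G). -/
theorem result {G : Type u} [Group G] [Finite G] {p : ℕ} [Fact p.Prime] (S : Sylow p G) (𝓦 : Set (∀ (Q : Type u) [Group Q], Subgroup Q)) (h𝓦 : ∀ W ∈ 𝓦, Cfsg.IsCharPFunctor.{u} p W) (hne : 𝓦.Nonempty) (hsec : ∀ (K R : Subgroup G) [hR : (R.subgroupOf K).Normal], (K = ⊤ → R ≠ ⊥) → Cfsg.FamilyControlsTransferIn p ((fun W => Cfsg.inducedFunctor (G := (↥K ⧸ R.subgroupOf K)) W) '' 𝓦) ⊤) (hG : ¬ Cfsg.FamilyControlsTransferIn p ((fun W => Cfsg.inducedFunctor (G := G) W) '' 𝓦) ⊤) (T M : Subgroup G) (hT : T = (⨆ W ∈ 𝓦, (S : Subgroup G) ⊓ ⁅Subgroup.normalizer ((Cfsg.inducedFunctor (G := G) W (S : Subgroup G) : Subgroup G) : Set G), Subgroup.normalizer ((Cfsg.inducedFunctor (G := G) W (S : Subgroup G) : Subgroup G) : Set G)⁆)) (hM : M = Subgroup.normalizer ((T ⊓ Cfsg.pCore p G : Subgroup G) : Set G)) : Subgroup.centralizer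 ((Cfsg.pCore p G : Subgroup G) : Set G) ≤ Cfsg.pCore p G ∧ (M ≠ ⊤ ∧ ∀ H : Subgroup G, (S : Subgroup G) ≤ H → H ≠ ⊤ → H ≤ M) ∧ (⁅Cfsg.pCore p G, M⁆ ≤ Cfsg.pCore p G ⊓ ⁅M, M⁆ ∧ Cfsg.pCore p G ⊓ ⁅M, M⁆ ≤ Cfsg.pCore p G ⊓ T) ∧ ∀ u : G, u ∈ (S : Subgroup G) → u ∉ Cfsg.pCore p G → ∃ U V : Subgroup G, Cfsg.IsChiefFactor U V ∧ U ≤ Cfsg.pCore p G ∧ ¬ Cfsg.iterCommutator U (Subgroup.zpowers u) (p - 1) ≤ V := by
  classical
  have hsmall : ∀ (Y : Type u) [Group Y] [Finite Y], IsSectionOf G Y →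
      Nat.card Y < Nat.card G → ∀ T' : Sylow p Y, TC 𝓦 Y ⊤ (T' : Subgroup Y) :=
    fun Y _ _ hY hlt T' => small_of_sections 𝓦 h𝓦 hsec Y hY hlt T'
  have hnotTC : ∀ T' : Sylow p G, ¬ TC 𝓦 G ⊤ (T' : Subgroup G) :=
    fun T' h => hG (famtr_of_tc T' h)
  obtain ⟨W₀, hW₀⟩ := hne
  have hTeq : T = TD 𝓦 G ⊤ (S : Subgroup G) := by
    rw [hT]; unfold TD; simp only [top_inf_eq]
  have IHsub : ∀ H : Subgroup G, H ≠ ⊤ → ∀ T' : Sylow p ↥H, TC 𝓦 ↥H ⊤ (T' : Subgroup ↥H) := by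
    intro H hH T'
    refine hsmall ↥H (isSectionOf_subgroup (isSectionOf_self G) H) ?_ T'
    exact lt_of_le_of_ne (Subgroup.card_le_card_group H)
      (fun h1 => hH (Subgroup.eq_top_of_card_eq H h1))
  have IHS : ∀ H : Subgroup G, H ≠ ⊤ → (S : Subgroup G) ≤ H →
      (S : Subgroup G) ⊓ ⁅H, H⁆ ≤ T := by
    intro H hH hSH
    rw [hTeq]
    exact tc_of_sub h𝓦 S H hSH (IHsub H hH)
  have hcon : Subgroup.centralizer ((Cfsg.pCore p G : Subgroup G) : Set G) ≤ Cfsg.pCore p G := by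
    by_contra hnc
    exact hnotTC S (tc_of_small 𝓦 h𝓦 hsmall (fun h => absurd h hnc) S)
  have hQXfail : ¬ (Cfsg.pCore p G ⊓ commutator G ≤ T) := by
    intro hQX
    rw [hTeq] at hQX
    refine hnotTC S (tc_of_small 𝓦 h𝓦 hsmall (fun _ T₁ => ?_) S)
    obtain ⟨n, -, hn⟩ := exists_conj_sylowIn ⊤ (T₁ : Subgroup G) (S : Subgroup G) le_top
      T₁.isPGroup' (by rw [Subgroup.relIndex_top_right]; exact T₁.not_dvd_index) le_top
      S.isPGroup' (by rw [Subgroup.relIndex_top_right]; exact S.not_dvd_index)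
    have h1 := tq_equiv h𝓦 (MulAut.conj n) (S : Subgroup G) S.isPGroup' hQX
    rw [hn] at h1
    exact h1
  obtain ⟨Q, hQ⟩ : ∃ Q : Subgroup G, Q = Cfsg.pCore p G := ⟨_, rfl⟩
  rw [← hQ] at hcon hQXfail hM ⊢
  haveI hQn : Q.Normal := by rw [hQ]; exact Cfsg.pCore_normal p G
  have hQS : Q ≤ (S : Subgroup G) := by rw [hQ]; exact Cfsg.Agent.Lib.Helper4.pCore_le_sylow S
  have hSnn : ¬ (S : Subgroup G).Normal := by
    intro hn
    apply hnotTC S
    refine le_trans ?_ (le_td ⊤ (S : Subgroup G) hW₀)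
    have hNS : Subgroup.normalizer ((Cfsg.inducedFunctor W₀ (S : Subgroup G) : Subgroup G) :
        Set G) = ⊤ := by
      rw [eq_top_iff]
      refine le_trans ?_ (indW_normalizer W₀ (h𝓦 W₀ hW₀) (S : Subgroup G) S.isPGroup')
      exact (Subgroup.normalizer_eq_top_iff.mpr hn).ge
    rw [hNS, top_inf_eq]
  have hStop : (S : Subgroup G) ≠ ⊤ := by
    intro h
    apply hSnn
    rw [h]; infer_instance
  have hSS : ⁅(S : Subgroup G), (S : Subgroup G)⁆ ≤ T :=
    le_trans (le_inf (Subgroup.commutator_le_self _) le_rfl) (IHS _ hStop le_rfl)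
  have hcomm : ∀ H : Subgroup G, (S : Subgroup G) ≤ H → H ≠ ⊤ → ∀ h ∈ H, ∀ q ∈ Q,
      h * q * h⁻¹ * q⁻¹ ∈ T ⊓ Q := by
    intro H hSH hH h hh q hq
    have h1 : h * q * h⁻¹ ∈ Q := hQn.conj_mem q hq h
    have h2 : h * q * h⁻¹ * q⁻¹ ∈ Q := Q.mul_mem h1 (Q.inv_mem hq)
    refine Subgroup.mem_inf.mpr ⟨?_, h2⟩
    apply IHS H hH hSH
    refine Subgroup.mem_inf.mpr ⟨hQS h2, ?_⟩
    have h3 := Subgroup.commutator_mem_commutator hh (hSH (hQS hq))
    rw [commutatorElement_def] at h3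
    exact h3
  have hHM : ∀ H : Subgroup G, (S : Subgroup G) ≤ H → H ≠ ⊤ → H ≤ M := by
    intro H hSH hH h hh
    rw [hM]
    apply mem_normalizer_of_forall_conj_mem
    intro t ht
    obtain ⟨htT, htQ⟩ := Subgroup.mem_inf.mp ht
    have h1 := hcomm H hSH hH h hh t htQ
    have e : h * t * h⁻¹ = (h * t * h⁻¹ * t⁻¹) * t := by group
    rw [e]
    exact Subgroup.mul_mem _ h1 ht
  have hMtop : M ≠ ⊤ := by
    intro htop
    have hT₀n : (T ⊓ Q).Normal := by
      rw [hM] at htop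
      exact Subgroup.normalizer_eq_top_iff.mp htop
    let C₁ : Subgroup G :=
      { carrier := {g | ∀ q ∈ Q, g * q * g⁻¹ * q⁻¹ ∈ T ⊓ Q}
        one_mem' := by
          intro q _
          have : (1 : G) * q * 1⁻¹ * q⁻¹ = 1 := by group
          rw [this]; exact Subgroup.one_mem _
        mul_mem' := by
          intro a b ha hb q hq
          have h1 := hb q hq
          have h2 := ha q hq
          have h3 := hT₀n.conj_mem _ h1 a
          have e : a * b * q * (a * b)⁻¹ * q⁻¹ =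
              (a * (b * q * b⁻¹ * q⁻¹) * a⁻¹) * (a * q * a⁻¹ * q⁻¹) := by group
          rw [e]
          exact Subgroup.mul_mem _ h3 h2
        inv_mem' := by
          intro a ha q hq
          have hq' : a⁻¹ * q * a ∈ Q := by
            have := hQn.conj_mem q hq a⁻¹
            rwa [inv_inv] at this
          have h1 := ha _ hq'
          have e : a⁻¹ * q * a⁻¹⁻¹ * q⁻¹ = (a * (a⁻¹ * q * a) * a⁻¹ * (a⁻¹ * q * a)⁻¹)⁻¹ := by
            group
          rw [e]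
          exact Subgroup.inv_mem _ h1 }
    have hC₁mem : ∀ g : G, g ∈ C₁ ↔ ∀ q ∈ Q, g * q * g⁻¹ * q⁻¹ ∈ T ⊓ Q := fun g => Iff.rfl
    haveI hC₁n : C₁.Normal := by
      refine ⟨fun g hg x => ?_⟩
      rw [hC₁mem] at hg ⊢
      intro q hq
      have hq' : x⁻¹ * q * x ∈ Q := by
        have := hQn.conj_mem q hq x⁻¹
        rwa [inv_inv] at this
      have h1 := hT₀n.conj_mem _ (hg _ hq') x
      have e : x * g * x⁻¹ * q * (x * g * x⁻¹)⁻¹ * q⁻¹ =
          x * (g * (x⁻¹ * q * x) * g⁻¹ * (x⁻¹ * q * x)⁻¹) * x⁻¹ := by group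
      rw [e]; exact h1
    have hprop : ∀ H : Subgroup G, (S : Subgroup G) ≤ H → H ≠ ⊤ → H ≤ C₁ :=
      fun H hSH hH h hh => (hC₁mem h).mpr (fun q hq => hcomm H hSH hH h hh q hq)
    have hSC₁ : (S : Subgroup G) ≤ C₁ := hprop _ le_rfl hStop
    have hC₁top : C₁ = ⊤ := by
      by_contra hne
      have hfr := frattini_inf S C₁
      rw [inf_eq_left.mpr hSC₁] at hfr
      have hNS : Subgroup.normalizer (((S : Subgroup G) : Subgroup G) : Set G) ≠ ⊤ :=
        fun h => hSnn (Subgroup.normalizer_eq_top_iff.mp h)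
      have h1 := hprop _ Subgroup.le_normalizer hNS
      rw [sup_eq_right.mpr h1] at hfr
      exact hne hfr
    apply hQXfail
    intro q hq
    obtain ⟨hqQ, hqc⟩ := Subgroup.mem_inf.mp hq
    refine transfer_mem S T hSS q (hQS hqQ) hqc ?_
    intro k g _
    have hg : g⁻¹ ∈ C₁ := by rw [hC₁top]; exact Subgroup.mem_top _
    have h1 := (hC₁mem _).mp hg ((q ^ k)⁻¹) (Q.inv_mem (Q.pow_mem hqQ k))
    have e : (g⁻¹ * q ^ k * g)⁻¹ * q ^ k = g⁻¹ * (q ^ k)⁻¹ * g⁻¹⁻¹ * (q ^ k)⁻¹⁻¹ := by group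
    rw [e]
    exact (Subgroup.mem_inf.mp h1).1
  have hSM : (S : Subgroup G) ≤ M := hHM _ le_rfl hStop
  refine ⟨hcon, ⟨hMtop, hHM⟩, ⟨?_, ?_⟩, ?_⟩
  · exact le_inf (Subgroup.commutator_le_left Q M)
      (Subgroup.commutator_mono (hQS.trans hSM) le_rfl)
  · exact le_inf inf_le_left (le_trans (inf_le_inf hQS le_rfl) (IHS M hMtop hSM))
  · intro u huS huQ
    by_contra hno
    push Not at hno
    apply hQXfail
    rw [hTeq, hQ]
    rw [hQ] at huQ hno
    exact engel_constrained_fam 𝓦 h𝓦 S IHsub u huS huQ (fun U V hch hU => hno U V hch hU)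

end Cfsg.Agent.S1998
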