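import Cfsg.Statements.S2003
import Mathlib
import Cfsg.Agent.Lib.Helper1.KE5

set_option autoImplicit false
open Cfsg

namespace Cfsg.Agent.S2003

open Cfsg.Agent.Lib.Helper1 Cfsg.Agent.Lib.Helper3

/-- Let p be a prime, G a finite group, P a normal p-subgroup of G and Q a critical subgroup of P: a characteristic subgroup with Q/Z(Q) elementary abelian, [P, Q] ≤ Z(Q), C_P(Q) = Z(Q), and such that every automorphism of P of order prime to p fixing Q elementwise is trivial. Let g ∈ G and i, j ≥ 1, and suppose that [X, g, …, g] ≤ Y with i entries g for every chief factor X/Y of G with X ≤ Q, and with j entries g for every chief factor X/Y of G with X ≤ Z(Q). Then [X, g, …, g] ≤ Y with i + j − 1 entries g for every chief factor X/Y of G with X ≤ P. -/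
theorem result {G : Type*} [Group G] [Finite G] {p : ℕ} [Fact p.Prime] (P : Subgroup G) [P.Normal] (hP : IsPGroup p ↥P) (Q : Subgroup G) (hQP : Q ≤ P) (hQchar : (Q.subgroupOf P).Characteristic) (hQ1 : ∀ a ∈ Q, a ^ p ∈ Q ⊓ Subgroup.centralizer ((Q : Subgroup G) : Set G)) (hQ2 : ⁅Q, Q⁆ ≤ Subgroup.centralizer ((Q : Subgroup G) : Set G)) (hQ3 : ⁅P, Q⁆ ≤ Q ⊓ Subgroup.centralizer ((Q : Subgroup G) : Set G)) (hQ4 : P ⊓ Subgroup.centralizer ((Q : Subgroup G) : Set G) = Q ⊓ Subgroup.centralizer ((Q : Subgroup G) : Set G)) (hQ5 : ∀ φ : MulAut ↥P, (orderOf φ).Coprime p → (∀ a : ↥P, (a : G) ∈ Q → φ a = a) → φ = 1) (g : G) (i j : ℕ) (hi : 1 ≤ i) (hj : 1 ≤ j) (hQi : ∀ U V : Subgroup G, Cfsg.IsChiefFactor U V → U ≤ Q → Cfsg.iterCommutator U (Subgroup.zpowers g) i ≤ V) (hZj : ∀ U V : Subgroup G, Cfsg.IsChiefFactor U V → U ≤ Q ⊓ Subgroup.centralizer ((Q : Subgroup G) : Set G) → Cfsg.iterCommutator U (Subgroup.zpowers g) j ≤ V) : ∀ U V : Subgroup G, Cfsg.IsChiefFactor U V → U ≤ P → Cfsg.iterCommutator U (Subgroup.zpowers g) (i + j -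 1) ≤ V := by
  intro U V hch hUP
  haveI := hQchar
  haveI hQn : Q.Normal := by
    have h1 : (Q.subgroupOf P).map P.subtype = Q := Subgroup.map_subgroupOf_eq_of_le hQP
    rw [← h1]; exact ConjAct.normal_of_characteristic_of_normal
  obtain ⟨Z, hZ⟩ : ∃ Z : Subgroup G, Z = Q ⊓ Subgroup.centralizer ((Q : Subgroup G) : Set G) :=
    ⟨_, rfl⟩
  rw [← hZ] at hQ3 hQ4 hZj
  haveI hZn : Z.Normal := by rw [hZ]; infer_instance
  have hZQ : Z ≤ Q := by rw [hZ]; exact inf_le_left
  have hZab : ∀ a ∈ Z, ∀ b ∈ Z, a * b = b * a := by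
    intro a ha b hb
    rw [hZ] at ha hb
    exact (Subgroup.mem_centralizer_iff.mp (Subgroup.mem_inf.mp hb).2 a (Subgroup.mem_inf.mp ha).1)
  have hQZ : Q ≤ Subgroup.centralizer (Z : Set G) := by
    intro a ha
    rw [Subgroup.mem_centralizer_iff]
    intro z hz
    rw [hZ] at hz
    exact (Subgroup.mem_centralizer_iff.mp (Subgroup.mem_inf.mp hz).2 a ha).symm
  have hch' := hch
  obtain ⟨hVU, hUn, hVn, hchief⟩ := hch
  haveI := hUn
  haveI := hVn
  have dich : ∀ N : Subgroup G, N.Normal → N ≤ U → N ≤ V ∨ N ⊔ V = U := by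
    intro N hN hNU
    haveI := hN
    rcases hchief (N ⊔ V) inferInstance le_sup_right (sup_le hNU hVU.le) with h | h
    · left; rw [← h]; exact le_sup_left
    · right; exact h
  have reduce : ∀ N : Subgroup G, N ⊔ V = U → ∀ k : ℕ,
      Cfsg.iterCommutator N (Subgroup.zpowers g) k ≤ V →
      Cfsg.iterCommutator U (Subgroup.zpowers g) k ≤ V := by
    intro N h k hk
    rw [← h]
    exact (ke_iter_sup_le N V (Subgroup.zpowers g) k).trans (sup_le hk le_rfl)
  by_cases ha : U ⊓ Q ≤ V
  · by_cases hb1 : U ⊓ Subgroup.centralizer (Z : Set G) ≤ V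
    · have ind : ∀ n : ℕ, ∀ M : Subgroup G, M.Normal → M ≤ Z → Nat.card M ≤ n →
          U ⊓ Subgroup.centralizer (M : Set G) ≤ V →
          Cfsg.iterCommutator U (Subgroup.zpowers g) (i + j - 1) ≤ V := by
        intro n
        induction n with
        | zero =>
          intro M _ _ hc _
          have := Nat.card_pos (α := M)
          omega
        | succ n ih =>
          intro M hMn hMZ hc hMV
          haveI := hMn
          by_cases hM : M = ⊥
          · have hUV : U ≤ V := by
              refine le_trans (le_inf le_rfl ?_) hMV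
              rw [hM]
              intro u _
              rw [Subgroup.mem_centralizer_iff]
              intro h hh
              have hh' : h = 1 := Subgroup.mem_bot.mp hh
              rw [hh']; group
            exact ke_iter_le_normal _ hUV _
          · have hMP : M ≤ P := hMZ.trans (hZQ.trans hQP)
            have hlt : ⁅M, U⁆ < M :=
              lt_of_le_of_lt (Subgroup.commutator_mono le_rfl hUP)
                (ke_commutator_lt P hP M hMP hM)
            have hcard : Nat.card (⁅M, U⁆ : Subgroup G) ≤ n := by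
              have := card_lt_card_of_lt' hlt
              omega
            have hM'Z : ⁅M, U⁆ ≤ Z := hlt.le.trans hMZ
            rcases dich (U ⊓ Subgroup.centralizer ((⁅M, U⁆ : Subgroup G) : Set G)) inferInstance
              inf_le_left with h | h
            · exact ih ⁅M, U⁆ inferInstance hM'Z hcard h
            · exact ke_double_filtration M
                (U ⊓ Subgroup.centralizer ((⁅M, U⁆ : Subgroup G) : Set G)) ⁅M, U⁆
                (Subgroup.commutator_mono le_rfl inf_le_left)
                (by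
                  intro m hm
                  rw [Subgroup.mem_centralizer_iff]
                  intro w hw
                  exact hZab w (hM'Z hw) m (hMZ hm))
                inf_le_right
                (fun a ha b hb => hZab a (hM'Z ha) b (hM'Z hb))
                (Subgroup.zpowers g) i j hi
                (fun A₁ A₀ hc1 hA₁ => hQi A₁ A₀ hc1 (hA₁.trans (hMZ.trans hZQ)))
                (fun W₁ W₀ hc1 hW₁ => hZj W₁ W₀ hc1 (hW₁.trans hM'Z))
                U V hch' inf_le_left h
                ((inf_le_inf_right _ inf_le_left).trans hMV)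
      exact ind (Nat.card Z) Z hZn le_rfl le_rfl hb1
    · rcases dich (U ⊓ Subgroup.centralizer (Z : Set G)) inferInstance inf_le_left with h | h
      · exact absurd h hb1
      exact ke_double_filtration Q (U ⊓ Subgroup.centralizer (Z : Set G)) Z
        ((Subgroup.commutator_mono le_rfl (inf_le_left.trans hUP)).trans
          (by rw [Subgroup.commutator_comm]; exact hQ3))
        hQZ inf_le_right hZab (Subgroup.zpowers g) i j hi
        (fun A₁ A₀ hc1 hA₁ => hQi A₁ A₀ hc1 hA₁)
        (fun W₁ W₀ hc1 hW₁ => hZj W₁ W₀ hc1 hW₁)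
        U V hch' inf_le_left h
        (by
          intro x hx
          obtain ⟨hx1, hx2⟩ := Subgroup.mem_inf.mp hx
          have hxU : x ∈ U := (Subgroup.mem_inf.mp hx1).1
          have hxZ : x ∈ Z := by
            rw [← hQ4]
            exact Subgroup.mem_inf.mpr ⟨hUP hxU, hx2⟩
          exact ha (Subgroup.mem_inf.mpr ⟨hxU, hZQ hxZ⟩))
  · rcases dich (U ⊓ Q) inferInstance inf_le_left with h | h
    · exact absurd h ha
    have hchQ : Cfsg.IsChiefFactor (U ⊓ Q) (V ⊓ Q) := by
      refine ⟨lt_of_le_of_ne (inf_le_inf_right _ hVU.le) ?_, inferInstance, inferInstance,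
        fun N hN hVN hNU => ?_⟩
      · intro he
        apply ha
        rw [← he]; exact inf_le_left
      · haveI := hN
        rcases dich N hN (hNU.trans inf_le_left) with h' | h'
        · left
          exact le_antisymm (le_inf h' (hNU.trans inf_le_right)) hVN
        · right
          apply le_antisymm hNU
          intro x hx
          obtain ⟨hxU, hxQ⟩ := Subgroup.mem_inf.mp hx
          rw [← h'] at hxU
          obtain ⟨n, hn, v, hv, rfl⟩ := Subgroup.mem_sup_of_normal_right.mp hxU
          have hnQ : n ∈ Q := (Subgroup.mem_inf.mp (hNU hn)).2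
          have hvQ : v ∈ Q := by
            have h6 : v = n⁻¹ * (n * v) := by group
            rw [h6]; exact Q.mul_mem (Q.inv_mem hnQ) hxQ
          exact N.mul_mem hn (hVN (Subgroup.mem_inf.mpr ⟨hv, hvQ⟩))
    have h1 := hQi (U ⊓ Q) (V ⊓ Q) hchQ inf_le_right
    have h2 : Cfsg.iterCommutator U (Subgroup.zpowers g) i ≤ V :=
      reduce _ h i (h1.trans inf_le_left)
    obtain ⟨k, hk⟩ : ∃ k, i + j - 1 = i + k := ⟨j - 1, by omega⟩
    rw [hk]
    exact ke_iter_le_of_le _ i k h2

end Cfsg.Agent.S2003
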