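import Cfsg.Statements.S2466
import Mathlib

set_option autoImplicit false
open Cfsg
open scoped commutatorElement

namespace Cfsg.Agent.S2466

theorem prime_pow_dvd_multiset_lcm (p k : ℕ) (hp : p.Prime) (s : Multiset ℕ) (h : p ^ k ∣ s.lcm) (hk : 0 < k) :
    ∃ c ∈ s, p ^ k ∣ c := by
  induction s using Multiset.induction_on with
  | empty =>
    exfalso
    rw [Multiset.lcm_zero] at h
    have h1 := Nat.le_of_dvd Nat.one_pos h
    have h2 : 1 < p ^ k := Nat.one_lt_pow hk.ne' hp.one_lt
    omega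
  | cons a s ih =>
    rw [Multiset.lcm_cons] at h
    have h' : p ^ k ∣ Nat.lcm a s.lcm := h
    by_cases ha : a = 0
    · exact ⟨a, Multiset.mem_cons_self a s, by rw [ha]; exact dvd_zero _⟩
    by_cases hs : s.lcm = 0
    · rw [Multiset.lcm_eq_zero_iff] at hs
      exact ⟨0, Multiset.mem_cons_of_mem hs, dvd_zero _⟩
    have hl : Nat.lcm a s.lcm ≠ 0 := Nat.lcm_ne_zero ha hs
    rw [hp.pow_dvd_iff_le_factorization hl, Nat.factorization_lcm ha hs] at h'
    simp only [Finsupp.sup_apply] at h'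
    rcases le_sup_iff.mp h' with h1 | h1
    · exact ⟨a, Multiset.mem_cons_self a s, (hp.pow_dvd_iff_le_factorization ha).mpr h1⟩
    · obtain ⟨c, hc, hd⟩ := ih ((hp.pow_dvd_iff_le_factorization hs).mpr h1)
      exact ⟨c, Multiset.mem_cons_of_mem hc, hd⟩

theorem mem_range_orderOf_alt_iff (n k : ℕ) :
    k ∈ Set.range (orderOf : alternatingGroup (Fin n) → ℕ) ↔
      ∃ σ : Equiv.Perm (Fin n), Equiv.Perm.sign σ = 1 ∧ orderOf σ = k := by
  constructor
  · rintro ⟨σ, rfl⟩
    exact ⟨σ.1, Equiv.Perm.mem_alternatingGroup.mp σ.2, (Subgroup.orderOf_coe σ)⟩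
  · rintro ⟨σ, hσ, rfl⟩
    exact ⟨⟨σ, Equiv.Perm.mem_alternatingGroup.mpr hσ⟩, (Subgroup.orderOf_coe _).symm⟩


/-- Adjacency of odd primes in the prime graph of the alternating groups: let r ≠ s be odd primes at most n. The alternating group of degree n has an element of order r·s if and only if r + s ≤ n. -/
theorem result (n r s : ℕ) (hr : r.Prime) (hs : s.Prime) (hr2 : r ≠ 2) (hs2 : s ≠ 2) (hrs : r ≠ s) (hrn : r ≤ n) (hsn : s ≤ n) :
    (r * s ∈ Set.range (orderOf : alternatingGroup (Fin n) → ℕ)) ↔ r + s ≤ n := by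
  rw [mem_range_orderOf_alt_iff]
  have hro : Odd r := hr.odd_of_ne_two hr2
  have hso : Odd s := hs.odd_of_ne_two hs2
  constructor
  · rintro ⟨σ, hσ, hord⟩
    rw [← Equiv.Perm.lcm_cycleType] at hord
    have h1 : r ^ 1 ∣ σ.cycleType.lcm := by rw [hord, pow_one]; exact dvd_mul_right r s
    have h2 : s ^ 1 ∣ σ.cycleType.lcm := by rw [hord, pow_one]; exact dvd_mul_left s r
    obtain ⟨c₁, hc₁, hd₁⟩ := prime_pow_dvd_multiset_lcm r 1 hr _ h1 Nat.one_pos
    obtain ⟨c₂, hc₂, hd₂⟩ := prime_pow_dvd_multiset_lcm s 1 hs _ h2 Nat.one_pos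
    rw [pow_one] at hd₁ hd₂
    have hsum := Equiv.Perm.sum_cycleType_le σ
    rw [Fintype.card_fin] at hsum
    have hc₁pos : 0 < c₁ := by have := Equiv.Perm.two_le_of_mem_cycleType hc₁; omega
    have hc₂pos : 0 < c₂ := by have := Equiv.Perm.two_le_of_mem_cycleType hc₂; omega
    by_cases hcc : c₁ = c₂
    · subst hcc
      have hcop : Nat.Coprime r s := (Nat.coprime_primes hr hs).mpr hrs
      have hd : r * s ∣ c₁ := hcop.mul_dvd_of_dvd_of_dvd hd₁ hd₂
      have h3 := Nat.le_of_dvd hc₁pos hd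
      have h4 : c₁ ≤ σ.cycleType.sum := Multiset.le_sum_of_mem hc₁
      have h5 : r + s ≤ r * s := by
        have := hr.two_le; have := hs.two_le
        nlinarith
      omega
    · have h3 : c₂ ∈ σ.cycleType.erase c₁ := (Multiset.mem_erase_of_ne (Ne.symm hcc)).mpr hc₂
      have h4 : c₂ ≤ (σ.cycleType.erase c₁).sum := Multiset.le_sum_of_mem h3
      have h5 : σ.cycleType.sum = c₁ + (σ.cycleType.erase c₁).sum := by
        rw [← Multiset.sum_cons, Multiset.cons_erase hc₁]
      have h6 := Nat.le_of_dvd hc₁pos hd₁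
      have h7 := Nat.le_of_dvd hc₂pos hd₂
      omega
  · intro h
    have hex : ∃ g : Equiv.Perm (Fin n), g.cycleType = ({r, s} : Multiset ℕ) := by
      rw [Equiv.Perm.exists_with_cycleType_iff]
      constructor
      · simp [Fintype.card_fin]; omega
      · intro a ha
        simp at ha
        rcases ha with rfl | rfl
        · exact hr.two_le
        · exact hs.two_le
    obtain ⟨g, hg⟩ := hex
    refine ⟨g, ?_, ?_⟩
    · rw [Equiv.Perm.sign_of_cycleType, hg]
      have : Even (Multiset.sum ({r, s} : Multiset ℕ) + Multiset.card ({r, s} : Multiset ℕ)) := by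
        simp
        have := hro.add_odd hso
        exact this.add (by decide)
      exact this.neg_one_pow
    · rw [← Equiv.Perm.lcm_cycleType, hg]
      have hcop : Nat.Coprime r s := (Nat.coprime_primes hr hs).mpr hrs
      simp
      exact hcop.lcm_eq_mul

end Cfsg.Agent.S2466
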