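import Cfsg.Statements.S2477
import Cfsg.Agent.S2466
import Mathlib

set_option autoImplicit false
open Cfsg

namespace Cfsg.Agent.S2477


def okOrd (L : ℕ) : Bool := decide (L ∈ [1, 2, 3, 4, 5, 6, 7, 8, 9, 10, 12, 15, 21])

def chk : ℕ → ℕ → ℕ → ℕ → Bool
  | 0, _, _, _ => false
  | f+1, s, L, par =>
    (par % 2 == 1 || okOrd L) &&
      (List.range (s+1)).all (fun a => decide (a < 2) || chk f (s - a) (Nat.lcm L a) (par + a + 1))

theorem chk_sound : ∀ (f s L par : ℕ), chk f s L par = true → ∀ m : Multiset ℕ,
    (∀ a ∈ m, 2 ≤ a) → m.sum ≤ s → s < f → Even (par + m.sum + m.card) →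
    okOrd (Nat.lcm L m.lcm) = true := by
  intro f
  induction f with
  | zero => intro s L par _ m _ _ h; omega
  | succ f ih =>
    intro s L par hc m h2 hs hf hev
    rw [chk, Bool.and_eq_true] at hc
    obtain ⟨hc1, hc2⟩ := hc
    rcases Multiset.empty_or_exists_mem m with rfl | ⟨a, ha⟩
    · simp only [Multiset.sum_zero, Multiset.card_zero, add_zero] at hev
      have hpar : par % 2 = 0 := Nat.even_iff.mp hev
      rw [Bool.or_eq_true] at hc1
      rcases hc1 with h | h
      · have : par % 2 = 1 := by simpa using h
        omega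
      · simpa using h
    · obtain ⟨m', rfl⟩ := Multiset.exists_cons_of_mem ha
      have ha2 : 2 ≤ a := h2 a (Multiset.mem_cons_self a m')
      rw [Multiset.sum_cons] at hs
      rw [Multiset.sum_cons, Multiset.card_cons] at hev
      rw [List.all_eq_true] at hc2
      have h3 := hc2 a (List.mem_range.mpr (by omega))
      rw [Bool.or_eq_true] at h3
      rcases h3 with h | h
      · have : a < 2 := by simpa using h
        omega
      · have h4 := ih (s - a) (Nat.lcm L a) (par + a + 1) h m'
          (fun b hb => h2 b (Multiset.mem_cons_of_mem hb)) (by omega) (by omega)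
          (by
            have e : par + a + 1 + m'.sum + m'.card = par + (a + m'.sum) + (m'.card + 1) := by ring
            rw [e]; exact hev)
        rw [Multiset.lcm_cons]
        have e2 : Nat.lcm L (GCDMonoid.lcm a m'.lcm) = Nat.lcm (Nat.lcm L a) m'.lcm := by
          show Nat.lcm L (Nat.lcm a m'.lcm) = _
          rw [Nat.lcm_assoc]
        rw [e2]; exact h4

theorem chk_true : chk 11 10 1 0 = true := by decide

theorem key_mem (m : Multiset ℕ) (hs : m.sum ≤ 10) (h2 : ∀ a ∈ m, 2 ≤ a) (hev : Even (m.sum + m.card)) :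
    m.lcm ∈ Set.range (orderOf : alternatingGroup (Fin 10) → ℕ) := by
  rw [Cfsg.Agent.S2466.mem_range_orderOf_alt_iff]
  have hex : ∃ g : Equiv.Perm (Fin 10), g.cycleType = m := by
    rw [Equiv.Perm.exists_with_cycleType_iff]
    exact ⟨by simpa [Fintype.card_fin] using hs, h2⟩
  obtain ⟨g, hg⟩ := hex
  refine ⟨g, ?_, ?_⟩
  · rw [Equiv.Perm.sign_of_cycleType, hg]
    exact hev.neg_one_pow
  · rw [← Equiv.Perm.lcm_cycleType, hg]

theorem result : Set.range (orderOf : alternatingGroup (Fin 10) → ℕ) = {1, 2, 3, 4, 5, 6, 7, 8, 9, 10, 12, 15, 21} := by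
  ext k
  constructor
  · intro hk
    rw [Cfsg.Agent.S2466.mem_range_orderOf_alt_iff] at hk
    obtain ⟨σ, hσ, rfl⟩ := hk
    rw [← Equiv.Perm.lcm_cycleType]
    have hsum := Equiv.Perm.sum_cycleType_le σ
    rw [Fintype.card_fin] at hsum
    have hev : Even (0 + σ.cycleType.sum + Multiset.card σ.cycleType) := by
      rw [zero_add]
      rw [Equiv.Perm.sign_of_cycleType] at hσ
      by_contra hne
      rw [Nat.not_even_iff_odd] at hne
      rw [hne.neg_one_pow] at hσ
      exact absurd hσ (by decide)
    have h := chk_sound 11 10 1 0 chk_true σ.cycleType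
      (fun a ha => Equiv.Perm.two_le_of_mem_cycleType ha) hsum (by norm_num) hev
    rw [Nat.lcm_one_left] at h
    have h' : σ.cycleType.lcm ∈ [1, 2, 3, 4, 5, 6, 7, 8, 9, 10, 12, 15, 21] := of_decide_eq_true h
    simpa using h'
  · intro hk
    simp only [Set.mem_insert_iff, Set.mem_singleton_iff] at hk
    rcases hk with rfl | rfl | rfl | rfl | rfl | rfl | rfl | rfl | rfl | rfl | rfl | rfl | rfl
    · exact key_mem 0 (by decide) (by decide) (by decide)
    · exact key_mem {2, 2} (by decide) (by decide) (by decide)
    · exact key_mem {3} (by decide) (by decide) (by decide)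
    · exact key_mem {4, 2} (by decide) (by decide) (by decide)
    · exact key_mem {5} (by decide) (by decide) (by decide)
    · exact key_mem {3, 2, 2} (by decide) (by decide) (by decide)
    · exact key_mem {7} (by decide) (by decide) (by decide)
    · exact key_mem {8, 2} (by decide) (by decide) (by decide)
    · exact key_mem {9} (by decide) (by decide) (by decide)
    · exact key_mem {5, 2, 2} (by decide) (by decide) (by decide)
    · exact key_mem {4, 3, 2} (by decide) (by decide) (by decide)
    · exact key_mem {5, 3} (by decide) (by decide) (by decide)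
    · exact key_mem {7, 3} (by decide) (by decide) (by decide)

end Cfsg.Agent.S2477
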