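import Cfsg.Statements.S2802
import Mathlib
import Cfsg.Prelude.Def_LocalEven
import Cfsg.Agent.Lib.Helper4.PReduced2

set_option autoImplicit false
open Cfsg
open scoped commutatorElement

namespace Cfsg.Agent.S2802

open Cfsg Cfsg.Agent.Lib

/-- Let L be a finite group and p a prime with C_L(O_p(L)) ≤ O_p(L), T a Sylow p-subgroup of L and R a subgroup with T ≤ R. If X is a p-reduced normal subgroup of R (normal in R, elementary abelian, O_p(R/C_R(X)) = 1), then the normal closure of X in L is a p-reduced normal subgroup of L. -/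
theorem result {L : Type*} [Group L] [Finite L] {p : ℕ} [Fact p.Prime] (hchar : Subgroup.centralizer (Cfsg.pCore p L : Set L) ≤ Cfsg.pCore p L) (T : Sylow p L) (R : Subgroup L) (hTR : (T : Subgroup L) ≤ R) (X : Subgroup ↥R) (hX : Cfsg.IsPReducedNormal p X) : Cfsg.IsPReducedNormal p (Subgroup.normalClosure ((X.map R.subtype : Subgroup L) : Set L)) := by
  have hQn := Helper4.pCore_normal p L
  have hQp := Helper4.pCore_isPGroup p L
  have hQT : Cfsg.pCore p L ≤ T := Helper4.pCore_le_sylow T
  have hXe : ∀ a ∈ X, a ^ p = 1 := hX.2.1.2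
  have hXQc : X.map R.subtype ≤ Subgroup.centralizer (Cfsg.pCore p L : Set L) := by
    rintro _ ⟨x, hx, rfl⟩
    rw [Subgroup.mem_centralizer_iff]
    intro q hq
    have hqR : q ∈ R := hTR (hQT hq)
    have h1 : (Cfsg.pCore p L).subgroupOf R ≤ Cfsg.pCore p ↥R :=
      Helper4.le_pCore inferInstance hQp.comap_subtype
    have h2 : (⟨q, hqR⟩ : R) ∈ Subgroup.centralizer (X : Set R) :=
      Helper4.pCore_le_centralizer_of_pReduced X hX (h1 hq)
    rw [Subgroup.mem_centralizer_iff] at h2
    have := h2 x hx
    exact (congrArg Subtype.val this).symm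
  have hXQ : X.map R.subtype ≤ Cfsg.pCore p L := hXQc.trans hchar
  have hVQ : Subgroup.normalClosure ((X.map R.subtype : Subgroup L) : Set L) ≤ Cfsg.pCore p L :=
    Subgroup.normalClosure_le_normal hXQ
  have hVQc : Subgroup.normalClosure ((X.map R.subtype : Subgroup L) : Set L) ≤ Subgroup.centralizer (Cfsg.pCore p L : Set L) := by
    haveI : (Subgroup.centralizer (Cfsg.pCore p L : Set L)).Normal := Subgroup.normal_centralizer
    exact Subgroup.normalClosure_le_normal hXQc
  have hVcomm : ∀ a ∈ Subgroup.normalClosure ((X.map R.subtype : Subgroup L) : Set L), ∀ b ∈ Subgroup.normalClosure ((X.map R.subtype : Subgroup L) : Set L), a * b = b * a := by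
    intro a ha b hb
    have := hVQc hb
    rw [Subgroup.mem_centralizer_iff] at this
    exact this a (hVQ ha)
  have hVexp : ∀ a ∈ Subgroup.normalClosure ((X.map R.subtype : Subgroup L) : Set L), a ^ p = 1 := by
    intro a ha
    have ha' := ha
    rw [Subgroup.normalClosure] at ha'
    induction ha' using Subgroup.closure_induction with
    | mem y hy =>
      obtain ⟨x, hx, hxy⟩ := Group.mem_conjugatesOfSet_iff.mp hy
      obtain ⟨g, rfl⟩ := isConj_iff.mp hxy
      obtain ⟨x0, hx0, rfl⟩ := hx
      rw [conj_pow]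
      have h1 := hXe x0 hx0
      have h2 : (R.subtype x0) ^ p = 1 := by
        rw [← map_pow, h1, map_one]
      rw [h2]
      group
    | one => exact one_pow p
    | mul a b ha1 hb1 iha ihb =>
      have ha2 : a ∈ Subgroup.normalClosure ((X.map R.subtype : Subgroup L) : Set L) := ha1
      have hb2 : b ∈ Subgroup.normalClosure ((X.map R.subtype : Subgroup L) : Set L) := hb1
      have hc : Commute a b := hVcomm a ha2 b hb2
      rw [hc.mul_pow, iha ha2, ihb hb2, one_mul]
    | inv a ha1 iha =>
      rw [inv_pow, iha ha1, inv_one]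
  apply Helper4.isPReducedNormal_of _ Subgroup.normalClosure_normal hVcomm hVexp
  intro D hD hDp
  haveI hCn : (Subgroup.centralizer ((Subgroup.normalClosure ((X.map R.subtype : Subgroup L) : Set L) : Subgroup L) : Set L)).Normal := Subgroup.normal_centralizer
  haveI := hD
  have hD'p : ∀ d ∈ D ⊔ Subgroup.centralizer ((Subgroup.normalClosure ((X.map R.subtype : Subgroup L) : Set L) : Subgroup L) : Set L), ∃ k : ℕ, d ^ (p ^ k) ∈ Subgroup.centralizer ((Subgroup.normalClosure ((X.map R.subtype : Subgroup L) : Set L) : Subgroup L) : Set L) := by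
    intro d hd
    rw [Subgroup.mem_sup_of_normal_right] at hd
    obtain ⟨d0, hd0, c, hc, rfl⟩ := hd
    obtain ⟨k, hk⟩ := hDp d0 hd0
    refine ⟨k, ?_⟩
    rw [← QuotientGroup.eq_one_iff, QuotientGroup.mk_pow, QuotientGroup.mk_mul,
      (QuotientGroup.eq_one_iff c).mpr hc, mul_one, ← QuotientGroup.mk_pow]
    exact (QuotientGroup.eq_one_iff _).mpr hk
  have hE : ∀ e ∈ D ⊔ Subgroup.centralizer ((Subgroup.normalClosure ((X.map R.subtype : Subgroup L) : Set L) : Subgroup L) : Set L), ∀ heR : e ∈ R, ∀ x ∈ X, e * (x : L) = (x : L) * e := by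
    have hEle := Helper4.IsPReducedNormal.le_centralizer_of_pow hX
      ((D ⊔ Subgroup.centralizer ((Subgroup.normalClosure ((X.map R.subtype : Subgroup L) : Set L) : Subgroup L) : Set L)).subgroupOf R) inferInstance (by
      intro e he
      obtain ⟨k, hk⟩ := hD'p e he
      refine ⟨k, ?_⟩
      rw [Subgroup.mem_centralizer_iff] at hk ⊢
      intro x hx
      apply Subtype.ext
      have := hk (x : L) (Subgroup.subset_normalClosure ⟨x, hx, rfl⟩)
      simpa using this)
    intro e he heR x hx
    have := hEle (show (⟨e, heR⟩ : R) ∈ _ from he)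
    rw [Subgroup.mem_centralizer_iff] at this
    exact (congrArg Subtype.val (this x hx)).symm
  have hDX : ∀ d ∈ D, ∀ x ∈ X, d * (x : L) = (x : L) * d := by
    intro d hd x hx
    obtain ⟨t, ht, c, hc, rfl⟩ := Helper4.mem_sylow_mul_of_pow_mem _ T D hD hDp d hd
    have htD' : t ∈ D ⊔ Subgroup.centralizer ((Subgroup.normalClosure ((X.map R.subtype : Subgroup L) : Set L) : Subgroup L) : Set L) := by
      have : t = (t * c) * c⁻¹ := by group
      rw [this]
      exact Subgroup.mul_mem _ (Subgroup.mem_sup_left hd) (Subgroup.mem_sup_right (Subgroup.inv_mem _ hc))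
    have h1 := hE t htD' (hTR ht) x hx
    rw [Subgroup.mem_centralizer_iff] at hc
    have h2 := hc (x : L) (Subgroup.subset_normalClosure ⟨x, hx, rfl⟩)
    rw [mul_assoc, ← h2, ← mul_assoc, h1, mul_assoc]
  intro d hd
  rw [Subgroup.mem_centralizer_iff]
  intro v hv
  have hCDn : (Subgroup.centralizer (D : Set L)).Normal := Subgroup.normal_centralizer
  have hX'CD : X.map R.subtype ≤ Subgroup.centralizer (D : Set L) := by
    rintro _ ⟨x, hx, rfl⟩
    rw [Subgroup.mem_centralizer_iff]
    intro d' hd'
    exact hDX d' hd' x hx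
  have hVCD : Subgroup.normalClosure ((X.map R.subtype : Subgroup L) : Set L) ≤ Subgroup.centralizer (D : Set L) :=
    Subgroup.normalClosure_le_normal hX'CD
  have := hVCD hv
  rw [Subgroup.mem_centralizer_iff] at this
  exact (this d hd).symm

end Cfsg.Agent.S2802
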