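import Cfsg.Statements.S2803
import Mathlib
import Cfsg.Prelude.Def_LocalEven
import Cfsg.Agent.Lib.Helper4.PReduced2
import Cfsg.Agent.Lib.Helper8.Syl
import Cfsg.Agent.S2802

set_option autoImplicit false
open Cfsg
open scoped commutatorElement

namespace Cfsg.Agent.S2803

open Cfsg Cfsg.Agent.Lib

theorem aux {L : Type*} [Group L] [Finite L] {p : ℕ} [Fact p.Prime] (hchar : Subgroup.centralizer (Cfsg.pCore p L : Set L) ≤ Cfsg.pCore p L) (T : Sylow p L) (Y : Subgroup L) (hYr : Cfsg.IsPReducedNormal p Y) (hYmax : ∀ V : Subgroup L, Cfsg.IsPReducedNormal p V → V ≤ Y) (C TL N : Subgroup L) (hC : C = Subgroup.centralizer (Y : Set L)) (hTL : TL = (T : Subgroup L) ⊓ C) (hN : N = Subgroup.normalizer (TL : Set L)) :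
    (∀ g : L, ∃ a ∈ N, ∃ c ∈ C, g = a * c) ∧ (Cfsg.pCore p ↥N).map N.subtype = TL ∧ Y = Cfsg.omegaOne p (TL ⊓ Subgroup.centralizer (TL : Set L)) := by
  haveI hYn : Y.Normal := hYr.1
  haveI hCn : C.Normal := by rw [hC]; exact Subgroup.normal_centralizer
  have hYcomm := Helper4.IsPReducedNormal.comm' hYr
  have hYexp : ∀ a ∈ Y, a ^ p = 1 := hYr.2.1.2
  have hYQ : Y ≤ Cfsg.pCore p L := Helper4.le_pCore_of_pReduced Y hYr
  have hQT : Cfsg.pCore p L ≤ T := Helper4.pCore_le_sylow T
  have hYC : Y ≤ C := by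
    intro y hy
    rw [hC, Subgroup.mem_centralizer_iff]
    intro z hz
    exact hYcomm z hz y hy
  have hSylC : Helper8.SylIn p ((T : Subgroup L) ⊓ C) C :=
    (Helper8.sylIn_top T).inf_of_normal le_top (Subgroup.normalizer_eq_top_iff.mpr hCn).ge
  obtain ⟨P, hP⟩ := (Helper8.sylIn_iff inf_le_right).mp hSylC
  have hPmap : (P : Subgroup C).map C.subtype = TL := by
    rw [hP, hTL]
    exact Subgroup.map_subgroupOf_eq_of_le inf_le_right
  have hfrat := Sylow.normalizer_sup_eq_top P
  rw [hPmap, ← hN] at hfrat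
  have part1 : ∀ g : L, ∃ a ∈ N, ∃ c ∈ C, g = a * c := by
    intro g
    have hg : g ∈ N ⊔ C := by
      rw [hfrat]
      trivial
    rw [Subgroup.mem_sup_of_normal_right] at hg
    obtain ⟨a, ha, c, hc, rfl⟩ := hg
    exact ⟨a, ha, c, hc, rfl⟩
  have hTN : (T : Subgroup L) ≤ N := by
    rw [hN, hTL]
    exact Helper4.le_normalizer_inf_of_normal _ C
  have hTLN : TL ≤ N := by
    rw [hN]
    exact Subgroup.le_normalizer
  have hTLp : IsPGroup p TL := by
    rw [hTL]
    exact T.isPGroup'.to_inf_left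
  have hTLT : TL ≤ T := by
    rw [hTL]
    exact inf_le_left
  have hTLC : TL ≤ C := by
    rw [hTL]
    exact inf_le_right
  have hYTL : Y ≤ TL := by
    rw [hTL]
    exact le_inf (hYQ.trans hQT) hYC
  have hYZ : Y ≤ Subgroup.centralizer (TL : Set L) := by
    intro y hy
    rw [Subgroup.mem_centralizer_iff]
    intro t ht
    have := hTLC ht
    rw [hC, Subgroup.mem_centralizer_iff] at this
    exact (this y hy).symm
  have hkey : ∀ Q : Subgroup L, (∀ a ∈ N, ∀ q ∈ Q, a * q * a⁻¹ ∈ Q) →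
      (∀ q ∈ Q, ∃ k : ℕ, q ^ (p ^ k) ∈ C) → Q ≤ C := by
    intro Q hQN hQp
    have hn := Helper4.sup_normal_of_factor N C Q part1 hQN
    have hp := Helper4.pow_mem_of_sup (p := p) Q C hQp
    have h1 := Helper4.IsPReducedNormal.le_centralizer_of_pow hYr _ hn (by rw [← hC]; exact hp)
    rw [← hC] at h1
    exact le_sup_left.trans h1
  have hs : Helper8.SylIn p (T : Subgroup L) N := (Helper8.sylIn_top T).mono hTN le_top
  obtain ⟨R, hR⟩ := (Helper8.sylIn_iff hTN).mp hs
  have part2 : (Cfsg.pCore p ↥N).map N.subtype = TL := by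
    apply le_antisymm
    · have hQNn := Helper4.pCore_normal p ↥N
      have hQNp := Helper4.pCore_isPGroup p ↥N
      have h1 : (Cfsg.pCore p ↥N).map N.subtype ≤ C := by
        apply hkey
        · rintro a ha _ ⟨q, hq, rfl⟩
          exact ⟨⟨a, ha⟩ * q * ⟨a, ha⟩⁻¹, hQNn.conj_mem q hq _, rfl⟩
        · rintro _ ⟨q, hq, rfl⟩
          obtain ⟨k, hk⟩ := hQNp ⟨q, hq⟩
          refine ⟨k, ?_⟩
          have h2 : (N.subtype q) ^ (p ^ k) = 1 := by
            have h3 : q ^ (p ^ k) = 1 := congrArg Subtype.val hk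
            rw [← map_pow, h3, map_one]
          rw [h2]
          exact C.one_mem
      have h2 : (Cfsg.pCore p ↥N).map N.subtype ≤ T := by
        have h3 : Cfsg.pCore p ↥N ≤ (R : Subgroup N) := Helper4.pCore_le_sylow R
        rw [hR] at h3
        rintro _ ⟨q, hq, rfl⟩
        exact h3 hq
      rw [hTL]
      exact le_inf h2 h1
    · haveI hn : (TL.subgroupOf N).Normal := by
        rw [Subgroup.normal_subgroupOf_iff_le_normalizer hTLN, ← hN]
      have h1 : TL.subgroupOf N ≤ Cfsg.pCore p ↥N := Helper4.le_pCore hn hTLp.comap_subtype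
      intro t ht
      exact ⟨⟨t, hTLN ht⟩, h1 ht, rfl⟩
  refine ⟨part1, part2, ?_⟩
  have hYW : Y ≤ Cfsg.omegaOne p (TL ⊓ Subgroup.centralizer (TL : Set L)) := by
    intro y hy
    apply Subgroup.subset_closure
    exact ⟨Subgroup.mem_inf.mpr ⟨hYTL hy, hYZ hy⟩, hYexp y hy⟩
  apply le_antisymm hYW
  have hWZ : Cfsg.omegaOne p (TL ⊓ Subgroup.centralizer (TL : Set L)) ≤ TL ⊓ Subgroup.centralizer (TL : Set L) := by
    unfold Cfsg.omegaOne
    rw [Subgroup.closure_le]
    intro x hx
    exact hx.1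
  have hWcomm : ∀ a ∈ Cfsg.omegaOne p (TL ⊓ Subgroup.centralizer (TL : Set L)), ∀ b ∈ Cfsg.omegaOne p (TL ⊓ Subgroup.centralizer (TL : Set L)), a * b = b * a := by
    intro a ha b hb
    have h1 := (Subgroup.mem_inf.mp (hWZ ha)).1
    have h2 := (Subgroup.mem_inf.mp (hWZ hb)).2
    rw [Subgroup.mem_centralizer_iff] at h2
    exact h2 a h1
  have hWexp : ∀ a ∈ Cfsg.omegaOne p (TL ⊓ Subgroup.centralizer (TL : Set L)), a ^ p = 1 := by
    intro a ha
    have ha' := ha
    unfold Cfsg.omegaOne at ha'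
    induction ha' using Subgroup.closure_induction with
    | mem y hy => exact hy.2
    | one => exact one_pow p
    | mul a b ha1 hb1 iha ihb =>
      have hc : Commute a b := hWcomm a ha1 b hb1
      rw [hc.mul_pow, iha ha1, ihb hb1, one_mul]
    | inv a ha1 iha => rw [inv_pow, iha ha1, inv_one]
  have hWN : ∀ a ∈ N, ∀ w ∈ Cfsg.omegaOne p (TL ⊓ Subgroup.centralizer (TL : Set L)), a * w * a⁻¹ ∈ Cfsg.omegaOne p (TL ⊓ Subgroup.centralizer (TL : Set L)) := by
    intro a ha w hw
    have hmap : (Cfsg.omegaOne p (TL ⊓ Subgroup.centralizer (TL : Set L))).map (MulAut.conj a).toMonoidHom ≤ Cfsg.omegaOne p (TL ⊓ Subgroup.centralizer (TL : Set L)) := by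
      unfold Cfsg.omegaOne
      rw [MonoidHom.map_closure, Subgroup.closure_le]
      rintro _ ⟨x, ⟨hxZ, hxp⟩, rfl⟩
      apply Subgroup.subset_closure
      rw [hN] at ha
      refine ⟨?_, ?_⟩
      · obtain ⟨h1, h2⟩ := Subgroup.mem_inf.mp hxZ
        refine Subgroup.mem_inf.mpr ⟨(Subgroup.mem_normalizer_iff.mp ha x).mp h1, ?_⟩
        rw [Subgroup.mem_centralizer_iff] at h2 ⊢
        intro t ht
        have ht' : a⁻¹ * t * a ∈ TL := by
          apply (Subgroup.mem_normalizer_iff.mp ha (a⁻¹ * t * a)).mpr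
          have e : a * (a⁻¹ * t * a) * a⁻¹ = t := by group
          rw [e]
          exact ht
        have h3 := h2 _ ht'
        show t * (a * x * a⁻¹) = a * x * a⁻¹ * t
        calc t * (a * x * a⁻¹) = a * ((a⁻¹ * t * a) * x) * a⁻¹ := by group
          _ = a * (x * (a⁻¹ * t * a)) * a⁻¹ := by rw [h3]
          _ = a * x * a⁻¹ * t := by group
      · show (a * x * a⁻¹) ^ p = 1
        rw [conj_pow, hxp]
        group
    exact hmap ⟨w, hw, rfl⟩
  have hWleN : Cfsg.omegaOne p (TL ⊓ Subgroup.centralizer (TL : Set L)) ≤ N :=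
    (hWZ.trans inf_le_left).trans hTLN
  have hXn : ((Cfsg.omegaOne p (TL ⊓ Subgroup.centralizer (TL : Set L))).subgroupOf N).Normal := by
    constructor
    intro x hx a
    exact hWN a a.2 x hx
  have hX : Cfsg.IsPReducedNormal p ((Cfsg.omegaOne p (TL ⊓ Subgroup.centralizer (TL : Set L))).subgroupOf N) := by
    apply Helper4.isPReducedNormal_of _ hXn
    · intro a ha b hb
      apply Subtype.ext
      exact hWcomm a ha b hb
    · intro a ha
      apply Subtype.ext
      rw [Subgroup.coe_pow]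
      exact hWexp a ha
    · intro D hD hDp
      have hD'C : D.map N.subtype ≤ C := by
        apply hkey
        · rintro a ha _ ⟨d, hd, rfl⟩
          exact ⟨⟨a, ha⟩ * d * ⟨a, ha⟩⁻¹, hD.conj_mem d hd _, rfl⟩
        · rintro _ ⟨d, hd, rfl⟩
          obtain ⟨k, hk⟩ := hDp d hd
          refine ⟨k, ?_⟩
          rw [Subgroup.mem_centralizer_iff] at hk
          rw [hC, Subgroup.mem_centralizer_iff]
          intro y hy
          have h1 := hk ⟨y, hWleN (hYW hy)⟩ (hYW hy)
          have h2 := congrArg Subtype.val h1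
          simpa using h2
      intro d hd
      haveI := hXn
      haveI hcn : (Subgroup.centralizer (((Cfsg.omegaOne p (TL ⊓ Subgroup.centralizer (TL : Set L))).subgroupOf N : Subgroup N) : Set N)).Normal :=
        Subgroup.normal_centralizer
      obtain ⟨t, ht, c, hc, rfl⟩ := Helper4.mem_sylow_mul_of_pow_mem _ R D hD hDp d hd
      have htT : (t : L) ∈ (T : Subgroup L) := by
        have : t ∈ (R : Subgroup N) := ht
        rw [hR] at this
        exact this
      have hcC : (c : L) ∈ C := by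
        rw [Subgroup.mem_centralizer_iff] at hc
        rw [hC, Subgroup.mem_centralizer_iff]
        intro y hy
        have := hc ⟨y, hWleN (hYW hy)⟩ (hYW hy)
        exact congrArg Subtype.val this
      have htC : (t : L) ∈ C := by
        have h1 : ((t * c : N) : L) ∈ C := hD'C ⟨t * c, hd, rfl⟩
        have e : (t : L) = ((t * c : N) : L) * (c : L)⁻¹ := by simp
        rw [e]
        exact C.mul_mem h1 (C.inv_mem hcC)
      have htTL : (t : L) ∈ TL := by
        rw [hTL]
        exact Subgroup.mem_inf.mpr ⟨htT, htC⟩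
      have htc : t ∈ Subgroup.centralizer (((Cfsg.omegaOne p (TL ⊓ Subgroup.centralizer (TL : Set L))).subgroupOf N : Subgroup N) : Set N) := by
        rw [Subgroup.mem_centralizer_iff]
        intro w hw
        apply Subtype.ext
        have h2 := (Subgroup.mem_inf.mp (hWZ hw)).2
        rw [Subgroup.mem_centralizer_iff] at h2
        exact (h2 _ htTL).symm
      exact Subgroup.mul_mem _ htc hc
  have hS := Cfsg.Agent.S2802.result hchar T N hTN _ hX
  have hle := hYmax _ hS
  intro w hw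
  apply hle
  apply Subgroup.subset_normalClosure
  exact ⟨⟨w, hWleN hw⟩, hw, rfl⟩

/-- Let L be a finite group and p a prime with C_L(O_p(L)) ≤ O_p(L), T a Sylow p-subgroup, and Y the largest p-reduced normal subgroup of L. Put T_L = C_T(Y) and L_T = N_L(T_L). Then L = L_T · C_L(Y) (elementwise), T_L = O_p(L_T), and Y = Ω₁(Z(T_L)). -/
theorem result {L : Type*} [Group L] [Finite L] {p : ℕ} [Fact p.Prime] (hchar : Subgroup.centralizer (Cfsg.pCore p L : Set L) ≤ Cfsg.pCore p L) (T : Sylow p L) (Y : Subgroup L) (hY : (Cfsg.IsPReducedNormal p Y ∧ ∀ V : Subgroup L, Cfsg.IsPReducedNormal p V → V ≤ Y)) (TL : Subgroup L) (hTL : TL = (T : Subgroup L) ⊓ Subgroup.centralizer (Y : Set L)) : (∀ g : L, ∃ a ∈ Subgroup.normalizer (TL : Set L), ∃ c ∈ Subgroup.centralizer (Y : Set L), g = a * c) ∧ (Cfsg.pCore p ↥(Subgroup.normalizer (TL : Set L))).map (Subgroup.normalizer (TL : Set L)).subtype = TL ∧ Y = Cfsg.omegaOne p (TL ⊓ Subgroup.centralizer (TL : Set L)) := by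
  exact aux hchar T Y hY.1 hY.2 _ TL _ rfl hTL rfl

end Cfsg.Agent.S2803
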