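import Cfsg.Statements.S2824
import Mathlib
import Cfsg.Statements.S2824
import Cfsg.Agent.S2803
import Cfsg.Agent.Lib.Helper4.PReduced
import Cfsg.Agent.Lib.Helper4.PReduced2
import Cfsg.Agent.Lib.Helper8.Syl
import Cfsg.Agent.Lib.Lead.Coprime

set_option autoImplicit false
open Cfsg
open scoped commutatorElement

namespace Cfsg.Agent.S2824

open Cfsg Cfsg.Agent.Lib
open scoped commutatorElement

theorem le_normalizer_of_conj {G : Type*} [Group G] (L C : Subgroup G) (key : ∀ l ∈ L, ∀ c ∈ C, l * c * l⁻¹ ∈ C) : L ≤ Subgroup.normalizer (C : Set G) := by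
  intro l hl
  rw [Subgroup.mem_normalizer_iff]
  intro x
  refine ⟨key l hl x, fun hx => ?_⟩
  have := key l⁻¹ (L.inv_mem hl) _ hx
  simpa [mul_assoc] using this

theorem mem_centralizer_subgroupOf {H : Type*} [Group H] (L V : Subgroup H) (hVL : V ≤ L) (x : ↥L) :
    x ∈ Subgroup.centralizer ((V.subgroupOf L : Subgroup ↥L) : Set ↥L) ↔ (x : H) ∈ Subgroup.centralizer (V : Set H) := by
  rw [Subgroup.mem_centralizer_iff, Subgroup.mem_centralizer_iff]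
  constructor
  · intro h v hv
    have := h ⟨v, hVL hv⟩ (Subgroup.mem_subgroupOf.mpr hv)
    exact congrArg Subtype.val this
  · intro h v hv
    exact Subtype.ext (h v (Subgroup.mem_subgroupOf.mp hv))

theorem yL_props {H : Type*} [Group H] [Finite H] (p : ℕ) [Fact p.Prime] (L : Subgroup H) :
    (Cfsg.largestPReducedOf p L ≤ L) ∧
    (∀ l ∈ L, ∀ y ∈ Cfsg.largestPReducedOf p L, l * y * l⁻¹ ∈ Cfsg.largestPReducedOf p L) ∧
    (∀ a ∈ Cfsg.largestPReducedOf p L, ∀ b ∈ Cfsg.largestPReducedOf p L, a * b = b * a) ∧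
    (∀ a ∈ Cfsg.largestPReducedOf p L, a ^ p = 1) ∧
    (∀ D : Subgroup H, D ≤ L → (∀ l ∈ L, ∀ d ∈ D, l * d * l⁻¹ ∈ D) → (∀ d ∈ D, ∃ k : ℕ, d ^ (p ^ k) ∈ Subgroup.centralizer ((Cfsg.largestPReducedOf p L : Subgroup H) : Set H)) → D ≤ Subgroup.centralizer ((Cfsg.largestPReducedOf p L : Subgroup H) : Set H)) ∧
    (∀ T : Sylow p H, (T : Subgroup H) ≤ L → Cfsg.largestPReducedOf p L ≤ T) := by
  have hr : Cfsg.IsPReducedNormal p (Cfsg.largestPReduced p ↥L) := Helper4.largestPReduced_isPReducedNormal p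
  have hsub : (Cfsg.largestPReducedOf p L).subgroupOf L = Cfsg.largestPReduced p ↥L := by
    unfold Cfsg.largestPReducedOf
    exact Subgroup.comap_map_eq_self_of_injective L.subtype_injective _
  have hmem : ∀ x : ↥L, x ∈ Cfsg.largestPReduced p ↥L ↔ (x : H) ∈ Cfsg.largestPReducedOf p L := by
    intro x; rw [← hsub, Subgroup.mem_subgroupOf]
  have hYL : Cfsg.largestPReducedOf p L ≤ L := by
    unfold Cfsg.largestPReducedOf; exact Subgroup.map_subtype_le _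
  have hn := hr.1
  have hexp := hr.2.1.2
  refine ⟨hYL, ?_, ?_, ?_, ?_, ?_⟩
  · intro l hl y hy
    have h1 : (⟨y, hYL hy⟩ : ↥L) ∈ Cfsg.largestPReduced p ↥L := (hmem _).mpr hy
    have h2 := hn.conj_mem _ h1 ⟨l, hl⟩
    exact (hmem _).mp h2
  · intro a ha b hb
    have h1 : (⟨a, hYL ha⟩ : ↥L) ∈ Cfsg.largestPReduced p ↥L := (hmem _).mpr ha
    have h2 : (⟨b, hYL hb⟩ : ↥L) ∈ Cfsg.largestPReduced p ↥L := (hmem _).mpr hb
    have := Helper4.IsPReducedNormal.comm' hr _ h1 _ h2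
    exact congrArg Subtype.val this
  · intro a ha
    have h1 : (⟨a, hYL ha⟩ : ↥L) ∈ Cfsg.largestPReduced p ↥L := (hmem _).mpr ha
    have := hexp _ h1
    have h2 := congrArg Subtype.val this
    simpa using h2
  · intro D hDL hDn hDp
    have hDn' : (D.subgroupOf L).Normal := by
      constructor
      intro d hd g
      rw [Subgroup.mem_subgroupOf] at hd ⊢
      exact hDn g g.2 d hd
    have h1 := Helper4.IsPReducedNormal.le_centralizer_of_pow hr (D.subgroupOf L) hDn' (by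
      intro d hd
      rw [Subgroup.mem_subgroupOf] at hd
      obtain ⟨k, hk⟩ := hDp d hd
      refine ⟨k, ?_⟩
      rw [← hsub, mem_centralizer_subgroupOf L _ hYL]
      simpa using hk)
    intro d hd
    have h2 := h1 (Subgroup.mem_subgroupOf.mpr (show ((⟨d, hDL hd⟩ : ↥L) : H) ∈ D from hd))
    rw [← hsub, mem_centralizer_subgroupOf L _ hYL] at h2
    exact h2
  · intro T hTL
    have hpg : IsPGroup p ↥(Cfsg.largestPReduced p ↥L) := by
      intro x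
      refine ⟨1, ?_⟩
      rw [pow_one]
      exact Subtype.ext (hexp x x.2)
    have h1 := Helper4.normal_pGroup_le_sylow (T.subtype hTL) hn hpg
    intro y hy
    have h2 := h1 ((hmem ⟨y, hYL hy⟩).mpr hy)
    rw [Sylow.coe_subtype, Subgroup.mem_subgroupOf] at h2
    exact h2

theorem le_yL_of {H : Type*} [Group H] [Finite H] (p : ℕ) (L V : Subgroup H) (hVL : V ≤ L)
    (hn : ∀ l ∈ L, ∀ y ∈ V, l * y * l⁻¹ ∈ V) (hcomm : ∀ a ∈ V, ∀ b ∈ V, a * b = b * a) (hexp : ∀ a ∈ V, a ^ p = 1)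
    (h : ∀ D : Subgroup H, D ≤ L → (∀ l ∈ L, ∀ d ∈ D, l * d * l⁻¹ ∈ D) → (∀ d ∈ D, ∃ k : ℕ, d ^ (p ^ k) ∈ Subgroup.centralizer (V : Set H)) → D ≤ Subgroup.centralizer (V : Set H)) :
    V ≤ Cfsg.largestPReducedOf p L := by
  have hr : Cfsg.IsPReducedNormal p (V.subgroupOf L) := by
    apply Helper4.isPReducedNormal_of
    · constructor
      intro d hd g
      rw [Subgroup.mem_subgroupOf] at hd ⊢
      exact hn g g.2 d hd
    · intro a ha b hb
      rw [Subgroup.mem_subgroupOf] at ha hb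
      exact Subtype.ext (hcomm _ ha _ hb)
    · intro a ha
      rw [Subgroup.mem_subgroupOf] at ha
      apply Subtype.ext
      have := hexp _ ha
      simpa using this
    · intro D hDn hDp
      have h1 := h (D.map L.subtype) (Subgroup.map_subtype_le _) (by
        rintro l hl _ ⟨d, hd, rfl⟩
        exact ⟨⟨l, hl⟩ * d * ⟨l, hl⟩⁻¹, hDn.conj_mem d hd ⟨l, hl⟩, by simp⟩) (by
        rintro _ ⟨d, hd, rfl⟩
        obtain ⟨k, hk⟩ := hDp d hd
        refine ⟨k, ?_⟩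
        rw [mem_centralizer_subgroupOf L V hVL] at hk
        simpa using hk)
      intro d hd
      rw [mem_centralizer_subgroupOf L V hVL]
      exact h1 ⟨d, hd, rfl⟩
  have hle : V.subgroupOf L ≤ Cfsg.largestPReduced p ↥L := le_sSup hr
  intro v hv
  exact ⟨⟨v, hVL hv⟩, hle (Subgroup.mem_subgroupOf.mpr hv), rfl⟩

theorem aux {H : Type*} [Group H] [Finite H] {p : ℕ} [Fact p.Prime] (T : Sylow p H) (L M : Subgroup H) (hTL : (T : Subgroup H) ≤ L) (hTM : (T : Subgroup H) ≤ M) (Y C : Subgroup H) (hC : C = Subgroup.centralizer (Y : Set H)) (hYL : Y ≤ L) (hYT : Y ≤ T) (hYn : ∀ l ∈ L, ∀ y ∈ Y, l * y * l⁻¹ ∈ Y) (hYcomm : ∀ a ∈ Y, ∀ b ∈ Y, a * b = b * a) (hYexp : ∀ a ∈ Y, a ^ p = 1) (hYred : ∀ D : Subgroup H, D ≤ L → (∀ l ∈ L, ∀ d ∈ D, l * d * l⁻¹ ∈ D) → (∀ d ∈ D, ∃ k : ℕ, d ^ (p ^ k) ∈ C) → D ≤ C) (hOmega : ∀ w ∈ (T : Subgroup H) ⊓ C, (∀ t ∈ (T : Subgroup H) ⊓ C, t * w = w * t) → w ^ p = 1 → w ∈ Y) (T₀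 : Subgroup H) (hT₀ : T₀ = (T : Subgroup H) ⊓ C) (hfac : M ⊔ C = L ⊔ C) (Ls : Subgroup H) (hLs : Ls = M ⊓ Subgroup.normalizer (T₀ : Set H)) : Cfsg.largestPReducedOf p Ls = Y ∧ L ⊔ C = Ls ⊔ C := by
  have hCmem : ∀ x, x ∈ C ↔ ∀ y ∈ Y, y * x = x * y := by intro x; rw [hC, Subgroup.mem_centralizer_iff]; exact Iff.rfl
  have hYC : Y ≤ C := fun y hy => (hCmem y).mpr (fun y' hy' => hYcomm y' hy' y hy)
  have hNC : ∀ g : H, (∀ y ∈ Y, g⁻¹ * y * g ∈ Y) → ∀ c ∈ C, g * c * g⁻¹ ∈ C := by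
    intro g hg c hc
    rw [hCmem] at hc ⊢
    intro y hy
    have h1 := hc _ (hg y hy)
    calc y * (g * c * g⁻¹) = g * ((g⁻¹ * y * g) * c) * g⁻¹ := by group
      _ = g * (c * (g⁻¹ * y * g)) * g⁻¹ := by rw [h1]
      _ = g * c * g⁻¹ * y := by group
  have hLC : L ≤ Subgroup.normalizer (C : Set H) := le_normalizer_of_conj _ _ (fun l hl c hc =>
    hNC l (fun y hy => by simpa using hYn l⁻¹ (L.inv_mem hl) y hy) c hc)
  have hKmem : ∀ g ∈ L ⊔ C, ∃ l ∈ L, ∃ c ∈ C, g = l * c := by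
    intro g hg
    have hg' : g⁻¹ ∈ C ⊔ L := by rw [sup_comm]; exact Subgroup.inv_mem _ hg
    obtain ⟨c, hc, l, hl, e⟩ := Lead.mem_sup_of_le_normalizer hLC hg'
    refine ⟨l⁻¹, L.inv_mem hl, c⁻¹, C.inv_mem hc, ?_⟩
    rw [← mul_inv_rev, ← e, inv_inv]
  have hKY : ∀ g ∈ L ⊔ C, ∀ y ∈ Y, g * y * g⁻¹ ∈ Y := by
    intro g hg y hy
    obtain ⟨l, hl, c, hc, rfl⟩ := hKmem g hg
    have h1 : c * y * c⁻¹ = y := by
      have := (hCmem c).mp hc y hy
      rw [← this]; group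
    have : l * c * y * (l * c)⁻¹ = l * (c * y * c⁻¹) * l⁻¹ := by group
    rw [this, h1]
    exact hYn l hl y hy
  have hKC : ∀ g ∈ L ⊔ C, ∀ c ∈ C, g * c * g⁻¹ ∈ C := by
    intro g hg c hc
    exact hNC g (fun y hy => by simpa using hKY g⁻¹ (Subgroup.inv_mem _ hg) y hy) c hc
  have hMK : M ≤ L ⊔ C := by rw [← hfac]; exact le_sup_left
  have hT₀T : T₀ ≤ T := by rw [hT₀]; exact inf_le_left
  have hT₀C : T₀ ≤ C := by rw [hT₀]; exact inf_le_right
  have hYT₀ : Y ≤ T₀ := by rw [hT₀]; exact le_inf hYT hYC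
  have hMC : M ⊓ C ≤ M := inf_le_left
  have hMnC : M ≤ Subgroup.normalizer ((M ⊓ C : Subgroup H) : Set H) := le_normalizer_of_conj _ _ (fun m hm x hx => Subgroup.mem_inf.mpr ⟨M.mul_mem (M.mul_mem hm (Subgroup.mem_inf.mp hx).1) (M.inv_mem hm), hKC m (hMK hm) x (Subgroup.mem_inf.mp hx).2⟩)
  have hsylM : Helper8.SylIn p (T : Subgroup H) M := (Helper8.sylIn_top T).mono hTM le_top
  have hsyl0 : Helper8.SylIn p ((T : Subgroup H) ⊓ (M ⊓ C)) (M ⊓ C) := hsylM.inf_of_normal hMC hMnC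
  have hT₀eq : (T : Subgroup H) ⊓ (M ⊓ C) = T₀ := by
    rw [hT₀, ← inf_assoc, inf_eq_left.mpr hTM]
  rw [hT₀eq] at hsyl0
  have hfrat : ∀ m ∈ M, ∃ c ∈ M ⊓ C, c * m ∈ Ls := by
    intro m hm
    have h1 : Helper8.cj m T₀ ≤ M ⊓ C := by
      rw [Helper8.cj_le_iff]
      intro x hx
      exact Subgroup.mem_inf.mpr ⟨M.mul_mem (M.mul_mem hm (hTM (hT₀T hx))) (M.inv_mem hm), hKC m (hMK hm) x (hT₀C hx)⟩
    obtain ⟨c, hc, hle⟩ := hsyl0.exists_conj_le (Helper8.isPGroup_cj hsyl0.2.1 m) h1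
    rw [Helper8.cj_cj] at hle
    have heq : Helper8.cj (c * m) T₀ = T₀ := by
      apply Subgroup.eq_of_le_of_card_ge hle
      rw [Helper8.card_cj]
    refine ⟨c, hc, ?_⟩
    rw [hLs]
    exact Subgroup.mem_inf.mpr ⟨M.mul_mem (Subgroup.mem_inf.mp hc).1 hm, Helper8.mem_normalizer_iff_cj.mpr heq⟩
  have hMLs : M ≤ Ls ⊔ C := by
    intro m hm
    obtain ⟨c, hc, hcm⟩ := hfrat m hm
    have : m = c⁻¹ * (c * m) := by group
    rw [this]
    exact Subgroup.mul_mem _ ((le_sup_right : C ≤ Ls ⊔ C) (C.inv_mem (Subgroup.mem_inf.mp hc).2)) ((le_sup_left : Ls ≤ Ls ⊔ C) hcm)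
  have hLsM : Ls ≤ M := by rw [hLs]; exact inf_le_left
  have hLsN : Ls ≤ Subgroup.normalizer (T₀ : Set H) := by rw [hLs]; exact inf_le_right
  have hsecond : L ⊔ C = Ls ⊔ C := by
    apply le_antisymm
    · rw [← hfac]
      exact sup_le hMLs le_sup_right
    · exact sup_le (hLsM.trans hMK) le_sup_right
  refine ⟨?_, hsecond⟩
  have hTT₀ : (T : Subgroup H) ≤ Subgroup.normalizer (T₀ : Set H) := le_normalizer_of_conj _ _ (fun t ht x hx => by
    rw [hT₀] at hx ⊢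
    exact Subgroup.mem_inf.mpr ⟨Subgroup.mul_mem _ (Subgroup.mul_mem _ ht (Subgroup.mem_inf.mp hx).1) (Subgroup.inv_mem _ ht), hKC t (hMK (hTM ht)) x (Subgroup.mem_inf.mp hx).2⟩)
  have hTLs : (T : Subgroup H) ≤ Ls := by rw [hLs]; exact le_inf hTM hTT₀
  have hYLs : Y ≤ Ls := hYT.trans hTLs
  have hLsK : Ls ≤ L ⊔ C := hLsM.trans hMK
  have hLsC : Ls ≤ Subgroup.normalizer (C : Set H) := le_normalizer_of_conj _ _ (fun l hl c hc => hKC l (hLsK hl) c hc)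
  have hY_le : Y ≤ Cfsg.largestPReducedOf p Ls := by
    apply le_yL_of p Ls Y hYLs (fun l hl y hy => hKY l (hLsK hl) y hy) hYcomm hYexp
    intro D hDLs hDn hDp
    rw [← hC] at hDp ⊢
    have hDC : D ≤ Subgroup.normalizer (C : Set H) := hDLs.trans hLsC
    have hDCmem : ∀ g ∈ D ⊔ C, ∃ c ∈ C, ∃ d ∈ D, g = c * d := by
      intro g hg
      rw [sup_comm] at hg
      exact Lead.mem_sup_of_le_normalizer hDC hg
    have hpow : ∀ c ∈ C, ∀ d ∈ D, ∀ n : ℕ, ∃ c' ∈ C, (c * d) ^ n = c' * d ^ n := by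
      intro c hc d hd n
      induction n with
      | zero => exact ⟨1, C.one_mem, by simp⟩
      | succ n ih =>
        obtain ⟨c', hc', e⟩ := ih
        refine ⟨c * (d * c' * d⁻¹), C.mul_mem hc (hKC d (hLsK (hDLs hd)) c' hc'), ?_⟩
        rw [pow_succ', e, pow_succ']; group
    have hE : (D ⊔ C) ⊓ L ≤ C := by
      apply hYred _ inf_le_right
      · intro l hl e he
        obtain ⟨he1, he2⟩ := Subgroup.mem_inf.mp he
        refine Subgroup.mem_inf.mpr ⟨?_, L.mul_mem (L.mul_mem hl he2) (L.inv_mem hl)⟩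
        obtain ⟨c, hc, d, hd, rfl⟩ := hDCmem e he1
        have hl' : l ∈ Ls ⊔ C := by rw [← hsecond]; exact (le_sup_left : L ≤ L ⊔ C) hl
        have hl'' : l⁻¹ ∈ C ⊔ Ls := by rw [sup_comm]; exact Subgroup.inv_mem _ hl'
        obtain ⟨c₁, hc₁, s, hs, e⟩ := Lead.mem_sup_of_le_normalizer hLsC hl''
        have hl3 : l = s⁻¹ * c₁⁻¹ := by rw [← mul_inv_rev, ← e, inv_inv]
        have h1 : l * (c * d) * l⁻¹ = (l * c * l⁻¹) * (s⁻¹ * (c₁⁻¹ * d * c₁ * d⁻¹) * s⁻¹⁻¹) * (s⁻¹ * d * s⁻¹⁻¹) := by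
          rw [hl3]; group
        rw [h1]
        have hsK : s⁻¹ ∈ L ⊔ C := hLsK (Ls.inv_mem hs)
        have h2 : c₁⁻¹ * d * c₁ * d⁻¹ ∈ C := by
          have : c₁⁻¹ * d * c₁ * d⁻¹ = c₁⁻¹ * (d * c₁ * d⁻¹) := by group
          rw [this]
          exact C.mul_mem (C.inv_mem hc₁) (hKC d (hLsK (hDLs hd)) c₁ hc₁)
        refine Subgroup.mul_mem _ (Subgroup.mul_mem _ ?_ ?_) ?_
        · exact (le_sup_right : C ≤ D ⊔ C) (hKC l ((le_sup_left : L ≤ L ⊔ C) hl) c hc)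
        · exact (le_sup_right : C ≤ D ⊔ C) (hKC _ hsK _ h2)
        · exact (le_sup_left : D ≤ D ⊔ C) (hDn _ (Ls.inv_mem hs) d hd)
      · intro e he
        obtain ⟨he1, he2⟩ := Subgroup.mem_inf.mp he
        obtain ⟨c, hc, d, hd, rfl⟩ := hDCmem e he1
        obtain ⟨k, hk⟩ := hDp d hd
        obtain ⟨c', hc', e'⟩ := hpow c hc d hd (p ^ k)
        exact ⟨k, by rw [e']; exact C.mul_mem hc' hk⟩
    intro d hd
    obtain ⟨l, hl, c, hc, e⟩ := hKmem d (hLsK (hDLs hd))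
    have hlE : l ∈ (D ⊔ C) ⊓ L := by
      refine Subgroup.mem_inf.mpr ⟨?_, hl⟩
      have : l = d * c⁻¹ := by rw [e]; group
      rw [this]
      exact Subgroup.mul_mem _ ((le_sup_left : D ≤ D ⊔ C) hd) ((le_sup_right : C ≤ D ⊔ C) (C.inv_mem hc))
    rw [e]
    exact C.mul_mem (hE hlE) hc
  apply le_antisymm _ hY_le
  obtain ⟨hWLs, hWn, hWcomm, hWexp, hWred, hWT⟩ := yL_props p Ls
  intro w hw
  have hwT : w ∈ (T : Subgroup H) := hWT T hTLs hw
  have hwC : w ∈ C := (hCmem w).mpr (fun y hy => hWcomm y (hY_le hy) w hw)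
  have hT₀W : T₀ ≤ Subgroup.centralizer ((Cfsg.largestPReducedOf p Ls : Subgroup H) : Set H) := by
    apply hWred T₀ (hT₀T.trans hTLs)
    · intro l hl d hd
      exact (Subgroup.mem_normalizer_iff.mp (hLsN hl) d).mp hd
    · intro d hd
      obtain ⟨k, hk⟩ := (T.isPGroup'.to_le hT₀T) ⟨d, hd⟩
      refine ⟨k, ?_⟩
      have hk' : d ^ (p ^ k) = 1 := by
        have := congrArg Subtype.val hk
        simpa using this
      rw [hk']
      exact Subgroup.one_mem _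
  apply hOmega w (Subgroup.mem_inf.mpr ⟨hwT, hwC⟩)
  · intro t ht
    rw [← hT₀] at ht
    have := Subgroup.mem_centralizer_iff.mp (hT₀W ht) w hw
    exact this.symm
  · exact hWexp w hw

/-- Let H be a finite group, p a prime, T a Sylow p-subgroup, L and M subgroups of characteristic p containing T, Y_L the largest p-reduced normal subgroup of L and T₀ = C_T(Y_L). If M·C_H(Y_L) = L·C_H(Y_L), then L* := N_M(T₀) has Y_{L*} = Y_L and L·C_H(Y_L) = L*·C_H(Y_L). -/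
theorem result {H : Type*} [Group H] [Finite H] {p : ℕ} [Fact p.Prime] (T : Sylow p H) (L M : Subgroup H) (hTL : (T : Subgroup H) ≤ L) (hTM : (T : Subgroup H) ≤ M) (hL : Subgroup.centralizer (Cfsg.pCore p ↥L : Set ↥L) ≤ Cfsg.pCore p ↥L) (hM : Subgroup.centralizer (Cfsg.pCore p ↥M : Set ↥M) ≤ Cfsg.pCore p ↥M) (T₀ : Subgroup H) (hT₀ : T₀ = (T : Subgroup H) ⊓ Subgroup.centralizer (((Cfsg.largestPReducedOf p L) : Subgroup H) : Set H)) (hfac : M ⊔ Subgroup.centralizer (((Cfsg.largestPReducedOf p L) : Subgroup H) : Set H) = L ⊔ Subgroup.centralizer (((Cfsg.largestPReducedOf p L) : Subgroup H) : Set H)) (Ls : Subgroup H) (hLs : Ls = M ⊓ Subgroup.normalizer ((T₀ : Subgroup H) : Set H)) : (Cfsg.largestPReducedOf p Ls) = (Cfsg.largestPReducedOf p L) ∧ L ⊔ Subgroup.centralizer (((Cfsg.largestPReducedOf p L) : Subgroup H) : Set H) = Ls ⊔ Subgroup.centralizer (((Cfsg.largestPReducedOf p L) : Subgroup H) :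 Set H) := by
  obtain ⟨hYL, hYn, hYcomm, hYexp, hYred, hYT⟩ := yL_props p L
  refine aux T L M hTL hTM (Cfsg.largestPReducedOf p L) _ rfl hYL (hYT T hTL) hYn hYcomm hYexp hYred ?_ T₀ hT₀ hfac Ls hLs
  intro w hw hwc hwp
  obtain ⟨hwT, hwC⟩ := Subgroup.mem_inf.mp hw
  have hsub : (Cfsg.largestPReducedOf p L).subgroupOf L = Cfsg.largestPReduced p ↥L := by
    unfold Cfsg.largestPReducedOf
    exact Subgroup.comap_map_eq_self_of_injective L.subtype_injective _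
  have hr : Cfsg.IsPReducedNormal p (Cfsg.largestPReduced p ↥L) := Helper4.largestPReduced_isPReducedNormal p
  have h3 := (Cfsg.Agent.S2803.result hL (T.subtype hTL) (Cfsg.largestPReduced p ↥L) ⟨hr, fun V hV => le_sSup hV⟩ _ rfl).2.2
  have hwL : w ∈ L := hTL hwT
  have hmemTL : ∀ x : ↥L, x ∈ ((T.subtype hTL : Sylow p ↥L) : Subgroup ↥L) ⊓ Subgroup.centralizer ((Cfsg.largestPReduced p ↥L : Subgroup ↥L) : Set ↥L) ↔ (x : H) ∈ (T : Subgroup H) ⊓ Subgroup.centralizer (((Cfsg.largestPReducedOf p L) : Subgroup H) : Set H) := by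
    intro x
    rw [Subgroup.mem_inf, Subgroup.mem_inf, Sylow.coe_subtype, Subgroup.mem_subgroupOf, ← hsub, mem_centralizer_subgroupOf L _ hYL]
  have hw' : (⟨w, hwL⟩ : ↥L) ∈ Cfsg.largestPReduced p ↥L := by
    rw [h3]
    unfold Cfsg.omegaOne
    apply Subgroup.subset_closure
    refine ⟨Subgroup.mem_inf.mpr ⟨(hmemTL _).mpr hw, ?_⟩, ?_⟩
    · rw [Subgroup.mem_centralizer_iff]
      intro t ht
      exact Subtype.ext (hwc _ ((hmemTL t).mp ht))
    · apply Subtype.ext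
      simpa using hwp
  exact ⟨⟨w, hwL⟩, hw', rfl⟩

end Cfsg.Agent.S2824
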