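import Cfsg.Statements.S2804
import Mathlib
import Cfsg.Statements.S2804
import Cfsg.Agent.S2824
import Cfsg.Agent.Lib.Helper4.Subn
import Cfsg.Agent.Lib.Helper4.PReduced2

set_option autoImplicit false
open Cfsg
open scoped commutatorElement

namespace Cfsg.Agent.S2804

open Cfsg Cfsg.Agent.Lib
open scoped commutatorElement

theorem le_of_pCore_quot_bot_subnormal {L : Type*} [Group L] [Finite L] {p : ℕ} [Fact p.Prime] (N : Subgroup L) [N.Normal]
    (h : Cfsg.pCore p (L ⧸ N) = ⊥) (D : Subgroup L) (hD : D.IsSubnormal)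
    (hDp : ∀ d ∈ D, ∃ k : ℕ, d ^ (p ^ k) ∈ N) : D ≤ N := by
  have h1 : (D.map (QuotientGroup.mk' N)).IsSubnormal := hD.map (QuotientGroup.mk'_surjective N)
  have h2 : IsPGroup p ↥(D.map (QuotientGroup.mk' N)) := by
    rintro ⟨x, e, he, rfl⟩
    obtain ⟨k, hk⟩ := hDp e he
    refine ⟨k, ?_⟩
    apply Subtype.ext
    rw [Subgroup.coe_pow, Subgroup.coe_one]
    show (QuotientGroup.mk' N e) ^ (p ^ k) = 1
    rw [← map_pow]
    exact (QuotientGroup.eq_one_iff _).mpr hk
  have h3 := Helper4.subnormal_pgroup_le_pCore h1 h2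
  rw [h] at h3
  intro d hd
  have h4 : QuotientGroup.mk' N d ∈ (⊥ : Subgroup (L ⧸ N)) := h3 ⟨d, hd, rfl⟩
  exact (QuotientGroup.eq_one_iff d).mp (Subgroup.mem_bot.mp h4)

/-- Let L be a finite group and p a prime with C_L(O_p(L)) ≤ O_p(L), V a p-reduced normal subgroup of L and K a subnormal subgroup of L. Then [V, O^p(K)] is contained in K and is a p-reduced normal subgroup of K, where O^p(K) is the subgroup of K generated by its elements of order prime to p. -/
theorem result {L : Type*} [Group L] [Finite L] {p : ℕ} [Fact p.Prime] (hchar : Subgroup.centralizer (Cfsg.pCore p L : Set L) ≤ Cfsg.pCore p L) (V : Subgroup L) (hV : Cfsg.IsPReducedNormal p V) (K : Subgroup L) (hK : K.IsSubnormal) : ⁅V, (Cfsg.pResidual p ↥K).map K.subtype⁆ ≤ K ∧ Cfsg.IsPReducedNormal p ((⁅V, (Cfsg.pResidual p ↥K).map K.subtype⁆).subgroupOf K) := by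
  have hp : p.Prime := Fact.out
  have hR : (Cfsg.pResidual p ↥K).map K.subtype = Helper4.pGen p K := Helper4.pResidualOf_eq_pGen p K
  rw [hR]
  obtain ⟨hVn, ⟨hVc, hVe⟩, hCn, hbot⟩ := hV
  have hVp : IsPGroup p ↥V := by
    intro x
    refine ⟨1, ?_⟩
    rw [pow_one]
    exact Subtype.ext (hVe x x.2)
  have hVcomm : ∀ a ∈ V, ∀ b ∈ V, a * b = b * a := by
    intro a ha b hb
    exact congrArg Subtype.val (hVc.is_comm.comm (⟨a, ha⟩ : ↥V) ⟨b, hb⟩)
  have hVN : ∀ X : Subgroup L, X ≤ Subgroup.normalizer (V : Set L) := by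
    intro X
    rw [Subgroup.normalizer_eq_top_iff.mpr hVn]
    exact le_top
  have hVR : V ≤ Subgroup.normalizer ((Helper4.pGen p K : Subgroup L) : Set L) :=
    Helper4.normal_pgroup_normalizes_pGen hK V hVn hVp
  have hRK : Helper4.pGen p K ≤ K := Helper4.pGen_le p K
  have hWR : ⁅V, Helper4.pGen p K⁆ ≤ Helper4.pGen p K := by
    rw [Subgroup.commutator_comm]
    exact Lead.commutator_le_of_le_normalizer _ V hVR
  have hWV : ⁅V, Helper4.pGen p K⁆ ≤ V := Lead.commutator_le_of_le_normalizer V _ (hVN _)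
  have hWK : ⁅V, Helper4.pGen p K⁆ ≤ K := hWR.trans hRK
  have hKW : K ≤ Subgroup.normalizer ((⁅V, Helper4.pGen p K⁆ : Subgroup L) : Set L) := by
    intro k hk
    exact Lead.mem_normalizer_commutator (hVN K hk)
      (Helper4.normalizer_le_normalizer_pGen p K (Subgroup.le_normalizer hk))
  refine ⟨hWK, ?_⟩
  apply Helper4.isPReducedNormal_of
  · exact (Subgroup.normal_subgroupOf_iff_le_normalizer hWK).mpr hKW
  · intro a ha b hb
    exact Subtype.ext (hVcomm _ (hWV (Subgroup.mem_subgroupOf.mp ha)) _ (hWV (Subgroup.mem_subgroupOf.mp hb)))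
  · intro a ha
    apply Subtype.ext
    rw [Subgroup.coe_pow, Subgroup.coe_one]
    exact hVe _ (hWV (Subgroup.mem_subgroupOf.mp ha))
  · intro D' hD'n hD'p
    have hDsn : (D'.map K.subtype).IsSubnormal := Subgroup.IsSubnormal.trans' hD'n.isSubnormal hK
    have hDK : D'.map K.subtype ≤ K := Subgroup.map_subtype_le _
    have hDp : ∀ d ∈ D'.map K.subtype, ∃ k : ℕ, d ^ (p ^ k) ∈ Subgroup.centralizer ((⁅V, Helper4.pGen p K⁆ : Subgroup L) : Set L) := by
      rintro _ ⟨d, hd, rfl⟩
      obtain ⟨k, hk⟩ := hD'p d hd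
      refine ⟨k, ?_⟩
      rw [Cfsg.Agent.S2824.mem_centralizer_subgroupOf K _ hWK] at hk
      rw [Subgroup.coe_pow] at hk
      exact hk
    have hA : ∀ x ∈ D'.map K.subtype, (orderOf x).Coprime p → x ∈ Subgroup.centralizer (V : Set L) := by
      intro x hx hco
      have hxW : x ∈ Subgroup.centralizer ((⁅V, Helper4.pGen p K⁆ : Subgroup L) : Set L) := by
        obtain ⟨k, hk⟩ := hDp x hx
        have hc : (p ^ k).Coprime (orderOf x) := (Nat.Coprime.pow_right k hco).symm
        obtain ⟨m, hm⟩ := exists_pow_eq_self_of_coprime hc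
        rw [← hm]
        exact Subgroup.pow_mem _ hk m
      have hxR : x ∈ Helper4.pGen p K := Helper4.mem_pGen (hDK hx) hco
      have hAR : Subgroup.zpowers x ≤ Helper4.pGen p K := Subgroup.zpowers_le.mpr hxR
      have hAW : Subgroup.zpowers x ≤ Subgroup.centralizer ((⁅V, Helper4.pGen p K⁆ : Subgroup L) : Set L) :=
        Subgroup.zpowers_le.mpr hxW
      have hcop : (Nat.card (Subgroup.zpowers x)).Coprime (Nat.card V) := by
        obtain ⟨n, hn⟩ := hVp.exists_card_eq
        rw [Nat.card_zpowers, hn]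
        exact Nat.Coprime.pow_right n hco
      haveI : Group.IsNilpotent ↥V := hVp.isNilpotent
      have h1 : ⁅⁅V, Subgroup.zpowers x⁆, Subgroup.zpowers x⁆ = ⁅V, Subgroup.zpowers x⁆ :=
        Lead.commutator_commutator_eq_of_coprime (Subgroup.zpowers x) V (hVN _) hcop (Or.inr inferInstance)
      have h2 : ⁅⁅V, Subgroup.zpowers x⁆, Subgroup.zpowers x⁆ = ⊥ := by
        rw [eq_bot_iff]
        refine (Subgroup.commutator_mono (Subgroup.commutator_mono (le_refl V) hAR) (le_refl _)).trans ?_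
        rw [Subgroup.commutator_comm]
        exact le_of_eq (Subgroup.commutator_eq_bot_iff_le_centralizer.mpr hAW)
      rw [h1] at h2
      have h3 : V ≤ Subgroup.centralizer ((Subgroup.zpowers x : Subgroup L) : Set L) :=
        Subgroup.commutator_eq_bot_iff_le_centralizer.mp h2
      rw [Subgroup.mem_centralizer_iff]
      intro v hv
      have := Subgroup.mem_centralizer_iff.mp (h3 hv) x (Subgroup.mem_zpowers x)
      exact this.symm
    have hB : ∀ d ∈ D'.map K.subtype, ∃ k : ℕ, d ^ (p ^ k) ∈ Subgroup.centralizer (V : Set L) := by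
      intro d hd
      obtain ⟨a, m, hm, hN⟩ := Nat.exists_eq_pow_mul_and_not_dvd (orderOf_pos d).ne' p hp.ne_one
      refine ⟨a, ?_⟩
      apply hA _ (Subgroup.pow_mem _ hd _)
      have h1 : (d ^ (p ^ a)) ^ m = 1 := by
        rw [← pow_mul, ← hN]
        exact pow_orderOf_eq_one d
      exact Nat.Coprime.coprime_dvd_left (orderOf_dvd_of_pow_eq_one h1) ((Nat.Prime.coprime_iff_not_dvd hp).mpr hm).symm
    haveI := hCn
    have hC := le_of_pCore_quot_bot_subnormal _ hbot _ hDsn hB
    intro d hd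
    rw [Cfsg.Agent.S2824.mem_centralizer_subgroupOf K _ hWK]
    exact Subgroup.centralizer_le hWV (hC ⟨d, hd, rfl⟩)

end Cfsg.Agent.S2804
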