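import Cfsg.Statements.S2809
import Mathlib

set_option autoImplicit false
open Cfsg
open scoped commutatorElement

namespace Cfsg.Agent.S2809

theorem iter_le {H : Type*} [Group H] (R L : Subgroup H) (hL : L ≤ Subgroup.normalizer (R : Set H)) (i : ℕ) :
    Cfsg.iterCommutator R L i ≤ R := by
  induction i with
  | zero => exact le_of_eq rfl
  | succ n ih =>
    show ⁅Cfsg.iterCommutator R L n, L⁆ ≤ R
    rw [Subgroup.commutator_le]
    intro g₁ h₁ g₂ h₂
    have hg1 : g₁ ∈ R := ih h₁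
    have hg2 := hL h₂
    rw [Subgroup.mem_normalizer_iff] at hg2
    have h3 : g₂ * g₁⁻¹ * g₂⁻¹ ∈ R := (hg2 g₁⁻¹).mp (R.inv_mem hg1)
    have h4 : ⁅g₁, g₂⁆ = g₁ * (g₂ * g₁⁻¹ * g₂⁻¹) := by
      rw [commutatorElement_def]; group
    rw [h4]
    exact R.mul_mem hg1 h3

theorem pelem_coprime_one {H : Type*} [Group H] {p : ℕ} [Fact p.Prime] (R : Subgroup H) (hR : IsPGroup p ↥R)
    (c : H) (hc : c ∈ R) (m : ℕ) (hm : m.Coprime p) (hcm : c ^ m = 1) : c = 1 := by
  obtain ⟨k, hk⟩ := hR ⟨c, hc⟩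
  have hk' : c ^ (p ^ k) = 1 := by
    have := congrArg Subtype.val hk
    simpa using this
  have h1 : c ^ Nat.gcd m (p ^ k) = 1 := pow_gcd_eq_one.mpr ⟨hcm, hk'⟩
  have h2 : Nat.gcd m (p ^ k) = 1 := Nat.Coprime.pow_right k hm
  rw [h2, pow_one] at h1
  exact h1

theorem step {H : Type*} [Group H] {p : ℕ} [Fact p.Prime] (R : Subgroup H) (hR : IsPGroup p ↥R)
    (L : Subgroup H) (hL : L ≤ Subgroup.normalizer (R : Set H))
    (y : H) (hy : y ∈ L) (m : ℕ) (hm : m.Coprime p) (hym : y ^ m = 1) (i : ℕ)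
    (hi : ∀ r ∈ Cfsg.iterCommutator R L (i + 1), r * y = y * r) :
    ∀ r ∈ Cfsg.iterCommutator R L i, r * y = y * r := by
  intro r hr
  have hc : ⁅r, y⁆ ∈ Cfsg.iterCommutator R L (i + 1) := Subgroup.commutator_mem_commutator hr hy
  have hcR : ⁅r, y⁆ ∈ R := iter_le R L hL (i + 1) hc
  have hcomm : Commute ⁅r, y⁆ y := hi _ hc
  have h1 : r * y * r⁻¹ = ⁅r, y⁆ * y := by
    rw [commutatorElement_def]; group
  have h2 : (r * y * r⁻¹) ^ m = 1 := by
    rw [conj_pow, hym]; group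
  rw [h1, hcomm.mul_pow, hym, mul_one] at h2
  have h3 : ⁅r, y⁆ = 1 := pelem_coprime_one R hR _ hcR m hm h2
  rw [h3, one_mul] at h1
  calc r * y = (r * y * r⁻¹) * r := by group
    _ = y * r := by rw [h1]

theorem centralizes {H : Type*} [Group H] {p : ℕ} [Fact p.Prime] (R : Subgroup H) (hR : IsPGroup p ↥R)
    (L : Subgroup H) (hL : L ≤ Subgroup.normalizer (R : Set H)) (n : ℕ) (hn : Cfsg.iterCommutator R L n = ⊥)
    (y : H) (hy : y ∈ L) (m : ℕ) (hm : m.Coprime p) (hym : y ^ m = 1) :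
    ∀ r ∈ R, r * y = y * r := by
  have key : ∀ k, k ≤ n → ∀ r ∈ Cfsg.iterCommutator R L (n - k), r * y = y * r := by
    intro k
    induction k with
    | zero =>
      intro _ r hr
      rw [Nat.sub_zero, hn, Subgroup.mem_bot] at hr
      rw [hr]; group
    | succ j ih =>
      intro hj
      have h1 : n - j = (n - (j + 1)) + 1 := by omega
      have h2 := ih (by omega)
      rw [h1] at h2
      exact step R hR L hL y hy m hm hym _ h2
  have := key n le_rfl
  rw [Nat.sub_self] at this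
  exact this

/-- Let H be a finite group, p a prime, R a p-subgroup of H with C_H(R) ≤ R, and L a subgroup of N_H(R) acting nilpotently on R (some iterated commutator [R, L, …, L] is trivial). Then L is a p-group. -/
theorem result {H : Type*} [Group H] [Finite H] {p : ℕ} [Fact p.Prime] (R : Subgroup H) (hR : IsPGroup p ↥R) (hC : Subgroup.centralizer (R : Set H) ≤ R) (L : Subgroup H) (hL : L ≤ Subgroup.normalizer (R : Set H)) (hnil : ∃ n : ℕ, Cfsg.iterCommutator R L n = ⊥) : IsPGroup p ↥L := by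
  obtain ⟨n, hn⟩ := hnil
  have hp : p.Prime := Fact.out
  intro x
  have hpos : orderOf (x : H) ≠ 0 := (orderOf_pos (x : H)).ne'
  obtain ⟨a, m, hm, hN⟩ := Nat.exists_eq_pow_mul_and_not_dvd hpos p hp.ne_one
  refine ⟨a, ?_⟩
  have hmc : m.Coprime p := (Nat.Coprime.symm ((Nat.Prime.coprime_iff_not_dvd hp).mpr hm))
  have hy : (x : H) ^ (p ^ a) ∈ L := L.pow_mem x.2 _
  have hym : ((x : H) ^ (p ^ a)) ^ m = 1 := by
    rw [← pow_mul, ← hN, pow_orderOf_eq_one]
  have hcent := centralizes R hR L hL n hn _ hy m hmc hym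
  have hyC : (x : H) ^ (p ^ a) ∈ Subgroup.centralizer (R : Set H) := by
    rw [Subgroup.mem_centralizer_iff]
    intro r hr
    exact hcent r hr
  have hyR : (x : H) ^ (p ^ a) ∈ R := hC hyC
  have h1 := pelem_coprime_one R hR _ hyR m hmc hym
  apply Subtype.ext
  simpa using h1

end Cfsg.Agent.S2809
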