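import Cfsg.Statements.S2810
import Cfsg.Agent.Lib.Helper4.Basic

set_option autoImplicit false
open Cfsg
open scoped commutatorElement

namespace Cfsg.Agent.S2810

theorem pelem_coprime_one {H : Type*} [Group H] {p : ℕ} [Fact p.Prime] (R : Subgroup H) (hR : IsPGroup p ↥R)
    (c : H) (hc : c ∈ R) (m : ℕ) (hm : m.Coprime p) (hcm : c ^ m = 1) : c = 1 := by
  obtain ⟨k, hk⟩ := hR ⟨c, hc⟩
  have hk' : c ^ (p ^ k) = 1 := by
    have := congrArg Subtype.val hk
    simpa using this
  have h1 : c ^ Nat.gcd m (p ^ k) = 1 := pow_gcd_eq_one.mpr ⟨hcm, hk'⟩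
  have h2 : Nat.gcd m (p ^ k) = 1 := Nat.Coprime.pow_right k hm
  rw [h2, pow_one] at h1
  exact h1

/-- Let H be a finite group of characteristic p and L a subgroup of H centralizing every factor of some H-invariant chain 1 = A₀ ≤ A₁ ≤ … ≤ Aₙ = O_p(H) of normal subgroups (that is, [A_{i+1}, L] ≤ Aᵢ for each i). Then L ≤ O_p(H). -/
theorem result {H : Type*} [Group H] [Finite H] {p : ℕ} [Fact p.Prime] (hchar : Subgroup.centralizer (Cfsg.pCore p H : Set H) ≤ Cfsg.pCore p H) (L : Subgroup H) (n : ℕ) (A : Fin (n + 1) → Subgroup H) (h0 : A 0 = ⊥) (hn : A (Fin.last n) = Cfsg.pCore p H) (hmono : Monotone A) (hnorm : ∀ i, (A i).Normal) (hcent : ∀ i : Fin n, ⁅A i.succ, L⁆ ≤ A i.castSucc) : L ≤ Cfsg.pCore p H := by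
  have hp : p.Prime := Fact.out
  have hRp : IsPGroup p ↥(Cfsg.pCore p H) := Cfsg.Agent.Lib.Helper4.pCore_isPGroup p H
  let C : Subgroup H :=
    { carrier := {g | ∀ i : Fin n, ∀ a ∈ A i.succ, ⁅a, g⁆ ∈ A i.castSucc}
      one_mem' := fun i a _ => by
        have : ⁅a, (1 : H)⁆ = 1 := by rw [commutatorElement_def]; group
        rw [this]; exact Subgroup.one_mem _
      mul_mem' := by
        intro g h hg hh i a ha
        have h1 : ⁅a, g * h⁆ = ⁅a, g⁆ * (g * ⁅a, h⁆ * g⁻¹) := by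
          simp only [commutatorElement_def]; group
        rw [h1]
        exact Subgroup.mul_mem _ (hg i a ha) ((hnorm i.castSucc).conj_mem _ (hh i a ha) g)
      inv_mem' := by
        intro g hg i a ha
        have h1 : ⁅a, g⁻¹⁆ = g⁻¹ * ⁅a, g⁆⁻¹ * g⁻¹⁻¹ := by
          simp only [commutatorElement_def]; group
        rw [h1]
        exact (hnorm i.castSucc).conj_mem _ (Subgroup.inv_mem _ (hg i a ha)) g⁻¹ }
  have hCmem : ∀ g, g ∈ C ↔ ∀ i : Fin n, ∀ a ∈ A i.succ, ⁅a, g⁆ ∈ A i.castSucc := fun g => Iff.rfl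
  have hCn : C.Normal := by
    constructor
    intro g hg h
    rw [hCmem] at hg ⊢
    intro i a ha
    have h1 : ⁅a, h * g * h⁻¹⁆ = h * ⁅h⁻¹ * a * h⁻¹⁻¹, g⁆ * h⁻¹ := by
      simp only [commutatorElement_def]; group
    rw [h1]
    exact (hnorm i.castSucc).conj_mem _ (hg i _ ((hnorm i.succ).conj_mem _ ha h⁻¹)) h
  have hcentr : ∀ y ∈ C, ∀ m : ℕ, m.Coprime p → y ^ m = 1 → ∀ i : Fin (n + 1), ∀ a ∈ A i, a * y = y * a := by
    intro y hy m hm hym i
    induction i using Fin.induction with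
    | zero =>
      intro a ha
      rw [h0, Subgroup.mem_bot] at ha
      rw [ha]; group
    | succ i ih =>
      intro a ha
      have hc : ⁅a, y⁆ ∈ A i.castSucc := (hCmem y).mp hy i a ha
      have hcR : ⁅a, y⁆ ∈ Cfsg.pCore p H := by
        rw [← hn]
        exact hmono (Fin.le_last _) hc
      have hcomm : Commute ⁅a, y⁆ y := ih _ hc
      have h1 : a * y * a⁻¹ = ⁅a, y⁆ * y := by
        rw [commutatorElement_def]; group
      have h2 : (a * y * a⁻¹) ^ m = 1 := by
        rw [conj_pow, hym]; group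
      rw [h1, hcomm.mul_pow, hym, mul_one] at h2
      have h3 : ⁅a, y⁆ = 1 := pelem_coprime_one _ hRp _ hcR m hm h2
      rw [h3, one_mul] at h1
      calc a * y = (a * y * a⁻¹) * a := by group
        _ = y * a := by rw [h1]
  have hCp : IsPGroup p ↥C := by
    intro x
    have hpos : orderOf (x : H) ≠ 0 := (orderOf_pos (x : H)).ne'
    obtain ⟨a, m, hm, hN⟩ := Nat.exists_eq_pow_mul_and_not_dvd hpos p hp.ne_one
    refine ⟨a, ?_⟩
    have hmc : m.Coprime p := (Nat.Coprime.symm ((Nat.Prime.coprime_iff_not_dvd hp).mpr hm))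
    have hy : (x : H) ^ (p ^ a) ∈ C := C.pow_mem x.2 _
    have hym : ((x : H) ^ (p ^ a)) ^ m = 1 := by
      rw [← pow_mul, ← hN, pow_orderOf_eq_one]
    have hcent2 := hcentr _ hy m hmc hym (Fin.last n)
    rw [hn] at hcent2
    have hyC : (x : H) ^ (p ^ a) ∈ Subgroup.centralizer (Cfsg.pCore p H : Set H) := by
      rw [Subgroup.mem_centralizer_iff]
      intro r hr
      exact hcent2 r hr
    have hyR : (x : H) ^ (p ^ a) ∈ Cfsg.pCore p H := hchar hyC
    have h1 := pelem_coprime_one _ hRp _ hyR m hmc hym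
    apply Subtype.ext
    simpa using h1
  have hLC : L ≤ C := by
    intro l hl
    rw [hCmem]
    intro i a ha
    exact hcent i (Subgroup.commutator_mem_commutator ha hl)
  exact hLC.trans (Cfsg.Agent.Lib.Helper4.le_pCore hCn hCp)

end Cfsg.Agent.S2810
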