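import Cfsg.Statements.S2813
import Cfsg.Agent.Lib.Helper4.Basic

set_option autoImplicit false
open Cfsg
open scoped commutatorElement

namespace Cfsg.Agent.S2813

theorem comm_le_K {H : Type*} [Group H] (K Y : Subgroup H) (hYK : Y ≤ Subgroup.normalizer (K : Set H)) :
    ⁅K, Y⁆ ≤ K := by
  rw [Subgroup.commutator_le]
  intro g₁ h₁ g₂ h₂
  have hg2 := hYK h₂
  rw [Subgroup.mem_normalizer_iff] at hg2
  have h3 : g₂ * g₁⁻¹ * g₂⁻¹ ∈ K := (hg2 g₁⁻¹).mp (K.inv_mem h₁)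
  have h4 : ⁅g₁, g₂⁆ = g₁ * (g₂ * g₁⁻¹ * g₂⁻¹) := by
    rw [commutatorElement_def]; group
  rw [h4]
  exact K.mul_mem h₁ h3

theorem conj_mem {H : Type*} [Group H] (K Y : Subgroup H) (k' : H) (hk' : k' ∈ K) :
    ∀ n ∈ ⁅K, Y⁆, k' * n * k'⁻¹ ∈ ⁅K, Y⁆ := by
  have h : ⁅K, Y⁆ ≤ (⁅K, Y⁆).comap (MulAut.conj k').toMonoidHom := by
    rw [Subgroup.commutator_le]
    intro g₁ h₁ g₂ h₂
    rw [Subgroup.mem_comap]
    show k' * ⁅g₁, g₂⁆ * k'⁻¹ ∈ ⁅K, Y⁆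
    have h1 : k' * ⁅g₁, g₂⁆ * k'⁻¹ = ⁅k' * g₁, g₂⁆ * ⁅k', g₂⁆⁻¹ := by
      simp only [commutatorElement_def]; group
    rw [h1]
    exact Subgroup.mul_mem _ (Subgroup.commutator_mem_commutator (K.mul_mem hk' h₁) h₂)
      (Subgroup.inv_mem _ (Subgroup.commutator_mem_commutator hk' h₂))
  intro n hn
  exact h hn

/-- Let K be a subgroup of the finite group H with O_p(K) = 1 and Y a p-subgroup of N_H(K) with [K, Y, Y] = 1. Then [K, Y] = 1. -/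
theorem result {H : Type*} [Group H] [Finite H] {p : ℕ} [Fact p.Prime] (K : Subgroup H) (hO : Cfsg.pCore p ↥K = ⊥) (Y : Subgroup H) (hY : IsPGroup p ↥Y) (hYK : Y ≤ Subgroup.normalizer (K : Set H)) (hq : ⁅⁅K, Y⁆, Y⁆ = ⊥) : ⁅K, Y⁆ = ⊥ := by
  have hNK : ⁅K, Y⁆ ≤ K := comm_le_K K Y hYK
  have hNY : ∀ n ∈ ⁅K, Y⁆, ∀ y ∈ Y, y * n = n * y := by
    have := (Subgroup.commutator_eq_bot_iff_le_centralizer).mp hq
    intro n hn y hy
    have h1 := this hn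
    rw [Subgroup.mem_centralizer_iff] at h1
    exact h1 y hy
  have hKN : ⁅K, ⁅K, Y⁆⁆ ≤ ⁅K, Y⁆ := by
    rw [Subgroup.commutator_le]
    intro g₁ h₁ g₂ h₂
    have h1 : ⁅g₁, g₂⁆ = (g₁ * g₂ * g₁⁻¹) * g₂⁻¹ := by
      rw [commutatorElement_def]
    rw [h1]
    exact Subgroup.mul_mem _ (conj_mem K Y g₁ h₁ g₂ h₂) (Subgroup.inv_mem _ h₂)
  have hab : ⁅⁅K, Y⁆, ⁅K, Y⁆⁆ = ⊥ := by
    have h1 : ⁅⁅K, ⁅K, Y⁆⁆, Y⁆ = ⊥ := by
      rw [eq_bot_iff, ← hq]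
      exact Subgroup.commutator_mono hKN le_rfl
    have h2 : ⁅⁅⁅K, Y⁆, Y⁆, K⁆ = ⊥ := by
      rw [hq]; exact Subgroup.commutator_bot_left K
    have h3 := Subgroup.commutator_commutator_eq_bot_of_rotate h1 h2
    rw [Subgroup.commutator_comm Y K] at h3
    exact h3
  have habel : ∀ a ∈ ⁅K, Y⁆, ∀ b ∈ ⁅K, Y⁆, a * b = b * a := by
    have := (Subgroup.commutator_eq_bot_iff_le_centralizer).mp hab
    intro a ha b hb
    have h1 := this ha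
    rw [Subgroup.mem_centralizer_iff] at h1
    exact (h1 b hb).symm
  let P : Subgroup H :=
    { carrier := {n | n ∈ ⁅K, Y⁆ ∧ ∃ a : ℕ, n ^ (p ^ a) = 1}
      one_mem' := ⟨Subgroup.one_mem _, 0, by simp⟩
      mul_mem' := by
        rintro x y ⟨hx, a, hxa⟩ ⟨hy, b, hyb⟩
        refine ⟨Subgroup.mul_mem _ hx hy, a + b, ?_⟩
        have hc : Commute x y := habel x hx y hy
        rw [hc.mul_pow, pow_add, pow_mul, hxa, one_pow, one_mul, mul_comm (p ^ a), pow_mul, hyb, one_pow]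
      inv_mem' := by
        rintro x ⟨hx, a, hxa⟩
        exact ⟨Subgroup.inv_mem _ hx, a, by rw [inv_pow, hxa, inv_one]⟩ }
  have hPmem : ∀ n, n ∈ P ↔ n ∈ ⁅K, Y⁆ ∧ ∃ a : ℕ, n ^ (p ^ a) = 1 := fun n => Iff.rfl
  have hPn : (P.subgroupOf K).Normal := by
    constructor
    intro n hn g
    rw [Subgroup.mem_subgroupOf] at hn ⊢
    rw [hPmem] at hn ⊢
    obtain ⟨hn1, a, hna⟩ := hn
    refine ⟨conj_mem K Y g g.2 _ hn1, a, ?_⟩
    show ((g : H) * (n : H) * (g : H)⁻¹) ^ (p ^ a) = 1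
    rw [conj_pow, hna]; group
  have hPp : IsPGroup p ↥(P.subgroupOf K) := by
    intro x
    have hx := x.2
    rw [Subgroup.mem_subgroupOf, hPmem] at hx
    obtain ⟨_, a, hxa⟩ := hx
    refine ⟨a, ?_⟩
    apply Subtype.ext
    apply Subtype.ext
    simpa using hxa
  have hPbot : P.subgroupOf K = ⊥ := by
    rw [eq_bot_iff, ← hO]
    exact Cfsg.Agent.Lib.Helper4.le_pCore hPn hPp
  rw [eq_bot_iff, Subgroup.commutator_le]
  intro k hk y hy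
  rw [Subgroup.mem_bot]
  have hc : ⁅k, y⁆ ∈ ⁅K, Y⁆ := Subgroup.commutator_mem_commutator hk hy
  obtain ⟨a, hya⟩ := hY ⟨y, hy⟩
  have hya' : y ^ (p ^ a) = 1 := by
    have := congrArg Subtype.val hya
    simpa using this
  have hcomm : Commute ⁅k, y⁆ y := (hNY _ hc y hy).symm
  have h1 : k * y * k⁻¹ = ⁅k, y⁆ * y := by
    rw [commutatorElement_def]; group
  have h2 : (k * y * k⁻¹) ^ (p ^ a) = 1 := by
    rw [conj_pow, hya']; group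
  rw [h1, hcomm.mul_pow, hya', mul_one] at h2
  have hcP : ⁅k, y⁆ ∈ P := (hPmem _).mpr ⟨hc, a, h2⟩
  have hcK : ⁅k, y⁆ ∈ K := hNK hc
  have h3 : (⟨⁅k, y⁆, hcK⟩ : ↥K) ∈ P.subgroupOf K := by
    rw [Subgroup.mem_subgroupOf]; exact hcP
  rw [hPbot, Subgroup.mem_bot] at h3
  exact congrArg Subtype.val h3

end Cfsg.Agent.S2813
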