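import Cfsg.Statements.S2814
import Mathlib
import Cfsg.Statements.S2814
import Cfsg.Agent.Lib.Helper4.Subn

set_option autoImplicit false
open Cfsg
open scoped commutatorElement

namespace Cfsg.Agent.S2814

open Cfsg Cfsg.Agent.Lib
open scoped commutatorElement

/-- Let A be a subgroup of the finite group H and K the subnormal closure of A (intersection of the subnormal subgroups containing A). Then K is the normal closure of A inside K and N_H(A) ≤ N_H(K); K = A·O^p(K), O^p(K) being generated by the elements of K of order prime to p; and if A is a p-group, O^p(K) = [O^p(K), A]. -/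
theorem result {H : Type*} [Group H] [Finite H] {p : ℕ} [Fact p.Prime] (A : Subgroup H) (K : Subgroup H) (hK : K = Cfsg.subnormalClosure A) : (Subgroup.normalClosure ((A.subgroupOf K : Subgroup ↥K) : Set ↥K)).map K.subtype = K ∧ Subgroup.normalizer (A : Set H) ≤ Subgroup.normalizer (K : Set H) ∧ A ⊔ (Cfsg.pResidual p ↥K).map K.subtype = K ∧ (IsPGroup p ↥A → ⁅(Cfsg.pResidual p ↥K).map K.subtype, A⁆ = (Cfsg.pResidual p ↥K).map K.subtype) := by
  obtain ⟨hAK, hKsn, hKmin⟩ := Helper4.subnormalClosure_spec A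
  rw [← hK] at hAK hKsn hKmin
  have hR : (Cfsg.pResidual p ↥K).map K.subtype = Helper4.pGen p K := Helper4.pResidualOf_eq_pGen p K
  rw [hR]
  have hRK : Helper4.pGen p K ≤ K := Helper4.pGen_le p K
  have hKR : K ≤ Subgroup.normalizer ((Helper4.pGen p K : Subgroup H) : Set H) :=
    Subgroup.le_normalizer.trans (Helper4.normalizer_le_normalizer_pGen p K)
  have h3 : A ⊔ Helper4.pGen p K = K := by
    apply le_antisymm (sup_le hAK hRK)
    apply hKmin _ le_sup_left
    exact Subgroup.IsSubnormal.trans (sup_le hAK hRK)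
      (Helper4.subnormal_of_pGen_le K _ (sup_le hAK hRK) le_sup_right) hKsn
  refine ⟨?_, ?_, h3, ?_⟩
  · apply le_antisymm (Subgroup.map_subtype_le _)
    apply hKmin
    · intro a ha
      exact ⟨⟨a, hAK ha⟩, Subgroup.subset_normalClosure (Subgroup.mem_subgroupOf.mpr ha), rfl⟩
    · exact Subgroup.IsSubnormal.trans' (Subgroup.normalClosure_normal.isSubnormal) hKsn
  · intro g hg
    have key : ∀ g : H, g ∈ Subgroup.normalizer (A : Set H) → K ≤ Helper8.cj g K := by
      intro g hg
      apply hKmin
      · have h1 : Helper8.cj g A ≤ Helper8.cj g K := Helper8.cj_mono hAK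
        rw [Helper8.mem_normalizer_iff_cj.mp hg] at h1
        exact h1
      · exact hKsn.map (MulAut.conj g).surjective
    rw [Helper8.mem_normalizer_iff_cj]
    apply le_antisymm
    · have h1 := key g⁻¹ (Subgroup.inv_mem _ hg)
      have h2 := Helper8.cj_mono (g := g) h1
      rw [Helper8.cj_cj_inv] at h2
      exact h2
    · exact key g hg
  · intro hAp
    have hAR : A ≤ Subgroup.normalizer ((Helper4.pGen p K : Subgroup H) : Set H) := hAK.trans hKR
    have hle : ⁅Helper4.pGen p K, A⁆ ≤ Helper4.pGen p K := Lead.commutator_le_of_le_normalizer _ A hAR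
    apply le_antisymm hle
    have hRn : Helper4.pGen p K ≤ Subgroup.normalizer ((⁅Helper4.pGen p K, A⁆ : Subgroup H) : Set H) :=
      Lead.le_normalizer_commutator _ A
    have hAn : A ≤ Subgroup.normalizer ((⁅Helper4.pGen p K, A⁆ : Subgroup H) : Set H) :=
      Lead.le_normalizer_commutator_right _ A
    have hX2K : ⁅Helper4.pGen p K, A⁆ ⊔ A ≤ K := sup_le (hle.trans hRK) hAK
    have hKX2 : K ≤ Subgroup.normalizer ((⁅Helper4.pGen p K, A⁆ ⊔ A : Subgroup H) : Set H) := by
      refine le_trans (le_of_eq h3.symm) ?_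
      apply sup_le
      · exact (le_sup_right : A ≤ ⁅Helper4.pGen p K, A⁆ ⊔ A).trans Subgroup.le_normalizer
      · apply Helper4.le_normalizer_of_forall_conj
        intro r hr c hc
        obtain ⟨c₁, hc₁, a, ha, rfl⟩ := Lead.mem_sup_of_le_normalizer hAn hc
        have e : r * (c₁ * a) * r⁻¹ = (r * c₁ * r⁻¹) * ⁅r, a⁆ * a := by
          rw [commutatorElement_def]; group
        rw [e]
        refine Subgroup.mul_mem _ (Subgroup.mul_mem _ ?_ ?_) ((le_sup_right : A ≤ _) ha)
        · exact (le_sup_left : ⁅Helper4.pGen p K, A⁆ ≤ _) ((Subgroup.mem_normalizer_iff.mp (hRn hr) c₁).mp hc₁)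
        · exact (le_sup_left : ⁅Helper4.pGen p K, A⁆ ≤ _) (Subgroup.commutator_mem_commutator hr ha)
    have hX2sn : (⁅Helper4.pGen p K, A⁆ ⊔ A).IsSubnormal := by
      apply Subgroup.IsSubnormal.trans hX2K _ hKsn
      exact ((Subgroup.normal_subgroupOf_iff_le_normalizer hX2K).mpr hKX2).isSubnormal
    have hKX : K ≤ ⁅Helper4.pGen p K, A⁆ ⊔ A := hKmin _ le_sup_right hX2sn
    apply Helper4.pGen_le_of
    intro g hg hco
    exact Helper4.coprime_mem_of_sup hAn hAp (hKX hg) hco

end Cfsg.Agent.S2814
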