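import Cfsg.Statements.S2818
import Cfsg.Agent.Lib.Helper4.Frattini

set_option autoImplicit false
open Cfsg
open scoped commutatorElement

namespace Cfsg.Agent.S2818

theorem omega_center_mem {G : Type*} [Group G] (p : ℕ) (P : Subgroup G) :
    ∀ z ∈ Cfsg.omegaOne p (P ⊓ Subgroup.centralizer (P : Set G)),
      z ∈ P ∧ (∀ x ∈ P, x * z = z * x) ∧ z ^ p = 1 := by
  let T : Subgroup G :=
    { carrier := {z | (z ∈ P ∧ ∀ x ∈ P, x * z = z * x) ∧ z ^ p = 1}
      one_mem' := ⟨⟨P.one_mem, fun x _ => by group⟩, one_pow p⟩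
      mul_mem' := by
        rintro a b ⟨⟨haP, haC⟩, hap⟩ ⟨⟨hbP, hbC⟩, hbp⟩
        refine ⟨⟨P.mul_mem haP hbP, fun x hx => ?_⟩, ?_⟩
        · calc x * (a * b) = (x * a) * b := by group
            _ = (a * x) * b := by rw [haC x hx]
            _ = a * (x * b) := by group
            _ = a * (b * x) := by rw [hbC x hx]
            _ = a * b * x := by group
        · have hc : Commute a b := hbC a haP
          rw [hc.mul_pow, hap, hbp, one_mul]
      inv_mem' := by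
        rintro a ⟨⟨haP, haC⟩, hap⟩
        refine ⟨⟨P.inv_mem haP, fun x hx => ?_⟩, by rw [inv_pow, hap, inv_one]⟩
        calc x * a⁻¹ = a⁻¹ * (a * x) * a⁻¹ := by group
          _ = a⁻¹ * (x * a) * a⁻¹ := by rw [haC x hx]
          _ = a⁻¹ * x := by group }
  have hle : Cfsg.omegaOne p (P ⊓ Subgroup.centralizer (P : Set G)) ≤ T := by
    unfold Cfsg.omegaOne
    rw [Subgroup.closure_le]
    rintro z ⟨hz, hzp⟩
    obtain ⟨hz1, hz2⟩ := Subgroup.mem_inf.mp hz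
    rw [Subgroup.mem_centralizer_iff] at hz2
    exact ⟨⟨hz1, hz2⟩, hzp⟩
  intro z hz
  obtain ⟨⟨h1, h2⟩, h3⟩ := hle hz
  exact ⟨h1, h2, h3⟩


/-- Let P be a finite p-subgroup of a group G and H a subgroup of N_G(P) with [P, H] ≤ Ω₁(Z(P)) (the elements of order dividing p in the centre of P). Then H centralizes the Frattini subgroup of P. -/
theorem result {G : Type*} [Group G] [Finite G] {p : ℕ} [Fact p.Prime] (P : Subgroup G) (hP : IsPGroup p ↥P) (H : Subgroup G) (hH : H ≤ Subgroup.normalizer (P : Set G)) (h : ⁅P, H⁆ ≤ Cfsg.omegaOne p (P ⊓ Subgroup.centralizer (P : Set G))) : ⁅(frattini ↥P).map P.subtype, H⁆ = ⊥ := by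
  have hz : ∀ h' ∈ H, ∀ x ∈ P, ∃ z : G, h' * x * h'⁻¹ = x * z ∧ z ∈ P ∧ (∀ y ∈ P, y * z = z * y) ∧ z ^ p = 1 := by
    intro h' hh' x hx
    refine ⟨⁅x⁻¹, h'⁆, ?_, ?_⟩
    · rw [commutatorElement_def]; group
    · exact omega_center_mem p P _ (h (Subgroup.commutator_mem_commutator (P.inv_mem hx) hh'))
  rw [Subgroup.commutator_eq_bot_iff_le_centralizer]
  rintro x ⟨x', hx', rfl⟩
  rw [Subgroup.mem_centralizer_iff]
  intro h' hh'
  have hK1 : ∀ a b : ↥P, ⁅a, b⁆ ∈ (Subgroup.centralizer ({h'} : Set G)).subgroupOf P := by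
    intro a b
    rw [Subgroup.mem_subgroupOf, Subgroup.mem_centralizer_iff]
    intro g hg
    rw [Set.mem_singleton_iff] at hg
    subst hg
    obtain ⟨za, hza, hzaP, hzaC, -⟩ := hz g hh' a a.2
    obtain ⟨zb, hzb, hzbP, hzbC, -⟩ := hz g hh' b b.2
    have hab : ((⁅a, b⁆ : ↥P) : G) = (a : G) * (b : G) * (a : G)⁻¹ * (b : G)⁻¹ := by
      simp [commutatorElement_def]
    rw [hab]
    have ha'P : (a : G) ∈ P := a.2
    have hb'P : (b : G) ∈ P := b.2
    generalize (a : G) = a' at *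
    generalize (b : G) = b' at *
    have e1 : g * (a' * b' * a'⁻¹ * b'⁻¹) * g⁻¹ =
        (g * a' * g⁻¹) * (g * b' * g⁻¹) * (g * a' * g⁻¹)⁻¹ * (g * b' * g⁻¹)⁻¹ := by group
    have c1 : za * (b' * zb) = (b' * zb) * za := by
      have := hzaC (b' * zb) (P.mul_mem hb'P hzbP)
      exact this.symm
    have c2 : zb * a'⁻¹ = a'⁻¹ * zb := by
      have := hzbC a'⁻¹ (P.inv_mem ha'P)
      exact this.symm
    have e2 : (a' * za) * (b' * zb) * (a' * za)⁻¹ * (b' * zb)⁻¹ = a' * b' * a'⁻¹ * b'⁻¹ := by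
      calc (a' * za) * (b' * zb) * (a' * za)⁻¹ * (b' * zb)⁻¹
          = a' * (za * (b' * zb)) * za⁻¹ * a'⁻¹ * (b' * zb)⁻¹ := by group
        _ = a' * ((b' * zb) * za) * za⁻¹ * a'⁻¹ * (b' * zb)⁻¹ := by rw [c1]
        _ = a' * b' * (zb * a'⁻¹) * zb⁻¹ * b'⁻¹ := by group
        _ = a' * b' * (a'⁻¹ * zb) * zb⁻¹ * b'⁻¹ := by rw [c2]
        _ = a' * b' * a'⁻¹ * b'⁻¹ := by group
    have e3 : g * (a' * b' * a'⁻¹ * b'⁻¹) * g⁻¹ = a' * b' * a'⁻¹ * b'⁻¹ := by
      rw [e1, hza, hzb, e2]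
    calc g * (a' * b' * a'⁻¹ * b'⁻¹) = (g * (a' * b' * a'⁻¹ * b'⁻¹) * g⁻¹) * g := by group
      _ = a' * b' * a'⁻¹ * b'⁻¹ * g := by rw [e3]
  have hK2 : ∀ a : ↥P, a ^ p ∈ (Subgroup.centralizer ({h'} : Set G)).subgroupOf P := by
    intro a
    rw [Subgroup.mem_subgroupOf, Subgroup.mem_centralizer_iff]
    intro g hg
    rw [Set.mem_singleton_iff] at hg
    subst hg
    obtain ⟨za, hza, hzaP, hzaC, hzap⟩ := hz g hh' a a.2
    have hap : ((a ^ p : ↥P) : G) = (a : G) ^ p := by simp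
    rw [hap]
    have e1 : g * (a : G) ^ p * g⁻¹ = (a : G) ^ p := by
      rw [← conj_pow, hza]
      have hc : Commute (a : G) za := hzaC a a.2
      rw [hc.mul_pow, hzap, mul_one]
    calc g * (a : G) ^ p = (g * (a : G) ^ p * g⁻¹) * g := by group
      _ = (a : G) ^ p * g := by rw [e1]
  have hfr := Cfsg.Agent.Lib.Helper4.frattini_le_of_comm_pow (p := p) _ hK1 hK2
  have := hfr hx'
  rw [Subgroup.mem_subgroupOf, Subgroup.mem_centralizer_iff] at this
  exact this h' rfl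

end Cfsg.Agent.S2818
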