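import Cfsg.Statements.S2819
import Mathlib
import Cfsg.Statements.S2819
import Cfsg.Agent.Lib.Helper4.Frattini
import Cfsg.Agent.Lib.Helper4.CharP
import Cfsg.Agent.Lib.Lead.Charac

set_option autoImplicit false
open Cfsg
open scoped commutatorElement

namespace Cfsg.Agent.S2819

open Cfsg Cfsg.Agent.Lib
open scoped commutatorElement

theorem comm_le_self {G : Type*} [Group G] (P : Subgroup G) : ⁅P, P⁆ ≤ P :=
  Subgroup.commutator_le.mpr (fun a ha b hb => P.mul_mem (P.mul_mem (P.mul_mem ha hb) (P.inv_mem ha)) (P.inv_mem hb))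

theorem conj_comm_mem {G : Type*} [Group G] (P : Subgroup G) (g : G) (hg : g ∈ Subgroup.normalizer (P : Set G)) (d : G) (hd : d ∈ ⁅P, P⁆) : g * d * g⁻¹ ∈ ⁅P, P⁆ := by
  have h1 : (⁅P, P⁆).map (MulAut.conj g).toMonoidHom = ⁅P.map (MulAut.conj g).toMonoidHom, P.map (MulAut.conj g).toMonoidHom⁆ := Subgroup.map_commutator _ _ _
  have h2 : P.map (MulAut.conj g).toMonoidHom = P := by
    ext x
    constructor
    · rintro ⟨y, hy, rfl⟩
      exact (Subgroup.mem_normalizer_iff.mp hg y).mp hy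
    · intro hx
      refine ⟨g⁻¹ * x * g, ?_, by simp [mul_assoc]⟩
      have := (Subgroup.mem_normalizer_iff.mp (Subgroup.inv_mem _ hg) x).mp hx
      simpa using this
  rw [h2] at h1
  have : g * d * g⁻¹ ∈ (⁅P, P⁆).map (MulAut.conj g).toMonoidHom := ⟨d, hd, by simp⟩
  rwa [h1] at this

theorem pow_mul_mem_comm {P : Type*} [Group P] (c x : P) (n : ℕ) (hc : c ^ n = 1) :
    (c * x) ^ n * (x ^ n)⁻¹ ∈ _root_.commutator P := by
  rw [← Abelianization.ker_of, MonoidHom.mem_ker]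
  rw [map_mul, map_inv, map_pow, map_pow, map_mul, mul_pow, ← map_pow, hc, map_one, one_mul]
  simp

theorem pow_mul_mem_comm' {G : Type*} [Group G] (P : Subgroup G) (c x : G) (hc : c ∈ P) (hx : x ∈ P) (n : ℕ) (hcn : c ^ n = 1) :
    (c * x) ^ n * (x ^ n)⁻¹ ∈ ⁅P, P⁆ := by
  have h := pow_mul_mem_comm (⟨c, hc⟩ : ↥P) ⟨x, hx⟩ n (by ext; simpa using hcn)
  have h2 : P.subtype ((⟨c, hc⟩ * ⟨x, hx⟩ : ↥P) ^ n * ((⟨x, hx⟩ : ↥P) ^ n)⁻¹) ∈ (_root_.commutator ↥P).map P.subtype := ⟨_, h, rfl⟩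
  rw [Subgroup.map_subtype_commutator] at h2
  simpa using h2

/-- Let P be a finite p-subgroup of a group G, H a subgroup of N_G(P), and Y a subgroup of H centralizing the derived subgroup P' such that [P, Y] is elementary abelian. Then O^p(⟨Y^H⟩), the subgroup of the normal closure of Y in H generated by its elements of order prime to p, centralizes the Frattini subgroup of P. -/
theorem result {G : Type*} [Group G] [Finite G] {p : ℕ} [Fact p.Prime] (P : Subgroup G) (hP : IsPGroup p ↥P) (H : Subgroup G) (hH : H ≤ Subgroup.normalizer (P : Set G)) (Y : Subgroup G) (hYH : Y ≤ H) (hYc : Y ≤ Subgroup.centralizer ((⁅P, P⁆ : Subgroup G) : Set G)) (hel : Cfsg.IsElementaryAbelian p ⁅P, Y⁆) (NY : Subgroup G) (hNY : NY = (Subgroup.normalClosure ((Y.subgroupOf H : Subgroup ↥H) : Set ↥H)).map H.subtype) : (Cfsg.pResidual p ↥NY).map NY.subtype ≤ Subgroup.centralizer (((frattini ↥P).map P.subtype : Subgroup G) : Set G) := by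
  have hp : p.Prime := Fact.out
  have hDP : ⁅P, P⁆ ≤ P := comm_le_self P
  have hDp : IsPGroup p ↥(⁅P, P⁆) := hP.to_le hDP
  have hYN : Y ≤ Subgroup.normalizer (P : Set G) := hYH.trans hH
  have hPY : ⁅P, Y⁆ ≤ P := Subgroup.commutator_le.mpr (fun a ha b hb => by
    have : b * a⁻¹ * b⁻¹ ∈ P := (Subgroup.mem_normalizer_iff.mp (hYN hb) a⁻¹).mp (P.inv_mem ha)
    have h2 : ⁅a, b⁆ = a * (b * a⁻¹ * b⁻¹) := by rw [commutatorElement_def]; group
    rw [h2]; exact P.mul_mem ha this)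
  let K : Subgroup ↥P :=
    { carrier := {x | ∀ y ∈ Y, ⁅(x : G), y⁆ ∈ ⁅P, P⁆}
      one_mem' := by
        intro y hy
        simp
      mul_mem' := by
        intro a b ha hb y hy
        have e : ⁅((a * b : ↥P) : G), y⁆ = (a : G) * ⁅(b : G), y⁆ * (a : G)⁻¹ * ⁅(a : G), y⁆ := by
          rw [Subgroup.coe_mul]; simp only [commutatorElement_def]; group
        rw [e]
        exact Subgroup.mul_mem _ (conj_comm_mem P _ (Subgroup.le_normalizer a.2) _ (hb y hy)) (ha y hy)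
      inv_mem' := by
        intro a ha y hy
        have e : ⁅((a⁻¹ : ↥P) : G), y⁆ = (a : G)⁻¹ * ⁅(a : G), y⁆⁻¹ * ((a : G)⁻¹)⁻¹ := by
          rw [Subgroup.coe_inv]; simp only [commutatorElement_def]; group
        rw [e]
        exact conj_comm_mem P _ (Subgroup.le_normalizer (P.inv_mem a.2)) _ (Subgroup.inv_mem _ (ha y hy)) }
  have hK1 : ∀ a b : ↥P, ⁅a, b⁆ ∈ K := by
    intro a b y hy
    have hc : ((⁅a, b⁆ : ↥P) : G) ∈ ⁅P, P⁆ := by
      have : ((⁅a, b⁆ : ↥P) : G) = ⁅(a : G), (b : G)⁆ := by simp [commutatorElement_def]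
      rw [this]; exact Subgroup.commutator_mem_commutator a.2 b.2
    have := Subgroup.mem_centralizer_iff.mp (hYc hy) _ hc
    have e : ⁅((⁅a, b⁆ : ↥P) : G), y⁆ = 1 := by
      rw [commutatorElement_eq_one_iff_mul_comm]; exact this
    rw [e]; exact Subgroup.one_mem _
  have hK2 : ∀ a : ↥P, a ^ p ∈ K := by
    intro a y hy
    have hc1 : ⁅y, (a : G)⁆ ∈ ⁅P, Y⁆ := by
      have : ⁅y, (a : G)⁆ = ⁅(a : G), y⁆⁻¹ := by rw [commutatorElement_inv]
      rw [this]; exact Subgroup.inv_mem _ (Subgroup.commutator_mem_commutator a.2 hy)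
    have hcp : ⁅y, (a : G)⁆ ^ p = 1 := hel.2 _ hc1
    have hcP : ⁅y, (a : G)⁆ ∈ P := hPY hc1
    have h := pow_mul_mem_comm' P _ _ hcP a.2 p hcp
    have e1 : ⁅y, (a : G)⁆ * (a : G) = y * (a : G) * y⁻¹ := by rw [commutatorElement_def]; group
    rw [e1, conj_pow] at h
    have e2 : ⁅((a ^ p : ↥P) : G), y⁆ = (y * (a : G) ^ p * y⁻¹ * ((a : G) ^ p)⁻¹)⁻¹ := by
      rw [Subgroup.coe_pow]; simp only [commutatorElement_def]; group
    rw [e2]; exact Subgroup.inv_mem _ h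
  have hfr := Cfsg.Agent.Lib.Helper4.frattini_le_of_comm_pow (p := p) K hK1 hK2
  have hA : ∀ x ∈ (frattini ↥P).map P.subtype, ∀ y ∈ Y, ⁅x, y⁆ ∈ ⁅P, P⁆ := by
    rintro x ⟨x', hx', rfl⟩ y hy
    exact hfr hx' y hy
  have hFN : Subgroup.normalizer (P : Set G) ≤ Subgroup.normalizer (((frattini ↥P).map P.subtype : Subgroup G) : Set G) :=
    Lead.le_normalizer_map_of_characteristic P (frattini ↥P)
  let S : Subgroup G :=
    { carrier := {g | (∀ c ∈ ⁅P, P⁆, g * c = c * g) ∧ ∀ x ∈ (frattini ↥P).map P.subtype, ⁅x, g⁆ ∈ ⁅P, P⁆}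
      one_mem' := ⟨fun c _ => by simp, fun x _ => by simp⟩
      mul_mem' := by
        rintro a b ⟨ha1, ha2⟩ ⟨hb1, hb2⟩
        refine ⟨fun c hc => ?_, fun x hx => ?_⟩
        · rw [mul_assoc, hb1 c hc, ← mul_assoc, ha1 c hc, mul_assoc]
        · have e : ⁅x, a * b⁆ = ⁅x, a⁆ * (a * ⁅x, b⁆ * a⁻¹) := by
            simp only [commutatorElement_def]; group
          have e2 : a * ⁅x, b⁆ * a⁻¹ = ⁅x, b⁆ := by
            rw [ha1 _ (hb2 x hx)]; group
          rw [e, e2]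
          exact Subgroup.mul_mem _ (ha2 x hx) (hb2 x hx)
      inv_mem' := by
        rintro a ⟨ha1, ha2⟩
        refine ⟨fun c hc => ?_, fun x hx => ?_⟩
        · have := ha1 c hc
          calc a⁻¹ * c = a⁻¹ * (c * a) * a⁻¹ := by group
            _ = a⁻¹ * (a * c) * a⁻¹ := by rw [this]
            _ = c * a⁻¹ := by group
        · have e : ⁅x, a⁻¹⁆ = a⁻¹ * ⁅x, a⁆⁻¹ * a := by
            simp only [commutatorElement_def]; group
          have h3 := ha1 _ (Subgroup.inv_mem _ (ha2 x hx))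
          have e2 : a⁻¹ * ⁅x, a⁆⁻¹ * a = ⁅x, a⁆⁻¹ := by
            rw [mul_assoc, ← h3]; group
          rw [e, e2]
          exact Subgroup.inv_mem _ (ha2 x hx) }
  have hB : ∀ h ∈ H, ∀ y ∈ Y, h * y * h⁻¹ ∈ S := by
    intro h hh y hy
    have hhN := hH hh
    have hhN' : h⁻¹ ∈ Subgroup.normalizer (P : Set G) := Subgroup.inv_mem _ hhN
    refine ⟨fun c hc => ?_, fun x hx => ?_⟩
    · have h1 : h⁻¹ * c * h⁻¹⁻¹ ∈ ⁅P, P⁆ := conj_comm_mem P _ hhN' c hc
      have h2 := Subgroup.mem_centralizer_iff.mp (hYc hy) _ h1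
      rw [inv_inv] at h2
      calc h * y * h⁻¹ * c = h * (y * (h⁻¹ * c * h)) * h⁻¹ := by group
        _ = h * ((h⁻¹ * c * h) * y) * h⁻¹ := by rw [h2]
        _ = c * (h * y * h⁻¹) := by group
    · have h1 : h⁻¹ * x * h⁻¹⁻¹ ∈ (frattini ↥P).map P.subtype := (Subgroup.mem_normalizer_iff.mp (hFN hhN') x).mp hx
      have h2 := hA _ h1 y hy
      have e : ⁅x, h * y * h⁻¹⁆ = h * ⁅h⁻¹ * x * h⁻¹⁻¹, y⁆ * h⁻¹ := by
        simp only [commutatorElement_def]; group
      rw [e]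
      exact conj_comm_mem P _ hhN _ h2
  have hC : NY ≤ S := by
    rw [hNY, Subgroup.map_le_iff_le_comap, Subgroup.normalClosure, Subgroup.closure_le]
    intro g hg
    rw [Group.mem_conjugatesOfSet_iff] at hg
    obtain ⟨b, hb, hconj⟩ := hg
    obtain ⟨c, hc⟩ := isConj_iff.mp hconj
    rw [SetLike.mem_coe, Subgroup.mem_subgroupOf] at hb
    show (g : G) ∈ S
    rw [← hc]
    exact hB c c.2 b hb
  rw [Subgroup.map_le_iff_le_comap]
  unfold Cfsg.pResidual
  rw [Subgroup.closure_le]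
  intro g hg
  have hgo : Nat.Coprime (orderOf (g : G)) p := by rw [Subgroup.orderOf_coe]; exact hg
  show (g : G) ∈ Subgroup.centralizer _
  rw [Subgroup.mem_centralizer_iff]
  intro x hx
  obtain ⟨hg1, hg2⟩ := hC g.2
  have hcm : Commute ⁅x, (g : G)⁆ (g : G) := (hg1 _ (hg2 x hx)).symm
  exact Cfsg.Agent.Lib.Helper4.comm_of_comm_commutator ⁅P, P⁆ hDp x g (hg2 x hx) hcm _ hgo (pow_orderOf_eq_one _)

end Cfsg.Agent.S2819
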