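import Cfsg.Statements.S2820
import Mathlib
import Cfsg.Statements.S2820
import Cfsg.Agent.Lib.Helper4.Subn

set_option autoImplicit false
open Cfsg
open scoped commutatorElement

namespace Cfsg.Agent.S2820

open Cfsg Cfsg.Agent.Lib
open scoped commutatorElement

/-- Let A and B be subnormal subgroups of the finite group H with A a p-group and B = O^p(B) (B generated by its elements of order prime to p). Then A normalizes B and B = O^p(AB), the subgroup of ⟨A, B⟩ generated by its elements of order prime to p. -/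
theorem result {H : Type*} [Group H] [Finite H] {p : ℕ} [Fact p.Prime] (A B : Subgroup H) (hA : A.IsSubnormal) (hB : B.IsSubnormal) (hAp : IsPGroup p ↥A) (hBres : (Cfsg.pResidual p ↥B).map B.subtype = B) : A ≤ Subgroup.normalizer (B : Set H) ∧ (Cfsg.pResidual p ↥(A ⊔ B)).map (A ⊔ B).subtype = B := by
  have hB' : Helper4.pGen p B = B := by
    rw [← Helper4.pResidualOf_eq_pGen]
    exact hBres
  have hAP : A ≤ Cfsg.pCore p H := Helper4.subnormal_pgroup_le_pCore hA hAp
  have hPB := Helper4.normal_pgroup_normalizes_pGen hB (Cfsg.pCore p H) (Helper4.pCore_normal p H) (Helper4.pCore_isPGroup p H)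
  rw [hB'] at hPB
  have hAB : A ≤ Subgroup.normalizer (B : Set H) := hAP.trans hPB
  refine ⟨hAB, ?_⟩
  have h1 : (Cfsg.pResidual p ↥(A ⊔ B)).map (A ⊔ B).subtype = Helper4.pGen p (A ⊔ B) :=
    Helper4.pResidualOf_eq_pGen p (A ⊔ B)
  rw [h1]
  apply le_antisymm
  · apply Helper4.pGen_le_of
    intro g hg hco
    rw [sup_comm] at hg
    exact Helper4.coprime_mem_of_sup hAB hAp hg hco
  · have h2 := Helper4.pGen_mono p (le_sup_right : B ≤ A ⊔ B)
    rw [hB'] at h2
    exact h2

end Cfsg.Agent.S2820
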