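import Cfsg.Statements.S2821
import Mathlib
import Cfsg.Statements.S2821
import Cfsg.Agent.S2824
import Cfsg.Agent.Lib.Helper4.WCEngine
import Cfsg.Agent.Lib.Helper4.PReduced2
import Cfsg.Agent.Lib.Lead.Sylow

set_option autoImplicit false
open Cfsg
open scoped commutatorElement

namespace Cfsg.Agent.S2821

open Cfsg Cfsg.Agent.Lib
open scoped commutatorElement

theorem zL_gen_conj {H : Type*} [Group H] {p : ℕ} (L : Subgroup H) (S : Sylow p ↥L) (l : H) (hl : l ∈ L)
    (x : H) (hx : x ∈ ((S : Subgroup ↥L).map L.subtype) ⊓ Subgroup.centralizer ((((S : Subgroup ↥L).map L.subtype : Subgroup H)) : Set H))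
    (hxp : x ^ p = 1) : l * x * l⁻¹ ∈ Cfsg.sylowCenterClosure p L := by
  have h1 : Cfsg.omegaOne p ((((⟨l, hl⟩ : ↥L) • S : Sylow p ↥L) : Subgroup ↥L).map L.subtype ⊓
      Subgroup.centralizer ((((((⟨l, hl⟩ : ↥L) • S : Sylow p ↥L) : Subgroup ↥L).map L.subtype : Subgroup H)) : Set H)) ≤
      Cfsg.sylowCenterClosure p L :=
    le_iSup (fun S : Sylow p ↥L => Cfsg.omegaOne p (((S : Subgroup ↥L).map L.subtype) ⊓
      Subgroup.centralizer ((((S : Subgroup ↥L).map L.subtype : Subgroup H)) : Set H))) ((⟨l, hl⟩ : ↥L) • S)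
  apply h1
  apply Subgroup.subset_closure
  obtain ⟨hxS, hxC⟩ := Subgroup.mem_inf.mp hx
  obtain ⟨x', hx', rfl⟩ := hxS
  refine ⟨Subgroup.mem_inf.mpr ⟨?_, ?_⟩, ?_⟩
  · refine ⟨(⟨l, hl⟩ : ↥L) * x' * (⟨l, hl⟩ : ↥L)⁻¹, ?_, rfl⟩
    have e : (⟨l, hl⟩ : ↥L)⁻¹ * ((⟨l, hl⟩ : ↥L) * x' * (⟨l, hl⟩ : ↥L)⁻¹) * (⟨l, hl⟩ : ↥L) = x' := by group
    refine (Lead.mem_smul_sylow S _ _).mpr ?_
    rw [e]
    exact hx'
  · rw [Subgroup.mem_centralizer_iff]
    rintro _ ⟨y', hy', rfl⟩
    have hy'' := (Lead.mem_smul_sylow S _ _).mp hy'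
    have h2 : L.subtype ((⟨l, hl⟩ : ↥L)⁻¹ * y' * (⟨l, hl⟩ : ↥L)) ∈ (S : Subgroup ↥L).map L.subtype := ⟨_, hy'', rfl⟩
    have h3 := Subgroup.mem_centralizer_iff.mp hxC _ h2
    have h4 : l⁻¹ * (y' : H) * l * (x' : H) = (x' : H) * (l⁻¹ * (y' : H) * l) := h3
    have e1 : L.subtype y' * (l * L.subtype x' * l⁻¹) = l * (l⁻¹ * (y' : H) * l * (x' : H)) * l⁻¹ := by
      show (y' : H) * (l * (x' : H) * l⁻¹) = _
      group
    have e2 : l * L.subtype x' * l⁻¹ * L.subtype y' = l * ((x' : H) * (l⁻¹ * (y' : H) * l)) * l⁻¹ := by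
      show l * (x' : H) * l⁻¹ * (y' : H) = _
      group
    rw [e1, e2, h4]
  · rw [conj_pow, hxp, mul_one, mul_inv_cancel]

/-- Let H be a finite group, p a prime, T a Sylow p-subgroup and L a subgroup of characteristic p containing T; let Y_L be the largest p-reduced normal subgroup of L (the join of the normal elementary abelian p-subgroups V of L with O_p(L/C_L(V)) = 1). Then T₀ := C_T(Y_L) is a Sylow p-subgroup of C_H(Y_L); moreover O_p(L) ≤ T₀ ≤ C_L(Y_L) and Ω₁(Z(T)) ≤ Z_L ≤ Y_L ≤ Ω₁(Z(O_p(L))), where Z_L is generated by the Ω₁(Z(S)) over the Sylow p-subgroups S of L. -/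
theorem result {H : Type*} [Group H] [Finite H] {p : ℕ} [Fact p.Prime] (T : Sylow p H) (L : Subgroup H) (hTL : (T : Subgroup H) ≤ L) (hL : Subgroup.centralizer (Cfsg.pCore p ↥L : Set ↥L) ≤ Cfsg.pCore p ↥L) (T₀ : Subgroup H) (hT₀ : T₀ = (T : Subgroup H) ⊓ Subgroup.centralizer (((Cfsg.largestPReducedOf p L) : Subgroup H) : Set H)) : (∃ P : Sylow p ↥(Subgroup.centralizer (((Cfsg.largestPReducedOf p L) : Subgroup H) : Set H)), (P : Subgroup ↥(Subgroup.centralizer (((Cfsg.largestPReducedOf p L) : Subgroup H) : Set H))) = T₀.subgroupOf (Subgroup.centralizer (((Cfsg.largestPReducedOf p L) : Subgroup H) : Set H))) ∧ (Cfsg.pCoreOf p L) ≤ T₀ ∧ T₀ ≤ L ⊓ Subgroup.centralizer (((Cfsg.largestPReducedOf p L) : Subgroup H) : Set H) ∧ (Cfsg.omegaOne p ((T : Subgroup H) ⊓ Subgroup.centralizer (((T : Subgroup H) : Subgroup H) : Set H))) ≤ Cfsg.sylowCenterClosure p L ∧ Cfsg.sylowCenterClosure p L ≤ (Cfsg.largestPReducedOf p L) ∧ (Cfsg.largestPReducedOf p L) ≤ (Cfsg.omegaOne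 p ((Cfsg.pCoreOf p L) ⊓ Subgroup.centralizer (((Cfsg.pCoreOf p L) : Subgroup H) : Set H))) := by
  obtain ⟨hYL, hYn, hYcomm, hYexp, hYred, hYT⟩ := Cfsg.Agent.S2824.yL_props p L
  have hLN : L ≤ Subgroup.normalizer ((Cfsg.largestPReducedOf p L : Subgroup H) : Set H) :=
    Helper4.le_normalizer_of_forall_conj _ _ hYn
  have hNC := Helper4.normalizer_le_normalizer_centralizer' (Cfsg.largestPReducedOf p L)
  have hLP : L ≤ Subgroup.normalizer ((Cfsg.pCoreOf p L : Subgroup H) : Set H) :=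
    Subgroup.le_normalizer.trans (Helper4.normalizer_le_normalizer_pCoreOf p L)
  have hPp : IsPGroup p ↥(Cfsg.pCoreOf p L) := Helper4.pCoreOf_isPGroup p L
  have hPL : Cfsg.pCoreOf p L ≤ L := Subgroup.map_subtype_le _
  have hPT : Cfsg.pCoreOf p L ≤ (T : Subgroup H) := by
    have h1 : IsPGroup p ↥(Cfsg.pCoreOf p L ⊔ (T : Subgroup H)) :=
      IsPGroup.to_sup_of_normal_left' hPp T.isPGroup' (hTL.trans hLP)
    have h2 := T.is_maximal' h1 le_sup_right
    rw [← h2]
    exact le_sup_left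
  have hPC : Cfsg.pCoreOf p L ≤ Subgroup.centralizer ((Cfsg.largestPReducedOf p L : Subgroup H) : Set H) := by
    apply hYred _ hPL
    · intro l hl d hd
      exact (Subgroup.mem_normalizer_iff.mp (hLP hl) d).mp hd
    · intro d hd
      obtain ⟨k, hk⟩ := hPp ⟨d, hd⟩
      refine ⟨k, ?_⟩
      have := congrArg Subtype.val hk
      rw [Subgroup.coe_pow, Subgroup.coe_one] at this
      rw [this]
      exact Subgroup.one_mem _
  have hchar : L ⊓ Subgroup.centralizer ((Cfsg.pCoreOf p L : Subgroup H) : Set H) ≤ Cfsg.pCoreOf p L := by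
    intro x hx
    have hx' := Subgroup.mem_inf.mp hx
    have h1 : (⟨x, hx'.1⟩ : ↥L) ∈ Subgroup.centralizer (Cfsg.pCore p ↥L : Set ↥L) := by
      rw [Subgroup.mem_centralizer_iff]
      intro z hz
      apply Subtype.ext
      have hz' : (z : H) ∈ Cfsg.pCoreOf p L := ⟨z, hz, rfl⟩
      exact Subgroup.mem_centralizer_iff.mp hx'.2 _ hz'
    exact ⟨⟨x, hx'.1⟩, hL h1, rfl⟩
  have hPS : ∀ S : Sylow p ↥L, Cfsg.pCoreOf p L ≤ (S : Subgroup ↥L).map L.subtype := by
    intro S
    exact Subgroup.map_mono (Helper4.normal_pGroup_le_sylow S (Helper4.pCore_normal p ↥L) (Helper4.pCore_isPGroup p ↥L))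
  have hgen : ∀ S : Sylow p ↥L, ∀ x ∈ ((S : Subgroup ↥L).map L.subtype) ⊓ Subgroup.centralizer ((((S : Subgroup ↥L).map L.subtype : Subgroup H)) : Set H),
      x ∈ Cfsg.pCoreOf p L ⊓ Subgroup.centralizer ((Cfsg.pCoreOf p L : Subgroup H) : Set H) := by
    intro S x hx
    obtain ⟨hxS, hxC⟩ := Subgroup.mem_inf.mp hx
    have hxCP : x ∈ Subgroup.centralizer ((Cfsg.pCoreOf p L : Subgroup H) : Set H) :=
      Subgroup.centralizer_le (hPS S) hxC
    exact Subgroup.mem_inf.mpr ⟨hchar (Subgroup.mem_inf.mpr ⟨Subgroup.map_subtype_le _ hxS, hxCP⟩), hxCP⟩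
  have hZprop : ∀ z ∈ Cfsg.sylowCenterClosure p L, z ∈ Cfsg.pCoreOf p L ⊓ Subgroup.centralizer ((Cfsg.pCoreOf p L : Subgroup H) : Set H) ∧ z ^ p = 1 := by
    have hW : Cfsg.sylowCenterClosure p L ≤
        ({ carrier := {z | z ∈ Cfsg.pCoreOf p L ⊓ Subgroup.centralizer ((Cfsg.pCoreOf p L : Subgroup H) : Set H) ∧ z ^ p = 1}
           one_mem' := ⟨Subgroup.one_mem _, one_pow p⟩
           mul_mem' := by
             rintro a b ⟨ha, hap⟩ ⟨hb, hbp⟩
             refine ⟨Subgroup.mul_mem _ ha hb, ?_⟩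
             have hc : Commute a b := (Subgroup.mem_centralizer_iff.mp (Subgroup.mem_inf.mp hb).2 a (Subgroup.mem_inf.mp ha).1)
             rw [hc.mul_pow, hap, hbp, mul_one]
           inv_mem' := by
             rintro a ⟨ha, hap⟩
             exact ⟨Subgroup.inv_mem _ ha, by rw [inv_pow, hap, inv_one]⟩ } : Subgroup H) := by
      apply iSup_le
      intro S
      apply (Subgroup.closure_le _).mpr
      rintro x ⟨hx, hxp⟩
      exact ⟨hgen S x hx, hxp⟩
    intro z hz
    exact hW hz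
  have hZL : Cfsg.sylowCenterClosure p L ≤ L := fun z hz => hPL (Subgroup.mem_inf.mp (hZprop z hz).1).1
  have hZn : ∀ l ∈ L, ∀ y ∈ Cfsg.sylowCenterClosure p L, l * y * l⁻¹ ∈ Cfsg.sylowCenterClosure p L := by
    intro l hl y hy
    have h1 : Cfsg.sylowCenterClosure p L ≤ (Cfsg.sylowCenterClosure p L).comap (MulAut.conj l).toMonoidHom := by
      apply iSup_le
      intro S
      apply (Subgroup.closure_le _).mpr
      rintro x ⟨hx, hxp⟩
      show (MulAut.conj l) x ∈ Cfsg.sylowCenterClosure p L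
      rw [MulAut.conj_apply]
      exact zL_gen_conj L S l hl x hx hxp
    have h2 := h1 hy
    rw [Subgroup.mem_comap] at h2
    exact h2
  have hLNZ : L ≤ Subgroup.normalizer ((Cfsg.sylowCenterClosure p L : Subgroup H) : Set H) :=
    Helper4.le_normalizer_of_forall_conj _ _ hZn
  have hNCZ := Helper4.normalizer_le_normalizer_centralizer' (Cfsg.sylowCenterClosure p L)
  refine ⟨?_, ?_, ?_, ?_, ?_, ?_⟩
  · have h1 : Helper8.SylIn p (T : Subgroup H) (Subgroup.normalizer ((Cfsg.largestPReducedOf p L : Subgroup H) : Set H)) :=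
      (Helper8.sylIn_top T).mono (hTL.trans hLN) le_top
    have h2 := h1.inf_of_normal (Subgroup.centralizer_le_normalizer _) hNC
    obtain ⟨R, hR⟩ := (Helper8.sylIn_iff inf_le_right).mp h2
    exact ⟨R, by rw [hR, hT₀]⟩
  · rw [hT₀]
    exact le_inf hPT hPC
  · rw [hT₀]
    exact le_inf (inf_le_left.trans hTL) inf_le_right
  · have h1 : Cfsg.omegaOne p ((((T.subtype hTL : Sylow p ↥L) : Subgroup ↥L).map L.subtype) ⊓
        Subgroup.centralizer ((((((T.subtype hTL : Sylow p ↥L) : Subgroup ↥L).map L.subtype : Subgroup H)) : Set H))) ≤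
        Cfsg.sylowCenterClosure p L :=
      le_iSup (fun S : Sylow p ↥L => Cfsg.omegaOne p (((S : Subgroup ↥L).map L.subtype) ⊓
        Subgroup.centralizer ((((S : Subgroup ↥L).map L.subtype : Subgroup H)) : Set H))) (T.subtype hTL)
    have h2 : ((T.subtype hTL : Sylow p ↥L) : Subgroup ↥L).map L.subtype = (T : Subgroup H) := by
      rw [Sylow.coe_subtype]
      exact Subgroup.map_subgroupOf_eq_of_le hTL
    rw [h2] at h1
    exact h1
  · apply Cfsg.Agent.S2824.le_yL_of p L _ hZL hZn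
    · intro a ha b hb
      exact (Subgroup.mem_centralizer_iff.mp (Subgroup.mem_inf.mp (hZprop b hb).1).2 a (Subgroup.mem_inf.mp (hZprop a ha).1).1)
    · intro a ha
      exact (hZprop a ha).2
    · intro D hDL hDn hDp
      have hCn : ((Subgroup.centralizer ((Cfsg.sylowCenterClosure p L : Subgroup H) : Set H)).subgroupOf L).Normal := by
        constructor
        intro d hd g
        rw [Subgroup.mem_subgroupOf] at hd ⊢
        exact (Subgroup.mem_normalizer_iff.mp (hNCZ (hLNZ g.2)) _).mp hd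
      have hDn' : (D.subgroupOf L).Normal := by
        constructor
        intro d hd g
        rw [Subgroup.mem_subgroupOf] at hd ⊢
        exact hDn g g.2 d hd
      have hDp' : ∀ d ∈ D.subgroupOf L, ∃ k : ℕ, d ^ (p ^ k) ∈ (Subgroup.centralizer ((Cfsg.sylowCenterClosure p L : Subgroup H) : Set H)).subgroupOf L := by
        intro d hd
        obtain ⟨k, hk⟩ := hDp d hd
        refine ⟨k, ?_⟩
        rw [Subgroup.mem_subgroupOf, Subgroup.coe_pow]
        exact hk
      have hC : Cfsg.sylowCenterClosure p L ≤ Subgroup.centralizer (D : Set H) := by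
        apply iSup_le
        intro S
        apply (Subgroup.closure_le _).mpr
        rintro x ⟨hx, hxp⟩
        show x ∈ Subgroup.centralizer (D : Set H)
        rw [Subgroup.mem_centralizer_iff]
        intro d hd
        obtain ⟨t, ht, c, hc, hdtc⟩ := Helper4.mem_sylow_mul_of_pow_mem _ S (D.subgroupOf L) hDn' hDp' ⟨d, hDL hd⟩ hd
        have hd_eq : d = (t : H) * (c : H) := congrArg Subtype.val hdtc
        have hxZ : x ∈ Cfsg.sylowCenterClosure p L := by
          have h1 : Cfsg.omegaOne p (((S : Subgroup ↥L).map L.subtype) ⊓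
              Subgroup.centralizer ((((S : Subgroup ↥L).map L.subtype : Subgroup H)) : Set H)) ≤ Cfsg.sylowCenterClosure p L :=
            le_iSup (fun S : Sylow p ↥L => Cfsg.omegaOne p (((S : Subgroup ↥L).map L.subtype) ⊓
              Subgroup.centralizer ((((S : Subgroup ↥L).map L.subtype : Subgroup H)) : Set H))) S
          exact h1 (Subgroup.subset_closure ⟨hx, hxp⟩)
        have h1 : (t : H) * x = x * (t : H) :=
          Subgroup.mem_centralizer_iff.mp (Subgroup.mem_inf.mp hx).2 _ ⟨t, ht, rfl⟩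
        have h2 : x * (c : H) = (c : H) * x := Subgroup.mem_centralizer_iff.mp (Subgroup.mem_subgroupOf.mp hc) x hxZ
        rw [hd_eq, mul_assoc, ← h2, ← mul_assoc, h1, mul_assoc]
      intro d hd
      rw [Subgroup.mem_centralizer_iff]
      intro z hz
      exact (Subgroup.mem_centralizer_iff.mp (hC hz) d hd).symm
  · intro y hy
    apply Subgroup.subset_closure
    have hYp : IsPGroup p ↥(Cfsg.largestPReducedOf p L) := by
      intro x
      refine ⟨1, ?_⟩
      rw [pow_one]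
      exact Subtype.ext (hYexp x x.2)
    have hYP : Cfsg.largestPReducedOf p L ≤ Cfsg.pCoreOf p L := Helper4.le_pCoreOf hYL hLN hYp
    refine ⟨Subgroup.mem_inf.mpr ⟨hYP hy, ?_⟩, hYexp y hy⟩
    rw [Subgroup.mem_centralizer_iff]
    intro z hz
    exact (Subgroup.mem_centralizer_iff.mp (hPC hz) y hy).symm

end Cfsg.Agent.S2821
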