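import Cfsg.Statements.S2822
import Mathlib
import Cfsg.Statements.S2822
import Cfsg.Agent.S2824
import Cfsg.Agent.Lib.Helper4.WCEngine

set_option autoImplicit false
open Cfsg
open scoped commutatorElement

namespace Cfsg.Agent.S2822

open Cfsg Cfsg.Agent.Lib
open scoped commutatorElement

theorem pow_mul_mem {H : Type*} [Group H] {K : Subgroup H} {k q : H} (hk : k ∈ K)
    (hq : ∀ n : ℕ, q ^ n ∈ Subgroup.normalizer (K : Set H)) (n : ℕ) :
    ∃ k' ∈ K, (k * q) ^ n = k' * q ^ n := by
  induction n with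
  | zero => exact ⟨1, K.one_mem, by simp⟩
  | succ n ih =>
    obtain ⟨k', hk', h⟩ := ih
    have h1 : q ^ n * k * (q ^ n)⁻¹ ∈ K := (Subgroup.mem_normalizer_iff.mp (hq n) k).mp hk
    refine ⟨k' * (q ^ n * k * (q ^ n)⁻¹), K.mul_mem hk' h1, ?_⟩
    rw [pow_succ, h, pow_succ]
    group

/-- Let H be a finite group, p a prime, T a Sylow p-subgroup, and L, M subgroups of characteristic p containing T, with largest p-reduced normal subgroups Y_L, Y_M. If L·C_H(Y_M) = M·C_H(Y_M), then Y_M ≤ Y_L. -/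
theorem result {H : Type*} [Group H] [Finite H] {p : ℕ} [Fact p.Prime] (T : Sylow p H) (L M : Subgroup H) (hTL : (T : Subgroup H) ≤ L) (hTM : (T : Subgroup H) ≤ M) (hL : Subgroup.centralizer (Cfsg.pCore p ↥L : Set ↥L) ≤ Cfsg.pCore p ↥L) (hM : Subgroup.centralizer (Cfsg.pCore p ↥M : Set ↥M) ≤ Cfsg.pCore p ↥M) : L ⊔ Subgroup.centralizer (((Cfsg.largestPReducedOf p M) : Subgroup H) : Set H) = M ⊔ Subgroup.centralizer (((Cfsg.largestPReducedOf p M) : Subgroup H) : Set H) → (Cfsg.largestPReducedOf p M) ≤ (Cfsg.largestPReducedOf p L) := by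
  intro hfac
  obtain ⟨hYM, hYn, hYcomm, hYexp, hYred, hYT⟩ := Cfsg.Agent.S2824.yL_props p M
  have hMN : M ≤ Subgroup.normalizer ((Cfsg.largestPReducedOf p M : Subgroup H) : Set H) :=
    Helper4.le_normalizer_of_forall_conj _ _ hYn
  have hCN : Subgroup.centralizer ((Cfsg.largestPReducedOf p M : Subgroup H) : Set H) ≤
      Subgroup.normalizer ((Cfsg.largestPReducedOf p M : Subgroup H) : Set H) :=
    Subgroup.centralizer_le_normalizer _
  have hLN : L ≤ Subgroup.normalizer ((Cfsg.largestPReducedOf p M : Subgroup H) : Set H) := by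
    refine le_trans le_sup_left (le_trans (le_of_eq hfac) (sup_le hMN hCN))
  have hNC := Helper4.normalizer_le_normalizer_centralizer' (Cfsg.largestPReducedOf p M)
  apply Cfsg.Agent.S2824.le_yL_of p L _ ((hYT T hTM).trans hTL)
  · intro l hl y hy
    exact (Subgroup.mem_normalizer_iff.mp (hLN hl) y).mp hy
  · exact hYcomm
  · exact hYexp
  · intro D hDL hDn hDp
    have hDN : D ≤ Subgroup.normalizer ((Subgroup.centralizer ((Cfsg.largestPReducedOf p M : Subgroup H) : Set H) : Subgroup H) : Set H) :=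
      hDL.trans (hLN.trans hNC)
    have hLD : L ≤ Subgroup.normalizer (D : Set H) := Helper4.le_normalizer_of_forall_conj _ _ hDn
    have hLDC : L ⊔ Subgroup.centralizer ((Cfsg.largestPReducedOf p M : Subgroup H) : Set H) ≤
        Subgroup.normalizer ((D ⊔ Subgroup.centralizer ((Cfsg.largestPReducedOf p M : Subgroup H) : Set H) : Subgroup H) : Set H) := by
      apply sup_le
      · intro l hl
        rw [Helper8.mem_normalizer_iff_cj, Helper8.cj_sup, Helper8.mem_normalizer_iff_cj.mp (hLD hl),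
          Helper8.mem_normalizer_iff_cj.mp (hNC (hLN hl))]
      · exact le_sup_right.trans Subgroup.le_normalizer
    have h1 : (D ⊔ Subgroup.centralizer ((Cfsg.largestPReducedOf p M : Subgroup H) : Set H)) ⊓ M ≤
        Subgroup.centralizer ((Cfsg.largestPReducedOf p M : Subgroup H) : Set H) := by
      apply hYred _ inf_le_right
      · intro m hm d hd
        have hm1 : m ∈ Subgroup.normalizer ((D ⊔ Subgroup.centralizer ((Cfsg.largestPReducedOf p M : Subgroup H) : Set H) : Subgroup H) : Set H) :=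
          hLDC (by rw [hfac]; exact (le_sup_left : M ≤ _) hm)
        have hm2 := Helper4.mem_normalizer_inf hm1 (Subgroup.le_normalizer hm)
        exact (Subgroup.mem_normalizer_iff.mp hm2 d).mp hd
      · intro d hd
        have hd1 : d ∈ Subgroup.centralizer ((Cfsg.largestPReducedOf p M : Subgroup H) : Set H) ⊔ D := by
          rw [sup_comm]; exact (Subgroup.mem_inf.mp hd).1
        obtain ⟨c, hc, d', hd', rfl⟩ := Lead.mem_sup_of_le_normalizer hDN hd1
        obtain ⟨k, hk⟩ := hDp d' hd'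
        refine ⟨k, ?_⟩
        obtain ⟨c', hc', h⟩ := pow_mul_mem hc (fun n => hDN (D.pow_mem hd' n)) (p ^ k)
        rw [h]
        exact Subgroup.mul_mem _ hc' hk
    intro d hd
    have hd1 : d ∈ Subgroup.centralizer ((Cfsg.largestPReducedOf p M : Subgroup H) : Set H) ⊔ M := by
      rw [sup_comm, ← hfac]
      exact (le_sup_left : L ≤ _) (hDL hd)
    obtain ⟨c, hc, m, hm, rfl⟩ := Lead.mem_sup_of_le_normalizer (hMN.trans hNC) hd1
    have hm' : m ∈ (D ⊔ Subgroup.centralizer ((Cfsg.largestPReducedOf p M : Subgroup H) : Set H)) ⊓ M := by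
      refine Subgroup.mem_inf.mpr ⟨?_, hm⟩
      have e : m = c⁻¹ * (c * m) := by group
      rw [e]
      exact Subgroup.mul_mem _ ((le_sup_right : _ ≤ D ⊔ _) (Subgroup.inv_mem _ hc)) ((le_sup_left : D ≤ _) hd)
    exact Subgroup.mul_mem _ hc (h1 hm')

end Cfsg.Agent.S2822
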