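import Cfsg.Statements.S2823
import Mathlib
import Cfsg.Statements.S2823
import Cfsg.Agent.S2821
import Cfsg.Agent.Lib.Helper4.Avg
import Cfsg.Agent.Lib.Helper4.Subn
import Cfsg.Agent.Lib.Helper8.Hyp

set_option autoImplicit false
open Cfsg
open scoped commutatorElement

namespace Cfsg.Agent.S2823

open Cfsg Cfsg.Agent.Lib
open scoped commutatorElement

/-- Let H be a finite group, p a prime, T a Sylow p-subgroup and L a subgroup of characteristic p containing T; let Z_L be the subgroup generated by the Ω₁(Z(S)) over the Sylow p-subgroups S of L and O^p(L) the subgroup generated by the elements of L of order prime to p. Then Z_L = Ω₁(Z(L))·[Z_L, O^p(L)] and [Z_L, L] = [Z_L, O^p(L)]. -/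
theorem result {H : Type*} [Group H] [Finite H] {p : ℕ} [Fact p.Prime] (T : Sylow p H) (L : Subgroup H) (hTL : (T : Subgroup H) ≤ L) (hL : Subgroup.centralizer (Cfsg.pCore p ↥L : Set ↥L) ≤ Cfsg.pCore p ↥L) : Cfsg.sylowCenterClosure p L = (Cfsg.omegaOne p (L ⊓ Subgroup.centralizer ((L : Subgroup H) : Set H))) ⊔ ⁅Cfsg.sylowCenterClosure p L, (Cfsg.pResidual p ↥L).map L.subtype⁆ ∧ ⁅Cfsg.sylowCenterClosure p L, L⁆ = ⁅Cfsg.sylowCenterClosure p L, (Cfsg.pResidual p ↥L).map L.subtype⁆ := by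
  have hp : p.Prime := Fact.out
  obtain ⟨-, hPT, -, hZ0V, hVY, -⟩ := Cfsg.Agent.S2821.result T L hTL hL _ rfl
  obtain ⟨hYL, hYn, hYcomm, hYexp, hYred, hYT⟩ := Cfsg.Agent.S2824.yL_props p L
  have hVL : Cfsg.sylowCenterClosure p L ≤ L := hVY.trans hYL
  have hVcomm : ∀ a ∈ Cfsg.sylowCenterClosure p L, ∀ b ∈ Cfsg.sylowCenterClosure p L, a * b = b * a :=
    fun a ha b hb => hYcomm a (hVY ha) b (hVY hb)
  have hVexp : ∀ a ∈ Cfsg.sylowCenterClosure p L, a ^ p = 1 := fun a ha => hYexp a (hVY ha)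
  have hZn : ∀ l ∈ L, ∀ y ∈ Cfsg.sylowCenterClosure p L, l * y * l⁻¹ ∈ Cfsg.sylowCenterClosure p L := by
    intro l hl y hy
    have h1 : Cfsg.sylowCenterClosure p L ≤ (Cfsg.sylowCenterClosure p L).comap (MulAut.conj l).toMonoidHom := by
      apply iSup_le
      intro S
      apply (Subgroup.closure_le _).mpr
      rintro x ⟨hx, hxp⟩
      show (MulAut.conj l) x ∈ Cfsg.sylowCenterClosure p L
      rw [MulAut.conj_apply]
      exact Cfsg.Agent.S2821.zL_gen_conj L S l hl x hx hxp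
    have h2 := h1 hy
    rw [Subgroup.mem_comap] at h2
    exact h2
  have hLV : L ≤ Subgroup.normalizer ((Cfsg.sylowCenterClosure p L : Subgroup H) : Set H) :=
    Helper4.le_normalizer_of_forall_conj _ _ hZn
  have hRL : (Cfsg.pResidual p ↥L).map L.subtype ≤ L := Subgroup.map_subtype_le _
  have hLR : L ≤ Subgroup.normalizer (((Cfsg.pResidual p ↥L).map L.subtype : Subgroup H) : Set H) := by
    have h1 : (Cfsg.pResidual p ↥L).map L.subtype = Helper4.pGen p L := Helper4.pResidualOf_eq_pGen p L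
    rw [h1]
    exact Subgroup.le_normalizer.trans (Helper4.normalizer_le_normalizer_pGen p L)
  have hLW : L ≤ Subgroup.normalizer ((⁅Cfsg.sylowCenterClosure p L, (Cfsg.pResidual p ↥L).map L.subtype⁆ : Subgroup H) : Set H) :=
    fun l hl => Lead.mem_normalizer_commutator (hLV hl) (hLR hl)
  have hWV : ⁅Cfsg.sylowCenterClosure p L, (Cfsg.pResidual p ↥L).map L.subtype⁆ ≤ Cfsg.sylowCenterClosure p L :=
    Lead.commutator_le_of_le_normalizer _ _ (hRL.trans hLV)
  have hOmC : Cfsg.omegaOne p (L ⊓ Subgroup.centralizer ((L : Subgroup H) : Set H)) ≤ L ⊓ Subgroup.centralizer ((L : Subgroup H) : Set H) := by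
    apply (Subgroup.closure_le _).mpr
    rintro x ⟨hx, -⟩
    exact hx
  have hn : ((T : Subgroup H).relIndex L).Coprime p := by
    have h1 := (T.subtype hTL).not_dvd_index
    rw [Sylow.coe_subtype] at h1
    exact ((Nat.Prime.coprime_iff_not_dvd hp).mpr h1).symm
  have hdec : ∀ l ∈ L, ∀ x ∈ Cfsg.sylowCenterClosure p L, (∀ t ∈ (T : Subgroup H), t * x * t⁻¹ = x) →
      l * x * l⁻¹ * x⁻¹ ∈ ⁅Cfsg.sylowCenterClosure p L, (Cfsg.pResidual p ↥L).map L.subtype⁆ := by
    intro l hl x hxV hxfix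
    obtain ⟨t, ht, r, hr, hlt⟩ := Helper8.sylow_mul_pResidual (T.subtype hTL) (⟨l, hl⟩ : ↥L)⁻¹
    rw [Sylow.coe_subtype, Subgroup.mem_subgroupOf] at ht
    have hl' : l = (r : H)⁻¹ * (t : H)⁻¹ := by
      have h1 := congrArg (fun y : ↥L => ((y⁻¹ : ↥L) : H)) hlt
      simpa using h1
    have h1 : (t : H)⁻¹ * x * (t : H) = x := by
      have := hxfix (t : H)⁻¹ (Subgroup.inv_mem _ ht)
      simpa using this
    have e : l * x * l⁻¹ * x⁻¹ = ⁅(r : H)⁻¹, x⁆ := by
      rw [hl', commutatorElement_def]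
      have : (r : H)⁻¹ * (t : H)⁻¹ * x * ((r : H)⁻¹ * (t : H)⁻¹)⁻¹ * x⁻¹ = (r : H)⁻¹ * ((t : H)⁻¹ * x * (t : H)) * (r : H)⁻¹⁻¹ * x⁻¹ := by group
      rw [this, h1]
    rw [e, Subgroup.commutator_comm]
    exact Subgroup.commutator_mem_commutator (Subgroup.inv_mem _ ⟨r, hr, rfl⟩) hxV
  have hx0 : ∀ x ∈ (T : Subgroup H) ⊓ Subgroup.centralizer ((T : Subgroup H) : Set H), x ^ p = 1 →
      x ∈ Cfsg.omegaOne p (L ⊓ Subgroup.centralizer ((L : Subgroup H) : Set H)) ⊔ ⁅Cfsg.sylowCenterClosure p L, (Cfsg.pResidual p ↥L).map L.subtype⁆ := by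
    intro x hx hxp
    have hxV : x ∈ Cfsg.sylowCenterClosure p L := hZ0V (Subgroup.subset_closure ⟨hx, hxp⟩)
    obtain ⟨hxT, hxC⟩ := Subgroup.mem_inf.mp hx
    have hxfix : ∀ t ∈ (T : Subgroup H), t * x * t⁻¹ = x := by
      intro t ht
      have := Subgroup.mem_centralizer_iff.mp hxC t ht
      rw [this, mul_assoc, mul_inv_cancel, mul_one]
    obtain ⟨u, huV, huL, huW⟩ := Helper4.averaging L (T : Subgroup H) _ hLV hVcomm x hxV hxfix
    have hw := huW _ (fun l hl => hdec l hl x hxV hxfix)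
    have huC : u ∈ Subgroup.centralizer ((L : Subgroup H) : Set H) := by
      rw [Subgroup.mem_centralizer_iff]
      intro l hl
      have := huL l hl
      have e : l * u = l * u * l⁻¹ * l := by group
      rw [e, this]
    have huO : u ∈ Cfsg.omegaOne p (L ⊓ Subgroup.centralizer ((L : Subgroup H) : Set H)) :=
      Subgroup.subset_closure ⟨Subgroup.mem_inf.mpr ⟨hVL huV, huC⟩, hVexp u huV⟩
    have hxn : x ^ ((T : Subgroup H).relIndex L) ∈ Cfsg.omegaOne p (L ⊓ Subgroup.centralizer ((L : Subgroup H) : Set H)) ⊔ ⁅Cfsg.sylowCenterClosure p L, (Cfsg.pResidual p ↥L).map L.subtype⁆ := by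
      have e : x ^ ((T : Subgroup H).relIndex L) = (u * (x ^ ((T : Subgroup H).relIndex L))⁻¹)⁻¹ * u := by group
      rw [e]
      exact Subgroup.mul_mem _ (Subgroup.inv_mem _ ((le_sup_right : ⁅Cfsg.sylowCenterClosure p L, (Cfsg.pResidual p ↥L).map L.subtype⁆ ≤ _) hw))
        ((le_sup_left : Cfsg.omegaOne p (L ⊓ Subgroup.centralizer ((L : Subgroup H) : Set H)) ≤ _) huO)
    exact Helper4.mem_of_pow_coprime hp hxp hn hxn
  have h1 : Cfsg.sylowCenterClosure p L = (Cfsg.omegaOne p (L ⊓ Subgroup.centralizer ((L : Subgroup H) : Set H))) ⊔ ⁅Cfsg.sylowCenterClosure p L, (Cfsg.pResidual p ↥L).map L.subtype⁆ := by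
    apply le_antisymm
    · apply iSup_le
      intro S
      apply (Subgroup.closure_le _).mpr
      rintro y ⟨hy, hyp⟩
      obtain ⟨g, hg⟩ := MulAction.exists_smul_eq ↥L (T.subtype hTL) S
      obtain ⟨hyS, hyC⟩ := Subgroup.mem_inf.mp hy
      obtain ⟨y', hy', rfl⟩ := hyS
      have hy'' : y' ∈ ((g • (T.subtype hTL) : Sylow p ↥L) : Subgroup ↥L) := by rw [hg]; exact hy'
      have hxT' := (Lead.mem_smul_sylow (T.subtype hTL) g y').mp hy''
      rw [Sylow.coe_subtype, Subgroup.mem_subgroupOf] at hxT'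
      have hxT : (g : H)⁻¹ * (y' : H) * (g : H) ∈ (T : Subgroup H) := hxT'
      have hxC : (g : H)⁻¹ * (y' : H) * (g : H) ∈ Subgroup.centralizer ((T : Subgroup H) : Set H) := by
        rw [Subgroup.mem_centralizer_iff]
        intro t ht
        have h2 : g * ⟨t, hTL ht⟩ * g⁻¹ ∈ ((g • (T.subtype hTL) : Sylow p ↥L) : Subgroup ↥L) := by
          refine (Lead.mem_smul_sylow (T.subtype hTL) g _).mpr ?_
          rw [Sylow.coe_subtype, Subgroup.mem_subgroupOf]
          have e : (((g⁻¹ * (g * ⟨t, hTL ht⟩ * g⁻¹) * g : ↥L)) : H) = t := by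
            have : g⁻¹ * (g * (⟨t, hTL ht⟩ : ↥L) * g⁻¹) * g = ⟨t, hTL ht⟩ := by group
            rw [this]
          rw [e]
          exact ht
        rw [hg] at h2
        have h3 := Subgroup.mem_centralizer_iff.mp hyC _ ⟨_, h2, rfl⟩
        have h4 : (g : H) * t * (g : H)⁻¹ * (y' : H) = (y' : H) * ((g : H) * t * (g : H)⁻¹) := h3
        have e1 : t * ((g : H)⁻¹ * (y' : H) * (g : H)) = (g : H)⁻¹ * ((g : H) * t * (g : H)⁻¹ * (y' : H)) * (g : H) := by group
        have e2 : (g : H)⁻¹ * (y' : H) * (g : H) * t = (g : H)⁻¹ * ((y' : H) * ((g : H) * t * (g : H)⁻¹)) * (g : H) := by group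
        rw [e1, e2, h4]
      have hxp : ((g : H)⁻¹ * (y' : H) * (g : H)) ^ p = 1 := by
        have h5 : (y' : H) ^ p = 1 := hyp
        have e : (g : H)⁻¹ * (y' : H) * (g : H) = (g : H)⁻¹ * (y' : H) * (g : H)⁻¹⁻¹ := by rw [inv_inv]
        rw [e, conj_pow, h5, mul_one, mul_inv_cancel]
      have hxE := hx0 _ (Subgroup.mem_inf.mpr ⟨hxT, hxC⟩) hxp
      have hxV : (g : H)⁻¹ * (y' : H) * (g : H) ∈ Cfsg.sylowCenterClosure p L :=
        hZ0V (Subgroup.subset_closure ⟨Subgroup.mem_inf.mpr ⟨hxT, hxC⟩, hxp⟩)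
      have hxfix : ∀ t ∈ (T : Subgroup H), t * ((g : H)⁻¹ * (y' : H) * (g : H)) * t⁻¹ = (g : H)⁻¹ * (y' : H) * (g : H) := by
        intro t ht
        have := Subgroup.mem_centralizer_iff.mp hxC t ht
        rw [this, mul_assoc, mul_inv_cancel, mul_one]
      have hcm := hdec (g : H) g.2 _ hxV hxfix
      have e : L.subtype y' = ((g : H) * ((g : H)⁻¹ * (y' : H) * (g : H)) * (g : H)⁻¹ * ((g : H)⁻¹ * (y' : H) * (g : H))⁻¹) * ((g : H)⁻¹ * (y' : H) * (g : H)) := by
        show (y' : H) = _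
        group
      rw [e]
      exact Subgroup.mul_mem _ ((le_sup_right : ⁅Cfsg.sylowCenterClosure p L, (Cfsg.pResidual p ↥L).map L.subtype⁆ ≤ _) hcm) hxE
    · apply sup_le _ hWV
      apply (Subgroup.closure_le _).mpr
      rintro c ⟨hc, hcp⟩
      obtain ⟨hcL, hcC⟩ := Subgroup.mem_inf.mp hc
      apply hZ0V
      apply Subgroup.subset_closure
      refine ⟨Subgroup.mem_inf.mpr ⟨?_, Subgroup.centralizer_le hTL hcC⟩, hcp⟩
      have h2 : Subgroup.zpowers c ≤ Cfsg.pCoreOf p L := by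
        apply Helper4.le_pCoreOf (Subgroup.zpowers_le.mpr hcL)
        · intro l hl
          apply Subgroup.centralizer_le_normalizer
          rw [Subgroup.mem_centralizer_iff]
          intro a ha
          obtain ⟨k, rfl⟩ := Subgroup.mem_zpowers_iff.mp ha
          have h3 : Commute l c := (Subgroup.mem_centralizer_iff.mp hcC l hl)
          exact ((h3.zpow_right k).eq).symm
        · intro a
          refine ⟨1, ?_⟩
          obtain ⟨k, hk⟩ := Subgroup.mem_zpowers_iff.mp a.2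
          apply Subtype.ext
          rw [Subgroup.coe_pow, Subgroup.coe_one, pow_one, ← hk, ← zpow_natCast, ← zpow_mul, mul_comm, zpow_mul, zpow_natCast, hcp, one_zpow]
      exact (inf_le_left : (T : Subgroup H) ⊓ _ ≤ _) (hPT (h2 (Subgroup.mem_zpowers c)))
  refine ⟨h1, ?_⟩
  apply le_antisymm
  · rw [Subgroup.commutator_le]
    intro v hv l hl
    rw [h1] at hv
    have hWN : ⁅Cfsg.sylowCenterClosure p L, (Cfsg.pResidual p ↥L).map L.subtype⁆ ≤
        Subgroup.normalizer ((Cfsg.omegaOne p (L ⊓ Subgroup.centralizer ((L : Subgroup H) : Set H)) : Subgroup H) : Set H) := by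
      intro w hw
      apply Subgroup.centralizer_le_normalizer
      rw [Subgroup.mem_centralizer_iff]
      intro c hc
      exact (Subgroup.mem_centralizer_iff.mp (Subgroup.mem_inf.mp (hOmC hc)).2 w (hVL (hWV hw))).symm
    obtain ⟨c, hc, w, hw, rfl⟩ := Lead.mem_sup_of_le_normalizer hWN hv
    have hcC := (Subgroup.mem_inf.mp (hOmC hc)).2
    have hwL : w ∈ L := hVL (hWV hw)
    have h2 : (w * l * w⁻¹) * c = c * (w * l * w⁻¹) :=
      Subgroup.mem_centralizer_iff.mp hcC _ (L.mul_mem (L.mul_mem hwL hl) (L.inv_mem hwL))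
    have e : ⁅c * w, l⁆ = w * (l * w⁻¹ * l⁻¹) := by
      rw [commutatorElement_def]
      have : c * w * l * (c * w)⁻¹ * l⁻¹ = c * (w * l * w⁻¹) * c⁻¹ * l⁻¹ := by group
      rw [this, ← h2]
      group
    rw [e]
    exact Subgroup.mul_mem _ hw ((Subgroup.mem_normalizer_iff.mp (hLW hl) _).mp (Subgroup.inv_mem _ hw))
  · exact Subgroup.commutator_mono (le_refl _) hRL

end Cfsg.Agent.S2823
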