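import Cfsg.Statements.S2825
import Mathlib
import Cfsg.Statements.S2825
import Cfsg.Agent.S2824
import Cfsg.Agent.S2804
import Cfsg.Agent.Lib.Helper4.AxB
import Cfsg.Agent.Lib.Helper4.Subn

set_option autoImplicit false
open Cfsg
open scoped commutatorElement

namespace Cfsg.Agent.S2825

open Cfsg Cfsg.Agent.Lib
open scoped commutatorElement

theorem exists_pow_coprime {H : Type*} [Group H] [Finite H] (p : ℕ) [Fact p.Prime] (d : H) :
    ∃ a : ℕ, (orderOf (d ^ (p ^ a))).Coprime p := by
  have hp : p.Prime := Fact.out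
  obtain ⟨a, m, hm, hN⟩ := Nat.exists_eq_pow_mul_and_not_dvd (orderOf_pos d).ne' p hp.ne_one
  refine ⟨a, ?_⟩
  have h1 : (d ^ (p ^ a)) ^ m = 1 := by
    rw [← pow_mul, ← hN]
    exact pow_orderOf_eq_one d
  exact Nat.Coprime.coprime_dvd_left (orderOf_dvd_of_pow_eq_one h1) ((Nat.Prime.coprime_iff_not_dvd hp).mpr hm).symm

theorem mem_of_pow_prime_pow_mem {H : Type*} [Group H] {p : ℕ} {K : Subgroup H} {x : H} {k : ℕ}
    (hco : (orderOf x).Coprime p) (h : x ^ (p ^ k) ∈ K) : x ∈ K := by
  have hc : (p ^ k).Coprime (orderOf x) := (Nat.Coprime.pow_right k hco).symm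
  obtain ⟨m, hm⟩ := exists_pow_eq_self_of_coprime hc
  rw [← hm]
  exact K.pow_mem h m

theorem yL_normalizer {H : Type*} [Group H] [Finite H] (p : ℕ) [Fact p.Prime] (L : Subgroup H) :
    Subgroup.normalizer (L : Set H) ≤ Subgroup.normalizer ((Cfsg.largestPReducedOf p L : Subgroup H) : Set H) := by
  obtain ⟨hUL, hUn, hUcomm, hUexp, hUred, -⟩ := Cfsg.Agent.S2824.yL_props p L
  apply Helper4.le_normalizer_of_forall_conj
  intro m hm c hc
  have hmL : Helper8.cj m L = L := Helper8.mem_normalizer_iff_cj.mp hm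
  have hm'L : Helper8.cj m⁻¹ L = L := Helper8.mem_normalizer_iff_cj.mp (Subgroup.inv_mem _ hm)
  have hconj : ∀ l ∈ L, m⁻¹ * l * m ∈ L := by
    intro l hl
    have := (Subgroup.mem_normalizer_iff.mp (Subgroup.inv_mem _ hm) l).mp hl
    simpa using this
  have hconj' : ∀ l ∈ L, m * l * m⁻¹ ∈ L := fun l hl => (Subgroup.mem_normalizer_iff.mp hm l).mp hl
  have hle : Helper8.cj m (Cfsg.largestPReducedOf p L) ≤ Cfsg.largestPReducedOf p L := by
    apply Cfsg.Agent.S2824.le_yL_of p L
    · have := Helper8.cj_mono (g := m) hUL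
      rw [hmL] at this
      exact this
    · intro l hl y hy
      rw [Helper8.mem_cj] at hy ⊢
      have h1 := hUn _ (hconj l hl) _ hy
      have e : m⁻¹ * (l * y * l⁻¹) * m = m⁻¹ * l * m * (m⁻¹ * y * m) * (m⁻¹ * l * m)⁻¹ := by group
      rw [e]
      exact h1
    · intro a ha b hb
      rw [Helper8.mem_cj] at ha hb
      have h1 := hUcomm _ ha _ hb
      have e1 : a * b = m * (m⁻¹ * a * m * (m⁻¹ * b * m)) * m⁻¹ := by group
      have e2 : b * a = m * (m⁻¹ * b * m * (m⁻¹ * a * m)) * m⁻¹ := by group
      rw [e1, e2, h1]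
    · intro a ha
      rw [Helper8.mem_cj] at ha
      have h1 := hUexp _ ha
      have e : a = m * (m⁻¹ * a * m) * m⁻¹ := by group
      rw [e, conj_pow, h1, mul_one, mul_inv_cancel]
    · intro D hDL hDn hDp
      have h1 : Helper8.cj m⁻¹ D ≤ Subgroup.centralizer ((Cfsg.largestPReducedOf p L : Subgroup H) : Set H) := by
        apply hUred
        · have := Helper8.cj_mono (g := m⁻¹) hDL
          rw [hm'L] at this
          exact this
        · intro l hl d hd
          rw [Helper8.mem_cj] at hd ⊢
          have h2 := hDn _ (hconj' l hl) _ hd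
          have e : m⁻¹⁻¹ * (l * d * l⁻¹) * m⁻¹ = m * l * m⁻¹ * (m⁻¹⁻¹ * d * m⁻¹) * (m * l * m⁻¹)⁻¹ := by group
          rw [e]
          exact h2
        · intro d hd
          rw [Helper8.mem_cj] at hd
          obtain ⟨k, hk⟩ := hDp _ hd
          refine ⟨k, ?_⟩
          rw [← Helper8.cj_centralizer, Helper8.mem_cj] at hk
          have e : m⁻¹ * (m⁻¹⁻¹ * d * m⁻¹) ^ p ^ k * m = d ^ p ^ k := by
            rw [inv_inv, conj_pow]; group
          rw [e] at hk
          exact hk
      have h2 := Helper8.cj_mono (g := m) h1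
      rw [Helper8.cj_cj_inv, Helper8.cj_centralizer] at h2
      exact h2
  exact hle (Helper8.cj_mem hc)

theorem cent_yM_le_cent_yL {H : Type*} [Group H] [Finite H] {p : ℕ} [Fact p.Prime] (L M : Subgroup H)
    (hLM : L ≤ M) (hML : M ≤ Subgroup.normalizer (L : Set H)) :
    L ⊓ Subgroup.centralizer ((Cfsg.largestPReducedOf p M : Subgroup H) : Set H) ≤
      Subgroup.centralizer ((Cfsg.largestPReducedOf p L : Subgroup H) : Set H) := by
  obtain ⟨hVM, hVn, hVcomm, hVexp, hVred, -⟩ := Cfsg.Agent.S2824.yL_props p M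
  obtain ⟨hUL, hUn, hUcomm, hUexp, hUred, -⟩ := Cfsg.Agent.S2824.yL_props p L
  have hMU : M ≤ Subgroup.normalizer ((Cfsg.largestPReducedOf p L : Subgroup H) : Set H) := hML.trans (yL_normalizer p L)
  have hMV : M ≤ Subgroup.normalizer ((Cfsg.largestPReducedOf p M : Subgroup H) : Set H) :=
    Helper4.le_normalizer_of_forall_conj _ _ hVn
  have hUp : IsPGroup p ↥(Cfsg.largestPReducedOf p L) := by
    intro x
    refine ⟨1, ?_⟩
    rw [pow_one]
    exact Subtype.ext (hUexp x x.2)
  have key : ∀ n : ℕ, ∀ W : Subgroup H, Nat.card W = n → W ≤ Cfsg.largestPReducedOf p L →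
      M ≤ Subgroup.normalizer (W : Set H) →
      (∀ x ∈ L, (orderOf x).Coprime p → x ∈ Subgroup.centralizer (W : Set H) →
        x ∈ Subgroup.centralizer ((Cfsg.largestPReducedOf p L : Subgroup H) : Set H)) →
      ∀ x ∈ L ⊓ Subgroup.centralizer ((Cfsg.largestPReducedOf p M : Subgroup H) : Set H), (orderOf x).Coprime p →
        x ∈ Subgroup.centralizer ((Cfsg.largestPReducedOf p L : Subgroup H) : Set H) := by
    intro n
    induction n using Nat.strong_induction_on with
    | _ n ih =>
      intro W hcard hWU hMW hP x hx hxo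
      by_cases hred : ∀ D : Subgroup H, D ≤ M → (∀ m ∈ M, ∀ d ∈ D, m * d * m⁻¹ ∈ D) →
          (∀ d ∈ D, ∃ k : ℕ, d ^ (p ^ k) ∈ Subgroup.centralizer (W : Set H)) → D ≤ Subgroup.centralizer (W : Set H)
      · have hWV : W ≤ Cfsg.largestPReducedOf p M :=
          Cfsg.Agent.S2824.le_yL_of p M W (hWU.trans (hUL.trans hLM))
            (fun m hm y hy => (Subgroup.mem_normalizer_iff.mp (hMW hm) y).mp hy)
            (fun a ha b hb => hUcomm a (hWU ha) b (hWU hb)) (fun a ha => hUexp a (hWU ha)) hred
        exact hP x (Subgroup.mem_inf.mp hx).1 hxo (Subgroup.centralizer_le hWV (Subgroup.mem_inf.mp hx).2)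
      · push Not at hred
        obtain ⟨E, hEM, hEn, hEp, hEW⟩ := hred
        have hW'lt : Nat.card ↥(W ⊓ Subgroup.centralizer (E : Set H)) < n := by
          by_contra hnot
          push Not at hnot
          rw [← hcard] at hnot
          have heq : W ⊓ Subgroup.centralizer (E : Set H) = W := Subgroup.eq_of_le_of_card_ge inf_le_left hnot
          apply hEW
          intro e he
          rw [Subgroup.mem_centralizer_iff]
          intro w hw
          rw [← heq] at hw
          exact (Subgroup.mem_centralizer_iff.mp (Subgroup.mem_inf.mp hw).2 e he).symm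
        have hME : M ≤ Subgroup.normalizer (E : Set H) := Helper4.le_normalizer_of_forall_conj _ _ hEn
        have hMW' : M ≤ Subgroup.normalizer ((W ⊓ Subgroup.centralizer (E : Set H) : Subgroup H) : Set H) := by
          intro m hm
          exact Helper4.mem_normalizer_inf (hMW hm) (Helper4.normalizer_le_normalizer_centralizer' E (hME hm))
        have hEL : E ⊓ L ≤ Subgroup.centralizer ((Cfsg.largestPReducedOf p L : Subgroup H) : Set H) := by
          apply hUred _ inf_le_right
          · intro l hl d hd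
            exact Subgroup.mem_inf.mpr ⟨hEn l (hLM hl) d (Subgroup.mem_inf.mp hd).1,
              L.mul_mem (L.mul_mem hl (Subgroup.mem_inf.mp hd).2) (L.inv_mem hl)⟩
          · intro d hd
            obtain ⟨a, ha⟩ := exists_pow_coprime p d
            refine ⟨a, ?_⟩
            apply hP _ (L.pow_mem (Subgroup.mem_inf.mp hd).2 _) ha
            obtain ⟨k, hk⟩ := hEp d (Subgroup.mem_inf.mp hd).1
            apply mem_of_pow_prime_pow_mem (k := k) ha
            rw [← pow_mul, mul_comm, pow_mul]
            exact Subgroup.pow_mem _ hk _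
        have hP' : ∀ y ∈ L, (orderOf y).Coprime p → y ∈ Subgroup.centralizer ((W ⊓ Subgroup.centralizer (E : Set H) : Subgroup H) : Set H) →
            y ∈ Subgroup.centralizer ((Cfsg.largestPReducedOf p L : Subgroup H) : Set H) := by
          intro y hyL hyo hyW'
          apply hP y hyL hyo
          have h1 := Helper4.axb_abelian W (hUp.to_le hWU) (fun a ha b hb => hUcomm a (hWU ha) b (hWU hb)) y
            (hMW (hLM hyL)) hyo E (hEM.trans hMW) hEp (by
              intro e he
              apply Subgroup.centralizer_le hWU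
              apply hEL
              refine Subgroup.mem_inf.mpr ⟨?_, ?_⟩
              · have h2 : y * e⁻¹ * y⁻¹ ∈ E := hEn y (hLM hyL) _ (E.inv_mem he)
                have e1 : e * y * e⁻¹ * y⁻¹ = e * (y * e⁻¹ * y⁻¹) := by group
                rw [e1]
                exact E.mul_mem he h2
              · have h2 : e * y * e⁻¹ ∈ L := (Subgroup.mem_normalizer_iff.mp (hML (hEM he)) y).mp hyL
                exact L.mul_mem h2 (L.inv_mem hyL)) (by
              intro w hw
              rw [Subgroup.mem_centralizer_iff]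
              intro z hz
              rw [Set.mem_singleton_iff.mp hz]
              exact (Subgroup.mem_centralizer_iff.mp hyW' w hw).symm)
          rw [Subgroup.mem_centralizer_iff]
          intro w hw
          exact (Subgroup.mem_centralizer_iff.mp (h1 hw) y rfl).symm
        exact ih _ hW'lt _ rfl (inf_le_left.trans hWU) hMW' hP' x hx hxo
  apply hUred _ inf_le_left
  · intro l hl d hd
    refine Subgroup.mem_inf.mpr ⟨L.mul_mem (L.mul_mem hl (Subgroup.mem_inf.mp hd).1) (L.inv_mem hl), ?_⟩
    exact (Subgroup.mem_normalizer_iff.mp (Helper4.normalizer_le_normalizer_centralizer' _ (hMV (hLM hl))) d).mp (Subgroup.mem_inf.mp hd).2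
  · intro d hd
    obtain ⟨a, ha⟩ := exists_pow_coprime p d
    exact ⟨a, key _ _ rfl (le_refl _) hMU (fun x _ _ h => h) _ (Subgroup.pow_mem _ hd _) ha⟩

theorem subnormal_pReduced_cent {H : Type*} [Group H] [Finite H] {p : ℕ} [Fact p.Prime] (V : Subgroup H)
    (hV : Cfsg.IsPReducedNormal p V) (L : Subgroup H) (hL : L.IsSubnormal) (D : Subgroup H) (hDL : D ≤ L)
    (hLD : L ≤ Subgroup.normalizer (D : Set H))
    (hDp : ∀ d ∈ D, ∃ k : ℕ, d ^ (p ^ k) ∈ Subgroup.centralizer ((V ⊓ L : Subgroup H) : Set H)) :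
    D ≤ Subgroup.centralizer (V : Set H) := by
  obtain ⟨hVn, ⟨hVc, hVe⟩, hCn, hbot⟩ := hV
  have hVp : IsPGroup p ↥V := by
    intro x
    refine ⟨1, ?_⟩
    rw [pow_one]
    exact Subtype.ext (hVe x x.2)
  have hVN : ∀ X : Subgroup H, X ≤ Subgroup.normalizer (V : Set H) := by
    intro X
    rw [Subgroup.normalizer_eq_top_iff.mpr hVn]
    exact le_top
  have hDsn : D.IsSubnormal :=
    Subgroup.IsSubnormal.trans hDL ((Subgroup.normal_subgroupOf_iff_le_normalizer hDL).mpr hLD).isSubnormal hL
  have hVR : V ≤ Subgroup.normalizer ((Helper4.pGen p D : Subgroup H) : Set H) :=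
    Helper4.normal_pgroup_normalizes_pGen hDsn V hVn hVp
  have hA : ∀ x ∈ D, (orderOf x).Coprime p → x ∈ Subgroup.centralizer (V : Set H) := by
    intro x hx hco
    have hxW : x ∈ Subgroup.centralizer ((V ⊓ L : Subgroup H) : Set H) := by
      obtain ⟨k, hk⟩ := hDp x hx
      exact mem_of_pow_prime_pow_mem hco hk
    have hxR : x ∈ Helper4.pGen p D := Helper4.mem_pGen hx hco
    have hAR : Subgroup.zpowers x ≤ Helper4.pGen p D := Subgroup.zpowers_le.mpr hxR
    have hAW : Subgroup.zpowers x ≤ Subgroup.centralizer ((V ⊓ L : Subgroup H) : Set H) :=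
      Subgroup.zpowers_le.mpr hxW
    have hcop : (Nat.card (Subgroup.zpowers x)).Coprime (Nat.card V) := by
      obtain ⟨n, hn⟩ := hVp.exists_card_eq
      rw [Nat.card_zpowers, hn]
      exact Nat.Coprime.pow_right n hco
    haveI : Group.IsNilpotent ↥V := hVp.isNilpotent
    have h1 : ⁅⁅V, Subgroup.zpowers x⁆, Subgroup.zpowers x⁆ = ⁅V, Subgroup.zpowers x⁆ :=
      Lead.commutator_commutator_eq_of_coprime (Subgroup.zpowers x) V (hVN _) hcop (Or.inr inferInstance)
    have h0 : ⁅V, Subgroup.zpowers x⁆ ≤ V ⊓ L := by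
      apply le_inf (Lead.commutator_le_of_le_normalizer V _ (hVN _))
      refine (Subgroup.commutator_mono (le_refl V) hAR).trans ?_
      rw [Subgroup.commutator_comm]
      exact (Lead.commutator_le_of_le_normalizer _ V hVR).trans ((Helper4.pGen_le p D).trans hDL)
    have h2 : ⁅⁅V, Subgroup.zpowers x⁆, Subgroup.zpowers x⁆ = ⊥ := by
      rw [eq_bot_iff]
      refine (Subgroup.commutator_mono h0 (le_refl _)).trans ?_
      rw [Subgroup.commutator_comm]
      exact le_of_eq (Subgroup.commutator_eq_bot_iff_le_centralizer.mpr hAW)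
    rw [h1] at h2
    have h3 : V ≤ Subgroup.centralizer ((Subgroup.zpowers x : Subgroup H) : Set H) :=
      Subgroup.commutator_eq_bot_iff_le_centralizer.mp h2
    rw [Subgroup.mem_centralizer_iff]
    intro v hv
    have := Subgroup.mem_centralizer_iff.mp (h3 hv) x (Subgroup.mem_zpowers x)
    exact this.symm
  haveI := hCn
  apply Cfsg.Agent.S2804.le_of_pCore_quot_bot_subnormal _ hbot _ hDsn
  intro d hd
  obtain ⟨a, ha⟩ := exists_pow_coprime p d
  exact ⟨a, hA _ (Subgroup.pow_mem _ hd _) ha⟩

theorem cent_yH_le_cent_yL {H : Type*} [Group H] [Finite H] {p : ℕ} [Fact p.Prime] (L : Subgroup H)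
    (hL : L.IsSubnormal) :
    L ⊓ Subgroup.centralizer (Cfsg.largestPReduced p H : Set H) ≤
      Subgroup.centralizer ((Cfsg.largestPReducedOf p L : Subgroup H) : Set H) := by
  induction hL with
  | top =>
    obtain ⟨hUL, hUn, hUcomm, hUexp, hUred, -⟩ := Cfsg.Agent.S2824.yL_props p (⊤ : Subgroup H)
    have h1 : Cfsg.IsPReducedNormal p (Cfsg.largestPReducedOf p (⊤ : Subgroup H)) := by
      apply Helper4.isPReducedNormal_of
      · constructor
        intro n hn g
        exact hUn g (Subgroup.mem_top g) n hn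
      · exact hUcomm
      · exact hUexp
      · intro D hDn hDp
        exact hUred D le_top (fun l _ d hd => hDn.conj_mem d hd l) hDp
    have h2 : Cfsg.largestPReducedOf p (⊤ : Subgroup H) ≤ Cfsg.largestPReduced p H := le_sSup h1
    exact inf_le_right.trans (Subgroup.centralizer_le h2)
  | step L L₁ hle hsub hN ih =>
    rw [Subgroup.normal_subgroupOf_iff_le_normalizer hle] at hN
    have h1 := cent_yM_le_cent_yL (p := p) L L₁ hle hN
    refine le_trans ?_ h1
    exact le_inf inf_le_left ((le_inf (inf_le_left.trans hle) inf_le_right).trans ih)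

/-- Let L be a subnormal subgroup of the finite group H, p a prime, Y_H and Y_L the largest p-reduced normal subgroups. Then Y_H ∩ L = Y_H ∩ Y_L and this subgroup is a p-reduced normal subgroup of L; C_L(Y_L) = C_L(Y_H) = C_L(Y_H ∩ L); and if O^p(H) ≤ L, then [Y_L, L] = 1 if and only if [Y_H, H] = 1. -/
theorem result {H : Type*} [Group H] [Finite H] {p : ℕ} [Fact p.Prime] (L : Subgroup H) (hL : L.IsSubnormal) : Cfsg.largestPReduced p H ⊓ L = Cfsg.largestPReduced p H ⊓ (Cfsg.largestPReducedOf p L) ∧ Cfsg.IsPReducedNormal p ((Cfsg.largestPReduced p H ⊓ L).subgroupOf L) ∧ L ⊓ Subgroup.centralizer ((Cfsg.largestPReducedOf p L : Subgroup H) : Set H) = L ⊓ Subgroup.centralizer (Cfsg.largestPReduced p H : Set H) ∧ L ⊓ Subgroup.centralizer (Cfsg.largestPReduced p H : Set H) = L ⊓ Subgroup.centralizer ((Cfsg.largestPReduced p H ⊓ L : Subgroup H) : Set H) ∧ (Cfsg.pResidual p H ≤ L → (⁅(Cfsg.largestPReducedOf p L), L⁆ = ⊥ ↔ ⁅Cfsg.largestPReduced p H, (⊤ : Subgroup H)⁆ = ⊥)) := by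
  have hV : Cfsg.IsPReducedNormal p (Cfsg.largestPReduced p H) := Helper4.largestPReduced_isPReducedNormal p
  have hVn : (Cfsg.largestPReduced p H).Normal := hV.1
  have hVcomm := Helper4.IsPReducedNormal.comm' hV
  have hVe := hV.2.1.2
  have hLV : L ≤ Subgroup.normalizer ((Cfsg.largestPReduced p H : Subgroup H) : Set H) := by
    rw [Subgroup.normalizer_eq_top_iff.mpr hVn]
    exact le_top
  have hLVL : L ≤ Subgroup.normalizer ((Cfsg.largestPReduced p H ⊓ L : Subgroup H) : Set H) :=
    fun l hl => Helper4.mem_normalizer_inf (hLV hl) (Subgroup.le_normalizer hl)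
  have h2 : Cfsg.IsPReducedNormal p ((Cfsg.largestPReduced p H ⊓ L).subgroupOf L) := by
    apply Helper4.isPReducedNormal_of
    · exact (Subgroup.normal_subgroupOf_iff_le_normalizer inf_le_right).mpr hLVL
    · intro a ha b hb
      exact Subtype.ext (hVcomm _ (Subgroup.mem_inf.mp (Subgroup.mem_subgroupOf.mp ha)).1 _ (Subgroup.mem_inf.mp (Subgroup.mem_subgroupOf.mp hb)).1)
    · intro a ha
      apply Subtype.ext
      rw [Subgroup.coe_pow, Subgroup.coe_one]
      exact hVe _ (Subgroup.mem_inf.mp (Subgroup.mem_subgroupOf.mp ha)).1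
    · intro D' hD'n hD'p
      have hD : D'.map L.subtype ≤ Subgroup.centralizer (Cfsg.largestPReduced p H : Set H) := by
        apply subnormal_pReduced_cent _ hV L hL _ (Subgroup.map_subtype_le _)
        · apply Helper4.le_normalizer_of_forall_conj
          rintro l hl _ ⟨d, hd, rfl⟩
          exact ⟨⟨l, hl⟩ * d * ⟨l, hl⟩⁻¹, hD'n.conj_mem d hd ⟨l, hl⟩, rfl⟩
        · rintro _ ⟨d, hd, rfl⟩
          obtain ⟨k, hk⟩ := hD'p d hd
          refine ⟨k, ?_⟩
          rw [Cfsg.Agent.S2824.mem_centralizer_subgroupOf L _ inf_le_right] at hk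
          rw [Subgroup.coe_pow] at hk
          exact hk
      intro d hd
      rw [Cfsg.Agent.S2824.mem_centralizer_subgroupOf L _ inf_le_right]
      exact Subgroup.centralizer_le inf_le_left (hD ⟨d, hd, rfl⟩)
  have h1le : Cfsg.largestPReduced p H ⊓ L ≤ Cfsg.largestPReducedOf p L := by
    have h3 : (Cfsg.largestPReduced p H ⊓ L).subgroupOf L ≤ Cfsg.largestPReduced p ↥L := le_sSup h2
    intro v hv
    exact ⟨⟨v, (Subgroup.mem_inf.mp hv).2⟩, h3 (Subgroup.mem_subgroupOf.mpr hv), rfl⟩
  have hYL : Cfsg.largestPReducedOf p L ≤ L := Subgroup.map_subtype_le _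
  have h4 : L ⊓ Subgroup.centralizer (Cfsg.largestPReduced p H : Set H) = L ⊓ Subgroup.centralizer ((Cfsg.largestPReduced p H ⊓ L : Subgroup H) : Set H) := by
    apply le_antisymm
    · exact le_inf inf_le_left (inf_le_right.trans (Subgroup.centralizer_le inf_le_left))
    · apply le_inf inf_le_left
      apply subnormal_pReduced_cent _ hV L hL _ inf_le_left
      · intro l hl
        exact Helper4.mem_normalizer_inf (Subgroup.le_normalizer hl) (Helper4.normalizer_le_normalizer_centralizer' _ (hLVL hl))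
      · intro d hd
        exact ⟨0, by rw [pow_zero, pow_one]; exact (Subgroup.mem_inf.mp hd).2⟩
  have h3 : L ⊓ Subgroup.centralizer ((Cfsg.largestPReducedOf p L : Subgroup H) : Set H) = L ⊓ Subgroup.centralizer (Cfsg.largestPReduced p H : Set H) := by
    apply le_antisymm
    · rw [h4]
      exact le_inf inf_le_left (inf_le_right.trans (Subgroup.centralizer_le h1le))
    · exact le_inf inf_le_left (cent_yH_le_cent_yL L hL)
  refine ⟨?_, h2, h3, h4, ?_⟩
  · apply le_antisymm
    · exact le_inf inf_le_left h1le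
    · exact le_inf inf_le_left (inf_le_right.trans hYL)
  · intro hRL
    constructor
    · intro h
      have hLC : L ≤ Subgroup.centralizer ((Cfsg.largestPReducedOf p L : Subgroup H) : Set H) := by
        rw [Subgroup.commutator_comm] at h
        exact Subgroup.commutator_eq_bot_iff_le_centralizer.mp h
      have hLCV : L ≤ Subgroup.centralizer (Cfsg.largestPReduced p H : Set H) := by
        have : L ≤ L ⊓ Subgroup.centralizer ((Cfsg.largestPReducedOf p L : Subgroup H) : Set H) := le_inf le_rfl hLC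
        rw [h3] at this
        exact this.trans inf_le_right
      have htop : (⊤ : Subgroup H) ≤ Subgroup.centralizer (Cfsg.largestPReduced p H : Set H) := by
        apply Helper4.IsPReducedNormal.le_centralizer_of_pow hV ⊤ inferInstance
        intro d _
        haveI := Lead.pResidual_normal p H
        obtain ⟨k, hk⟩ := (Helper4.quotient_pResidual_isPGroup p H) (QuotientGroup.mk d)
        refine ⟨k, ?_⟩
        rw [← QuotientGroup.mk_pow, QuotientGroup.eq_one_iff] at hk
        exact hLCV (hRL hk)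
      rw [Subgroup.commutator_comm]
      exact Subgroup.commutator_eq_bot_iff_le_centralizer.mpr htop
    · intro h
      have htop : (⊤ : Subgroup H) ≤ Subgroup.centralizer (Cfsg.largestPReduced p H : Set H) := by
        rw [Subgroup.commutator_comm] at h
        exact Subgroup.commutator_eq_bot_iff_le_centralizer.mp h
      have : L ≤ L ⊓ Subgroup.centralizer (Cfsg.largestPReduced p H : Set H) := le_inf le_rfl (le_top.trans htop)
      rw [← h3] at this
      rw [Subgroup.commutator_comm]
      exact Subgroup.commutator_eq_bot_iff_le_centralizer.mpr (this.trans inf_le_right)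

end Cfsg.Agent.S2825
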