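import Cfsg.Statements.S2826
import Mathlib
import Cfsg.Statements.S2826
import Cfsg.Agent.Lib.Helper4.Avg
import Cfsg.Agent.Lib.Helper4.Basic
import Cfsg.Agent.Lib.Helper8.Hyp

set_option autoImplicit false
open Cfsg
open scoped commutatorElement

namespace Cfsg.Agent.S2826

open Cfsg Cfsg.Agent.Lib
open scoped commutatorElement

/-- Let H be a finite group of characteristic p, T a Sylow p-subgroup, and V a normal elementary abelian p-subgroup of H containing Ω₁(Z(T)). Then C_H(Ω₁(Z(T))) = C_H([V, O^p(H)] ∩ Ω₁(Z(T))), O^p(H) being generated by the elements of order prime to p. -/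
theorem result {H : Type*} [Group H] [Finite H] {p : ℕ} [Fact p.Prime] (hH : Subgroup.centralizer (Cfsg.pCore p H : Set H) ≤ Cfsg.pCore p H) (T : Sylow p H) (V : Subgroup H) [V.Normal] (hV : Cfsg.IsElementaryAbelian p V) (hZV : (Cfsg.omegaOne p ((T : Subgroup H) ⊓ Subgroup.centralizer (((T : Subgroup H) : Subgroup H) : Set H))) ≤ V) : Subgroup.centralizer ((Cfsg.omegaOne p ((T : Subgroup H) ⊓ Subgroup.centralizer (((T : Subgroup H) : Subgroup H) : Set H))) : Set H) = Subgroup.centralizer (((⁅V, Cfsg.pResidual p H⁆ ⊓ (Cfsg.omegaOne p ((T : Subgroup H) ⊓ Subgroup.centralizer (((T : Subgroup H) : Subgroup H) : Set H)))) : Subgroup H) : Set H) := by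
  have hp : p.Prime := Fact.out
  obtain ⟨hVc, hVe⟩ := hV
  have hVcomm : ∀ a ∈ V, ∀ b ∈ V, a * b = b * a := by
    intro a ha b hb
    exact congrArg Subtype.val (hVc.is_comm.comm (⟨a, ha⟩ : ↥V) ⟨b, hb⟩)
  have hVp : IsPGroup p ↥V := by
    intro x
    refine ⟨1, ?_⟩
    rw [pow_one]
    exact Subtype.ext (hVe x x.2)
  have hVT : V ≤ (T : Subgroup H) := Helper4.normal_pGroup_le_sylow T inferInstance hVp
  have hVN : (⊤ : Subgroup H) ≤ Subgroup.normalizer (V : Set H) := by
    rw [Subgroup.normalizer_eq_top_iff.mpr inferInstance]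
  have hn : ((T : Subgroup H).relIndex ⊤).Coprime p := by
    rw [Subgroup.relIndex_top_right]
    exact ((Nat.Prime.coprime_iff_not_dvd hp).mpr T.not_dvd_index).symm
  apply le_antisymm
  · exact Subgroup.centralizer_le inf_le_right
  · intro g hg
    have hle : Cfsg.omegaOne p ((T : Subgroup H) ⊓ Subgroup.centralizer ((T : Subgroup H) : Set H)) ≤ Subgroup.centralizer ({g} : Set H) := by
      apply (Subgroup.closure_le _).mpr
      rintro x ⟨hx, hxp⟩
      have hxZ : x ∈ Cfsg.omegaOne p ((T : Subgroup H) ⊓ Subgroup.centralizer ((T : Subgroup H) : Set H)) :=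
        Subgroup.subset_closure ⟨hx, hxp⟩
      have hxV : x ∈ V := hZV hxZ
      obtain ⟨hxT, hxC⟩ := Subgroup.mem_inf.mp hx
      have hxfix : ∀ t ∈ (T : Subgroup H), t * x * t⁻¹ = x := by
        intro t ht
        have := Subgroup.mem_centralizer_iff.mp hxC t ht
        rw [this, mul_assoc, mul_inv_cancel, mul_one]
      obtain ⟨u, huV, huL, huW⟩ := Helper4.averaging ⊤ (T : Subgroup H) V hVN hVcomm x hxV hxfix
      have hW : ∀ l ∈ (⊤ : Subgroup H), l * x * l⁻¹ * x⁻¹ ∈ ⁅V, Cfsg.pResidual p H⁆ := by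
        intro l _
        obtain ⟨t, ht, r, hr, hl⟩ := Helper8.sylow_mul_pResidual T l⁻¹
        have hl' : l = r⁻¹ * t⁻¹ := by
          have := congrArg (fun y => y⁻¹) hl
          simpa using this
        have h1 : t⁻¹ * x * t = x := by
          have := hxfix t⁻¹ (Subgroup.inv_mem _ ht)
          simpa using this
        have e : l * x * l⁻¹ * x⁻¹ = ⁅r⁻¹, x⁆ := by
          rw [hl', commutatorElement_def]
          have : r⁻¹ * t⁻¹ * x * (r⁻¹ * t⁻¹)⁻¹ * x⁻¹ = r⁻¹ * (t⁻¹ * x * t) * r⁻¹⁻¹ * x⁻¹ := by group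
          rw [this, h1]
        rw [e, Subgroup.commutator_comm]
        exact Subgroup.commutator_mem_commutator (Subgroup.inv_mem _ hr) hxV
      have hw := huW _ hW
      have huC : u ∈ Subgroup.centralizer ((T : Subgroup H) : Set H) := by
        rw [Subgroup.mem_centralizer_iff]
        intro t _
        have := huL t (Subgroup.mem_top t)
        have e : t * u = t * u * t⁻¹ * t := by group
        rw [e, this]
      have huZ : u ∈ Cfsg.omegaOne p ((T : Subgroup H) ⊓ Subgroup.centralizer ((T : Subgroup H) : Set H)) :=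
        Subgroup.subset_closure ⟨Subgroup.mem_inf.mpr ⟨hVT huV, huC⟩, hVe u huV⟩
      have hwZ : u * (x ^ ((T : Subgroup H).relIndex ⊤))⁻¹ ∈ Cfsg.omegaOne p ((T : Subgroup H) ⊓ Subgroup.centralizer ((T : Subgroup H) : Set H)) :=
        Subgroup.mul_mem _ huZ (Subgroup.inv_mem _ (Subgroup.pow_mem _ hxZ _))
      have hwg : u * (x ^ ((T : Subgroup H).relIndex ⊤))⁻¹ ∈ Subgroup.centralizer ({g} : Set H) := by
        rw [Subgroup.mem_centralizer_iff]
        intro y hy
        rw [Set.mem_singleton_iff.mp hy]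
        exact (Subgroup.mem_centralizer_iff.mp hg _ (Subgroup.mem_inf.mpr ⟨hw, hwZ⟩)).symm
      have hug : u ∈ Subgroup.centralizer ({g} : Set H) := by
        rw [Subgroup.mem_centralizer_iff]
        intro y hy
        rw [Set.mem_singleton_iff.mp hy]
        have := huL g (Subgroup.mem_top g)
        have e : g * u = g * u * g⁻¹ * g := by group
        rw [e, this]
      have hxn : x ^ ((T : Subgroup H).relIndex ⊤) ∈ Subgroup.centralizer ({g} : Set H) := by
        have e : x ^ ((T : Subgroup H).relIndex ⊤) = (u * (x ^ ((T : Subgroup H).relIndex ⊤))⁻¹)⁻¹ * u := by group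
        rw [e]
        exact Subgroup.mul_mem _ (Subgroup.inv_mem _ hwg) hug
      exact Helper4.mem_of_pow_coprime hp hxp hn hxn
    rw [Subgroup.mem_centralizer_iff]
    intro z hz
    have := Subgroup.mem_centralizer_iff.mp (hle hz) g rfl
    exact this.symm

end Cfsg.Agent.S2826
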