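import Cfsg.Statements.S2827
import Mathlib
import Cfsg.Statements.S2827
import Cfsg.Agent.Lib.Helper4.PIrr

set_option autoImplicit false
open Cfsg
open scoped commutatorElement

namespace Cfsg.Agent.S2827

open Cfsg Cfsg.Agent.Lib
open scoped commutatorElement

/-- Let H be a finite p-irreducible group (not p-closed, and O^p(H) lies in every normal subgroup that is not p-closed) and T a Sylow p-subgroup. Then H is generated by the conjugates of T and H = H'·T; O^p(H) ≤ H'; and for every normal subgroup Y of T not contained in O_p(H), O^p(H) = [O^p(H), Y] and O^p(H) is contained in the normal closure of Y in H. -/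
theorem result {H : Type*} [Group H] [Finite H] {p : ℕ} [Fact p.Prime] (hH : Cfsg.IsPIrreducible p H) (T : Sylow p H) : Subgroup.normalClosure ((T : Subgroup H) : Set H) = ⊤ ∧ commutator H ⊔ (T : Subgroup H) = ⊤ ∧ Cfsg.pResidual p H ≤ commutator H ∧ ∀ Y : Subgroup H, Y ≤ (T : Subgroup H) → (T : Subgroup H) ≤ Subgroup.normalizer (Y : Set H) → ¬ Y ≤ Cfsg.pCore p H → ⁅Cfsg.pResidual p H, Y⁆ = Cfsg.pResidual p H ∧ Cfsg.pResidual p H ≤ Subgroup.normalClosure (Y : Set H) := by
  haveI hRn : (Cfsg.pResidual p H).Normal := Lead.pResidual_normal p H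
  have hcn : (commutator H ⊔ (T : Subgroup H)).Normal := by
    constructor
    intro x hx g
    have e : g * x * g⁻¹ = ⁅g, x⁆ * x := by rw [commutatorElement_def]; group
    rw [e]
    refine Subgroup.mul_mem _ ((le_sup_left : commutator H ≤ _) ?_) hx
    rw [commutator_def]
    exact Subgroup.commutator_mem_commutator (Subgroup.mem_top g) (Subgroup.mem_top x)
  have hb : commutator H ⊔ (T : Subgroup H) = ⊤ := Helper4.pirr_sylow_le hH _ T le_sup_right
  have hTn : ∀ K : Subgroup H, K.Normal → (T : Subgroup H) ≤ Subgroup.normalizer (K : Set H) := by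
    intro K hK
    rw [Subgroup.normalizer_eq_top_iff.mpr hK]
    exact le_top
  refine ⟨?_, hb, ?_, ?_⟩
  · exact Helper4.pirr_sylow_le hH _ T Subgroup.subset_normalClosure
  · apply Helper4.pResidual_le_of_le_sup _ (T : Subgroup H) (hTn _ inferInstance) T.isPGroup'
    rw [hb]
    exact le_top
  · intro Y hYT hTY hYO
    have hYp : IsPGroup p ↥Y := T.isPGroup'.to_le hYT
    have h1 : Cfsg.pResidual p H ≤ Subgroup.normalClosure (Y : Set H) := by
      apply hH.2 _ Subgroup.normalClosure_normal
      intro hcl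
      exact hYO (Helper4.pClosed_normal_pgroup_le_pCore _ hcl Y Subgroup.subset_normalClosure hYp)
    refine ⟨?_, h1⟩
    have hRN : ∀ g : H, g ∈ Subgroup.normalizer ((Cfsg.pResidual p H : Subgroup H) : Set H) := by
      intro g
      rw [Subgroup.normalizer_eq_top_iff.mpr hRn]
      exact Subgroup.mem_top g
    have hle : ⁅Cfsg.pResidual p H, Y⁆ ≤ Cfsg.pResidual p H :=
      Lead.commutator_le_of_le_normalizer _ Y (fun y _ => hRN y)
    apply le_antisymm hle
    have hRn' : Cfsg.pResidual p H ≤ Subgroup.normalizer ((⁅Cfsg.pResidual p H, Y⁆ : Subgroup H) : Set H) :=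
      Lead.le_normalizer_commutator _ Y
    have hYn : Y ≤ Subgroup.normalizer ((⁅Cfsg.pResidual p H, Y⁆ : Subgroup H) : Set H) :=
      Lead.le_normalizer_commutator_right _ Y
    have hXn : (⁅Cfsg.pResidual p H, Y⁆ ⊔ Y).Normal := by
      rw [← Subgroup.normalizer_eq_top_iff, eq_top_iff, ← Lead.pResidual_sup_sylow T]
      apply sup_le
      · apply Helper4.le_normalizer_of_forall_conj
        intro r hr c hc
        obtain ⟨c₁, hc₁, a, ha, rfl⟩ := Lead.mem_sup_of_le_normalizer hYn hc
        have e : r * (c₁ * a) * r⁻¹ = (r * c₁ * r⁻¹) * ⁅r, a⁆ * a := by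
          rw [commutatorElement_def]; group
        rw [e]
        refine Subgroup.mul_mem _ (Subgroup.mul_mem _ ?_ ?_) ((le_sup_right : Y ≤ _) ha)
        · exact (le_sup_left : ⁅Cfsg.pResidual p H, Y⁆ ≤ _) ((Subgroup.mem_normalizer_iff.mp (hRn' hr) c₁).mp hc₁)
        · exact (le_sup_left : ⁅Cfsg.pResidual p H, Y⁆ ≤ _) (Subgroup.commutator_mem_commutator hr ha)
      · intro t ht
        exact Helper4.mem_normalizer_sup' (Lead.mem_normalizer_commutator (hRN t) (hTY ht)) (hTY ht)
    have h2 : Subgroup.normalClosure (Y : Set H) ≤ ⁅Cfsg.pResidual p H, Y⁆ ⊔ Y :=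
      Subgroup.normalClosure_le_normal (le_sup_right : Y ≤ _)
    exact Helper4.pResidual_le_of_le_sup _ Y hYn hYp (h1.trans h2)

end Cfsg.Agent.S2827
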