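import Cfsg.Statements.S2828
import Mathlib
import Cfsg.Agent.Lib.Helper4.PIrr

set_option autoImplicit false
open Cfsg

namespace Cfsg.Agent.S2828


theorem closed_iff {G : Type*} [Group G] [Finite G] {p : ℕ} [Fact p.Prime] :
    Cfsg.IsPClosed p G ↔ ∀ x y : G, (∃ k : ℕ, x ^ p ^ k = 1) → (∃ k : ℕ, y ^ p ^ k = 1) →
      ∃ k : ℕ, (x * y) ^ p ^ k = 1 := by
  constructor
  · intro h x y hx hy
    have hP0 : Nonempty (Sylow p G) := inferInstance
    obtain ⟨P⟩ := hP0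
    haveI hPn : (P : Subgroup G).Normal := h P
    have key : ∀ z : G, (∃ k : ℕ, z ^ p ^ k = 1) → z ∈ (P : Subgroup G) := by
      intro z ⟨k, hk⟩
      have h1 : orderOf z ∣ p ^ k := orderOf_dvd_of_pow_eq_one hk
      obtain ⟨j, _, hj⟩ := (Nat.dvd_prime_pow (Fact.out : p.Prime)).mp h1
      have hz : IsPGroup p (Subgroup.zpowers z) :=
        IsPGroup.of_card (n := j) (by rw [Nat.card_zpowers, hj])
      obtain ⟨Q, hQ⟩ := hz.exists_le_sylow
      obtain ⟨g, hg⟩ := MulAction.exists_smul_eq G P Q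
      rw [Sylow.smul_eq_of_normal] at hg
      rw [hg]
      exact hQ (Subgroup.mem_zpowers z)
    have hxy : x * y ∈ (P : Subgroup G) := mul_mem (key x hx) (key y hy)
    obtain ⟨k, hk⟩ := P.isPGroup' ⟨x * y, hxy⟩
    exact ⟨k, by simpa using congrArg Subtype.val hk⟩
  · intro h P
    let K : Subgroup G :=
      { carrier := {x | ∃ k : ℕ, x ^ p ^ k = 1}
        mul_mem' := fun {a b} ha hb => h a b ha hb
        one_mem' := ⟨0, by simp⟩
        inv_mem' := fun {a} ha => by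
          obtain ⟨k, hk⟩ := ha
          exact ⟨k, by rw [inv_pow, hk, inv_one]⟩ }
    have hK : IsPGroup p ↥K := by
      rintro ⟨x, k, hk⟩
      exact ⟨k, Subtype.ext (by simpa using hk)⟩
    have hPK : (P : Subgroup G) ≤ K := by
      intro x hx
      obtain ⟨k, hk⟩ := P.isPGroup' ⟨x, hx⟩
      exact ⟨k, by simpa using congrArg Subtype.val hk⟩
    have hKP : K = P := P.is_maximal' hK hPK
    have hKn : K.Normal := by
      refine ⟨fun n hn g => ?_⟩
      obtain ⟨k, hk⟩ := hn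
      exact ⟨k, by rw [conj_pow, hk, mul_one, mul_inv_cancel]⟩
    rw [← hKP]
    exact hKn

theorem closed_sub_iff {G : Type*} [Group G] [Finite G] {p : ℕ} [Fact p.Prime] (N : Subgroup G) :
    Cfsg.IsPClosed p ↥N ↔ ∀ x ∈ N, ∀ y ∈ N, (∃ k : ℕ, x ^ p ^ k = 1) → (∃ k : ℕ, y ^ p ^ k = 1) →
      ∃ k : ℕ, (x * y) ^ p ^ k = 1 := by
  rw [closed_iff]
  constructor
  · intro h x hx y hy ⟨k, hk⟩ ⟨l, hl⟩
    obtain ⟨m, hm⟩ := h ⟨x, hx⟩ ⟨y, hy⟩ ⟨k, Subtype.ext (by simpa using hk)⟩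
      ⟨l, Subtype.ext (by simpa using hl)⟩
    exact ⟨m, by simpa using congrArg Subtype.val hm⟩
  · intro h x y ⟨k, hk⟩ ⟨l, hl⟩
    obtain ⟨m, hm⟩ := h x.1 x.2 y.1 y.2 ⟨k, by simpa using congrArg Subtype.val hk⟩
      ⟨l, by simpa using congrArg Subtype.val hl⟩
    exact ⟨m, Subtype.ext (by simpa using hm)⟩

theorem pelt_iff {H : Type*} [Group H] {p : ℕ} (D : Subgroup H) [D.Normal]
    (hD : IsPGroup p ↥D) (x : H) :
    (∃ k : ℕ, (QuotientGroup.mk' D x) ^ p ^ k = 1) ↔ ∃ k : ℕ, x ^ p ^ k = 1 := by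
  constructor
  · rintro ⟨k, hk⟩
    have h1 : x ^ p ^ k ∈ D := by
      rw [← QuotientGroup.eq_one_iff]
      have : QuotientGroup.mk' D (x ^ p ^ k) = 1 := by rw [map_pow]; exact hk
      exact this
    obtain ⟨m, hm⟩ := hD ⟨x ^ p ^ k, h1⟩
    have hm' : (x ^ p ^ k) ^ p ^ m = 1 := by simpa using congrArg Subtype.val hm
    exact ⟨k + m, by rw [pow_add, pow_mul]; exact hm'⟩
  · rintro ⟨k, hk⟩
    exact ⟨k, by rw [← map_pow, hk, map_one]⟩
theorem result {H : Type*} [Group H] [Finite H] {p : ℕ} [Fact p.Prime] (D : Subgroup H) [D.Normal] (hD : IsPGroup p ↥D) : (Cfsg.IsPIrreducible p H ↔ Cfsg.IsPIrreducible p (H ⧸ D)) ∧ (Cfsg.IsStronglyPIrreducible p H ↔ Cfsg.IsStronglyPIrreducible p (H ⧸ D)) := by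
  classical
  set π : H →* H ⧸ D := QuotientGroup.mk' D with hπdef
  have hπ : Function.Surjective π := QuotientGroup.mk'_surjective D
  have pe : ∀ x : H, (∃ k : ℕ, (π x) ^ p ^ k = 1) ↔ ∃ k : ℕ, x ^ p ^ k = 1 :=
    fun x => pelt_iff D hD x
  have closed_map : ∀ N : Subgroup H, Cfsg.IsPClosed p ↥N ↔ Cfsg.IsPClosed p ↥(N.map π) := by
    intro N
    rw [closed_sub_iff, closed_sub_iff]
    constructor
    · intro h x' hx' y' hy' hxp hyp
      obtain ⟨x, hxN, rfl⟩ := hx'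
      obtain ⟨y, hyN, rfl⟩ := hy'
      have h1 := h x hxN y hyN ((pe x).mp hxp) ((pe y).mp hyp)
      rw [← map_mul]
      exact (pe (x * y)).mpr h1
    · intro h x hx y hy hxp hyp
      have h1 := h (π x) (Subgroup.mem_map_of_mem π hx) (π y) (Subgroup.mem_map_of_mem π hy)
        ((pe x).mpr hxp) ((pe y).mpr hyp)
      rw [← map_mul] at h1
      exact (pe (x * y)).mp h1
  have closed_top : Cfsg.IsPClosed p H ↔ Cfsg.IsPClosed p (H ⧸ D) := by
    rw [closed_iff, closed_iff]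
    constructor
    · intro h x' y' hxp hyp
      obtain ⟨x, rfl⟩ := hπ x'
      obtain ⟨y, rfl⟩ := hπ y'
      have h1 := h x y ((pe x).mp hxp) ((pe y).mp hyp)
      rw [← map_mul]
      exact (pe (x * y)).mpr h1
    · intro h x y hxp hyp
      have h1 := h (π x) (π y) ((pe x).mpr hxp) ((pe y).mpr hyp)
      rw [← map_mul] at h1
      exact (pe (x * y)).mp h1
  have res_map : (Cfsg.pResidual p H).map π ≤ Cfsg.pResidual p (H ⧸ D) := by
    unfold Cfsg.pResidual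
    rw [MonoidHom.map_closure]
    apply Subgroup.closure_mono
    rintro _ ⟨g, hg, rfl⟩
    exact Nat.Coprime.coprime_dvd_left (orderOf_map_dvd π g) hg
  have res_le : Cfsg.pResidual p (H ⧸ D) ≤ (Cfsg.pResidual p H).map π := by
    apply (Subgroup.closure_le _).mpr
    intro x' hx'
    obtain ⟨x, rfl⟩ := hπ x'
    have hx1 : Nat.Coprime (orderOf (π x)) p := hx'
    have hn0 : orderOf x ≠ 0 := (orderOf_pos x).ne'
    obtain ⟨a, m, hm, hnm⟩ := Nat.exists_eq_pow_mul_and_not_dvd hn0 p (Fact.out : p.Prime).ne_one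
    have hcop : (p ^ a).Coprime (orderOf (π x)) := (Nat.Coprime.pow_right a hx1).symm
    obtain ⟨u, hu⟩ := exists_pow_eq_self_of_coprime hcop
    have hy : x ^ p ^ a ∈ Cfsg.pResidual p H := by
      apply Subgroup.subset_closure
      show Nat.Coprime (orderOf (x ^ p ^ a)) p
      have h1 : (x ^ p ^ a) ^ m = 1 := by
        rw [← pow_mul, ← hnm]; exact pow_orderOf_eq_one x
      have h2 : orderOf (x ^ p ^ a) ∣ m := orderOf_dvd_of_pow_eq_one h1
      have h3 : Nat.Coprime m p :=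
        ((Nat.Prime.coprime_iff_not_dvd (Fact.out : p.Prime)).mpr hm).symm
      exact Nat.Coprime.coprime_dvd_left h2 h3
    refine ⟨(x ^ p ^ a) ^ u, pow_mem hy u, ?_⟩
    rw [map_pow, map_pow]
    exact hu
  have pcore_comap : (Cfsg.pCore p (H ⧸ D)).comap π ≤ Cfsg.pCore p H := by
    apply Cfsg.Agent.Lib.Helper4.le_pCore
      ((Cfsg.Agent.Lib.Helper4.pCore_normal p (H ⧸ D)).comap π)
    rintro ⟨x, hx⟩
    have hx' : π x ∈ Cfsg.pCore p (H ⧸ D) := hx
    obtain ⟨k, hk⟩ := (Cfsg.Agent.Lib.Helper4.pCore_isPGroup p (H ⧸ D)) ⟨π x, hx'⟩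
    have hk' : (π x) ^ p ^ k = 1 := by simpa using congrArg Subtype.val hk
    obtain ⟨m, hm⟩ := (pe x).mp ⟨k, hk'⟩
    exact ⟨m, Subtype.ext (by simpa using hm)⟩
  have pcore_map : (Cfsg.pCore p H).map π ≤ Cfsg.pCore p (H ⧸ D) :=
    Cfsg.Agent.Lib.Helper4.le_pCore ((Cfsg.Agent.Lib.Helper4.pCore_normal p H).map π hπ)
      ((Cfsg.Agent.Lib.Helper4.pCore_isPGroup p H).map π)
  have hmapc : ∀ N' : Subgroup (H ⧸ D), (N'.comap π).map π = N' :=
    fun N' => Subgroup.map_comap_eq_self_of_surjective hπ N'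
  have back : ∀ N : Subgroup H, N.Normal → Cfsg.pResidual p (H ⧸ D) ≤ N.map π →
      Cfsg.pResidual p H ≤ N := by
    intro N hN h3
    have h4 : Cfsg.pResidual p H ≤ N ⊔ D := by
      have h5 : (Cfsg.pResidual p H).map π ≤ N.map π := res_map.trans h3
      have h6 := (Subgroup.map_le_map_iff).mp h5
      rwa [hπdef, QuotientGroup.ker_mk'] at h6
    haveI := hN
    exact Cfsg.Agent.Lib.Helper4.pResidual_le_of_le_sup N D
      (by rw [Subgroup.normalizer_eq_top]; exact le_top) hD h4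
  have fwd : ∀ N' : Subgroup (H ⧸ D), Cfsg.pResidual p H ≤ N'.comap π →
      Cfsg.pResidual p (H ⧸ D) ≤ N' := by
    intro N' h3
    calc Cfsg.pResidual p (H ⧸ D) ≤ (Cfsg.pResidual p H).map π := res_le
      _ ≤ (N'.comap π).map π := Subgroup.map_mono h3
      _ = N' := hmapc N'
  refine ⟨⟨?_, ?_⟩, ⟨?_, ?_⟩⟩
  · rintro ⟨h1, h2⟩
    refine ⟨fun h => h1 (closed_top.mpr h), ?_⟩
    intro N' hN' hnc
    have hnc' : ¬ Cfsg.IsPClosed p ↥(N'.comap π) := by
      intro h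
      apply hnc
      have h5 := (closed_map (N'.comap π)).mp h
      rwa [hmapc N'] at h5
    exact fwd N' (h2 (N'.comap π) (hN'.comap π) hnc')
  · rintro ⟨h1, h2⟩
    refine ⟨fun h => h1 (closed_top.mp h), ?_⟩
    intro N hN hnc
    have hnc' : ¬ Cfsg.IsPClosed p ↥(N.map π) := fun h => hnc ((closed_map N).mpr h)
    exact back N hN (h2 (N.map π) (hN.map π hπ) hnc')
  · rintro ⟨h1, h2⟩
    refine ⟨fun h => h1 (closed_top.mpr h), ?_⟩
    intro N' hN' hnc
    have hnc' : ¬ ⁅N'.comap π, (⊤ : Subgroup H)⁆ ≤ Cfsg.pCore p H := by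
      intro h
      apply hnc
      have h6 : (⁅N'.comap π, (⊤ : Subgroup H)⁆).map π ≤ (Cfsg.pCore p H).map π :=
        Subgroup.map_mono h
      rw [Subgroup.map_commutator, hmapc N', Subgroup.map_top_of_surjective π hπ] at h6
      exact h6.trans pcore_map
    exact fwd N' (h2 (N'.comap π) (hN'.comap π) hnc')
  · rintro ⟨h1, h2⟩
    refine ⟨fun h => h1 (closed_top.mp h), ?_⟩
    intro N hN hnc
    have hnc' : ¬ ⁅N.map π, (⊤ : Subgroup (H ⧸ D))⁆ ≤ Cfsg.pCore p (H ⧸ D) := by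
      intro h
      apply hnc
      have h6 : (⁅N, (⊤ : Subgroup H)⁆).map π ≤ Cfsg.pCore p (H ⧸ D) := by
        rw [Subgroup.map_commutator, Subgroup.map_top_of_surjective π hπ]
        exact h
      exact (Subgroup.map_le_iff_le_comap.mp h6).trans pcore_comap
    exact back N hN (h2 (N.map π) (hN.map π hπ) hnc')

end Cfsg.Agent.S2828
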