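import Cfsg.Statements.S2829
import Cfsg.Agent.Lib.Helper4.Basic

set_option autoImplicit false
open Cfsg
open scoped commutatorElement

namespace Cfsg.Agent.S2829

/-- Every strongly p-irreducible finite group is p-irreducible. -/
theorem result {H : Type*} [Group H] [Finite H] {p : ℕ} [Fact p.Prime] (hH : Cfsg.IsStronglyPIrreducible p H) : Cfsg.IsPIrreducible p H := by
  refine ⟨hH.1, ?_⟩
  intro N hN hNc
  apply hH.2 N hN
  intro hle
  apply hNc
  intro P
  have hQn : ((Cfsg.pCore p H).subgroupOf N).Normal := by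
    have := Cfsg.Agent.Lib.Helper4.pCore_normal p H
    infer_instance
  have hQp : IsPGroup p ↥((Cfsg.pCore p H).subgroupOf N) := by
    have h1 := Cfsg.Agent.Lib.Helper4.pCore_isPGroup p H
    exact h1.comap_subtype
  have hQP : (Cfsg.pCore p H).subgroupOf N ≤ (P : Subgroup ↥N) :=
    Cfsg.Agent.Lib.Helper4.normal_pGroup_le_sylow P hQn hQp
  constructor
  intro x hx n
  have hc : ⁅n, x⁆ ∈ (P : Subgroup ↥N) := by
    apply hQP
    rw [Subgroup.mem_subgroupOf]
    apply hle
    have : ((⁅n, x⁆ : ↥N) : H) = ⁅(n : H), (x : H)⁆ := by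
      simp [commutatorElement_def]
    rw [this]
    have h2 : ⁅(x : H), (n : H)⁆ ∈ ⁅N, (⊤ : Subgroup H)⁆ :=
      Subgroup.commutator_mem_commutator x.2 (Subgroup.mem_top _)
    have h3 : ⁅(n : H), (x : H)⁆ = ⁅(x : H), (n : H)⁆⁻¹ := by
      rw [commutatorElement_inv]
    rw [h3]
    exact Subgroup.inv_mem _ h2
  have : n * x * n⁻¹ = ⁅n, x⁆ * x := by
    simp [commutatorElement_def]
  rw [this]
  exact Subgroup.mul_mem _ hc hx

end Cfsg.Agent.S2829
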