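import Cfsg.Statements.S2830
import Mathlib
import Cfsg.Statements.S2830
import Cfsg.Agent.Lib.Helper4.PIrr
import Cfsg.Agent.Lib.Helper4.PReduced2

set_option autoImplicit false
open Cfsg
open scoped commutatorElement

namespace Cfsg.Agent.S2830

open Cfsg Cfsg.Agent.Lib
open scoped commutatorElement

/-- Let H act by conjugation on the elementary abelian p-subgroup V of a finite group G (H ≤ N(V)), with H p-irreducible and O^p(H) not centralizing V. Then C_H(V) is p-closed and C_T(V) ≤ O_p(H) for every p-subgroup T of H. If in addition O_p(H) centralizes V, then C_T(V) = T ∩ O_p(H) for every p-subgroup T of H, and V is p-reduced for H: O_p(H/C_H(V)) = 1. -/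
theorem result {G : Type*} [Group G] [Finite G] {p : ℕ} [Fact p.Prime] (V H : Subgroup G) (hV : Cfsg.IsElementaryAbelian p V) (hHV : H ≤ Subgroup.normalizer (V : Set G)) (hH : Cfsg.IsPIrreducible p ↥H) (hnc : ¬ (Cfsg.pResidual p ↥H).map H.subtype ≤ Subgroup.centralizer (V : Set G)) [hn : ((Subgroup.centralizer (V : Set G)).subgroupOf H).Normal] : Cfsg.IsPClosed p ↥(H ⊓ Subgroup.centralizer (V : Set G)) ∧ (∀ T : Subgroup G, T ≤ H → IsPGroup p ↥T → T ⊓ Subgroup.centralizer (V : Set G) ≤ Cfsg.pCoreOf p H) ∧ (Cfsg.pCoreOf p H ≤ Subgroup.centralizer (V : Set G) → (∀ T : Subgroup G, T ≤ H → IsPGroup p ↥T → T ⊓ Subgroup.centralizer (V : Set G) = T ⊓ Cfsg.pCoreOf p H) ∧ Cfsg.pCore p (↥H ⧸ (Subgroup.centralizer (V : Set G)).subgroupOf H) = ⊥) := by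
  have hCcl : Cfsg.IsPClosed p ↥((Subgroup.centralizer (V : Set G)).subgroupOf H) := by
    by_contra hcl
    apply hnc
    have h1 := hH.2 _ hn hcl
    rintro _ ⟨x, hx, rfl⟩
    exact Subgroup.mem_subgroupOf.mp (h1 hx)
  have hHC : H ≤ Subgroup.normalizer ((Subgroup.centralizer (V : Set G) : Subgroup G) : Set G) :=
    hHV.trans (Helper4.normalizer_le_normalizer_centralizer' V)
  have hHN : H ≤ Subgroup.normalizer ((H ⊓ Subgroup.centralizer (V : Set G) : Subgroup G) : Set G) :=
    fun h hh => Helper4.mem_normalizer_inf (Subgroup.le_normalizer hh) (hHC hh)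
  have ha : Cfsg.IsPClosed p ↥(H ⊓ Subgroup.centralizer (V : Set G)) := by
    have e1 : (H ⊓ Subgroup.centralizer (V : Set G)).subgroupOf H = (Subgroup.centralizer (V : Set G)).subgroupOf H :=
      Subgroup.inf_subgroupOf_left _ _
    rw [← e1] at hCcl
    exact Helper4.isPClosed_equiv (Subgroup.subgroupOfEquivOfLe (inf_le_left : H ⊓ Subgroup.centralizer (V : Set G) ≤ H)) hCcl
  have hb : ∀ T : Subgroup G, T ≤ H → IsPGroup p ↥T → T ⊓ Subgroup.centralizer (V : Set G) ≤ Cfsg.pCoreOf p H := by
    intro T hTH hTp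
    exact Helper4.pClosed_le_pCoreOf H (H ⊓ Subgroup.centralizer (V : Set G)) inf_le_left hHN ha _
      (le_inf (inf_le_left.trans hTH) inf_le_right) (hTp.to_le inf_le_left)
  refine ⟨ha, hb, ?_⟩
  intro hPC
  refine ⟨?_, ?_⟩
  · intro T hTH hTp
    apply le_antisymm
    · exact le_inf inf_le_left (hb T hTH hTp)
    · exact le_inf inf_le_left (inf_le_right.trans hPC)
  · rw [eq_bot_iff]
    have hDqn : (Cfsg.pCore p (↥H ⧸ (Subgroup.centralizer (V : Set G)).subgroupOf H)).Normal := Helper4.pCore_normal p _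
    have hDqp : IsPGroup p ↥(Cfsg.pCore p (↥H ⧸ (Subgroup.centralizer (V : Set G)).subgroupOf H)) := Helper4.pCore_isPGroup p _
    have hDn : ((Cfsg.pCore p (↥H ⧸ (Subgroup.centralizer (V : Set G)).subgroupOf H)).comap
        (QuotientGroup.mk' ((Subgroup.centralizer (V : Set G)).subgroupOf H))).Normal := hDqn.comap _
    have hDp : ∀ d ∈ (Cfsg.pCore p (↥H ⧸ (Subgroup.centralizer (V : Set G)).subgroupOf H)).comap
        (QuotientGroup.mk' ((Subgroup.centralizer (V : Set G)).subgroupOf H)),
        ∃ k : ℕ, d ^ (p ^ k) ∈ (Subgroup.centralizer (V : Set G)).subgroupOf H := by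
      intro d hd
      obtain ⟨k, hk⟩ := hDqp ⟨QuotientGroup.mk' _ d, hd⟩
      refine ⟨k, ?_⟩
      have h1 := congrArg Subtype.val hk
      rw [Subgroup.coe_pow, Subgroup.coe_one] at h1
      have h2 : (QuotientGroup.mk' ((Subgroup.centralizer (V : Set G)).subgroupOf H) d) ^ (p ^ k) = 1 := h1
      rw [← map_pow] at h2
      exact (QuotientGroup.eq_one_iff _).mp h2
    have hCD : (Subgroup.centralizer (V : Set G)).subgroupOf H ≤
        (Cfsg.pCore p (↥H ⧸ (Subgroup.centralizer (V : Set G)).subgroupOf H)).comap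
        (QuotientGroup.mk' ((Subgroup.centralizer (V : Set G)).subgroupOf H)) := by
      intro c hc
      rw [Subgroup.mem_comap]
      have : QuotientGroup.mk' ((Subgroup.centralizer (V : Set G)).subgroupOf H) c = 1 := (QuotientGroup.eq_one_iff c).mpr hc
      rw [this]
      exact Subgroup.one_mem _
    have hDC : (Cfsg.pCore p (↥H ⧸ (Subgroup.centralizer (V : Set G)).subgroupOf H)).comap
        (QuotientGroup.mk' ((Subgroup.centralizer (V : Set G)).subgroupOf H)) ≤
        (Subgroup.centralizer (V : Set G)).subgroupOf H := by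
      by_cases hDcl : Cfsg.IsPClosed p ↥((Cfsg.pCore p (↥H ⧸ (Subgroup.centralizer (V : Set G)).subgroupOf H)).comap
        (QuotientGroup.mk' ((Subgroup.centralizer (V : Set G)).subgroupOf H)))
      · intro d hd
        obtain ⟨T⟩ : Nonempty (Sylow p ↥H) := inferInstance
        obtain ⟨t, ht, c, hc, rfl⟩ := Helper4.mem_sylow_mul_of_pow_mem _ T _ hDn hDp d hd
        have htD : t ∈ (Cfsg.pCore p (↥H ⧸ (Subgroup.centralizer (V : Set G)).subgroupOf H)).comap
            (QuotientGroup.mk' ((Subgroup.centralizer (V : Set G)).subgroupOf H)) := by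
          have e : t = (t * c) * c⁻¹ := by group
          rw [e]
          exact Subgroup.mul_mem _ hd (Subgroup.inv_mem _ (hCD hc))
        haveI := hDn
        have hX := Helper4.pClosed_normal_pgroup_le_pCore _ hDcl
          ((Cfsg.pCore p (↥H ⧸ (Subgroup.centralizer (V : Set G)).subgroupOf H)).comap
            (QuotientGroup.mk' ((Subgroup.centralizer (V : Set G)).subgroupOf H)) ⊓ (T : Subgroup ↥H)) inf_le_left
          (T.isPGroup'.to_le inf_le_right)
        have htP : t ∈ Cfsg.pCore p ↥H := hX (Subgroup.mem_inf.mpr ⟨htD, ht⟩)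
        have htC : t ∈ (Subgroup.centralizer (V : Set G)).subgroupOf H := by
          rw [Subgroup.mem_subgroupOf]
          exact hPC ⟨t, htP, rfl⟩
        exact Subgroup.mul_mem _ htC hc
      · exfalso
        apply hnc
        have h1 := hH.2 _ hDn hDcl
        have h2 : Cfsg.pResidual p ↥H ≤ (Subgroup.centralizer (V : Set G)).subgroupOf H := by
          apply (Subgroup.closure_le _).mpr
          intro g hg
          have hgD := h1 (Subgroup.subset_closure hg)
          obtain ⟨k, hk⟩ := hDp g hgD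
          have hg' : Nat.Coprime (orderOf g) p := hg
          have hc : (p ^ k).Coprime (orderOf g) := (Nat.Coprime.pow_right k hg').symm
          obtain ⟨m, hm⟩ := exists_pow_eq_self_of_coprime hc
          show g ∈ (Subgroup.centralizer (V : Set G)).subgroupOf H
          rw [← hm]
          exact Subgroup.pow_mem _ hk m
        rintro _ ⟨x, hx, rfl⟩
        exact Subgroup.mem_subgroupOf.mp (h2 hx)
    intro x hx
    obtain ⟨d, rfl⟩ := QuotientGroup.mk'_surjective _ x
    have hd : d ∈ (Subgroup.centralizer (V : Set G)).subgroupOf H := hDC hx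
    rw [Subgroup.mem_bot]
    exact (QuotientGroup.eq_one_iff d).mpr hd

end Cfsg.Agent.S2830
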