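import Cfsg.Statements.S2831
import Mathlib
import Cfsg.Statements.S2831
import Cfsg.Agent.Lib.Helper4.PIrr

set_option autoImplicit false
open Cfsg
open scoped commutatorElement

namespace Cfsg.Agent.S2831

open Cfsg Cfsg.Agent.Lib
open scoped commutatorElement

/-- Let H be a finite group with Sylow p-subgroup T such that H is T-minimal (H is generated by the conjugates of T and T lies in exactly one maximal subgroup of H). Then H is p-irreducible: H is not p-closed and O^p(H) lies in every normal subgroup of H that is not p-closed. -/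
theorem result {H : Type*} [Group H] [Finite H] {p : ℕ} [Fact p.Prime] (T : Sylow p H) (hmin : Cfsg.IsMinimalOver (T : Subgroup H)) : Cfsg.IsPIrreducible p H := by
  obtain ⟨hnc, M, ⟨hMco, hTM⟩, hMuniq⟩ := hmin
  have key : ∀ X : Subgroup H, (T : Subgroup H) ≤ X → X ≠ ⊤ → X ≤ M := by
    intro X hTX hX
    obtain ⟨M', hM'co, hXM'⟩ := (eq_top_or_exists_le_coatom X).resolve_left hX
    have := hMuniq M' ⟨hM'co, hTX.trans hXM'⟩
    rw [← this]
    exact hXM'
  refine ⟨?_, ?_⟩
  · intro hcl
    haveI : (T : Subgroup H).Normal := hcl T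
    rw [Subgroup.normalClosure_eq_self] at hnc
    apply hMco.1
    rw [eq_top_iff, ← hnc]
    exact hTM
  · intro N hNn hNcl
    haveI := hNn
    have hTN : (T : Subgroup H) ≤ Subgroup.normalizer (N : Set H) := by
      rw [Subgroup.normalizer_eq_top_iff.mpr hNn]
      exact le_top
    by_cases hNT : N ⊔ (T : Subgroup H) = ⊤
    · apply Helper4.pResidual_le_of_le_sup N (T : Subgroup H) hTN T.isPGroup'
      rw [hNT]
      exact le_top
    · exfalso
      have hNM : N ⊔ (T : Subgroup H) ≤ M := key _ le_sup_right hNT
      have h1 : Helper8.SylIn p ((T : Subgroup H) ⊓ N) N :=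
        (Helper8.sylIn_top T).inf_of_normal le_top (by
          rw [Subgroup.normalizer_eq_top_iff.mpr hNn])
      obtain ⟨R, hR⟩ := (Helper8.sylIn_iff inf_le_right).mp h1
      have hfr := Sylow.normalizer_sup_eq_top R
      have hmap : (R : Subgroup ↥N).map N.subtype = (T : Subgroup H) ⊓ N := by
        rw [hR]
        exact Subgroup.map_subgroupOf_eq_of_le inf_le_right
      rw [hmap] at hfr
      by_cases hNN : Subgroup.normalizer ((((T : Subgroup H) ⊓ N : Subgroup H)) : Set H) = ⊤
      · apply hNcl
        apply Helper4.isPClosed_of_sylow_normal R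
        rw [hR]
        exact (Subgroup.normalizer_eq_top_iff.mp hNN).subgroupOf N
      · have h2 : Subgroup.normalizer ((((T : Subgroup H) ⊓ N : Subgroup H)) : Set H) ≤ M := by
          apply key _ _ hNN
          intro t ht
          exact Helper4.mem_normalizer_inf (Subgroup.le_normalizer ht) (hTN ht)
        apply hMco.1
        rw [eq_top_iff, ← hfr]
        exact sup_le h2 (le_sup_left.trans hNM)

end Cfsg.Agent.S2831
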