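import Cfsg.Statements.S2832
import Mathlib
import Cfsg.Statements.S2832
import Cfsg.Agent.Lib.Helper4.PIrr

set_option autoImplicit false
open Cfsg
open scoped commutatorElement

namespace Cfsg.Agent.S2832

open Cfsg Cfsg.Agent.Lib
open scoped commutatorElement

/-- Let H be a finite group with Sylow p-subgroup T such that H is T-minimal (generated by the conjugates of T, with T in exactly one maximal subgroup), and let N be a normal subgroup of H. Then either H/N is a p-group or H/N is minimal over the image of T in the same sense. -/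
theorem result {H : Type*} [Group H] [Finite H] {p : ℕ} [Fact p.Prime] (T : Sylow p H) (hmin : Cfsg.IsMinimalOver (T : Subgroup H)) (N : Subgroup H) [N.Normal] : IsPGroup p (H ⧸ N) ∨ Cfsg.IsMinimalOver ((T : Subgroup H).map (QuotientGroup.mk' N)) := by
  obtain ⟨hnc, M, ⟨hMco, hTM⟩, hMuniq⟩ := hmin
  have key : ∀ X : Subgroup H, (T : Subgroup H) ≤ X → X ≠ ⊤ → X ≤ M := by
    intro X hTX hX
    obtain ⟨M', hM'co, hXM'⟩ := (eq_top_or_exists_le_coatom X).resolve_left hX
    have := hMuniq M' ⟨hM'co, hTX.trans hXM'⟩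
    rw [← this]
    exact hXM'
  have hTN : (T : Subgroup H) ≤ Subgroup.normalizer (N : Set H) := by
    rw [Subgroup.normalizer_eq_top_iff.mpr inferInstance]
    exact le_top
  have hsurj := QuotientGroup.mk'_surjective N
  by_cases hNT : N ⊔ (T : Subgroup H) = ⊤
  · left
    intro x
    obtain ⟨g, rfl⟩ := QuotientGroup.mk_surjective x
    have hg : g ∈ N ⊔ (T : Subgroup H) := by rw [hNT]; exact Subgroup.mem_top g
    obtain ⟨n, hn, t, ht, rfl⟩ := Lead.mem_sup_of_le_normalizer hTN hg
    obtain ⟨k, hk⟩ := T.isPGroup' ⟨t, ht⟩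
    have hk' : t ^ (p ^ k) = 1 := by
      have := congrArg Subtype.val hk
      rw [Subgroup.coe_pow, Subgroup.coe_one] at this
      exact this
    refine ⟨k, ?_⟩
    have e : ((n * t : H) : H ⧸ N) = ((t : H) : H ⧸ N) := by
      rw [QuotientGroup.mk_mul, (QuotientGroup.eq_one_iff n).mpr hn, one_mul]
    rw [e, ← QuotientGroup.mk_pow, hk']
    rfl
  · right
    have hNM : N ≤ M := le_sup_left.trans (key _ le_sup_right hNT)
    have hcm : ∀ K : Subgroup H, N ≤ K → (K.map (QuotientGroup.mk' N)).comap (QuotientGroup.mk' N) = K := by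
      intro K hK
      rw [Subgroup.comap_map_eq, QuotientGroup.ker_mk', sup_eq_left.mpr hK]
    have hMne : M.map (QuotientGroup.mk' N) ≠ ⊤ := by
      intro h
      apply hMco.1
      rw [← hcm M hNM, h, Subgroup.comap_top]
    refine ⟨?_, M.map (QuotientGroup.mk' N), ⟨⟨hMne, ?_⟩, Subgroup.map_mono hTM⟩, ?_⟩
    · rw [Subgroup.coe_map, ← Subgroup.map_normalClosure _ _ hsurj, hnc, Subgroup.map_top_of_surjective _ hsurj]
    · intro Kb hKb
      have h1 : M ≤ Kb.comap (QuotientGroup.mk' N) := by
        rw [← Subgroup.map_le_iff_le_comap]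
        exact hKb.le
      have h2 : M ≠ Kb.comap (QuotientGroup.mk' N) := by
        intro h
        apply hKb.ne
        rw [h, Subgroup.map_comap_eq_self_of_surjective hsurj]
      have h3 := hMco.2 _ (lt_of_le_of_ne h1 h2)
      rw [← Subgroup.map_comap_eq_self_of_surjective hsurj Kb, h3, Subgroup.map_top_of_surjective _ hsurj]
    · rintro Mb ⟨hMbco, hTMb⟩
      have h1 : (T : Subgroup H) ≤ Mb.comap (QuotientGroup.mk' N) := by
        rw [← Subgroup.map_le_iff_le_comap]
        exact hTMb
      have h2 : Mb.comap (QuotientGroup.mk' N) ≠ ⊤ := by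
        intro h
        apply hMbco.1
        rw [← Subgroup.map_comap_eq_self_of_surjective hsurj Mb, h, Subgroup.map_top_of_surjective _ hsurj]
      have h3 := key _ h1 h2
      have h4 : Mb ≤ M.map (QuotientGroup.mk' N) := by
        rw [← Subgroup.map_comap_eq_self_of_surjective hsurj Mb]
        exact Subgroup.map_mono h3
      rcases eq_or_lt_of_le h4 with h5 | h5
      · exact h5
      · exact absurd (hMbco.2 _ h5) hMne

end Cfsg.Agent.S2832
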