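import Cfsg.Statements.S2833
import Cfsg.Agent.Lib.Helper4.Comm

set_option autoImplicit false
open Cfsg
open scoped commutatorElement

namespace Cfsg.Agent.S2833

open Cfsg.Agent.Lib.Helper4 in
theorem mem_S {G : Type*} [Group G] (V U Y : Subgroup G) (hYU : ⁅V, Y⁆ ≤ U) (hUV : U ≤ V) :
    ∀ y ∈ Y, y ∈ Subgroup.normalizer (U : Set G) ∧ ∀ v ∈ V, ⁅v, y⁆ ∈ U := by
  intro y hy
  refine ⟨?_, fun v hv => hYU (Subgroup.commutator_mem_commutator hv hy)⟩
  rw [Subgroup.mem_normalizer_iff]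
  intro u
  constructor
  · intro hu
    have h1 : y * u * y⁻¹ = ⁅u, y⁆⁻¹ * u := by
      rw [commutatorElement_def]; group
    rw [h1]
    exact U.mul_mem (U.inv_mem (hYU (Subgroup.commutator_mem_commutator (hUV hu) hy))) hu
  · intro hu
    have h1 : u = ⁅y * u * y⁻¹, y⁻¹⁆⁻¹ * (y * u * y⁻¹) := by
      rw [commutatorElement_def]; group
    rw [h1]
    exact U.mul_mem (U.inv_mem (hYU (Subgroup.commutator_mem_commutator (hUV hu) (Y.inv_mem hy)))) hu

theorem comm_le_of_gen {G : Type*} [Group G] (V U X Y : Subgroup G)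
    (hXU : ⁅V, X⁆ ≤ U) (hYU : ⁅V, Y⁆ ≤ U) (hUV : U ≤ V) : ⁅V, X ⊔ Y⁆ ≤ U := by
  let S : Subgroup G :=
    { carrier := {l | l ∈ Subgroup.normalizer (U : Set G) ∧ ∀ v ∈ V, ⁅v, l⁆ ∈ U}
      one_mem' := ⟨Subgroup.one_mem _, fun v _ => by
        have : ⁅v, (1 : G)⁆ = 1 := by rw [commutatorElement_def]; group
        rw [this]; exact U.one_mem⟩
      mul_mem' := by
        rintro a b ⟨ha, ha'⟩ ⟨hb, hb'⟩
        refine ⟨Subgroup.mul_mem _ ha hb, fun v hv => ?_⟩
        have h1 : ⁅v, a * b⁆ = ⁅v, a⁆ * (a * ⁅v, b⁆ * a⁻¹) := by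
          simp only [commutatorElement_def]; group
        rw [h1]
        rw [Subgroup.mem_normalizer_iff] at ha
        exact U.mul_mem (ha' v hv) ((ha _).mp (hb' v hv))
      inv_mem' := by
        rintro a ⟨ha, ha'⟩
        have hai := Subgroup.inv_mem _ ha
        refine ⟨hai, fun v hv => ?_⟩
        have h1 : ⁅v, a⁻¹⁆ = a⁻¹ * ⁅v, a⁆⁻¹ * a⁻¹⁻¹ := by
          simp only [commutatorElement_def]; group
        rw [h1]
        rw [Subgroup.mem_normalizer_iff] at hai
        exact (hai _).mp (U.inv_mem (ha' v hv)) }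
  have hXS : X ≤ S := fun x hx => mem_S V U X hXU hUV x hx
  have hYS : Y ≤ S := fun y hy => mem_S V U Y hYU hUV y hy
  have hS : X ⊔ Y ≤ S := sup_le hXS hYS
  rw [Subgroup.commutator_le]
  intro v hv l hl
  exact (hS hl).2 v hv

/-- Let V be a subgroup of a finite group G normalized by the subgroup L, let X ≤ L and g ∈ L with [V, X, X] = 1 and L generated by X and gXg⁻¹. Put W = [V, L]. Then W = [V, X]·[V, gXg⁻¹], C_W(X) = [V, X], and C_W(L) = [V, X] ∩ [V, gXg⁻¹]. -/
theorem result {G : Type*} [Group G] [Finite G] (V L : Subgroup G) (hLV : L ≤ Subgroup.normalizer (V : Set G)) (X : Subgroup G) (hX : X ≤ L) (g : G) (hg : g ∈ L) (hq : ⁅⁅V, X⁆, X⁆ = ⊥) (hgen : X ⊔ X.map (MulAut.conj g).toMonoidHom = L) (W : Subgroup G) (hW : W = ⁅V, L⁆) : ⁅V, X⁆ ⊔ ⁅V, X.map (MulAut.conj g).toMonoidHom⁆ = W ∧ W ⊓ Subgroup.centralizer (X : Set G) = ⁅V, X⁆ ∧ W ⊓ Subgroup.centralizer (L : Set G) = ⁅V, X⁆ ⊓ ⁅V, X.map (MulAut.conj g).toMonoidHom⁆ := by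
  have hXgL : X.map (MulAut.conj g).toMonoidHom ≤ L := by
    rw [← hgen]; exact le_sup_right
  have hXV : X ≤ Subgroup.normalizer (V : Set G) := hX.trans hLV
  have hXgV : X.map (MulAut.conj g).toMonoidHom ≤ Subgroup.normalizer (V : Set G) := hXgL.trans hLV
  have hAV : ⁅V, X⁆ ≤ V := Cfsg.Agent.Lib.Helper4.comm_le_left_of_le_normalizer V X hXV
  have hBV : ⁅V, X.map (MulAut.conj g).toMonoidHom⁆ ≤ V :=
    Cfsg.Agent.Lib.Helper4.comm_le_left_of_le_normalizer V _ hXgV
  have hVg : V.map (MulAut.conj g).toMonoidHom = V :=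
    Cfsg.Agent.Lib.Helper4.map_conj_eq_of_mem_normalizer V g (hLV hg)
  have hBeq : ⁅V, X.map (MulAut.conj g).toMonoidHom⁆ = (⁅V, X⁆).map (MulAut.conj g).toMonoidHom := by
    rw [Subgroup.map_commutator, hVg]
  have hqg : ⁅⁅V, X.map (MulAut.conj g).toMonoidHom⁆, X.map (MulAut.conj g).toMonoidHom⁆ = ⊥ := by
    rw [hBeq, ← Subgroup.map_commutator, hq, Subgroup.map_bot]
  have hAC : ⁅V, X⁆ ≤ Subgroup.centralizer (X : Set G) :=
    (Subgroup.commutator_eq_bot_iff_le_centralizer).mp hq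
  have hBC : ⁅V, X.map (MulAut.conj g).toMonoidHom⁆ ≤
      Subgroup.centralizer ((X.map (MulAut.conj g).toMonoidHom : Subgroup G) : Set G) :=
    (Subgroup.commutator_eq_bot_iff_le_centralizer).mp hqg
  have hUW : ⁅V, X⁆ ⊔ ⁅V, X.map (MulAut.conj g).toMonoidHom⁆ = W := by
    apply le_antisymm
    · rw [hW]
      exact sup_le (Subgroup.commutator_mono le_rfl hX) (Subgroup.commutator_mono le_rfl hXgL)
    · rw [hW, ← hgen]
      exact comm_le_of_gen V _ X _ le_sup_left le_sup_right (sup_le hAV hBV)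
  have hAW : ⁅V, X⁆ ≤ W := by rw [← hUW]; exact le_sup_left
  have hANB : ⁅V, X⁆ ≤ Subgroup.normalizer
      ((⁅V, X.map (MulAut.conj g).toMonoidHom⁆ : Subgroup G) : Set G) :=
    hAV.trans (Cfsg.Agent.Lib.Helper4.le_normalizer_commutator_left V _)
  have hcentL : ∀ w : G, w ∈ Subgroup.centralizer (X : Set G) →
      w ∈ Subgroup.centralizer ((X.map (MulAut.conj g).toMonoidHom : Subgroup G) : Set G) →
      ∀ l ∈ L, l * w = w * l := by
    intro w hw1 hw2
    have h1 : X ≤ Subgroup.centralizer ({w} : Set G) := by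
      intro x hx
      rw [Subgroup.mem_centralizer_iff]
      intro y hy
      rw [Set.mem_singleton_iff] at hy
      subst hy
      rw [Subgroup.mem_centralizer_iff] at hw1
      exact (hw1 x hx).symm
    have h2 : X.map (MulAut.conj g).toMonoidHom ≤ Subgroup.centralizer ({w} : Set G) := by
      intro x hx
      rw [Subgroup.mem_centralizer_iff]
      intro y hy
      rw [Set.mem_singleton_iff] at hy
      subst hy
      rw [Subgroup.mem_centralizer_iff] at hw2
      exact (hw2 x hx).symm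
    have h3 : L ≤ Subgroup.centralizer ({w} : Set G) := by
      rw [← hgen]; exact sup_le h1 h2
    intro l hl
    have := h3 hl
    rw [Subgroup.mem_centralizer_iff] at this
    exact (this w rfl).symm
  have hCX : W ⊓ Subgroup.centralizer (X : Set G) = ⁅V, X⁆ := by
    apply le_antisymm
    · intro w hw
      obtain ⟨hwW, hwC⟩ := Subgroup.mem_inf.mp hw
      rw [← hUW] at hwW
      have hwW' : w ∈ ((⁅V, X⁆ ⊔ ⁅V, X.map (MulAut.conj g).toMonoidHom⁆ : Subgroup G) : Set G) := hwW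
      rw [Subgroup.coe_mul_of_left_le_normalizer_right _ _ hANB] at hwW'
      obtain ⟨a, ha, b, hb, rfl⟩ := Set.mem_mul.mp hwW'
      have ha' : a ∈ ⁅V, X⁆ := ha
      have hb' : b ∈ ⁅V, X.map (MulAut.conj g).toMonoidHom⁆ := hb
      have hbC : b ∈ Subgroup.centralizer (X : Set G) := by
        have h1 : b = a⁻¹ * (a * b) := by group
        rw [h1]
        exact Subgroup.mul_mem _ (Subgroup.inv_mem _ (hAC ha')) hwC
      have hgb : g * b = b * g := hcentL b hbC (hBC hb') g hg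
      have hbA : b ∈ ⁅V, X⁆ := by
        have h2 := hb'
        rw [hBeq, Subgroup.mem_map] at h2
        obtain ⟨a', ha'', h3⟩ := h2
        have h4 : g * a' * g⁻¹ = b := h3
        have h5 : a' = b := by
          have : a' = g⁻¹ * (g * a' * g⁻¹) * g := by group
          rw [this, h4]
          calc g⁻¹ * b * g = g⁻¹ * (b * g) := by group
            _ = g⁻¹ * (g * b) := by rw [hgb]
            _ = b := by group
        rw [← h5]; exact ha''
      exact Subgroup.mul_mem _ ha' hbA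
    · exact le_inf hAW hAC
  refine ⟨hUW, hCX, ?_⟩
  apply le_antisymm
  · intro w hw
    obtain ⟨hwW, hwC⟩ := Subgroup.mem_inf.mp hw
    have hwCX : w ∈ Subgroup.centralizer (X : Set G) :=
      Subgroup.centralizer_le (show (X : Set G) ⊆ (L : Set G) from hX) hwC
    have hwA : w ∈ ⁅V, X⁆ := by
      rw [← hCX]; exact Subgroup.mem_inf.mpr ⟨hwW, hwCX⟩
    refine Subgroup.mem_inf.mpr ⟨hwA, ?_⟩
    rw [hBeq, Subgroup.mem_map]
    refine ⟨w, hwA, ?_⟩
    show g * w * g⁻¹ = w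
    rw [Subgroup.mem_centralizer_iff] at hwC
    have := hwC g hg
    rw [this]; group
  · intro w hw
    obtain ⟨hwA, hwB⟩ := Subgroup.mem_inf.mp hw
    refine Subgroup.mem_inf.mpr ⟨hAW hwA, ?_⟩
    rw [Subgroup.mem_centralizer_iff]
    intro l hl
    exact hcentL w (hAC hwA) (hBC hwB) l hl

end Cfsg.Agent.S2833
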