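import Cfsg.Statements.S2835
import Mathlib
import Cfsg.Statements.S2835
import Cfsg.Agent.Lib.Helper4.PIrr
import Cfsg.Agent.Lib.Lead.CoprimeSylow

set_option autoImplicit false
open Cfsg
open scoped commutatorElement

namespace Cfsg.Agent.S2835

open Cfsg Cfsg.Agent.Lib
open scoped commutatorElement

/-- Let L be a finite group, L₀ a maximal subgroup, T a Sylow p-subgroup of L₀ and Y ≤ T, and suppose L is Y-minimal (generated by the conjugates of Y, with Y in exactly one maximal subgroup, necessarily L₀). Then N_L(T) ≤ L₀, O_p(L) ≤ L₀ and T is a Sylow p-subgroup of L; N_L(L₀) = L₀; L = ⟨Y, gYg⁻¹⟩ for each g ∈ L outside L₀; and if Y is abelian then Y ∩ gYg⁻¹ = C_Y(L) for each such g. -/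
theorem result {L : Type*} [Group L] [Finite L] {p : ℕ} [Fact p.Prime] (L₀ : Subgroup L) (hL₀ : IsCoatom L₀) (T : Sylow p ↥L₀) (Y : Subgroup L) (hYT : Y ≤ (T : Subgroup ↥L₀).map L₀.subtype) (hmin : Cfsg.IsMinimalOver Y) : Subgroup.normalizer (((T : Subgroup ↥L₀).map L₀.subtype : Subgroup L) : Set L) ≤ L₀ ∧ Cfsg.pCore p L ≤ L₀ ∧ (∃ P : Sylow p L, (P : Subgroup L) = (T : Subgroup ↥L₀).map L₀.subtype) ∧ Subgroup.normalizer (L₀ : Set L) = L₀ ∧ (∀ g : L, g ∉ L₀ → Y ⊔ Y.map (MulAut.conj g).toMonoidHom = ⊤) ∧ (IsMulCommutative ↥Y → ∀ g : L, g ∉ L₀ → Y ⊓ Y.map (MulAut.conj g).toMonoidHom = Y ⊓ Subgroup.center L) := by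
  obtain ⟨hnc, M, ⟨hMco, hYM⟩, hMuniq⟩ := hmin
  have hT'L₀ : (T : Subgroup ↥L₀).map L₀.subtype ≤ L₀ := Subgroup.map_subtype_le _
  have hT'p : IsPGroup p ↥((T : Subgroup ↥L₀).map L₀.subtype) := T.isPGroup'.map _
  have hML₀ : L₀ = M := hMuniq L₀ ⟨hL₀, hYT.trans hT'L₀⟩
  have key : ∀ X : Subgroup L, Y ≤ X → X ≠ ⊤ → X ≤ L₀ := by
    intro X hYX hX
    obtain ⟨M', hM'co, hXM'⟩ := (eq_top_or_exists_le_coatom X).resolve_left hX
    have := hMuniq M' ⟨hM'co, hYX.trans hXM'⟩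
    rw [hML₀, ← this]
    exact hXM'
  have hnn : ∀ X : Subgroup L, X.Normal → Y ≤ X → X = ⊤ := by
    intro X hX hYX
    haveI := hX
    rw [eq_top_iff, ← hnc]
    exact Subgroup.normalClosure_le_normal hYX
  have h1 : Subgroup.normalizer (((T : Subgroup ↥L₀).map L₀.subtype : Subgroup L) : Set L) ≤ L₀ := by
    apply key _ (hYT.trans Subgroup.le_normalizer)
    intro h
    have h2 := hnn _ (Subgroup.normalizer_eq_top_iff.mp h) hYT
    apply hL₀.1
    rw [eq_top_iff, ← h2]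
    exact hT'L₀
  have hmax : ∀ Q : Subgroup L, IsPGroup p ↥Q → (T : Subgroup ↥L₀).map L₀.subtype ≤ Q → Q = (T : Subgroup ↥L₀).map L₀.subtype := by
    intro Q hQ hle
    by_contra hne
    have hlt : (T : Subgroup ↥L₀).map L₀.subtype < Q := lt_of_le_of_ne hle (Ne.symm hne)
    obtain ⟨x, hxQ, hxN, hxT⟩ := Lead.exists_mem_normalizer_not_mem hQ hlt
    have hXQ : (T : Subgroup ↥L₀).map L₀.subtype ⊔ Subgroup.zpowers x ≤ Q := sup_le hle (Subgroup.zpowers_le.mpr hxQ)
    have hXL₀ : (T : Subgroup ↥L₀).map L₀.subtype ⊔ Subgroup.zpowers x ≤ L₀ := sup_le hT'L₀ (Subgroup.zpowers_le.mpr (h1 hxN))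
    have hXp : IsPGroup p ↥(((T : Subgroup ↥L₀).map L₀.subtype ⊔ Subgroup.zpowers x).subgroupOf L₀) :=
      (hQ.to_le hXQ).comap_subtype
    have hTle : (T : Subgroup ↥L₀) ≤ ((T : Subgroup ↥L₀).map L₀.subtype ⊔ Subgroup.zpowers x).subgroupOf L₀ := by
      intro t ht
      rw [Subgroup.mem_subgroupOf]
      exact (le_sup_left : (T : Subgroup ↥L₀).map L₀.subtype ≤ _) ⟨t, ht, rfl⟩
    have heq := T.is_maximal' hXp hTle
    apply hxT
    have hx1 : (⟨x, h1 hxN⟩ : ↥L₀) ∈ ((T : Subgroup ↥L₀).map L₀.subtype ⊔ Subgroup.zpowers x).subgroupOf L₀ := by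
      rw [Subgroup.mem_subgroupOf]
      exact (le_sup_right : Subgroup.zpowers x ≤ _) (Subgroup.mem_zpowers x)
    rw [heq] at hx1
    exact ⟨⟨x, h1 hxN⟩, hx1, rfl⟩
  have h4 : Subgroup.normalizer (L₀ : Set L) = L₀ := by
    apply le_antisymm _ Subgroup.le_normalizer
    by_contra hne
    have hlt : L₀ < Subgroup.normalizer (L₀ : Set L) := lt_of_le_of_ne Subgroup.le_normalizer (fun h => hne (le_of_eq h.symm))
    have h5 := hL₀.2 _ hlt
    exact hL₀.1 (hnn _ (Subgroup.normalizer_eq_top_iff.mp h5) (hYT.trans hT'L₀))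
  have h5 : ∀ g : L, g ∉ L₀ → Y ⊔ Y.map (MulAut.conj g).toMonoidHom = ⊤ := by
    intro g hg
    by_contra hne
    have h6 := key _ le_sup_left hne
    have h7 : Helper8.cj g Y ≤ L₀ := le_sup_right.trans h6
    rw [Helper8.cj_le_comm] at h7
    have h8 : Helper8.cj g⁻¹ L₀ ≤ L₀ := by
      apply key _ h7
      intro h
      apply hL₀.1
      have h9 := congrArg (Helper8.cj g) h
      rw [Helper8.cj_cj_inv] at h9
      rw [h9, eq_top_iff]
      intro x _
      rw [Helper8.mem_cj]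
      exact Subgroup.mem_top _
    have h9 : Helper8.cj g⁻¹ L₀ = L₀ := Subgroup.eq_of_le_of_card_ge h8 (by rw [Helper8.card_cj])
    have h10 : g⁻¹ ∈ Subgroup.normalizer (L₀ : Set L) := Helper8.mem_normalizer_iff_cj.mpr h9
    rw [h4] at h10
    exact hg (by simpa using L₀.inv_mem h10)
  refine ⟨h1, ?_, ?_, h4, h5, ?_⟩
  · haveI := Helper4.pCore_normal p L
    have h2 : IsPGroup p ↥(Cfsg.pCore p L ⊔ (T : Subgroup ↥L₀).map L₀.subtype) :=
      IsPGroup.to_sup_of_normal_left (Helper4.pCore_isPGroup p L) hT'p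
    have h3 := hmax _ h2 le_sup_right
    exact (le_sup_left.trans (le_of_eq h3)).trans hT'L₀
  · exact ⟨⟨(T : Subgroup ↥L₀).map L₀.subtype, hT'p, fun {Q} hQ hle => hmax Q hQ hle⟩, rfl⟩
  · intro hc g hg
    have hcomm : ∀ a ∈ Y, ∀ b ∈ Y, a * b = b * a := by
      intro a ha b hb
      have := hc.is_comm.comm (⟨a, ha⟩ : ↥Y) ⟨b, hb⟩
      exact congrArg Subtype.val this
    apply le_antisymm
    · intro x hx
      obtain ⟨hxY, hxg⟩ := Subgroup.mem_inf.mp hx
      refine Subgroup.mem_inf.mpr ⟨hxY, ?_⟩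
      have hxg' : g⁻¹ * x * g ∈ Y := Helper8.mem_cj.mp hxg
      have hC : Y ⊔ Y.map (MulAut.conj g).toMonoidHom ≤ Subgroup.centralizer ({x} : Set L) := by
        apply sup_le
        · intro y hy
          rw [Subgroup.mem_centralizer_iff]
          intro z hz
          rw [Set.mem_singleton_iff.mp hz]
          exact hcomm x hxY y hy
        · intro z hz
          have hz' : g⁻¹ * z * g ∈ Y := Helper8.mem_cj.mp hz
          rw [Subgroup.mem_centralizer_iff]
          intro w hw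
          rw [Set.mem_singleton_iff.mp hw]
          have h6 := hcomm _ hxg' _ hz'
          have e1 : x * z = g * (g⁻¹ * x * g * (g⁻¹ * z * g)) * g⁻¹ := by group
          have e2 : z * x = g * (g⁻¹ * z * g * (g⁻¹ * x * g)) * g⁻¹ := by group
          rw [e1, e2, h6]
      rw [h5 g hg] at hC
      rw [Subgroup.mem_center_iff]
      intro w
      have := Subgroup.mem_centralizer_iff.mp (hC (Subgroup.mem_top w)) x rfl
      exact this.symm
    · intro x hx
      obtain ⟨hxY, hxZ⟩ := Subgroup.mem_inf.mp hx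
      refine Subgroup.mem_inf.mpr ⟨hxY, ?_⟩
      show x ∈ Helper8.cj g Y
      rw [Helper8.mem_cj]
      have h6 := Subgroup.mem_center_iff.mp hxZ g
      have e : g⁻¹ * x * g = x := by
        rw [mul_assoc, ← h6, ← mul_assoc, inv_mul_cancel, one_mul]
      rw [e]
      exact hxY

end Cfsg.Agent.S2835
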