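import Cfsg.Statements.S2839
import Mathlib
import Cfsg.Statements.S2839
import Cfsg.Agent.Lib.Helper4.WC
import Cfsg.Agent.Lib.Helper8.Hyp

set_option autoImplicit false
open Cfsg
open scoped commutatorElement

namespace Cfsg.Agent.S2839

open Cfsg Cfsg.Agent.Lib
open scoped commutatorElement

theorem map_cj_subgroupOf {H : Type*} [Group H] (Q K : Subgroup H) (hQK : Q ≤ K) (k : ↥K) :
    ((Q.subgroupOf K).map (MulAut.conj k).toMonoidHom).map K.subtype = Helper8.cj (k : H) Q := by
  ext x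
  constructor
  · rintro ⟨y, ⟨q, hq, rfl⟩, rfl⟩
    exact ⟨(q : H), hq, by simp⟩
  · rintro ⟨q, hq, rfl⟩
    exact ⟨MulAut.conj k ⟨q, hQK hq⟩, ⟨⟨q, hQK hq⟩, hq, rfl⟩, by simp⟩

theorem map_cj_hom {H H' : Type*} [Group H] [Group H'] (f : H →* H') (g : H) (Q : Subgroup H) :
    (Helper8.cj g Q).map f = Helper8.cj (f g) (Q.map f) := by
  show (Q.map (MulAut.conj g).toMonoidHom).map f = (Q.map f).map (MulAut.conj (f g)).toMonoidHom
  rw [Subgroup.map_map, Subgroup.map_map]
  congr 1
  ext x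
  simp [map_mul, map_inv]

/-- Let Q be a nontrivial p-subgroup of the finite group H that is a weakly closed subgroup, K a subgroup containing Q and N a normal subgroup of H. Then Q is a weakly closed subgroup of K; every H-conjugate of Q contained in K is a K-conjugate of Q; N_K(Q) contains a Sylow p-subgroup of K; N = N_N(Q)·O^p(N); and QN/N is a weakly closed subgroup of H/N. -/
theorem result {H : Type*} [Group H] [Finite H] {p : ℕ} [Fact p.Prime] (Q : Subgroup H) (hQp : IsPGroup p ↥Q) (hQ1 : Q ≠ ⊥) (hwc : Cfsg.IsWeaklyClosedSubgroup p Q) (K : Subgroup H) (hQK : Q ≤ K) (N' : Subgroup H) [N'.Normal] : Cfsg.IsWeaklyClosedSubgroup p (Q.subgroupOf K) ∧ (∀ g : H, ((Q : Subgroup H).map (MulAut.conj (g : H)).toMonoidHom) ≤ K → ∃ k ∈ K, ((Q : Subgroup H).map (MulAut.conj (g : H)).toMonoidHom) = ((Q : Subgroup H).map (MulAut.conj (k : H)).toMonoidHom)) ∧ Cfsg.IsParabolic p ((Subgroup.normalizer ((Q : Subgroup H) : Set H)).subgroupOf K) ∧ (N' ⊓ Subgroup.normalizer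 ((Q : Subgroup H) : Set H)) ⊔ (Cfsg.pResidual p ↥N').map N'.subtype = N' ∧ Cfsg.IsWeaklyClosedSubgroup p (Q.map (QuotientGroup.mk' N')) := by
  have hN'n : N'.Normal := inferInstance
  obtain ⟨T', hT'⟩ := (hQp.comap_subtype (K := K)).exists_le_sylow
  have hQS : Q ≤ (T' : Subgroup ↥K).map K.subtype := by
    intro q hq
    exact ⟨⟨q, hQK hq⟩, hT' (Subgroup.mem_subgroupOf.mpr hq), rfl⟩
  have hSp : IsPGroup p ↥((T' : Subgroup ↥K).map K.subtype) := T'.isPGroup'.map _
  refine ⟨⟨T', hT', ?_⟩, fun g hg => Helper4.wcs_conj_in hwc K hQK g hg, ⟨T', ?_⟩, ?_, ?_⟩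
  · intro k hk
    have h1 : Helper8.cj (k : H) Q ≤ (T' : Subgroup ↥K).map K.subtype := by
      rw [← map_cj_subgroupOf Q K hQK k]
      exact Subgroup.map_mono hk
    have h2 := Helper4.wcs_eq_of_le hwc _ hSp hQS (k : H) h1
    apply Subgroup.map_injective K.subtype_injective
    rw [map_cj_subgroupOf Q K hQK k, h2, Subgroup.map_subgroupOf_eq_of_le hQK]
  · intro t ht
    rw [Subgroup.mem_subgroupOf]
    have h1 : (t : H) ∈ (T' : Subgroup ↥K).map K.subtype := ⟨t, ht, rfl⟩
    exact Helper4.wcs_normalizer_le hwc _ hSp hQS (Subgroup.le_normalizer h1)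
  · apply le_antisymm (sup_le inf_le_left (Subgroup.map_subtype_le _))
    obtain ⟨T, hQT⟩ := hQp.exists_le_sylow
    have hTN : (T : Subgroup H) ≤ Subgroup.normalizer (Q : Set H) :=
      Subgroup.le_normalizer.trans (Helper4.wcs_normalizer_le hwc T T.isPGroup' hQT)
    have hsyl : Helper8.SylIn p ((T : Subgroup H) ⊓ N') N' :=
      (Helper8.sylIn_top T).inf_of_normal le_top (by rw [Subgroup.normalizer_eq_top_iff.mpr hN'n])
    obtain ⟨R, hR⟩ := (Helper8.sylIn_iff inf_le_right).mp hsyl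
    intro n hn
    obtain ⟨t, ht, m, hm, e⟩ := Helper8.sylow_mul_pResidual R (⟨n, hn⟩ : ↥N')
    have e' : n = (t : H) * (m : H) := by
      have := congrArg Subtype.val e
      simpa using this
    rw [e']
    have ht' : (t : H) ∈ (T : Subgroup H) ⊓ N' := by
      have : t ∈ ((T : Subgroup H) ⊓ N').subgroupOf N' := hR ▸ ht
      exact Subgroup.mem_subgroupOf.mp this
    exact Subgroup.mul_mem _
      ((le_sup_left : N' ⊓ Subgroup.normalizer (Q : Set H) ≤ _) (Subgroup.mem_inf.mpr ⟨t.2, hTN (Subgroup.mem_inf.mp ht').1⟩))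
      ((le_sup_right : (Cfsg.pResidual p ↥N').map N'.subtype ≤ _) ⟨m, hm, rfl⟩)
  · obtain ⟨T, hQT, hT⟩ := hwc
    have hsurj : Function.Surjective (QuotientGroup.mk' N') := QuotientGroup.mk'_surjective N'
    refine ⟨T.mapSurjective hsurj, ?_, ?_⟩
    · rw [Sylow.coe_mapSurjective]
      exact Subgroup.map_mono hQT
    · intro gb hgb
      obtain ⟨g, rfl⟩ := hsurj gb
      rw [Sylow.coe_mapSurjective] at hgb
      have hgb' : (Helper8.cj g Q).map (QuotientGroup.mk' N') ≤ (T : Subgroup H).map (QuotientGroup.mk' N') := by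
        rw [map_cj_hom]; exact hgb
      have h1 : Helper8.cj g Q ≤ (T : Subgroup H) ⊔ N' := by
        intro x hx
        obtain ⟨t, ht, hte⟩ := hgb' ⟨x, hx, rfl⟩
        have h2 : t⁻¹ * x ∈ N' := QuotientGroup.eq.mp hte
        have e : x = t * (t⁻¹ * x) := by group
        rw [e]
        exact Subgroup.mul_mem _ ((le_sup_left : (T : Subgroup H) ≤ _) ht) ((le_sup_right : N' ≤ _) h2)
      have hsyl : Helper8.SylIn p (T : Subgroup H) ((T : Subgroup H) ⊔ N') :=
        (Helper8.sylIn_top T).mono le_sup_left le_top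
      obtain ⟨n, hn, hle⟩ := hsyl.exists_conj_le_of_sup (by rw [Subgroup.normalizer_eq_top_iff.mpr hN'n]; exact le_top)
        (Helper8.isPGroup_cj (T.isPGroup'.to_le hQT) g) h1
      rw [Helper8.cj_cj] at hle
      have h3 : Helper8.cj (n * g) Q = Q := hT (n * g) hle
      have h4 := map_cj_hom (QuotientGroup.mk' N') (n * g) Q
      rw [h3] at h4
      have h5 : (QuotientGroup.mk' N') (n * g) = (QuotientGroup.mk' N') g := by
        have h6 : (QuotientGroup.mk' N') n = 1 := (QuotientGroup.eq_one_iff n).mpr hn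
        rw [map_mul, h6, one_mul]
      rw [h5] at h4
      exact h4.symm

end Cfsg.Agent.S2839
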