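import Cfsg.Statements.S2840
import Mathlib
import Cfsg.Statements.S2840
import Cfsg.Agent.Lib.Helper4.WC

set_option autoImplicit false
open Cfsg
open scoped commutatorElement

namespace Cfsg.Agent.S2840

open Cfsg Cfsg.Agent.Lib
open scoped commutatorElement

theorem sub_ind {H : Type*} [Group H] [Finite H] {p : ℕ} [Fact p.Prime] (Q : Subgroup H) (hwc : Cfsg.IsWeaklyClosedSubgroup p Q) (K : Subgroup H) (hQK : Q ≤ K) (X : Subgroup ↥K) (hX : X.IsSubnormal) :
    Q.subgroupOf K ≤ X → ∀ k : ↥K, Helper8.cj (k : H) Q ≤ X.map K.subtype := by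
  induction hX with
  | top =>
    intro _ k
    rw [← MonoidHom.range_eq_map, Subgroup.range_subtype, Helper8.cj_le_iff]
    intro q hq
    exact K.mul_mem (K.mul_mem k.2 (hQK hq)) (K.inv_mem k.2)
  | step X X₁ hle hsub hN ih =>
    intro hQX k
    have h1 := ih (hQX.trans hle) k
    have hQY : Q ≤ X₁.map K.subtype := by
      intro q hq
      exact ⟨⟨q, hQK hq⟩, hle (hQX (Subgroup.mem_subgroupOf.mpr hq)), rfl⟩
    obtain ⟨y, ⟨y', hy', rfl⟩, hy⟩ := Helper4.wcs_conj_in hwc _ hQY (k : H) h1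
    rw [hy, Helper8.cj_le_iff]
    intro q hq
    have hq' : (⟨q, hQK hq⟩ : ↥K) ∈ X := hQX (Subgroup.mem_subgroupOf.mpr hq)
    have h2 := hN.conj_mem ⟨⟨q, hQK hq⟩, hle hq'⟩ (Subgroup.mem_subgroupOf.mpr hq') ⟨y', hy'⟩
    rw [Subgroup.mem_subgroupOf] at h2
    exact ⟨_, h2, by simp⟩

/-- Let Q be a nontrivial p-subgroup of the finite group H that is a weakly closed subgroup and K a subgroup containing Q; let K° be the weak closure of Q in K (generated by the H-conjugates of Q inside K). Then K° is generated by the K-conjugates of Q, and K° is the subnormal closure of Q in K. -/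
theorem result {H : Type*} [Group H] [Finite H] {p : ℕ} [Fact p.Prime] (Q : Subgroup H) (hQp : IsPGroup p ↥Q) (hQ1 : Q ≠ ⊥) (hwc : Cfsg.IsWeaklyClosedSubgroup p Q) (K : Subgroup H) (hQK : Q ≤ K) (Kc : Subgroup H) (hKc : Kc = Cfsg.weakClosure Q K) : Kc = ⨆ k : ↥K, ((Q : Subgroup H).map (MulAut.conj ((k : H) : H)).toMonoidHom) ∧ Kc = (Cfsg.subnormalClosure (Q.subgroupOf K)).map K.subtype := by
  have hcjK : ∀ k : ↥K, Helper8.cj (k : H) Q ≤ K := by
    intro k
    rw [Helper8.cj_le_iff]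
    intro q hq
    exact K.mul_mem (K.mul_mem k.2 (hQK hq)) (K.inv_mem k.2)
  have h1 : Kc = ⨆ k : ↥K, Helper8.cj (k : H) Q := by
    rw [hKc]
    unfold Cfsg.weakClosure
    apply le_antisymm
    · apply iSup_le
      rintro ⟨g, hg⟩
      obtain ⟨k, hk, e⟩ := Helper4.wcs_conj_in hwc K hQK g hg
      show Helper8.cj g Q ≤ _
      rw [e]
      exact le_iSup (fun k : ↥K => Helper8.cj (k : H) Q) ⟨k, hk⟩
    · apply iSup_le
      intro k
      exact le_iSup (fun g : {g : H // Q.map (MulAut.conj g).toMonoidHom ≤ K} => Q.map (MulAut.conj (g : H)).toMonoidHom) ⟨(k : H), hcjK k⟩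
  refine ⟨h1, ?_⟩
  have hDK : Kc ≤ K := by
    rw [h1]
    exact iSup_le hcjK
  have hQD : Q ≤ Kc := by
    rw [h1]
    have h5 := le_iSup (fun k : ↥K => Helper8.cj (k : H) Q) (1 : ↥K)
    have h6 : Helper8.cj (((1 : ↥K) : H)) Q = Q := by
      rw [Subgroup.coe_one]; exact Helper8.cj_one Q
    exact (le_of_eq h6.symm).trans h5
  have hDn : (Kc.subgroupOf K).Normal := by
    constructor
    intro x hx k
    rw [Subgroup.mem_subgroupOf] at hx ⊢
    have h2 : Helper8.cj (k : H) Kc ≤ Kc := by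
      rw [h1]
      show Subgroup.map (MulAut.conj (k : H)).toMonoidHom (⨆ k : ↥K, Helper8.cj (k : H) Q) ≤ _
      rw [Subgroup.map_iSup]
      apply iSup_le
      intro k'
      have e : Subgroup.map (MulAut.conj (k : H)).toMonoidHom (Helper8.cj (k' : H) Q) = Helper8.cj ((k * k' : ↥K) : H) Q := by
        rw [Subgroup.coe_mul, ← Helper8.cj_cj]
      rw [e]
      exact le_iSup (fun k : ↥K => Helper8.cj (k : H) Q) (k * k')
    have h3 := h2 (Helper8.cj_mem (g := (k : H)) hx)
    simpa using h3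
  apply le_antisymm
  · have h2 : Kc.subgroupOf K ≤ Cfsg.subnormalClosure (Q.subgroupOf K) := by
      unfold Cfsg.subnormalClosure
      apply le_sInf
      rintro X ⟨hQX, hXs⟩
      intro x hx
      rw [Subgroup.mem_subgroupOf, h1] at hx
      have h3 : (⨆ k : ↥K, Helper8.cj (k : H) Q) ≤ X.map K.subtype :=
        iSup_le (sub_ind Q hwc K hQK X hXs hQX)
      obtain ⟨x', hx', e⟩ := h3 hx
      have : x' = x := Subtype.ext e
      rw [← this]
      exact hx'
    intro x hx
    exact ⟨⟨x, hDK hx⟩, h2 (Subgroup.mem_subgroupOf.mpr hx), rfl⟩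
  · have h2 : Cfsg.subnormalClosure (Q.subgroupOf K) ≤ Kc.subgroupOf K := by
      unfold Cfsg.subnormalClosure
      apply sInf_le
      refine ⟨?_, hDn.isSubnormal⟩
      intro x hx
      rw [Subgroup.mem_subgroupOf] at hx ⊢
      exact hQD hx
    rintro _ ⟨x, hx, rfl⟩
    exact Subgroup.mem_subgroupOf.mp (h2 hx)

end Cfsg.Agent.S2840
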