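import Cfsg.Statements.S2841
import Mathlib
import Cfsg.Statements.S2841
import Cfsg.Agent.Lib.Helper4.WC
import Cfsg.Agent.Lib.Lead.Coprime
import Cfsg.Agent.Lib.Lead.PQ

set_option autoImplicit false
open Cfsg
open scoped commutatorElement

namespace Cfsg.Agent.S2841

open Cfsg Cfsg.Agent.Lib
open scoped commutatorElement

/-- Let Q be a nontrivial p-subgroup of the finite group H that is a weakly closed subgroup and N a normal subgroup of H. Then N = N_N(Q)·[N, Q] and [N, Q] = (Q ∩ [N, Q])·[N, Q, Q]. -/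
theorem result {H : Type*} [Group H] [Finite H] {p : ℕ} [Fact p.Prime] (Q : Subgroup H) (hQp : IsPGroup p ↥Q) (hQ1 : Q ≠ ⊥) (hwc : Cfsg.IsWeaklyClosedSubgroup p Q) (N' : Subgroup H) [N'.Normal] : (∀ n : H, n ∈ N' → ∃ a ∈ N' ⊓ Subgroup.normalizer ((Q : Subgroup H) : Set H), ∃ b ∈ ⁅N', Q⁆, n = a * b) ∧ (∀ c : H, c ∈ ⁅N', Q⁆ → ∃ a ∈ Q ⊓ ⁅N', Q⁆, ∃ b ∈ ⁅⁅N', Q⁆, Q⁆, c = a * b) := by
  have hN'n : N'.Normal := inferInstance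
  have hNtop : Subgroup.normalizer (N' : Set H) = ⊤ := Subgroup.normalizer_eq_top_iff.mpr hN'n
  have hXN : ⁅N', Q⁆ ≤ N' := Lead.commutator_le_of_le_normalizer N' Q (by rw [hNtop]; exact le_top)
  have hQX : Q ≤ Subgroup.normalizer ((⁅N', Q⁆ : Subgroup H) : Set H) := Lead.le_normalizer_commutator_right N' Q
  have hNX : N' ≤ Subgroup.normalizer ((⁅N', Q⁆ : Subgroup H) : Set H) := Lead.le_normalizer_commutator N' Q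
  have partA : ∀ n : H, n ∈ N' → ∃ x ∈ ⁅N', Q⁆, ∃ a ∈ N' ⊓ Subgroup.normalizer ((Q : Subgroup H) : Set H), n = x * a := by
    intro n hn
    have h1 : Helper8.cj n Q ≤ ⁅N', Q⁆ ⊔ Q := by
      rw [Helper8.cj_le_iff]
      intro q hq
      have e : n * q * n⁻¹ = ⁅n, q⁆ * q := by rw [commutatorElement_def]; group
      rw [e]
      exact Subgroup.mul_mem _ ((le_sup_left : ⁅N', Q⁆ ≤ ⁅N', Q⁆ ⊔ Q) (Subgroup.commutator_mem_commutator hn hq))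
        ((le_sup_right : Q ≤ ⁅N', Q⁆ ⊔ Q) hq)
    obtain ⟨k, hk, hkQ⟩ := Helper4.wcs_conj_in hwc (⁅N', Q⁆ ⊔ Q) le_sup_right n h1
    obtain ⟨x, hx, q, hq, rfl⟩ := Lead.mem_sup_of_le_normalizer hQX hk
    have h2 : Helper8.cj (x * q) Q = Helper8.cj x Q := by
      rw [← Helper8.cj_cj, Helper8.cj_eq_self_of_mem hq]
    rw [h2] at hkQ
    have h3 : Helper8.cj (x⁻¹ * n) Q = Q := by
      rw [← Helper8.cj_cj, hkQ, Helper8.cj_inv_cj]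
    refine ⟨x, hx, x⁻¹ * n, Subgroup.mem_inf.mpr ⟨N'.mul_mem (N'.inv_mem (hXN hx)) hn, Helper8.mem_normalizer_iff_cj.mpr h3⟩, by group⟩
  have part1 : ∀ n : H, n ∈ N' → ∃ a ∈ N' ⊓ Subgroup.normalizer ((Q : Subgroup H) : Set H), ∃ b ∈ ⁅N', Q⁆, n = a * b := by
    intro n hn
    obtain ⟨x, hx, a, ha, e⟩ := partA n⁻¹ (N'.inv_mem hn)
    refine ⟨a⁻¹, Subgroup.inv_mem _ ha, x⁻¹, Subgroup.inv_mem _ hx, ?_⟩
    rw [← mul_inv_rev, ← e, inv_inv]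
  refine ⟨part1, ?_⟩
  have hXY : ⁅N', Q⁆ ≤ Subgroup.normalizer ((⁅⁅N', Q⁆, Q⁆ : Subgroup H) : Set H) := Lead.le_normalizer_commutator _ Q
  have hQY : Q ≤ Subgroup.normalizer ((⁅⁅N', Q⁆, Q⁆ : Subgroup H) : Set H) := Lead.le_normalizer_commutator_right _ Q
  have hZY : Q ⊓ ⁅N', Q⁆ ≤ Subgroup.normalizer ((⁅⁅N', Q⁆, Q⁆ : Subgroup H) : Set H) := inf_le_left.trans hQY
  have hle : ⁅N', Q⁆ ≤ ⁅⁅N', Q⁆, Q⁆ ⊔ (Q ⊓ ⁅N', Q⁆) := by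
    rw [Subgroup.commutator_le]
    intro n hn q hq
    obtain ⟨a, ha, b, hb, rfl⟩ := part1 n hn
    obtain ⟨haN, haQ⟩ := Subgroup.mem_inf.mp ha
    have e : ⁅a * b, q⁆ = a * ⁅b, q⁆ * a⁻¹ * ⁅a, q⁆ := by
      simp only [commutatorElement_def]; group
    rw [e]
    have haY : a ∈ Subgroup.normalizer ((⁅⁅N', Q⁆, Q⁆ : Subgroup H) : Set H) :=
      Lead.mem_normalizer_commutator (hNX haN) haQ
    have h1 : a * ⁅b, q⁆ * a⁻¹ ∈ ⁅⁅N', Q⁆, Q⁆ :=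
      (Subgroup.mem_normalizer_iff.mp haY _).mp (Subgroup.commutator_mem_commutator hb hq)
    have h2 : ⁅a, q⁆ ∈ Q ⊓ ⁅N', Q⁆ := by
      refine Subgroup.mem_inf.mpr ⟨?_, Subgroup.commutator_mem_commutator haN hq⟩
      have e2 : ⁅a, q⁆ = (a * q * a⁻¹) * q⁻¹ := by rw [commutatorElement_def]
      rw [e2]
      exact Q.mul_mem ((Subgroup.mem_normalizer_iff.mp haQ q).mp hq) (Q.inv_mem hq)
    exact Subgroup.mul_mem _ ((le_sup_left : ⁅⁅N', Q⁆, Q⁆ ≤ ⁅⁅N', Q⁆, Q⁆ ⊔ (Q ⊓ ⁅N', Q⁆)) h1)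
      ((le_sup_right : Q ⊓ ⁅N', Q⁆ ≤ ⁅⁅N', Q⁆, Q⁆ ⊔ (Q ⊓ ⁅N', Q⁆)) h2)
  intro c hc
  obtain ⟨y, hy, z, hz, e⟩ := Lead.mem_sup_of_le_normalizer hZY (hle (Subgroup.inv_mem _ hc))
  refine ⟨z⁻¹, Subgroup.inv_mem _ hz, y⁻¹, Subgroup.inv_mem _ hy, ?_⟩
  rw [← mul_inv_rev, ← e, inv_inv]

end Cfsg.Agent.S2841
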