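import Cfsg.Statements.S2842
import Mathlib
import Cfsg.Statements.S2842
import Cfsg.Agent.Lib.Helper4.WCEngine

set_option autoImplicit false
open Cfsg
open scoped commutatorElement

namespace Cfsg.Agent.S2842

open Cfsg Cfsg.Agent.Lib
open scoped commutatorElement

/-- Let Q be a nontrivial p-subgroup of the finite group H that is a weakly closed subgroup with C_H(Q) ≤ Q, and Q ≤ L ≤ H. Suppose H has characteristic p, or more generally that C_H(y) has characteristic p for some nonidentity y ∈ C_{O_p(L)}(Q). Then [Q, C_H(O_p(L))] ≤ Q ∩ O_p(L), C_H(O_p(L)) is a p-group, and L has characteristic p. -/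
theorem result {H : Type*} [Group H] [Finite H] {p : ℕ} [Fact p.Prime] (Q : Subgroup H) (hQp : IsPGroup p ↥Q) (hQ1 : Q ≠ ⊥) (hwc : Cfsg.IsWeaklyClosedSubgroup p Q) (hCQ : Subgroup.centralizer ((Q : Subgroup H) : Set H) ≤ Q) (L : Subgroup H) (hQL : Q ≤ L) (hyp : Subgroup.centralizer (Cfsg.pCore p H : Set H) ≤ Cfsg.pCore p H ∨ ∃ y : H, y ≠ 1 ∧ y ∈ (Cfsg.pCoreOf p L) ⊓ Subgroup.centralizer ((Q : Subgroup H) : Set H) ∧ Subgroup.centralizer (Cfsg.pCore p ↥(Subgroup.centralizer ({y} : Set H)) : Set ↥(Subgroup.centralizer ({y} : Set H))) ≤ Cfsg.pCore p ↥(Subgroup.centralizer ({y} : Set H))) : ⁅Q, Subgroup.centralizer (((Cfsg.pCoreOf p L) : Subgroup H) : Set H)⁆ ≤ Q ⊓ (Cfsg.pCoreOf p L) ∧ IsPGroup p ↥(Subgroup.centralizer (((Cfsg.pCoreOf p L) : Subgroup H) : Set H)) ∧ Subgroup.centralizer (Cfsg.pCore p ↥L : Set ↥L) ≤ Cfsg.pCore p ↥L := by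
  rcases hyp with h | ⟨y, -, hy, hM⟩
  · haveI := Helper4.pCore_normal p H
    apply Helper4.wc_charp_general Q hwc hCQ L hQL ⊤ (Cfsg.pCore p H) _ (Helper4.pCore_isPGroup p H)
      (inf_le_right.trans h) le_top le_top
    rw [Subgroup.normalizer_eq_top_iff.mpr inferInstance]
  · have hy' := Subgroup.mem_inf.mp hy
    apply Helper4.wc_charp_general Q hwc hCQ L hQL (Subgroup.centralizer ({y} : Set H))
      (Cfsg.pCoreOf p (Subgroup.centralizer ({y} : Set H)))
      (Subgroup.le_normalizer.trans (Helper4.normalizer_le_normalizer_pCoreOf p _))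
      (Helper4.pCoreOf_isPGroup p _)
    · intro x hx
      have hx' := Subgroup.mem_inf.mp hx
      have h1 : (⟨x, hx'.1⟩ : ↥(Subgroup.centralizer ({y} : Set H))) ∈
          Subgroup.centralizer (Cfsg.pCore p ↥(Subgroup.centralizer ({y} : Set H)) : Set ↥(Subgroup.centralizer ({y} : Set H))) := by
        rw [Subgroup.mem_centralizer_iff]
        intro z hz
        apply Subtype.ext
        have hz' : (z : H) ∈ Cfsg.pCoreOf p (Subgroup.centralizer ({y} : Set H)) := ⟨z, hz, rfl⟩
        exact Subgroup.mem_centralizer_iff.mp hx'.2 _ hz'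
      exact ⟨⟨x, hx'.1⟩, hM h1, rfl⟩
    · intro q hq
      rw [Subgroup.mem_centralizer_iff]
      intro z hz
      rw [Set.mem_singleton_iff.mp hz]
      exact (Subgroup.mem_centralizer_iff.mp hy'.2 q hq).symm
    · exact Subgroup.centralizer_le (Set.singleton_subset_iff.mpr hy'.1)

end Cfsg.Agent.S2842
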