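import Cfsg.Statements.S2843
import Mathlib
import Cfsg.Statements.S2843
import Cfsg.Agent.Lib.Helper4.Large
import Cfsg.Agent.Lib.Lead.Coprime

set_option autoImplicit false
open Cfsg
open scoped commutatorElement

namespace Cfsg.Agent.S2843

open Cfsg Cfsg.Agent.Lib
open scoped commutatorElement

/-- Let Q be a nontrivial large p-subgroup of the finite group H, Q ≤ L ≤ H, and Y a nontrivial p-subgroup of H normalized by L. Let L° be the weak closure of Q in L (generated by the conjugates of Q inside L). Then L° equals the weak closure of Q in L·C_H(Y), and [L°, C_H(Y)] ≤ O_p(L°); in particular C_H(Y) normalizes L°. -/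
theorem result {H : Type*} [Group H] [Finite H] {p : ℕ} [Fact p.Prime] (Q : Subgroup H) (hQp : IsPGroup p ↥Q) (hQ1 : Q ≠ ⊥) (hL : Cfsg.IsLarge Q) (L : Subgroup H) (hQL : Q ≤ L) (Y : Subgroup H) (hYp : IsPGroup p ↥Y) (hY1 : Y ≠ ⊥) (hLY : L ≤ Subgroup.normalizer ((Y : Subgroup H) : Set H)) : Cfsg.weakClosure Q L = Cfsg.weakClosure Q (L ⊔ Subgroup.centralizer ((Y : Subgroup H) : Set H)) ∧ ⁅Cfsg.weakClosure Q L, Subgroup.centralizer ((Y : Subgroup H) : Set H)⁆ ≤ (Cfsg.pCoreOf p (Cfsg.weakClosure Q L)) ∧ Subgroup.centralizer ((Y : Subgroup H) : Set H) ≤ Subgroup.normalizer (((Cfsg.weakClosure Q L) : Subgroup H) : Set H) := by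
  have hwc := Helper4.large_wcs' Q hQp hQ1 hL
  have step1 : ∀ g : H, Helper8.cj g Q ≤ L → Subgroup.centralizer (Y : Set H) ≤ Subgroup.normalizer ((Helper8.cj g Q : Subgroup H) : Set H) := by
    intro g hg
    exact Helper4.large_centralizer_le_normalizer _ (Helper8.isPGroup_cj hQp g) (Helper4.large_cj hL g) Y hYp hY1 (hg.trans hLY)
  have hLE : L ≤ Subgroup.normalizer ((Subgroup.centralizer (Y : Set H) : Subgroup H) : Set H) :=
    hLY.trans (Helper4.normalizer_le_normalizer_centralizer' Y)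
  have hLoL : Cfsg.weakClosure Q L ≤ L := by
    unfold Cfsg.weakClosure
    apply iSup_le
    rintro ⟨g, hg⟩
    exact hg
  have step2 : Subgroup.centralizer (Y : Set H) ≤ Subgroup.normalizer (((Cfsg.weakClosure Q L) : Subgroup H) : Set H) := by
    intro e he
    unfold Cfsg.weakClosure
    apply Helper4.mem_normalizer_iSup
    rintro ⟨g, hg⟩
    exact step1 g hg he
  have step3 : Cfsg.weakClosure Q L = Cfsg.weakClosure Q (L ⊔ Subgroup.centralizer ((Y : Subgroup H) : Set H)) := by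
    unfold Cfsg.weakClosure
    apply le_antisymm
    · apply iSup_le
      rintro ⟨g, hg⟩
      exact le_iSup (fun g : {g : H // Q.map (MulAut.conj g).toMonoidHom ≤ L ⊔ Subgroup.centralizer ((Y : Subgroup H) : Set H)} => Q.map (MulAut.conj (g : H)).toMonoidHom) ⟨g, hg.trans le_sup_left⟩
    · apply iSup_le
      rintro ⟨g, hg⟩
      obtain ⟨k, hk, e⟩ := Helper4.wcs_conj_in hwc _ (hQL.trans le_sup_left) g hg
      rw [sup_comm] at hk
      obtain ⟨c, hc, l, hl, rfl⟩ := Lead.mem_sup_of_le_normalizer hLE hk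
      have hlQ : Helper8.cj l Q ≤ L := by
        rw [Helper8.cj_le_iff]
        intro q hq
        exact L.mul_mem (L.mul_mem hl (hQL hq)) (L.inv_mem hl)
      have h2 : Helper8.cj (c * l) Q = Helper8.cj l Q := by
        rw [← Helper8.cj_cj]
        exact Helper8.mem_normalizer_iff_cj.mp (step1 l hlQ hc)
      show Helper8.cj g Q ≤ _
      rw [e, h2]
      exact le_iSup (fun g : {g : H // Q.map (MulAut.conj g).toMonoidHom ≤ L} => Q.map (MulAut.conj (g : H)).toMonoidHom) ⟨l, hlQ⟩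
  refine ⟨step3, ?_, step2⟩
  have hEn : Cfsg.weakClosure Q L ≤ Subgroup.normalizer ((Subgroup.centralizer (Y : Set H) : Subgroup H) : Set H) := hLoL.trans hLE
  have hOn : Subgroup.centralizer (Y : Set H) ⊓ Cfsg.weakClosure Q L ≤ Subgroup.normalizer ((Subgroup.centralizer (Y : Set H) ⊓ Cfsg.weakClosure Q L : Subgroup H) : Set H) := Subgroup.le_normalizer
  have hLoN : Cfsg.weakClosure Q L ≤ Subgroup.normalizer ((Subgroup.centralizer (Y : Set H) ⊓ Cfsg.weakClosure Q L : Subgroup H) : Set H) := by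
    intro x hx
    rw [Helper8.mem_normalizer_iff_cj, Helper8.cj_inf, Helper8.mem_normalizer_iff_cj.mp (hEn hx), Helper8.cj_eq_self_of_mem hx]
  have hO1 : Cfsg.weakClosure Q L ≤ Subgroup.normalizer ((Cfsg.pCoreOf p (Subgroup.centralizer (Y : Set H) ⊓ Cfsg.weakClosure Q L) : Subgroup H) : Set H) :=
    hLoN.trans (Helper4.normalizer_le_normalizer_pCoreOf p _)
  have hO2 : Cfsg.pCoreOf p (Subgroup.centralizer (Y : Set H) ⊓ Cfsg.weakClosure Q L) ≤ Cfsg.pCoreOf p (Cfsg.weakClosure Q L) :=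
    Helper4.le_pCoreOf ((Subgroup.map_subtype_le _).trans inf_le_right) hO1 (Helper4.pCoreOf_isPGroup p _)
  refine le_trans ?_ hO2
  let S : Subgroup H :=
    { carrier := {x | x ∈ Subgroup.normalizer ((Cfsg.pCoreOf p (Subgroup.centralizer (Y : Set H) ⊓ Cfsg.weakClosure Q L) : Subgroup H) : Set H) ∧ ∀ e ∈ Subgroup.centralizer (Y : Set H), ⁅x, e⁆ ∈ Cfsg.pCoreOf p (Subgroup.centralizer (Y : Set H) ⊓ Cfsg.weakClosure Q L)}
      one_mem' := ⟨Subgroup.one_mem _, fun e _ => by simp⟩
      mul_mem' := by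
        rintro a b ⟨ha1, ha2⟩ ⟨hb1, hb2⟩
        refine ⟨Subgroup.mul_mem _ ha1 hb1, fun e he => ?_⟩
        have e1 : ⁅a * b, e⁆ = a * ⁅b, e⁆ * a⁻¹ * ⁅a, e⁆ := by
          simp only [commutatorElement_def]; group
        rw [e1]
        exact Subgroup.mul_mem _ ((Subgroup.mem_normalizer_iff.mp ha1 _).mp (hb2 e he)) (ha2 e he)
      inv_mem' := by
        rintro a ⟨ha1, ha2⟩
        refine ⟨Subgroup.inv_mem _ ha1, fun e he => ?_⟩
        have e1 : ⁅a⁻¹, e⁆ = a⁻¹ * ⁅a, e⁆⁻¹ * a⁻¹⁻¹ := by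
          simp only [commutatorElement_def]; group
        rw [e1]
        exact (Subgroup.mem_normalizer_iff.mp (Subgroup.inv_mem _ ha1) _).mp (Subgroup.inv_mem _ (ha2 e he)) }
  have hLoS : Cfsg.weakClosure Q L ≤ S := by
    have hLoL' := hLoL
    have hO1' := hO1
    have hsub : ∀ g : H, Helper8.cj g Q ≤ L → Helper8.cj g Q ≤ Cfsg.weakClosure Q L := by
      intro g hg
      unfold Cfsg.weakClosure
      exact le_iSup (fun g : {g : H // Q.map (MulAut.conj g).toMonoidHom ≤ L} => Q.map (MulAut.conj (g : H)).toMonoidHom) ⟨g, hg⟩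
    have key : ∀ g : H, Helper8.cj g Q ≤ L → Helper8.cj g Q ≤ S := by
      intro g hg q hq
      refine ⟨hO1 (hsub g hg hq), fun e he => ?_⟩
      have hF : Helper8.cj g Q ⊓ Subgroup.centralizer (Y : Set H) ≤ Cfsg.pCoreOf p (Subgroup.centralizer (Y : Set H) ⊓ Cfsg.weakClosure Q L) := by
        apply Helper4.le_pCoreOf
        · exact le_inf inf_le_right (inf_le_left.trans (hsub g hg))
        · intro x hx
          rw [Helper8.mem_normalizer_iff_cj, Helper8.cj_inf,
            Helper8.mem_normalizer_iff_cj.mp (step1 g hg (Subgroup.mem_inf.mp hx).1),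
            Helper8.cj_eq_self_of_mem (Subgroup.mem_inf.mp hx).1]
        · exact (Helper8.isPGroup_cj hQp g).to_le inf_le_left
      apply hF
      refine Subgroup.mem_inf.mpr ⟨?_, ?_⟩
      · have h1 : e * q⁻¹ * e⁻¹ ∈ Helper8.cj g Q :=
          (Subgroup.mem_normalizer_iff.mp (step1 g hg he) _).mp (Subgroup.inv_mem _ hq)
        have e1 : ⁅q, e⁆ = q * (e * q⁻¹ * e⁻¹) := by rw [commutatorElement_def]; group
        rw [e1]
        exact Subgroup.mul_mem _ hq h1
      · have h1 : q * e * q⁻¹ ∈ Subgroup.centralizer (Y : Set H) :=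
          (Subgroup.mem_normalizer_iff.mp (hLE (hg hq)) _).mp he
        have e1 : ⁅q, e⁆ = (q * e * q⁻¹) * e⁻¹ := by rw [commutatorElement_def]
        rw [e1]
        exact Subgroup.mul_mem _ h1 (Subgroup.inv_mem _ he)
    unfold Cfsg.weakClosure
    apply iSup_le
    rintro ⟨g, hg⟩
    exact key g hg
  rw [Subgroup.commutator_le]
  intro x hx e he
  exact (hLoS hx).2 e he

end Cfsg.Agent.S2843
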