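import Cfsg.Statements.S2844
import Mathlib
import Cfsg.Statements.S2844
import Cfsg.Agent.Lib.Helper4.WC
import Cfsg.Agent.Lib.Helper4.Basic
import Cfsg.Agent.Lib.Helper4.StrEmb

set_option autoImplicit false
open Cfsg
open scoped commutatorElement

namespace Cfsg.Agent.S2844

open Cfsg Cfsg.Agent.Lib
open scoped commutatorElement

theorem cj_ne_bot {H : Type*} [Group H] (g : H) (U : Subgroup H) (hU : U ≠ ⊥) : Helper8.cj g U ≠ ⊥ := by
  intro h
  apply hU
  have h1 : Helper8.cj g⁻¹ (Helper8.cj g U) = U := Helper8.cj_inv_cj g U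
  rw [h] at h1
  rw [← h1]
  exact Subgroup.map_bot _

theorem large_wcs {H : Type*} [Group H] [Finite H] {p : ℕ} [Fact p.Prime] (Q : Subgroup H) (hQp : IsPGroup p ↥Q) (hQ1 : Q ≠ ⊥) (hL : Cfsg.IsLarge Q) : Cfsg.IsWeaklyClosedSubgroup p Q := by
  obtain ⟨T, hQT⟩ := hQp.exists_le_sylow
  have hT1 : (T : Subgroup H) ≠ ⊥ := by
    intro h
    apply hQ1
    rw [eq_bot_iff, ← h]
    exact hQT
  obtain ⟨x, hxT, hxo, hxc⟩ := Helper4.exists_central_order_p T.isPGroup' (le_refl (T : Subgroup H)) Subgroup.le_normalizer hT1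
  have hZ1 : (T : Subgroup H) ⊓ Subgroup.centralizer ((T : Subgroup H) : Set H) ≠ ⊥ := by
    intro h
    have hx : x ∈ (T : Subgroup H) ⊓ Subgroup.centralizer ((T : Subgroup H) : Set H) :=
      Subgroup.mem_inf.mpr ⟨hxT, Subgroup.mem_centralizer_iff.mpr hxc⟩
    rw [h, Subgroup.mem_bot] at hx
    rw [hx, orderOf_one] at hxo
    exact (Fact.out : p.Prime).one_lt.ne hxo
  have hZC : (T : Subgroup H) ⊓ Subgroup.centralizer ((T : Subgroup H) : Set H) ≤ Subgroup.centralizer (Q : Set H) :=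
    inf_le_right.trans (Subgroup.centralizer_le hQT)
  have hNTZ : Subgroup.normalizer ((T : Subgroup H) : Set H) ≤ Subgroup.normalizer (((T : Subgroup H) ⊓ Subgroup.centralizer ((T : Subgroup H) : Set H) : Subgroup H) : Set H) := by
    intro g hg
    rw [Helper8.mem_normalizer_iff_cj] at hg ⊢
    rw [Helper8.cj_inf, Helper8.cj_centralizer, hg]
  have hNT : Subgroup.normalizer ((T : Subgroup H) : Set H) ≤ Subgroup.normalizer (Q : Set H) :=
    hNTZ.trans (hL.2 _ hZC hZ1)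
  refine ⟨T, hQT, ?_⟩
  intro g hg
  have hg' : Helper8.cj g Q ≤ (T : Subgroup H) := hg
  have h1 : (T : Subgroup H) ⊓ Subgroup.centralizer ((T : Subgroup H) : Set H) ≤ Subgroup.centralizer ((Helper8.cj g Q : Subgroup H) : Set H) :=
    inf_le_right.trans (Subgroup.centralizer_le hg')
  have h2 : Helper8.cj g⁻¹ ((T : Subgroup H) ⊓ Subgroup.centralizer ((T : Subgroup H) : Set H)) ≤ Subgroup.centralizer (Q : Set H) := by
    have h3 := Helper8.cj_mono (g := g⁻¹) h1
    rw [Helper8.cj_centralizer, Helper8.cj_inv_cj] at h3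
    exact h3
  have h4 := hL.2 _ h2 (cj_ne_bot g⁻¹ _ hZ1)
  have hRN : Helper8.cj g⁻¹ (T : Subgroup H) ≤ Subgroup.normalizer (Q : Set H) := by
    have h5 : Helper8.cj g⁻¹ (T : Subgroup H) ≤ Helper8.cj g⁻¹ (Subgroup.normalizer (((T : Subgroup H) ⊓ Subgroup.centralizer ((T : Subgroup H) : Set H) : Subgroup H) : Set H)) :=
      Helper8.cj_mono (Subgroup.le_normalizer.trans hNTZ)
    rw [Helper8.cj_normalizer] at h5
    exact h5.trans h4
  have hTN : (T : Subgroup H) ≤ Subgroup.normalizer (Q : Set H) := Subgroup.le_normalizer.trans hNT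
  have hRp : IsPGroup p ↥(Helper8.cj g⁻¹ (T : Subgroup H)) := Helper8.isPGroup_cj T.isPGroup' _
  have hsT : Helper8.SylIn p (T : Subgroup H) (Subgroup.normalizer (Q : Set H)) :=
    (Helper8.sylIn_top T).mono hTN le_top
  obtain ⟨n, hn, hle⟩ := hsT.exists_conj_le hRp hRN
  rw [Helper8.cj_cj] at hle
  have heq : Helper8.cj (n * g⁻¹) (T : Subgroup H) = T :=
    Subgroup.eq_of_le_of_card_ge hle (by rw [Helper8.card_cj])
  have h6 : n * g⁻¹ ∈ Subgroup.normalizer (Q : Set H) := hNT (Helper8.mem_normalizer_iff_cj.mpr heq)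
  have h7 : g ∈ Subgroup.normalizer (Q : Set H) := by
    have e : g = (n * g⁻¹)⁻¹ * n := by group
    rw [e]; exact Subgroup.mul_mem _ (Subgroup.inv_mem _ h6) hn
  exact Helper8.mem_normalizer_iff_cj.mp h7

theorem large_cent_inf {H : Type*} [Group H] [Finite H] {p : ℕ} [Fact p.Prime] (Q : Subgroup H) (hQp : IsPGroup p ↥Q) (hQ1 : Q ≠ ⊥) (hL : Cfsg.IsLarge Q) (g : H) (hg : g ∉ Subgroup.normalizer (Q : Set H)) :
    Subgroup.centralizer (Q : Set H) ⊓ Subgroup.centralizer ((Helper8.cj g Q : Subgroup H) : Set H) = ⊥ := by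
  by_contra hU
  have hwc := large_wcs Q hQp hQ1 hL
  have h1 := hL.2 _ inf_le_left hU
  have h2 : Helper8.cj g⁻¹ (Subgroup.centralizer (Q : Set H) ⊓ Subgroup.centralizer ((Helper8.cj g Q : Subgroup H) : Set H)) ≤ Subgroup.centralizer (Q : Set H) := by
    have h3 := Helper8.cj_mono (g := g⁻¹) (inf_le_right : Subgroup.centralizer (Q : Set H) ⊓ Subgroup.centralizer ((Helper8.cj g Q : Subgroup H) : Set H) ≤ _)
    rw [Helper8.cj_centralizer, Helper8.cj_inv_cj] at h3
    exact h3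
  have h4 := hL.2 _ h2 (cj_ne_bot g⁻¹ _ hU)
  have h5 : Subgroup.normalizer ((Subgroup.centralizer (Q : Set H) ⊓ Subgroup.centralizer ((Helper8.cj g Q : Subgroup H) : Set H) : Subgroup H) : Set H) ≤ Subgroup.normalizer ((Helper8.cj g Q : Subgroup H) : Set H) := by
    have h6 := Helper8.cj_mono (g := g) h4
    rw [Helper8.cj_normalizer, Helper8.cj_normalizer, Helper8.cj_cj_inv] at h6
    exact h6
  have hQU : Q ≤ Subgroup.normalizer ((Subgroup.centralizer (Q : Set H) ⊓ Subgroup.centralizer ((Helper8.cj g Q : Subgroup H) : Set H) : Subgroup H) : Set H) := by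
    intro q hq
    apply Subgroup.centralizer_le_normalizer
    rw [Subgroup.mem_centralizer_iff]
    intro u hu
    have := Subgroup.mem_centralizer_iff.mp (Subgroup.mem_inf.mp hu).1 q hq
    exact this.symm
  have hQgU : Helper8.cj g Q ≤ Subgroup.normalizer ((Subgroup.centralizer (Q : Set H) ⊓ Subgroup.centralizer ((Helper8.cj g Q : Subgroup H) : Set H) : Subgroup H) : Set H) := by
    intro q hq
    apply Subgroup.centralizer_le_normalizer
    rw [Subgroup.mem_centralizer_iff]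
    intro u hu
    have := Subgroup.mem_centralizer_iff.mp (Subgroup.mem_inf.mp hu).2 q hq
    exact this.symm
  have h7 := Helper4.wcs_comm_cond hwc g (Helper4.commutator_le_inf_of_normalize (hQU.trans h5) (hQgU.trans h1))
  exact hg (Helper8.mem_normalizer_iff_cj.mpr h7)

/-- Let Q be a nontrivial large p-subgroup of the finite group H and Q• = O_p(N_H(Q)). Then for every g ∈ H outside N_H(Q): C_H(Q) ∩ C_H(gQg⁻¹) = 1, C_H(Q•) ∩ C_H(gQ•g⁻¹) = 1, Z(Q) ∩ Z(gQg⁻¹) = 1 and Z(Q•) ∩ Z(gQ•g⁻¹) = 1; moreover N_H(Q) = N_H(Q•) and Q• is large in H. -/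
theorem result {H : Type*} [Group H] [Finite H] {p : ℕ} [Fact p.Prime] (Q : Subgroup H) (hQp : IsPGroup p ↥Q) (hQ1 : Q ≠ ⊥) (hL : Cfsg.IsLarge Q) (Qb : Subgroup H) (hQb : Qb = Cfsg.largeBullet p Q) : (∀ g : H, g ∉ Subgroup.normalizer ((Q : Subgroup H) : Set H) → Subgroup.centralizer ((Q : Subgroup H) : Set H) ⊓ Subgroup.centralizer ((((Q : Subgroup H).map (MulAut.conj (g : H)).toMonoidHom) : Subgroup H) : Set H) = ⊥ ∧ Subgroup.centralizer ((Qb : Subgroup H) : Set H) ⊓ Subgroup.centralizer ((((Qb : Subgroup H).map (MulAut.conj (g : H)).toMonoidHom) : Subgroup H) : Set H) = ⊥ ∧ (Q ⊓ Subgroup.centralizer ((Q : Subgroup H) : Set H)) ⊓ (((Q : Subgroup H).map (MulAut.conj (g : H)).toMonoidHom) ⊓ Subgroup.centralizer ((((Q : Subgroup H).map (MulAut.conj (g : H)).toMonoidHom) : Subgroup H) : Set H)) = ⊥ ∧ (Qb ⊓ Subgroup.centralizer ((Qb : Subgroup H) : Set H)) ⊓ (((Qb : Subgroup H).map (MulAut.conj (g : H)).toMonoidHom) ⊓ Subgroup.centralizer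 ((((Qb : Subgroup H).map (MulAut.conj (g : H)).toMonoidHom) : Subgroup H) : Set H)) = ⊥) ∧ Subgroup.normalizer ((Q : Subgroup H) : Set H) = Subgroup.normalizer ((Qb : Subgroup H) : Set H) ∧ Cfsg.IsLarge Qb := by
  have hQQb : Q ≤ Qb := by
    rw [hQb]
    unfold Cfsg.largeBullet Cfsg.pCoreOf
    have h1 : Q.subgroupOf (Subgroup.normalizer (Q : Set H)) ≤ Cfsg.pCore p ↥(Subgroup.normalizer (Q : Set H)) :=
      Helper4.le_pCore Subgroup.normal_in_normalizer hQp.comap_subtype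
    intro q hq
    exact ⟨⟨q, Subgroup.le_normalizer hq⟩, h1 (Subgroup.mem_subgroupOf.mpr hq), rfl⟩
  have hQbp : IsPGroup p ↥Qb := by
    rw [hQb]
    unfold Cfsg.largeBullet Cfsg.pCoreOf
    exact (Helper4.pCore_isPGroup p _).map _
  have hQb1 : Qb ≠ ⊥ := by
    intro h
    apply hQ1
    rw [eq_bot_iff, ← h]
    exact hQQb
  have hNQb : Subgroup.normalizer (Q : Set H) ≤ Subgroup.normalizer (Qb : Set H) := by
    apply Helper4.le_normalizer_of_forall_conj
    intro n hn x hx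
    rw [hQb] at hx ⊢
    unfold Cfsg.largeBullet Cfsg.pCoreOf at hx ⊢
    obtain ⟨y, hy, rfl⟩ := hx
    have := (Helper4.pCore_normal p ↥(Subgroup.normalizer (Q : Set H))).conj_mem y hy ⟨n, hn⟩
    exact ⟨_, this, by simp⟩
  have hCC : Subgroup.centralizer (Qb : Set H) ≤ Subgroup.centralizer (Q : Set H) := Subgroup.centralizer_le hQQb
  obtain ⟨x, hxQ, hxo, hxc⟩ := Helper4.exists_central_order_p hQbp (le_refl Qb) Subgroup.le_normalizer hQb1
  have hCb1 : Subgroup.centralizer (Qb : Set H) ≠ ⊥ := by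
    intro h
    have hx : x ∈ Subgroup.centralizer (Qb : Set H) := Subgroup.mem_centralizer_iff.mpr hxc
    rw [h, Subgroup.mem_bot] at hx
    rw [hx, orderOf_one] at hxo
    exact (Fact.out : p.Prime).one_lt.ne hxo
  have hNN : Subgroup.normalizer (Qb : Set H) ≤ Subgroup.normalizer (Q : Set H) := by
    refine le_trans ?_ (hL.2 _ hCC hCb1)
    intro g hg
    rw [Helper8.mem_normalizer_iff_cj] at hg ⊢
    rw [Helper8.cj_centralizer, hg]
  have hNeq : Subgroup.normalizer (Q : Set H) = Subgroup.normalizer (Qb : Set H) := le_antisymm hNQb hNN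
  refine ⟨?_, hNeq, ⟨hCC.trans (hL.1.trans hQQb), fun U hU hU1 => (hL.2 U (hU.trans hCC) hU1).trans hNQb⟩⟩
  intro g hg
  have ha := large_cent_inf Q hQp hQ1 hL g hg
  have hb : Subgroup.centralizer (Qb : Set H) ⊓ Subgroup.centralizer ((Helper8.cj g Qb : Subgroup H) : Set H) = ⊥ := by
    rw [eq_bot_iff, ← ha]
    exact inf_le_inf hCC (Subgroup.centralizer_le (Helper8.cj_mono hQQb))
  refine ⟨ha, hb, ?_, ?_⟩
  · rw [eq_bot_iff, ← ha]
    exact inf_le_inf inf_le_right inf_le_right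
  · rw [eq_bot_iff, ← hb]
    exact inf_le_inf inf_le_right inf_le_right

end Cfsg.Agent.S2844
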