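import Cfsg.Statements.S2845
import Mathlib
import Cfsg.Statements.S2845
import Cfsg.Agent.Lib.Helper4.Large
import Cfsg.Agent.S2844

set_option autoImplicit false
open Cfsg
open scoped commutatorElement

namespace Cfsg.Agent.S2845

open Cfsg Cfsg.Agent.Lib
open scoped commutatorElement

theorem pCoreOf_ne_bot {H : Type*} [Group H] {p : ℕ} (L : Subgroup H) (h : Cfsg.pCore p ↥L ≠ ⊥) :
    Cfsg.pCoreOf p L ≠ ⊥ := by
  intro h1
  apply h
  exact (Subgroup.map_eq_bot_iff_of_injective _ L.subtype_injective).mp h1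

theorem large_main {H : Type*} [Group H] [Finite H] {p : ℕ} [Fact p.Prime] (Q : Subgroup H)
    (hQp : IsPGroup p ↥Q) (hQ1 : Q ≠ ⊥) (hL : Cfsg.IsLarge Q) (L : Subgroup H) (hQL : Q ≤ L)
    (hne : Cfsg.pCore p ↥L ≠ ⊥) :
    IsPGroup p ↥(Subgroup.centralizer ((Cfsg.pCoreOf p L : Subgroup H) : Set H)) ∧
    Subgroup.centralizer (Cfsg.pCore p ↥L : Set ↥L) ≤ Cfsg.pCore p ↥L := by
  have hP1 := pCoreOf_ne_bot L hne
  have hPp : IsPGroup p ↥(Cfsg.pCoreOf p L) := Helper4.pCoreOf_isPGroup p L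
  have hLP : L ≤ Subgroup.normalizer ((Cfsg.pCoreOf p L : Subgroup H) : Set H) :=
    Subgroup.le_normalizer.trans (Helper4.normalizer_le_normalizer_pCoreOf p L)
  have hQP : Q ≤ Subgroup.normalizer ((Cfsg.pCoreOf p L : Subgroup H) : Set H) := hQL.trans hLP
  have hwc := Helper4.large_wcs' Q hQp hQ1 hL
  have hRp : IsPGroup p ↥(Cfsg.pCoreOf p L ⊔ Q) := IsPGroup.to_sup_of_normal_left' hPp hQp hQP
  have hPN : Cfsg.pCoreOf p L ≤ Subgroup.normalizer (Q : Set H) :=
    (le_sup_left.trans Subgroup.le_normalizer).trans (Helper4.wcs_normalizer_le hwc _ hRp le_sup_right)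
  have hCN := Helper4.large_centralizer_le_normalizer Q hQp hL _ hPp hP1 hQP
  have := Helper4.charp_finish Q hQp hL.1 L hQL hPN hCN
  exact ⟨this.1, this.2.1⟩

/-- Let Q be a nontrivial large p-subgroup of the finite group H. Then for every subgroup L ≥ Q with O_p(L) ≠ 1, C_H(O_p(L)) is a p-group and L has characteristic p, and either the weak closure L° of Q in L equals Q or C_H(L°) = 1; for every subgroup R of H containing a Sylow p-subgroup of H with O_p(R) ≠ 1, C_H(O_p(R)) ≤ O_p(R); and H has parabolic characteristic p. -/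
theorem result {H : Type*} [Group H] [Finite H] {p : ℕ} [Fact p.Prime] (Q : Subgroup H) (hQp : IsPGroup p ↥Q) (hQ1 : Q ≠ ⊥) (hL : Cfsg.IsLarge Q) : (∀ L : Subgroup H, Q ≤ L → Cfsg.pCore p ↥L ≠ ⊥ → IsPGroup p ↥(Subgroup.centralizer (((Cfsg.pCoreOf p L) : Subgroup H) : Set H)) ∧ Subgroup.centralizer (Cfsg.pCore p ↥L : Set ↥L) ≤ Cfsg.pCore p ↥L ∧ (Cfsg.weakClosure Q L = Q ∨ Subgroup.centralizer (((Cfsg.weakClosure Q L) : Subgroup H) : Set H) = ⊥)) ∧ (∀ R : Subgroup H, Cfsg.IsParabolic p R → Cfsg.pCore p ↥R ≠ ⊥ → Subgroup.centralizer (((Cfsg.pCoreOf p R) : Subgroup H) : Set H) ≤ (Cfsg.pCoreOf p R)) ∧ Cfsg.IsOfParabolicCharacteristic p H := by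
  refine ⟨?_, ?_, ?_⟩
  · intro L hQL hne
    have hm := large_main Q hQp hQ1 hL L hQL hne
    refine ⟨hm.1, hm.2, ?_⟩
    by_cases hall : ∀ g : H, Helper8.cj g Q ≤ L → Helper8.cj g Q = Q
    · left
      apply le_antisymm
      · apply iSup_le
        intro g
        exact le_of_eq (hall g.1 g.2)
      · have h1 : Helper8.cj (1 : H) Q ≤ L := by rw [Helper8.cj_one]; exact hQL
        have h2 : Helper8.cj (1 : H) Q ≤ Cfsg.weakClosure Q L :=
          le_iSup (fun g : {g : H // Q.map (MulAut.conj g).toMonoidHom ≤ L} => Q.map (MulAut.conj (g : H)).toMonoidHom) ⟨1, h1⟩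
        rw [Helper8.cj_one] at h2
        exact h2
    · right
      push Not at hall
      obtain ⟨g, hgL, hgQ⟩ := hall
      have hg : g ∉ Subgroup.normalizer (Q : Set H) := by
        intro h
        exact hgQ (Helper8.mem_normalizer_iff_cj.mp h)
      have h0 := Cfsg.Agent.S2844.large_cent_inf Q hQp hQ1 hL g hg
      rw [eq_bot_iff, ← h0]
      have h1 : Helper8.cj (1 : H) Q ≤ L := by rw [Helper8.cj_one]; exact hQL
      have h2 : Helper8.cj (1 : H) Q ≤ Cfsg.weakClosure Q L :=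
        le_iSup (fun g : {g : H // Q.map (MulAut.conj g).toMonoidHom ≤ L} => Q.map (MulAut.conj (g : H)).toMonoidHom) ⟨1, h1⟩
      rw [Helper8.cj_one] at h2
      have h3 : Helper8.cj g Q ≤ Cfsg.weakClosure Q L :=
        le_iSup (fun g : {g : H // Q.map (MulAut.conj g).toMonoidHom ≤ L} => Q.map (MulAut.conj (g : H)).toMonoidHom) ⟨g, hgL⟩
      exact le_inf (Subgroup.centralizer_le h2) (Subgroup.centralizer_le h3)
  · rintro R ⟨T, hTR⟩ hne
    obtain ⟨g, -, hg⟩ := (Helper8.sylIn_top T).exists_conj_le hQp le_top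
    have hm := large_main (Helper8.cj g Q) (Helper8.isPGroup_cj hQp g) (Helper4.cj_ne_bot' g Q hQ1)
      (Helper4.large_cj hL g) R (hg.trans hTR) hne
    have hRP : R ≤ Subgroup.normalizer ((Cfsg.pCoreOf p R : Subgroup H) : Set H) :=
      Subgroup.le_normalizer.trans (Helper4.normalizer_le_normalizer_pCoreOf p R)
    have hRC := hRP.trans (Helper4.normalizer_le_normalizer_centralizer' _)
    have hCT : Subgroup.centralizer ((Cfsg.pCoreOf p R : Subgroup H) : Set H) ≤ (T : Subgroup H) := by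
      have h1 : IsPGroup p ↥(Subgroup.centralizer ((Cfsg.pCoreOf p R : Subgroup H) : Set H) ⊔ (T : Subgroup H)) :=
        IsPGroup.to_sup_of_normal_left' hm.1 T.isPGroup' (hTR.trans hRC)
      have h2 := T.is_maximal' h1 le_sup_right
      rw [← h2]
      exact le_sup_left
    exact Helper4.le_pCoreOf (hCT.trans hTR) hRC hm.1
  · intro R₀ hR₀p hR₀1 hpar
    obtain ⟨T, hTR⟩ := hpar
    obtain ⟨g, -, hg⟩ := (Helper8.sylIn_top T).exists_conj_le hQp le_top
    have hne : Cfsg.pCore p ↥(Subgroup.normalizer (R₀ : Set H)) ≠ ⊥ := by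
      intro h
      apply hR₀1
      have h1 : R₀ ≤ Cfsg.pCoreOf p (Subgroup.normalizer (R₀ : Set H)) :=
        Helper4.le_pCoreOf Subgroup.le_normalizer (le_refl _) hR₀p
      have h2 : Cfsg.pCoreOf p (Subgroup.normalizer (R₀ : Set H)) = ⊥ := by
        show Subgroup.map _ (Cfsg.pCore p ↥(Subgroup.normalizer (R₀ : Set H))) = ⊥
        rw [h, Subgroup.map_bot]
      rw [eq_bot_iff, ← h2]
      exact h1
    exact (large_main (Helper8.cj g Q) (Helper8.isPGroup_cj hQp g) (Helper4.cj_ne_bot' g Q hQ1)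
      (Helper4.large_cj hL g) _ (hg.trans hTR) hne).2

end Cfsg.Agent.S2845
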