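import Cfsg.Statements.S2848
import Mathlib
import Cfsg.Statements.S2848
import Cfsg.Agent.S2824
import Cfsg.Agent.Lib.Helper4.PIrr

set_option autoImplicit false
open Cfsg
open scoped commutatorElement

namespace Cfsg.Agent.S2848

open Cfsg Cfsg.Agent.Lib
open scoped commutatorElement

theorem pClosed_le_pCoreOf {G : Type*} [Group G] [Finite G] {p : ℕ} [Fact p.Prime] (M N : Subgroup G) (hNM : N ≤ M)
    (hMN : M ≤ Subgroup.normalizer (N : Set G)) (hN : Cfsg.IsPClosed p ↥N) (X : Subgroup G) (hXN : X ≤ N)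
    (hXp : IsPGroup p ↥X) : X ≤ Cfsg.pCoreOf p M := by
  obtain ⟨P, hP⟩ := (hXp.comap_subtype (K := N)).exists_le_sylow
  haveI : (P : Subgroup ↥N).Normal := hN P
  haveI : (P : Subgroup ↥N).Characteristic := Sylow.characteristic_of_normal P inferInstance
  have h1 : (P : Subgroup ↥N).map N.subtype ≤ Cfsg.pCoreOf p M :=
    Helper4.le_pCoreOf ((Subgroup.map_subtype_le _).trans hNM)
      (hMN.trans (Lead.le_normalizer_map_of_characteristic N (P : Subgroup ↥N))) (P.isPGroup'.map _)
  intro y hy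
  exact h1 ⟨⟨y, hXN hy⟩, hP (Subgroup.mem_subgroupOf.mpr hy), rfl⟩

/-- Standing hypotheses: G a finite group, S a Sylow p-subgroup, Q a nontrivial large p-subgroup of G contained in S (C_G(Q) ≤ Q and N_G(U) ≤ N_G(Q) for all nontrivial U ≤ C_G(Q)), and M a subgroup containing S with the basic property (M ∈ 𝔐_G(S)); Y_M denotes the largest p-reduced normal subgroup of M and M† = M·C_G(Y_M). Then O_p(M) is a weakly closed subgroup of M† (for p): it is the only M†-conjugate of itself inside some Sylow p-subgroup of M† containing it. -/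
theorem result {G : Type*} [Group G] [Finite G] {p : ℕ} [Fact p.Prime] (S : Sylow p G) (Q : Subgroup G) (hQp : IsPGroup p ↥Q) (hQ1 : Q ≠ ⊥) (hQS : Q ≤ (S : Subgroup G)) (hQ : Cfsg.IsLarge Q) (M : Subgroup G) (hSM : (S : Subgroup G) ≤ M) (hM : Cfsg.IsInFrakM p M) : Cfsg.IsWeaklyClosedSubgroup p (((Cfsg.pCoreOf p M)).subgroupOf (M ⊔ Subgroup.centralizer (((Cfsg.largestPReducedOf p M) : Subgroup G) : Set G))) := by
  obtain ⟨hYM, hYn, hYcomm, hYexp, hYred, hYT⟩ := Cfsg.Agent.S2824.yL_props p M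
  have hMN : M ≤ Subgroup.normalizer ((Cfsg.largestPReducedOf p M : Subgroup G) : Set G) :=
    Helper4.le_normalizer_of_forall_conj _ _ hYn
  have hNC := Helper4.normalizer_le_normalizer_centralizer' (Cfsg.largestPReducedOf p M)
  have hMP : M ≤ Subgroup.normalizer ((Cfsg.pCoreOf p M : Subgroup G) : Set G) :=
    Subgroup.le_normalizer.trans (Helper4.normalizer_le_normalizer_pCoreOf p M)
  have hPp : IsPGroup p ↥(Cfsg.pCoreOf p M) := Helper4.pCoreOf_isPGroup p M
  have hPM : Cfsg.pCoreOf p M ≤ M := Subgroup.map_subtype_le _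
  have hPS : Cfsg.pCoreOf p M ≤ (S : Subgroup G) := by
    have h1 : IsPGroup p ↥(Cfsg.pCoreOf p M ⊔ (S : Subgroup G)) :=
      IsPGroup.to_sup_of_normal_left' hPp S.isPGroup' (hSM.trans hMP)
    have h2 := S.is_maximal' h1 le_sup_right
    rw [← h2]
    exact le_sup_left
  have hPC : Cfsg.pCoreOf p M ≤ Subgroup.centralizer ((Cfsg.largestPReducedOf p M : Subgroup G) : Set G) := by
    apply hYred _ hPM
    · intro l hl d hd
      exact (Subgroup.mem_normalizer_iff.mp (hMP hl) d).mp hd
    · intro d hd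
      obtain ⟨k, hk⟩ := hPp ⟨d, hd⟩
      refine ⟨k, ?_⟩
      have := congrArg Subtype.val hk
      rw [Subgroup.coe_pow, Subgroup.coe_one] at this
      rw [this]
      exact Subgroup.one_mem _
  have hSC : (S : Subgroup G) ⊓ Subgroup.centralizer ((Cfsg.largestPReducedOf p M : Subgroup G) : Set G) ≤ Cfsg.pCoreOf p M := by
    apply pClosed_le_pCoreOf M (M ⊓ Subgroup.centralizer ((Cfsg.largestPReducedOf p M : Subgroup G) : Set G)) inf_le_left
    · intro m hm
      exact Helper4.mem_normalizer_inf (Subgroup.le_normalizer hm) (hNC (hMN hm))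
    · exact hM.2.2.2.2.1
    · exact le_inf (inf_le_left.trans hSM) inf_le_right
    · exact S.isPGroup'.to_le inf_le_left
  have hMd : M ⊔ Subgroup.centralizer ((Cfsg.largestPReducedOf p M : Subgroup G) : Set G) ≤
      Subgroup.normalizer ((Subgroup.centralizer ((Cfsg.largestPReducedOf p M : Subgroup G) : Set G) : Subgroup G) : Set G) :=
    sup_le (hMN.trans hNC) Subgroup.le_normalizer
  have hSMd : (S : Subgroup G) ≤ M ⊔ Subgroup.centralizer ((Cfsg.largestPReducedOf p M : Subgroup G) : Set G) :=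
    hSM.trans le_sup_left
  refine ⟨S.subtype hSMd, ?_, ?_⟩
  · rw [Sylow.coe_subtype]
    intro x hx
    rw [Subgroup.mem_subgroupOf] at hx ⊢
    exact hPS hx
  · intro g hg
    have hle : ((Cfsg.pCoreOf p M).subgroupOf (M ⊔ Subgroup.centralizer ((Cfsg.largestPReducedOf p M : Subgroup G) : Set G))).map (MulAut.conj g).toMonoidHom ≤
        (Cfsg.pCoreOf p M).subgroupOf (M ⊔ Subgroup.centralizer ((Cfsg.largestPReducedOf p M : Subgroup G) : Set G)) := by
      rintro x ⟨q, hq, rfl⟩
      have h1 : (MulAut.conj g).toMonoidHom q ∈ ((S.subtype hSMd : Sylow p _) : Subgroup _) := hg ⟨q, hq, rfl⟩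
      rw [Sylow.coe_subtype, Subgroup.mem_subgroupOf] at h1
      have hq' : (q : G) ∈ Cfsg.pCoreOf p M := Subgroup.mem_subgroupOf.mp hq
      refine Subgroup.mem_subgroupOf.mpr ?_
      apply hSC
      refine Subgroup.mem_inf.mpr ⟨h1, ?_⟩
      exact (Subgroup.mem_normalizer_iff.mp (hMd g.2) _).mp (hPC hq')
    apply Subgroup.eq_of_le_of_card_ge hle
    rw [Subgroup.card_map_of_injective (MulAut.conj g).injective]

end Cfsg.Agent.S2848
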