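import Cfsg.Statements.S2849
import Mathlib
import Cfsg.Statements.S2849
import Cfsg.Agent.S2824
import Cfsg.Agent.Lib.Helper4.PIrr

set_option autoImplicit false
open Cfsg
open scoped commutatorElement

namespace Cfsg.Agent.S2849

open Cfsg Cfsg.Agent.Lib
open scoped commutatorElement

theorem closure_elem_abelian {G : Type*} [Group G] (p : ℕ) (X : Set G) (hc : ∀ a ∈ X, ∀ b ∈ X, a * b = b * a)
    (he : ∀ a ∈ X, a ^ p = 1) :
    (∀ a ∈ Subgroup.closure X, ∀ b ∈ Subgroup.closure X, a * b = b * a) ∧ ∀ a ∈ Subgroup.closure X, a ^ p = 1 := by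
  have h1 : Subgroup.closure X ≤ Subgroup.centralizer X := by
    apply (Subgroup.closure_le _).mpr
    intro a ha
    show a ∈ Subgroup.centralizer X
    rw [Subgroup.mem_centralizer_iff]
    intro b hb
    exact hc b hb a ha
  have h2 : Subgroup.closure X ≤ Subgroup.centralizer (Subgroup.closure X : Set G) := by
    apply (Subgroup.closure_le _).mpr
    intro a ha
    show a ∈ Subgroup.centralizer (Subgroup.closure X : Set G)
    rw [Subgroup.mem_centralizer_iff]
    intro b hb
    exact (Subgroup.mem_centralizer_iff.mp (h1 hb) a ha).symm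
  have hcomm : ∀ a ∈ Subgroup.closure X, ∀ b ∈ Subgroup.closure X, a * b = b * a := by
    intro a ha b hb
    exact Subgroup.mem_centralizer_iff.mp (h2 hb) a ha
  refine ⟨hcomm, ?_⟩
  have h3 : Subgroup.closure X ≤
      ({ carrier := {a | a ∈ Subgroup.closure X ∧ a ^ p = 1}
         one_mem' := ⟨Subgroup.one_mem _, one_pow p⟩
         mul_mem' := by
           rintro a b ⟨ha, hap⟩ ⟨hb, hbp⟩
           refine ⟨Subgroup.mul_mem _ ha hb, ?_⟩
           have hcm : Commute a b := hcomm a ha b hb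
           rw [hcm.mul_pow, hap, hbp, mul_one]
         inv_mem' := by
           rintro a ⟨ha, hap⟩
           exact ⟨Subgroup.inv_mem _ ha, by rw [inv_pow, hap, inv_one]⟩ } : Subgroup G) := by
    apply (Subgroup.closure_le _).mpr
    intro a ha
    exact ⟨Subgroup.subset_closure ha, he a ha⟩
  intro a ha
  exact (h3 ha).2

/-- Standing hypotheses: G a finite group, S a Sylow p-subgroup, Q a nontrivial large p-subgroup of G contained in S (C_G(Q) ≤ Q and N_G(U) ≤ N_G(Q) for all nontrivial U ≤ C_G(Q)), and M a subgroup containing S with the basic property (M ∈ 𝔐_G(S)); Y_M denotes the largest p-reduced normal subgroup of M and M† = M·C_G(Y_M). Suppose Y_M is asymmetric in G. Then for every subgroup R with Y_M ≤ R ≤ M†, the normal closure of Y_M in N_G(R) is elementary abelian. -/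
theorem result {G : Type*} [Group G] [Finite G] {p : ℕ} [Fact p.Prime] (S : Sylow p G) (Q : Subgroup G) (hQp : IsPGroup p ↥Q) (hQ1 : Q ≠ ⊥) (hQS : Q ≤ (S : Subgroup G)) (hQ : Cfsg.IsLarge Q) (M : Subgroup G) (hSM : (S : Subgroup G) ≤ M) (hM : Cfsg.IsInFrakM p M) (hasym : ¬ Cfsg.IsSymmetricIn (Cfsg.largestPReducedOf p M)) (R : Subgroup G) (hYR : (Cfsg.largestPReducedOf p M) ≤ R) (hRM : R ≤ (M ⊔ Subgroup.centralizer (((Cfsg.largestPReducedOf p M) : Subgroup G) : Set G))) : Cfsg.IsElementaryAbelian p ((Subgroup.normalClosure ((((Cfsg.largestPReducedOf p M)).subgroupOf (Subgroup.normalizer ((R : Subgroup G) : Set G)) : Subgroup ↥(Subgroup.normalizer ((R : Subgroup G) : Set G))) : Set ↥(Subgroup.normalizer ((R : Subgroup G) : Set G)))).map (Subgroup.normalizer ((R : Subgroup G) : Set G)).subtype) := by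
  obtain ⟨hYM, hYn, hYcomm, hYexp, hYred, hYT⟩ := Cfsg.Agent.S2824.yL_props p M
  have hMN : M ≤ Subgroup.normalizer ((Cfsg.largestPReducedOf p M : Subgroup G) : Set G) :=
    Helper4.le_normalizer_of_forall_conj _ _ hYn
  have hRN : R ≤ Subgroup.normalizer ((Cfsg.largestPReducedOf p M : Subgroup G) : Set G) :=
    hRM.trans (sup_le hMN (Subgroup.centralizer_le_normalizer _))
  have hkey : ∀ k ∈ Subgroup.normalizer (R : Set G), ∀ y ∈ Cfsg.largestPReducedOf p M,
      ∀ z ∈ Helper8.cj k (Cfsg.largestPReducedOf p M), y * z = z * y := by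
    intro k hk y hy z hz
    have hkR : Helper8.cj k R = R := Helper8.mem_normalizer_iff_cj.mp hk
    have h1 : Helper8.cj k (Cfsg.largestPReducedOf p M) ≤ Subgroup.normalizer ((Cfsg.largestPReducedOf p M : Subgroup G) : Set G) := by
      refine le_trans ?_ hRN
      rw [← hkR]
      exact Helper8.cj_mono hYR
    have h2 : Cfsg.largestPReducedOf p M ≤ Subgroup.normalizer ((Helper8.cj k (Cfsg.largestPReducedOf p M) : Subgroup G) : Set G) := by
      refine le_trans hYR ?_
      rw [← Helper8.cj_normalizer, ← hkR]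
      exact Helper8.cj_mono hRN
    have h3 := Helper4.commutator_le_inf_of_normalize h2 h1
    have h4 : ⁅Cfsg.largestPReducedOf p M, Helper8.cj k (Cfsg.largestPReducedOf p M)⁆ = ⊥ := by
      by_contra hne
      exact hasym ⟨k, hne, h3⟩
    have h5 := Subgroup.commutator_eq_bot_iff_le_centralizer.mp h4
    exact (Subgroup.mem_centralizer_iff.mp (h5 hy) z hz).symm
  have hX := closure_elem_abelian p {x : G | ∃ g ∈ Subgroup.normalizer (R : Set G), ∃ y ∈ Cfsg.largestPReducedOf p M, x = g * y * g⁻¹}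
    (by
      rintro a ⟨g, hg, y, hy, rfl⟩ b ⟨h, hh, y', hy', rfl⟩
      have hk : g⁻¹ * h ∈ Subgroup.normalizer (R : Set G) := Subgroup.mul_mem _ (Subgroup.inv_mem _ hg) hh
      have hz : (g⁻¹ * h) * y' * (g⁻¹ * h)⁻¹ ∈ Helper8.cj (g⁻¹ * h) (Cfsg.largestPReducedOf p M) := Helper8.cj_mem hy'
      have h1 := hkey _ hk y hy _ hz
      have e1 : g * y * g⁻¹ * (h * y' * h⁻¹) = g * (y * ((g⁻¹ * h) * y' * (g⁻¹ * h)⁻¹)) * g⁻¹ := by group
      have e2 : h * y' * h⁻¹ * (g * y * g⁻¹) = g * (((g⁻¹ * h) * y' * (g⁻¹ * h)⁻¹) * y) * g⁻¹ := by group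
      rw [e1, e2, h1])
    (by
      rintro a ⟨g, hg, y, hy, rfl⟩
      rw [conj_pow, hYexp y hy, mul_one, mul_inv_cancel])
  have hW : (Subgroup.normalClosure ((((Cfsg.largestPReducedOf p M)).subgroupOf (Subgroup.normalizer ((R : Subgroup G) : Set G)) : Subgroup ↥(Subgroup.normalizer ((R : Subgroup G) : Set G))) : Set ↥(Subgroup.normalizer ((R : Subgroup G) : Set G)))).map (Subgroup.normalizer ((R : Subgroup G) : Set G)).subtype ≤
      Subgroup.closure {x : G | ∃ g ∈ Subgroup.normalizer (R : Set G), ∃ y ∈ Cfsg.largestPReducedOf p M, x = g * y * g⁻¹} := by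
    rw [Subgroup.map_le_iff_le_comap]
    unfold Subgroup.normalClosure
    apply (Subgroup.closure_le _).mpr
    intro x hx
    obtain ⟨b, hb, hbx⟩ := Group.mem_conjugatesOfSet_iff.mp hx
    obtain ⟨c, hc⟩ := isConj_iff.mp hbx
    show (Subgroup.normalizer (R : Set G)).subtype x ∈ Subgroup.closure _
    apply Subgroup.subset_closure
    refine ⟨c, c.2, b, Subgroup.mem_subgroupOf.mp hb, ?_⟩
    rw [← hc]
    rfl
  refine ⟨⟨⟨fun a b => Subtype.ext (hX.1 a (hW a.2) b (hW b.2))⟩⟩, ?_⟩
  intro a ha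
  exact hX.2 a (hW ha)

end Cfsg.Agent.S2849
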