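import Cfsg.Statements.S2872
import Cfsg.Agent.Lib.Helper2.InvTransfer
import Cfsg.Agent.Lib.Helper6.Dih
import Cfsg.Agent.Lib.Lead.PFrat

set_option autoImplicit false
open Cfsg

namespace Cfsg.Agent.S2872

theorem result {G : Type*} [Group G] [Finite G] (S : Sylow 2 G) : Cfsg.pResidual 2 G ≠ ⊤ ∨ Cfsg.omegaOne 2 ((S : Subgroup G) ⊓ Subgroup.centralizer ((S : Subgroup G) : Set G)) ≤ (frattini ↥(S : Subgroup G)).map (S : Subgroup G).subtype ∨ ∃ g ∈ Subgroup.normalizer ((S : Subgroup G) : Set G), ∃ z ∈ Cfsg.omegaOne 2 ((S : Subgroup G) ⊓ Subgroup.centralizer ((S : Subgroup G) : Set G)), g * z * g⁻¹ ≠ z := by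
  classical
  by_contra hcon
  push_neg at hcon
  obtain ⟨h1, h2, h3⟩ := hcon
  have hΩ : ∀ z ∈ Cfsg.omegaOne 2 ((S : Subgroup G) ⊓ Subgroup.centralizer ((S : Subgroup G) : Set G)),
      z ∈ (S : Subgroup G) ∧ (∀ s ∈ (S : Subgroup G), s * z = z * s) ∧ z * z = 1 := by
    intro z hz
    unfold Cfsg.omegaOne at hz
    induction hz using Subgroup.closure_induction with
    | mem x hx =>
      exact ⟨hx.1.1, fun s hs => (Subgroup.mem_centralizer_iff.mp hx.1.2 s hs),
        by rw [← pow_two]; exact hx.2⟩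
    | one => exact ⟨Subgroup.one_mem _, fun s _ => by rw [mul_one, one_mul], mul_one 1⟩
    | mul x y _ _ hx hy =>
      refine ⟨mul_mem hx.1 hy.1, fun s hs => ?_, ?_⟩
      · rw [← mul_assoc, hx.2.1 s hs, mul_assoc, hy.2.1 s hs, mul_assoc]
      · have hc := hx.2.1 y hy.1
        calc x * y * (x * y) = x * (y * x) * y := by group
          _ = x * (x * y) * y := by rw [hc]
          _ = (x * x) * (y * y) := by group
          _ = 1 := by rw [hx.2.2, hy.2.2, mul_one]
    | inv x _ hx =>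
      refine ⟨inv_mem hx.1, fun s hs => ?_, ?_⟩
      · have h4 := hx.2.1 s hs
        calc s * x⁻¹ = x⁻¹ * (x * s) * x⁻¹ := by group
          _ = x⁻¹ * (s * x) * x⁻¹ := by rw [h4]
          _ = x⁻¹ * s := by group
      · rw [← mul_inv_rev, hx.2.2, inv_one]
  obtain ⟨z, hzΩ, hzΦ⟩ := SetLike.not_le_iff_exists.mp h2
  obtain ⟨hzS, hzc, hzz⟩ := hΩ z hzΩ
  have hzf : (⟨z, hzS⟩ : ↥(S : Subgroup G)) ∉ frattini ↥(S : Subgroup G) := by
    intro h
    exact hzΦ ⟨⟨z, hzS⟩, h, rfl⟩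
  obtain ⟨K, hK, hzK⟩ : ∃ K : Subgroup ↥(S : Subgroup G), IsCoatom K ∧ (⟨z, hzS⟩ : ↥(S : Subgroup G)) ∉ K := by
    by_contra hno
    push_neg at hno
    apply hzf
    simp only [frattini, Order.radical, Subgroup.mem_iInf]
    intro K hK
    exact hno K hK
  obtain ⟨hKn, hKi⟩ := Cfsg.Agent.Lib.Lead.coatom_pgroup S.isPGroup' K hK
  have hrel : (K.map (S : Subgroup G).subtype).relIndex (S : Subgroup G) = 2 := by
    have e : (K.map (S : Subgroup G).subtype).subgroupOf (S : Subgroup G) = K :=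
      Subgroup.comap_map_eq_self_of_injective (Subgroup.subtype_injective _) K
    rw [Subgroup.relIndex, e]
    exact hKi
  have hzM : z ∉ K.map (S : Subgroup G).subtype := by
    rintro ⟨k, hk, hkz⟩
    have : k = ⟨z, hzS⟩ := Subtype.ext hkz
    rw [this] at hk
    exact hzK hk
  have hodd : Odd (S : Subgroup G).index := by
    rw [← Nat.not_even_iff_odd, even_iff_two_dvd]
    exact S.not_dvd_index
  obtain ⟨N, hNi, hzN⟩ := Cfsg.Agent.Lib.Helper2.InvTransfer.involution_transfer (S : Subgroup G)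
    (K.map (S : Subgroup G).subtype) S.isPGroup' hodd hrel z hzz hzS hzM hzc (by
      intro g hg
      have h4 := h3 g⁻¹ (inv_mem hg) z hzΩ
      rw [inv_inv] at h4
      exact h4)
  have h5 := Cfsg.Agent.Lib.Helper6.pResidual_le_of_index_two N hNi
  rw [h1] at h5
  exact hzN (h5 (Subgroup.mem_top z))

end Cfsg.Agent.S2872
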