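import Cfsg.Statements.S2907
import Mathlib
import Cfsg.Statements.S2907

set_option autoImplicit false
open Cfsg
open scoped commutatorElement

namespace Cfsg.Agent.S2907

open scoped commutatorElement

theorem comm_mem_center {X : Type*} [Group X] (hc : commutator X = Subgroup.center X) (x y : X) :
    x * y * x⁻¹ * y⁻¹ ∈ Subgroup.center X := by
  rw [← hc]
  exact Subgroup.commutator_mem_commutator (Subgroup.mem_top x) (Subgroup.mem_top y)

noncomputable def commHom {X : Type*} [Group X] (hc : commutator X = Subgroup.center X) (x : X) : X →* X where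
  toFun y := x * y * x⁻¹ * y⁻¹
  map_one' := by simp
  map_mul' y z := by
    have h1 := comm_mem_center hc x z
    have h2 := Subgroup.mem_center_iff.mp h1
    have e : x * (y * z) * x⁻¹ * (y * z)⁻¹ = x * y * x⁻¹ * ((x * z * x⁻¹ * z⁻¹) * y⁻¹) := by group
    rw [e, ← h2 y⁻¹]
    group

/-- Let X be a finite semi-extraspecial p-group and x an element of X outside the centre. Then the index of C_X(x) in X equals the order of Z(X), and the commutators [x, y], y ∈ X, form exactly the centre Z(X). -/
theorem result {X : Type*} [Group X] [Finite X] {p : ℕ} [Fact p.Prime] (hX : Cfsg.IsSemiExtraspecial p X) (x : X) (hx : x ∉ Subgroup.center X) : (Subgroup.centralizer ({x} : Set X)).index = Nat.card ↥(Subgroup.center X) ∧ {z : X | ∃ y : X, z = x * y * x⁻¹ * y⁻¹} = (Subgroup.center X : Set X) := by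
  obtain ⟨⟨hp, hfr, hc⟩, hY⟩ := hX
  have hker : (commHom hc x).ker = Subgroup.centralizer ({x} : Set X) := by
    ext y
    rw [MonoidHom.mem_ker, Subgroup.mem_centralizer_iff]
    constructor
    · intro h z hz
      rw [Set.mem_singleton_iff] at hz
      subst hz
      have h' : z * y * z⁻¹ * y⁻¹ = 1 := h
      have : z * y = y * z := by
        have := congrArg (fun t => t * y * z) h'
        simpa [mul_assoc] using this
      exact this
    · intro h
      have h' := h x (Set.mem_singleton x)
      show x * y * x⁻¹ * y⁻¹ = 1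
      rw [h']
      group
  have hrange_le : (commHom hc x).range ≤ Subgroup.center X := by
    rintro _ ⟨y, rfl⟩
    exact comm_mem_center hc x y
  have hrange : (commHom hc x).range = Subgroup.center X := by
    by_contra hne
    have hlt : ((commHom hc x).range).subgroupOf (Subgroup.center X) ≠ ⊤ := by
      intro h
      rw [Subgroup.subgroupOf_eq_top] at h
      exact hne (le_antisymm hrange_le h)
    obtain ⟨Y', hY'co, hY'le⟩ := (eq_top_or_exists_le_coatom _).resolve_left hlt
    have hYle : Y'.map (Subgroup.center X).subtype ≤ Subgroup.center X := Subgroup.map_subtype_le _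
    have hYsub : (Y'.map (Subgroup.center X).subtype).subgroupOf (Subgroup.center X) = Y' := by
      rw [Subgroup.subgroupOf, Subgroup.comap_map_eq_self_of_injective (Subgroup.subtype_injective _)]
    obtain ⟨hYn, ⟨_, _, hcq⟩, hcard⟩ := hY (Y'.map (Subgroup.center X).subtype) hYle (by rw [hYsub]; exact hY'co)
    have hrY : (commHom hc x).range ≤ Y'.map (Subgroup.center X).subtype := by
      intro z hz
      have hz' : z ∈ Subgroup.center X := hrange_le hz
      have : (⟨z, hz'⟩ : Subgroup.center X) ∈ Y' := hY'le (Subgroup.mem_subgroupOf.mpr hz)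
      exact ⟨⟨z, hz'⟩, this, rfl⟩
    have hxc : (QuotientGroup.mk' (Y'.map (Subgroup.center X).subtype) x) ∈ Subgroup.center (X ⧸ Y'.map (Subgroup.center X).subtype) := by
      rw [Subgroup.mem_center_iff]
      intro q
      obtain ⟨y, rfl⟩ := QuotientGroup.mk'_surjective _ q
      rw [← map_mul, ← map_mul]
      apply (QuotientGroup.eq).mpr
      have h1 : x * y * x⁻¹ * y⁻¹ ∈ Y'.map (Subgroup.center X).subtype := hrY ⟨y, rfl⟩
      have e : (y * x)⁻¹ * (x * y) = (x⁻¹ * y⁻¹) * (x * y * x⁻¹ * y⁻¹) * (x⁻¹ * y⁻¹)⁻¹ := by group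
      rw [e]
      exact hYn.conj_mem _ h1 _
    have hmap_le : (Subgroup.center X).map (QuotientGroup.mk' (Y'.map (Subgroup.center X).subtype)) ≤ Subgroup.center (X ⧸ Y'.map (Subgroup.center X).subtype) := by
      rintro _ ⟨z, hz, rfl⟩
      rw [Subgroup.mem_center_iff]
      intro q
      obtain ⟨y, rfl⟩ := QuotientGroup.mk'_surjective _ q
      rw [← map_mul, ← map_mul, (Subgroup.mem_center_iff.mp hz) y]
    have hmap_ne : (Subgroup.center X).map (QuotientGroup.mk' (Y'.map (Subgroup.center X).subtype)) ≠ ⊥ := by
      intro h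
      rw [Subgroup.map_eq_bot_iff, QuotientGroup.ker_mk'] at h
      have : Y' = ⊤ := by
        rw [← hYsub, Subgroup.subgroupOf_eq_top]
        exact h
      exact hY'co.1 this
    have hmap_eq : (Subgroup.center X).map (QuotientGroup.mk' (Y'.map (Subgroup.center X).subtype)) = Subgroup.center (X ⧸ Y'.map (Subgroup.center X).subtype) := by
      have hd := Subgroup.card_dvd_of_le hmap_le
      rw [hcard] at hd
      rcases (Nat.dvd_prime (Fact.out : p.Prime)).mp hd with h1 | h1
      · exact absurd (Subgroup.card_eq_one.mp h1) hmap_ne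
      · exact Subgroup.eq_of_le_of_card_ge hmap_le (by rw [h1, hcard])
    rw [← hmap_eq] at hxc
    obtain ⟨z, hz, hzx⟩ := hxc
    have h1 : z⁻¹ * x ∈ Y'.map (Subgroup.center X).subtype := (QuotientGroup.eq).mp hzx
    have h2 : z⁻¹ * x ∈ Subgroup.center X := hYle h1
    have : x ∈ Subgroup.center X := by
      have := Subgroup.mul_mem _ hz h2
      simpa using this
    exact hx this
  constructor
  · rw [← hker, Subgroup.index_ker, hrange]
  · ext z
    constructor
    · rintro ⟨y, rfl⟩
      exact comm_mem_center hc x y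
    · intro hz
      have : z ∈ (commHom hc x).range := hrange ▸ hz
      obtain ⟨y, hy⟩ := this
      exact ⟨y, hy.symm⟩

end Cfsg.Agent.S2907
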