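import Cfsg.Statements.S2880
import Mathlib
import Cfsg.Statements.S2880
import Cfsg.Agent.S2907

set_option autoImplicit false
open Cfsg
open scoped commutatorElement

namespace Cfsg.Agent.S2880

open scoped commutatorElement
open Cfsg.Agent.S2907 in

theorem card_ker_two {B X : Type*} [Group B] [Group X] [Finite B] [Finite X] (Z : Subgroup X)
    (hZ : Nat.card Z = 2) (φ : B →* X) (hle : φ.range ≤ Z) (b : B) (hb : φ b ≠ 1) :
    Nat.card φ.ker * 2 = Nat.card B := by
  have h1 : Nat.card φ.range = 2 := by
    have hd := Subgroup.card_dvd_of_le hle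
    rw [hZ] at hd
    rcases (Nat.dvd_prime Nat.prime_two).mp hd with h | h
    · exfalso
      have := Subgroup.card_eq_one.mp h
      have hm : φ b ∈ φ.range := ⟨b, rfl⟩
      rw [this] at hm
      exact hb (Subgroup.mem_bot.mp hm)
    · exact h
  rw [← h1, ← Subgroup.index_ker]
  exact Subgroup.card_mul_index φ.ker

theorem sum_ind {X : Type*} [Fintype X] (p : X → Prop) [DecidablePred p] (n : ℕ) :
    ∑ x : X, (if p x then n else 0) = Nat.card {x : X // p x} * n := by
  rw [← Finset.sum_filter, Finset.sum_const, smul_eq_mul, Nat.card_eq_fintype_card, Fintype.card_subtype]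

theorem pair_count {X : Type*} [Group X] [Fintype X] (A : Subgroup X) [Fintype ↥A] :
    ∑ x : X, Nat.card {b : A // x * (b : X) = (b : X) * x} = ∑ b : A, Nat.card {x : X // x * (b : X) = (b : X) * x} := by
  classical
  rw [← Nat.card_sigma, ← Nat.card_sigma]
  apply Nat.card_congr
  exact
    { toFun := fun p => ⟨p.2.1, p.1, p.2.2⟩
      invFun := fun p => ⟨p.2.1, p.1, p.2.2⟩
      left_inv := fun _ => rfl
      right_inv := fun _ => rfl }

theorem comm_sq_aux {X : Type*} [Group X] (x y c : X) (hcen : ∀ g : X, g * c = c * g) (hcc : c * c = 1)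
    (e : x * y = c * (y * x)) : y * (x * x) = x * x * y := by
  calc y * (x * x) = (c * c) * (y * x) * x := by rw [hcc]; group
  _ = c * (c * (y * x)) * x := by group
  _ = c * (x * y) * x := by rw [← e]
  _ = (c * x) * (y * x) := by group
  _ = (x * c) * (y * x) := by rw [hcen x]
  _ = x * (c * (y * x)) := by group
  _ = x * (x * y) := by rw [← e]
  _ = x * x * y := by group

theorem comm_sq {X : Type*} [Group X] (hc : commutator X = Subgroup.center X)
    (hsq : ∀ w ∈ Subgroup.center X, w * w = 1) (x : X) : x * x ∈ Subgroup.center X := by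
  rw [Subgroup.mem_center_iff]
  intro y
  have h1 := Cfsg.Agent.S2907.comm_mem_center hc x y
  exact comm_sq_aux x y _ (Subgroup.mem_center_iff.mp h1) (hsq _ h1) (by group)

theorem card_compl {X : Type*} [Finite X] (p : X → Prop) :
    Nat.card {x : X // p x} + Nat.card {x : X // ¬ p x} = Nat.card X := by
  classical
  rw [← Nat.card_sum]
  exact Nat.card_congr (Equiv.sumCompl p)

theorem cent_le {E : Type*} [Group E] [Finite E] (m : ℕ) (hc : commutator E = Subgroup.center E)
    (hZ : Nat.card (Subgroup.center E) = 2) (hcard : Nat.card E = 2 ^ (2 * m + 1)) (A : Subgroup E)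
    (hAc : IsMulCommutative ↥A) (hA : Nat.card A = 2 ^ (m + 1)) :
    ∀ x : E, (∀ b ∈ A, x * b = b * x) → x ∈ A := by
  classical
  haveI : Fintype E := Fintype.ofFinite E
  haveI : Fintype ↥A := Fintype.ofFinite ↥A
  have hpc := pair_count A
  have hAC : A ≤ Subgroup.centralizer (A : Set E) := by
    intro a ha
    rw [Subgroup.mem_centralizer_iff]
    intro b hb
    exact congrArg Subtype.val (hAc.is_comm.comm (⟨b, hb⟩ : A) ⟨a, ha⟩)
  have hf : ∀ x : E, Nat.card {b : A // x * (b : E) = (b : E) * x} * 2 =
      2 ^ (m + 1) + (if x ∈ Subgroup.centralizer (A : Set E) then 2 ^ (m + 1) else 0) := by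
    intro x
    by_cases hx : x ∈ Subgroup.centralizer (A : Set E)
    · rw [if_pos hx]
      have e : Nat.card {b : A // x * (b : E) = (b : E) * x} = Nat.card A :=
        Nat.card_congr (Equiv.subtypeUnivEquiv (fun b => ((Subgroup.mem_centralizer_iff.mp hx) b.1 b.2).symm))
      rw [e, hA]; ring
    · rw [if_neg hx, add_zero]
      have hx' : ∃ b ∈ A, x * b ≠ b * x := by
        by_contra h
        push Not at h
        exact hx (Subgroup.mem_centralizer_iff.mpr (fun b hb => (h b hb).symm))
      obtain ⟨b₀, hb₀, hne⟩ := hx'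
      have hker := card_ker_two (Subgroup.center E) hZ ((Cfsg.Agent.S2907.commHom hc x).comp A.subtype)
        (by rintro _ ⟨b, rfl⟩; exact Cfsg.Agent.S2907.comm_mem_center hc x b) ⟨b₀, hb₀⟩
        (by
          intro h
          have h' : x * b₀ * x⁻¹ * b₀⁻¹ = 1 := h
          apply hne
          have := congrArg (fun t => t * b₀ * x) h'
          simpa [mul_assoc] using this)
      rw [hA] at hker
      rw [← hker]
      congr 1
      apply Nat.card_congr
      apply Equiv.subtypeEquivRight
      intro b
      rw [MonoidHom.mem_ker]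
      show x * (b : E) = (b : E) * x ↔ x * (b : E) * x⁻¹ * (b : E)⁻¹ = 1
      constructor
      · intro h; rw [h]; group
      · intro h
        have := congrArg (fun t => t * (b : E) * x) h
        simpa [mul_assoc] using this
  have hg : ∀ b : A, Nat.card {x : E // x * (b : E) = (b : E) * x} * 2 =
      2 ^ (2 * m + 1) + (if (b : E) ∈ Subgroup.center E then 2 ^ (2 * m + 1) else 0) := by
    intro b
    by_cases hb : (b : E) ∈ Subgroup.center E
    · rw [if_pos hb]
      have e : Nat.card {x : E // x * (b : E) = (b : E) * x} = Nat.card E :=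
        Nat.card_congr (Equiv.subtypeUnivEquiv (fun x => (Subgroup.mem_center_iff.mp hb) x))
      rw [e, hcard]; ring
    · rw [if_neg hb, add_zero]
      have hb' : ∃ x : E, x * (b : E) ≠ (b : E) * x := by
        by_contra h
        push Not at h
        exact hb (Subgroup.mem_center_iff.mpr h)
      obtain ⟨x₀, hne⟩ := hb'
      have hker := card_ker_two (Subgroup.center E) hZ (Cfsg.Agent.S2907.commHom hc (b : E))
        (by rintro _ ⟨y, rfl⟩; exact Cfsg.Agent.S2907.comm_mem_center hc (b : E) y) x₀
        (by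
          intro h
          have h' : (b : E) * x₀ * (b : E)⁻¹ * x₀⁻¹ = 1 := h
          apply hne
          have := congrArg (fun t => t * x₀ * (b : E)) h'
          have h2 : (b : E) * x₀ = x₀ * (b : E) := by simpa [mul_assoc] using this
          exact h2.symm)
      rw [hcard] at hker
      rw [← hker]
      congr 1
      apply Nat.card_congr
      apply Equiv.subtypeEquivRight
      intro x
      rw [MonoidHom.mem_ker]
      show x * (b : E) = (b : E) * x ↔ (b : E) * x * (b : E)⁻¹ * x⁻¹ = 1
      constructor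
      · intro h; rw [← h]; group
      · intro h
        have := congrArg (fun t => t * x * (b : E)) h
        have h2 : (b : E) * x = x * (b : E) := by simpa [mul_assoc] using this
        exact h2.symm
  have h1 : (∑ x : E, Nat.card {b : A // x * (b : E) = (b : E) * x}) * 2 =
      Nat.card E * 2 ^ (m + 1) + Nat.card ↥(Subgroup.centralizer (A : Set E)) * 2 ^ (m + 1) := by
    rw [Finset.sum_mul, Finset.sum_congr rfl (fun x _ => hf x), Finset.sum_add_distrib, sum_ind,
      Finset.sum_const, Finset.card_univ, smul_eq_mul, ← Nat.card_eq_fintype_card]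
  have h2 : (∑ b : A, Nat.card {x : E // x * (b : E) = (b : E) * x}) * 2 =
      Nat.card A * 2 ^ (2 * m + 1) + Nat.card {b : A // (b : E) ∈ Subgroup.center E} * 2 ^ (2 * m + 1) := by
    rw [Finset.sum_mul, Finset.sum_congr rfl (fun x _ => hg x), Finset.sum_add_distrib, sum_ind,
      Finset.sum_const, Finset.card_univ, smul_eq_mul, ← Nat.card_eq_fintype_card]
  have hz : Nat.card {b : A // (b : E) ∈ Subgroup.center E} ≤ 2 := by
    rw [← hZ]
    apply Nat.card_le_card_of_injective (fun b : {b : A // (b : E) ∈ Subgroup.center E} => (⟨b.1.1, b.2⟩ : Subgroup.center E))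
    intro b b' h
    apply Subtype.ext
    apply Subtype.ext
    exact congrArg (fun t : Subgroup.center E => (t : E)) h
  rw [hpc, h2, hcard, hA] at h1
  have h3 : Nat.card ↥(Subgroup.centralizer (A : Set E)) * 2 ^ (m + 1) ≤ 2 * 2 ^ (2 * m + 1) := by
    have : Nat.card {b : A // (b : E) ∈ Subgroup.center E} * 2 ^ (2 * m + 1) ≤ 2 * 2 ^ (2 * m + 1) :=
      Nat.mul_le_mul_right _ hz
    have e : 2 ^ (m + 1) * 2 ^ (2 * m + 1) = 2 ^ (2 * m + 1) * 2 ^ (m + 1) := by ring
    omega
  have h4 : Nat.card ↥(Subgroup.centralizer (A : Set E)) ≤ Nat.card A := by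
    rw [hA]
    have e : 2 * 2 ^ (2 * m + 1) = 2 ^ (m + 1) * 2 ^ (m + 1) := by ring
    rw [e] at h3
    exact Nat.le_of_mul_le_mul_right h3 (by positivity)
  have h5 := Subgroup.eq_of_le_of_card_ge hAC h4
  intro x hx
  rw [h5]
  exact Subgroup.mem_centralizer_iff.mpr (fun b hb => (hx b hb).symm)

theorem center_two {E : Type*} [Group E] (hZ : Nat.card (Subgroup.center E) = 2) :
    ∀ u v : E, u ∈ Subgroup.center E → v ∈ Subgroup.center E → u ≠ 1 → v ≠ 1 → u = v := by
  intro u v hu hv hu1 hv1
  obtain ⟨z, -, huniq⟩ := (Nat.card_eq_two_iff' (1 : Subgroup.center E)).mp hZ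
  have h1 := huniq ⟨u, hu⟩ (fun h => hu1 (congrArg Subtype.val h))
  have h2 := huniq ⟨v, hv⟩ (fun h => hv1 (congrArg Subtype.val h))
  exact congrArg Subtype.val (h1.trans h2.symm)

theorem order4_count {E : Type*} [Group E] [Finite E] (m : ℕ) (hc : commutator E = Subgroup.center E)
    (hZ : Nat.card (Subgroup.center E) = 2) (hcard : Nat.card E = 2 ^ (2 * m + 1)) (A : Subgroup E)
    (hAc : IsMulCommutative ↥A) (hA2 : ∀ a ∈ A, a ^ 2 = 1) (hAcard : Nat.card A = 2 ^ (m + 1)) :
    Nat.card {x : E // orderOf x = 4} = 2 ^ (2 * m) - 2 ^ m := by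
  classical
  haveI : Fintype E := Fintype.ofFinite E
  haveI : Fintype ↥A := Fintype.ofFinite ↥A
  have hsq : ∀ w ∈ Subgroup.center E, w * w = 1 := by
    intro w hw
    have h := pow_card_eq_one' (G := ↥(Subgroup.center E)) (x := ⟨w, hw⟩)
    rw [hZ] at h
    have h' := congrArg Subtype.val h
    simpa [pow_two] using h'
  have hxx : ∀ x : E, x * x ∈ Subgroup.center E := comm_sq hc hsq
  have hfour : ∀ y : E, orderOf y = 4 ↔ y * y ≠ 1 := by
    intro y
    have h4 : y ^ 4 = 1 := by
      have := hsq _ (hxx y)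
      have e : y ^ 4 = (y * y) * (y * y) := by
        rw [show (4 : ℕ) = 2 + 2 from rfl, pow_add, pow_two]
      rw [e]
      exact this
    constructor
    · intro h hyy
      have hd : orderOf y ∣ 2 := orderOf_dvd_of_pow_eq_one (by rw [pow_two]; exact hyy)
      rw [h] at hd
      exact absurd hd (by decide)
    · intro hyy
      have hd : orderOf y ∣ 4 := orderOf_dvd_of_pow_eq_one h4
      have hmem : orderOf y ∈ Nat.divisors 4 := Nat.mem_divisors.mpr ⟨hd, by norm_num⟩
      have hdiv : Nat.divisors 4 = {1, 2, 4} := by decide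
      rw [hdiv] at hmem
      simp only [Finset.mem_insert, Finset.mem_singleton] at hmem
      rcases hmem with h | h | h
      · exfalso; apply hyy
        have := orderOf_eq_one_iff.mp h
        rw [this]; simp
      · exfalso; apply hyy
        have := pow_orderOf_eq_one y
        rw [h, pow_two] at this; exact this
      · exact h
  have hcent := cent_le m hc hZ hcard A hAc hAcard
  have hcount : ∀ x : E, Nat.card {b : A // orderOf (x * (b : E)) = 4} * 2 = if x ∈ A then 0 else 2 ^ (m + 1) := by
    intro x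
    by_cases hx : x ∈ A
    · rw [if_pos hx]
      have : IsEmpty {b : A // orderOf (x * (b : E)) = 4} := by
        constructor
        rintro ⟨b, hb⟩
        have := hA2 _ (A.mul_mem hx b.2)
        rw [hfour] at hb
        apply hb
        rw [← pow_two]; exact this
      rw [Nat.card_of_isEmpty]
    · rw [if_neg hx]
      have hx' : ∃ b ∈ A, x⁻¹ * b ≠ b * x⁻¹ := by
        by_contra h
        push Not at h
        have := hcent x⁻¹ h
        exact hx (by simpa using A.inv_mem this)
      obtain ⟨b₀, hb₀, hne⟩ := hx'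
      have hker := card_ker_two (Subgroup.center E) hZ ((Cfsg.Agent.S2907.commHom hc x⁻¹).comp A.subtype)
        (by rintro _ ⟨b, rfl⟩; exact Cfsg.Agent.S2907.comm_mem_center hc x⁻¹ b) ⟨b₀, hb₀⟩
        (by
          intro h
          have h' : x⁻¹ * b₀ * x⁻¹⁻¹ * b₀⁻¹ = 1 := h
          apply hne
          have := congrArg (fun t => t * b₀ * x⁻¹) h'
          simpa [mul_assoc] using this)
      rw [hAcard] at hker
      have hφc : ∀ b : A, ((Cfsg.Agent.S2907.commHom hc x⁻¹).comp A.subtype) b ∈ Subgroup.center E :=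
        fun b => Cfsg.Agent.S2907.comm_mem_center hc x⁻¹ b
      have hsqb : ∀ b : A, (x * (b : E)) * (x * (b : E)) = (x * x) * ((Cfsg.Agent.S2907.commHom hc x⁻¹).comp A.subtype) b := by
        intro b
        have hb2 : (b : E)⁻¹ = b := by
          have := hA2 b b.2
          exact inv_eq_of_mul_eq_one_left (by rw [← pow_two]; exact this)
        show x * (b : E) * (x * (b : E)) = x * x * (x⁻¹ * (b : E) * x⁻¹⁻¹ * (b : E)⁻¹)
        rw [hb2]; group
      by_cases hx2 : x * x = 1
      · have e : Nat.card {b : A // orderOf (x * (b : E)) = 4} =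
            Nat.card {b : A // ¬ b ∈ ((Cfsg.Agent.S2907.commHom hc x⁻¹).comp A.subtype).ker} := by
          apply Nat.card_congr
          apply Equiv.subtypeEquivRight
          intro b
          rw [hfour, hsqb, hx2, one_mul, MonoidHom.mem_ker]
        rw [e]
        have h3 := card_compl (fun b : A => b ∈ ((Cfsg.Agent.S2907.commHom hc x⁻¹).comp A.subtype).ker)
        rw [hAcard] at h3
        have h4 : Nat.card {b : A // b ∈ ((Cfsg.Agent.S2907.commHom hc x⁻¹).comp A.subtype).ker} =
            Nat.card ↥(((Cfsg.Agent.S2907.commHom hc x⁻¹).comp A.subtype).ker) := rfl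
        omega
      · have e : Nat.card {b : A // orderOf (x * (b : E)) = 4} =
            Nat.card ↥(((Cfsg.Agent.S2907.commHom hc x⁻¹).comp A.subtype).ker) := by
          apply Nat.card_congr
          apply Equiv.subtypeEquivRight
          intro b
          rw [hfour, hsqb, MonoidHom.mem_ker]
          constructor
          · intro h
            by_contra hφb
            apply h
            rw [← center_two hZ _ _ (hxx x) (hφc b) hx2 hφb]
            exact hsq _ (hxx x)
          · intro h
            rw [h, mul_one]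
            exact hx2
        rw [e]
        exact hker
  have htot : Nat.card {y : E // orderOf y = 4} * Nat.card A = ∑ x : E, Nat.card {b : A // orderOf (x * (b : E)) = 4} := by
    rw [← Nat.card_prod, ← Nat.card_sigma]
    apply Nat.card_congr
    refine Equiv.trans ?_ (Equiv.subtypeProdEquivSigmaSubtype (fun (x : E) (b : A) => orderOf (x * (b : E)) = 4))
    exact
      { toFun := fun p => ⟨(p.1.1 * (p.2 : E)⁻¹, p.2), by
          show orderOf (p.1.1 * (p.2 : E)⁻¹ * (p.2 : E)) = 4
          rw [inv_mul_cancel_right]; exact p.1.2⟩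
        invFun := fun q => (⟨q.1.1 * (q.1.2 : E), q.2⟩, q.1.2)
        left_inv := by
          rintro ⟨⟨y, hy⟩, b⟩
          simp
        right_inv := by
          rintro ⟨⟨x, b⟩, h⟩
          simp }
  have hs1 : (∑ x : E, Nat.card {b : A // orderOf (x * (b : E)) = 4}) * 2 + Nat.card A * 2 ^ (m + 1) = Nat.card E * 2 ^ (m + 1) := by
    have e1 : ∑ x : E, ((if x ∈ A then 0 else 2 ^ (m + 1)) + (if x ∈ A then 2 ^ (m + 1) else 0)) = ∑ x : E, 2 ^ (m + 1) := by
      apply Finset.sum_congr rfl
      intro x _
      by_cases hx : x ∈ A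
      · rw [if_pos hx, if_pos hx, zero_add]
      · rw [if_neg hx, if_neg hx, add_zero]
    rw [Finset.sum_add_distrib, sum_ind, Finset.sum_const, Finset.card_univ, smul_eq_mul, ← Nat.card_eq_fintype_card] at e1
    rw [Finset.sum_mul, Finset.sum_congr rfl (fun x _ => hcount x)]
    exact e1
  rw [← htot, hAcard, hcard] at hs1
  have hP : 0 < 2 ^ m := by positivity
  have e1 : (2 : ℕ) ^ (m + 1) = 2 * 2 ^ m := by ring
  have e2 : (2 : ℕ) ^ (2 * m + 1) = 2 * (2 ^ m * 2 ^ m) := by ring
  have e3 : (2 : ℕ) ^ (2 * m) = 2 ^ m * 2 ^ m := by ring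
  rw [e1, e2] at hs1
  rw [e3]
  have h5 : (4 * 2 ^ m) * (Nat.card {y : E // orderOf y = 4} + 2 ^ m) = (4 * 2 ^ m) * (2 ^ m * 2 ^ m) := by
    nlinarith [hs1]
  have h6 := Nat.eq_of_mul_eq_mul_left (by positivity) h5
  omega

/-- Let E be an extraspecial 2-group of order 2^(2m+1) of plus type, that is, containing an elementary abelian subgroup of order 2^(m+1) (equivalently, a central product of m dihedral groups of order 8). Then E has exactly 2^(2m) − 2^m elements of order 4. -/
theorem result {E : Type*} [Group E] [Finite E] (m : ℕ) (hm : 1 ≤ m) (hE : Cfsg.IsExtraspecial 2 E) (hcard : Nat.card E = 2 ^ (2 * m + 1)) (hplus : ∃ A : Subgroup E, Cfsg.IsElementaryAbelian 2 A ∧ Nat.card A = 2 ^ (m + 1)) : Nat.card {x : E // orderOf x = 4} = 2 ^ (2 * m) - 2 ^ m := by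
  obtain ⟨⟨hp, hfr, hc⟩, hZ⟩ := hE
  obtain ⟨A, ⟨hAc, hA2⟩, hAcard⟩ := hplus
  exact order4_count m hc hZ hcard A hAc hA2 hAcard

end Cfsg.Agent.S2880
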