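import Cfsg.Statements.S2881
import Mathlib
import Cfsg.Statements.S2881
import Cfsg.Agent.S2880

set_option autoImplicit false
open Cfsg
open scoped commutatorElement

namespace Cfsg.Agent.S2881

open scoped commutatorElement

theorem four_dvd_of_five_dvd (m : ℕ) (h : 5 ∣ 2 ^ (2 * m) - 2 ^ m) : 4 ∣ m := by
  have e : 2 ^ (2 * m) - 2 ^ m = 2 ^ m * (2 ^ m - 1) := by
    rw [Nat.mul_sub, mul_one, ← pow_add]
    congr 2
    ring
  rw [e] at h
  have h5 : Nat.Prime 5 := by norm_num
  have h1 : 5 ∣ 2 ^ m - 1 := by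
    rcases (Nat.Prime.dvd_mul h5).mp h with h | h
    · exfalso
      have := Nat.Prime.dvd_of_dvd_pow h5 h
      omega
    · exact h
  have hpos : 0 < 2 ^ m := by positivity
  have h2 : 2 ^ m % 5 = 1 := by omega
  have h3 : 2 ^ m = (2 ^ 4) ^ (m / 4) * 2 ^ (m % 4) := by
    rw [← pow_mul, ← pow_add, Nat.div_add_mod]
  have h4 : (2 ^ 4) ^ (m / 4) % 5 = 1 := by
    rw [Nat.pow_mod]
    norm_num
  have h5' : 2 ^ (m % 4) % 5 = 1 := by
    rw [h3, Nat.mul_mod, h4, one_mul, Nat.mod_mod] at h2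
    exact h2
  have hlt : m % 4 < 4 := Nat.mod_lt _ (by norm_num)
  apply Nat.dvd_of_mod_eq_zero
  interval_cases (m % 4) <;> simp_all

/-- Let E be an extraspecial 2-group of order 2^(2m+1) of plus type (containing an elementary abelian subgroup of order 2^(m+1)), and let ω be an automorphism of E of order 5 whose fixed points are exactly the centre of E. Then m is divisible by 4. -/
theorem result {E : Type*} [Group E] [Finite E] (m : ℕ) (hm : 1 ≤ m) (hE : Cfsg.IsExtraspecial 2 E) (hcard : Nat.card E = 2 ^ (2 * m + 1)) (hplus : ∃ A : Subgroup E, Cfsg.IsElementaryAbelian 2 A ∧ Nat.card A = 2 ^ (m + 1)) (ω : E ≃* E) (hω : orderOf ω = 5) (hfix : ∀ x : E, ω x = x ↔ x ∈ Subgroup.center E) : 4 ∣ m := by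
  classical
  have hN := Cfsg.Agent.S2880.result m hm hE hcard hplus
  obtain ⟨⟨hp, hfr, hc⟩, hZ⟩ := hE
  haveI : Fintype {x : E // orderOf x = 4} := Fintype.ofFinite _
  haveI : Fact (Nat.Prime 5) := ⟨by norm_num⟩
  have hω5 : ω ^ 5 = 1 := by rw [← hω]; exact pow_orderOf_eq_one ω
  let f : Function.End {x : E // orderOf x = 4} := fun x => ⟨ω x.1, by rw [MulEquiv.orderOf_eq]; exact x.2⟩
  have hf : ∀ (k : ℕ) (x : {x : E // orderOf x = 4}), ((f ^ k) x : E) = (ω ^ k) x.1 := by
    intro k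
    induction k with
    | zero => intro x; rfl
    | succ k ih =>
      intro x
      rw [pow_succ, pow_succ]
      show ((f ^ k) (f x) : E) = (ω ^ k) (ω x.1)
      rw [ih]
  have hf5 : f ^ 5 ^ 1 = 1 := by
    funext x
    apply Subtype.ext
    rw [pow_one, hf, hω5]
    rfl
  have hmod := Equiv.Perm.card_fixedPoints_modEq hf5
  have hempty : Fintype.card (Function.fixedPoints f) = 0 := by
    rw [Fintype.card_eq_zero_iff]
    constructor
    rintro ⟨⟨x, hx4⟩, hx⟩
    have h1 : ω x = x := congrArg Subtype.val hx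
    have h2 := (hfix x).mp h1
    have h3 := pow_card_eq_one' (G := ↥(Subgroup.center E)) (x := ⟨x, h2⟩)
    rw [hZ] at h3
    have h4 : x ^ 2 = 1 := congrArg Subtype.val h3
    have h5 : orderOf x ∣ 2 := orderOf_dvd_of_pow_eq_one h4
    rw [hx4] at h5
    exact absurd h5 (by decide)
  rw [hempty, ← Nat.card_eq_fintype_card, hN] at hmod
  exact four_dvd_of_five_dvd m (Nat.modEq_zero_iff_dvd.mp hmod)

end Cfsg.Agent.S2881
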