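import Cfsg.Statements.S2905
import Mathlib
import Cfsg.Statements.S2905
import Cfsg.Agent.S2836
import Cfsg.Agent.Lib.Helper1.Subnormal
import Cfsg.Agent.Lib.Lead.Transfer

set_option autoImplicit false
open Cfsg
open scoped commutatorElement

namespace Cfsg.Agent.S2905

open scoped commutatorElement
open Cfsg.Agent.Lib.Helper8 Cfsg.Agent.Lib.Helper4

theorem exists_lt_subnormal {G : Type*} [Group G] {W : Subgroup G} (hW : W.IsSubnormal) :
    ¬ W.Normal → ∃ K : Subgroup G, K.IsSubnormal ∧ W < K ∧ K ≤ Subgroup.normalizer (W : Set G) := by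
  induction hW with
  | top => intro h; exact absurd (inferInstance : (⊤ : Subgroup G).Normal) h
  | step H K hle hK hN ih =>
    intro hH
    by_cases hHK : H = K
    · subst hHK
      exact ih hH
    · exact ⟨K, hK, lt_of_le_of_ne hle hHK, (Subgroup.normal_subgroupOf_iff_le_normalizer hle).mp hN⟩

theorem card_sup_dvd {G : Type*} [Group G] [Finite G] (A B : Subgroup G)
    (h : A ≤ Subgroup.normalizer (B : Set G)) : Nat.card ↥(A ⊔ B) ∣ Nat.card A * Nat.card B :=
  Dvd.intro _ (Cfsg.Agent.Lib.Helper5.card_sup_mul_card_inf_of_le_normalizer A B h)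

/-- Let P be a finite p-minimal group (a Sylow p-subgroup S is not normal and lies in a unique maximal subgroup M of P) and let F be the normal core of M. Then: every subnormal subgroup N of P contained in M satisfies N ∩ S ≤ O_p(P); if O^p(P) has a normal Sylow p-subgroup then the order of P has at most two prime divisors; every normal subgroup N of P either contains O^p(P) or is contained in F; and O^p(P)F ⧸ F is a minimal normal subgroup of P ⧸ F. -/
theorem result {P : Type*} [Group P] [Finite P] {p : ℕ} [Fact p.Prime] (hP : Cfsg.IsPMinimal p P) (S : Sylow p P) (M : Subgroup P) (hM : IsCoatom M) (hSM : (S : Subgroup P) ≤ M) [hF : M.normalCore.Normal] : (∀ N : Subgroup P, N.IsSubnormal → N ≤ M → N ⊓ (S : Subgroup P) ≤ Cfsg.pCore p P) ∧ ((∀ T : Sylow p ↥(Cfsg.pResidual p P), (T : Subgroup ↥(Cfsg.pResidual p P)).Normal) → (Nat.card P).primeFactors.card ≤ 2) ∧ (∀ N : Subgroup P, N.Normal → Cfsg.pResidual p P ≤ N ∨ N ≤ M.normalCore) ∧ (∀ N : Subgroup P, N.Normal → M.normalCore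 ≤ N → N ≤ Cfsg.pResidual p P ⊔ M.normalCore → N = M.normalCore ∨ N = Cfsg.pResidual p P ⊔ M.normalCore) ∧ M.normalCore < Cfsg.pResidual p P ⊔ M.normalCore := by
  have hover : ∀ X : Subgroup P, (S : Subgroup P) ≤ X → X ≠ ⊤ → X ≤ M := by
    intro X hSX hX
    obtain ⟨M', hM', hXM⟩ := (eq_top_or_exists_le_coatom X).resolve_left hX
    obtain ⟨M₀, -, huniq⟩ := (hP S).2
    have h1 := huniq M' ⟨hM', hSX.trans hXM⟩
    have h2 := huniq M ⟨hM, hSM⟩
    rw [h2, ← h1]; exact hXM
  have hRS : Cfsg.pResidual p P ⊔ (S : Subgroup P) = ⊤ := Cfsg.Agent.Lib.Lead.pResidual_sup_sylow S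
  have hRn : (Cfsg.pResidual p P).Normal := Cfsg.Agent.Lib.Lead.pResidual_normal p P
  have hRM : ¬ Cfsg.pResidual p P ≤ M := by
    intro h
    apply hM.1
    rw [eq_top_iff, ← hRS]
    exact sup_le h hSM
  have h3 : ∀ N : Subgroup P, N.Normal → Cfsg.pResidual p P ≤ N ∨ N ≤ M.normalCore := by
    intro N hN
    by_cases hNM : N ≤ M
    · right
      have := hN
      exact Subgroup.normal_le_normalCore.mpr hNM
    · left
      have hNS : N ⊔ (S : Subgroup P) = ⊤ := by
        by_contra hne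
        exact hNM (le_sup_left.trans (hover _ le_sup_right hne))
      apply pResidual_le_of_le_sup N (S : Subgroup P)
        (by rw [Subgroup.normalizer_eq_top_iff.mpr hN]; exact le_top) S.isPGroup'
      rw [hNS]; exact le_top
  have h5 : M.normalCore < Cfsg.pResidual p P ⊔ M.normalCore := by
    refine lt_of_le_of_ne le_sup_right (fun h => hRM ?_)
    exact (le_sup_left.trans h.ge).trans (Subgroup.normalCore_le M)
  refine ⟨?_, ?_, h3, ?_, h5⟩
  · -- (1)
    have : Nonempty {N : Subgroup P // N.IsSubnormal ∧ N ≤ M} :=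
      ⟨⟨⊥, Subgroup.IsSubnormal.bot, bot_le⟩⟩
    obtain ⟨⟨W, hWs, hWM⟩, hmax⟩ := Finite.exists_max (fun N : {N : Subgroup P // N.IsSubnormal ∧ N ≤ M} => Nat.card ↥N.1)
    have hWmax : ∀ N : Subgroup P, N.IsSubnormal → N ≤ M → N ≤ W := by
      intro N hNs hNM
      have h1 : (W ⊔ N).IsSubnormal := Cfsg.Agent.Lib.Helper1.sup_isSubnormal W N hWs hNs
      have h2 := hmax ⟨W ⊔ N, h1, sup_le hWM hNM⟩
      have h3 : W ⊔ N = W := (Subgroup.eq_of_le_of_card_ge le_sup_left h2).symm
      rw [← h3]; exact le_sup_right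
    have hMW : M ≤ Subgroup.normalizer (W : Set P) := by
      intro m hm
      rw [mem_normalizer_iff_cj]
      have h1 : (cj m W).IsSubnormal := hWs.map (MulAut.conj m).surjective
      have h2 : cj m W ≤ M := by
        rw [cj_le_iff]
        intro x hx
        exact M.mul_mem (M.mul_mem hm (hWM hx)) (M.inv_mem hm)
      exact Subgroup.eq_of_le_of_card_ge (hWmax _ h1 h2) (by rw [card_cj])
    have hWn : W.Normal := by
      by_contra hWn
      obtain ⟨K, hKs, hWK, hKN⟩ := exists_lt_subnormal hWs hWn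
      have hNW : Subgroup.normalizer (W : Set P) = M := by
        by_contra hne
        have hlt : M < Subgroup.normalizer (W : Set P) := lt_of_le_of_ne hMW (fun h => hne h.symm)
        exact hWn (Subgroup.normalizer_eq_top_iff.mp (hM.2 _ hlt))
      rw [hNW] at hKN
      exact absurd (hWmax K hKs hKN) (not_le_of_gt hWK)
    obtain ⟨P₁, hP₁, hP₁n⟩ := Cfsg.Agent.S2836.exists_normal_sylIn hover hM.1 S.isPGroup' W hWn hWM
    have hP₁S : P₁ ≤ (S : Subgroup P) := normal_pGroup_le_sylow S hP₁n hP₁.2.1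
    have hSW : (S : Subgroup P) ⊓ W = P₁ :=
      hP₁.2.2 _ (S.isPGroup'.to_inf_left) (le_inf hP₁S hP₁.1) inf_le_right
    intro N hNs hNM
    have h1 : N ⊓ (S : Subgroup P) ≤ (S : Subgroup P) ⊓ W := le_inf inf_le_right (inf_le_left.trans (hWmax N hNs hNM))
    rw [hSW] at h1
    exact h1.trans (Cfsg.Agent.Lib.Helper4.le_pCore hP₁n hP₁.2.1)
  · -- (2)
    intro hcl
    obtain ⟨T⟩ : Nonempty (Sylow p ↥(Cfsg.pResidual p P)) := inferInstance
    have hTn := hcl T
    have hcjR : ∀ g : P, cj g (Cfsg.pResidual p P) = Cfsg.pResidual p P := fun g =>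
      mem_normalizer_iff_cj.mp (by rw [Subgroup.normalizer_eq_top_iff.mpr hRn]; trivial)
    have hT₀le : (T : Subgroup ↥(Cfsg.pResidual p P)).map (Cfsg.pResidual p P).subtype ≤ Cfsg.pResidual p P :=
      Subgroup.map_subtype_le _
    have hT₀ : SylIn p ((T : Subgroup ↥(Cfsg.pResidual p P)).map (Cfsg.pResidual p P).subtype) (Cfsg.pResidual p P) :=
      (sylIn_iff hT₀le).mpr ⟨T, by
        rw [Subgroup.subgroupOf, Subgroup.comap_map_eq_self_of_injective (Subgroup.subtype_injective _)]⟩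
    have hRT₀ : Cfsg.pResidual p P ≤ Subgroup.normalizer
        (((T : Subgroup ↥(Cfsg.pResidual p P)).map (Cfsg.pResidual p P).subtype : Subgroup P) : Set P) := by
      apply Cfsg.Agent.Lib.Helper4.le_normalizer_of_forall_conj
      rintro r hr _ ⟨x, hx, rfl⟩
      exact ⟨⟨r, hr⟩ * x * ⟨r, hr⟩⁻¹, hTn.conj_mem x hx ⟨r, hr⟩, rfl⟩
    have hT₀n : ((T : Subgroup ↥(Cfsg.pResidual p P)).map (Cfsg.pResidual p P).subtype).Normal := by
      apply Subgroup.normalizer_eq_top_iff.mp
      rw [eq_top_iff]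
      intro g _
      rw [mem_normalizer_iff_cj]
      have h1 : SylIn p (cj g ((T : Subgroup ↥(Cfsg.pResidual p P)).map (Cfsg.pResidual p P).subtype)) (Cfsg.pResidual p P) := by
        have := hT₀.cj g
        rwa [hcjR g] at this
      obtain ⟨r, hr, hle⟩ := hT₀.exists_conj_le h1.2.1 h1.1
      have h2 := Subgroup.eq_of_le_of_card_ge hle (by rw [card_cj, card_cj])
      have h3 : cj g ((T : Subgroup ↥(Cfsg.pResidual p P)).map (Cfsg.pResidual p P).subtype) =
          cj r⁻¹ ((T : Subgroup ↥(Cfsg.pResidual p P)).map (Cfsg.pResidual p P).subtype) := by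
        have h4 := congrArg (cj r⁻¹) h2
        rw [cj_inv_cj] at h4
        exact h4
      rw [h3]
      exact mem_normalizer_iff_cj.mp (hRT₀ (Subgroup.inv_mem _ hr))
    have hcjT : ∀ g : P, cj g ((T : Subgroup ↥(Cfsg.pResidual p P)).map (Cfsg.pResidual p P).subtype) =
        (T : Subgroup ↥(Cfsg.pResidual p P)).map (Cfsg.pResidual p P).subtype := fun g =>
      mem_normalizer_iff_cj.mp (by rw [Subgroup.normalizer_eq_top_iff.mpr hT₀n]; trivial)
    have hidx : M.index ≠ 1 := fun h => hM.1 (Subgroup.index_eq_one.mp h)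
    obtain ⟨t, ht, htd⟩ := Nat.exists_prime_and_dvd hidx
    haveI : Fact t.Prime := ⟨ht⟩
    obtain ⟨Q, hQ, -⟩ := exists_sylIn_ge (p := t) (K := Cfsg.pResidual p P) (Q := ⊥) (IsPGroup.of_bot) bot_le
    have hfr : Subgroup.normalizer ((((T : Subgroup ↥(Cfsg.pResidual p P)).map (Cfsg.pResidual p P).subtype ⊔ Q : Subgroup P)) : Set P) ⊔ Cfsg.pResidual p P = ⊤ := by
      rw [eq_top_iff]
      intro g _
      have h1 : SylIn t (cj g Q) (Cfsg.pResidual p P) := by
        have := hQ.cj g
        rwa [hcjR g] at this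
      obtain ⟨r, hr, hle⟩ := hQ.exists_conj_le h1.2.1 h1.1
      rw [cj_cj] at hle
      have h2 : cj (r * g) Q = Q := Subgroup.eq_of_le_of_card_ge hle (by rw [card_cj])
      have h3 : r * g ∈ Subgroup.normalizer ((((T : Subgroup ↥(Cfsg.pResidual p P)).map (Cfsg.pResidual p P).subtype ⊔ Q : Subgroup P)) : Set P) := by
        rw [mem_normalizer_iff_cj, cj_sup, h2, hcjT]
      have e : g = r⁻¹ * (r * g) := by group
      rw [e]
      exact Subgroup.mul_mem _ (Subgroup.mem_sup_right (Subgroup.inv_mem _ hr)) (Subgroup.mem_sup_left h3)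
    have hnd := Cfsg.Agent.S2836.not_dvd_index_of_sup hRn hT₀ (le_sup_left.trans Subgroup.le_normalizer) hfr
    obtain ⟨S', hS'⟩ := Cfsg.Agent.Lib.Helper7.PS.exists_sylow_le_of_not_dvd_index p _ hnd
    obtain ⟨g, -, hg⟩ := (sylIn_top S').exists_conj_le S.isPGroup' le_top
    have hSN : (S : Subgroup P) ≤ Subgroup.normalizer ((((T : Subgroup ↥(Cfsg.pResidual p P)).map (Cfsg.pResidual p P).subtype ⊔ cj g⁻¹ Q : Subgroup P)) : Set P) := by
      have h2 := cj_le_comm.mp (hg.trans hS')
      rw [cj_normalizer, cj_sup, hcjT] at h2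
      exact h2
    have hQ' : SylIn t (cj g⁻¹ Q) (Cfsg.pResidual p P) := by
      have := hQ.cj g⁻¹
      rwa [hcjR] at this
    by_cases hX : ((T : Subgroup ↥(Cfsg.pResidual p P)).map (Cfsg.pResidual p P).subtype ⊔ cj g⁻¹ Q) ⊔ (S : Subgroup P) = ⊤
    · have hd1 := card_sup_dvd (S : Subgroup P) _ hSN
      have hd2 := card_sup_dvd (cj g⁻¹ Q) ((T : Subgroup ↥(Cfsg.pResidual p P)).map (Cfsg.pResidual p P).subtype)
        (by rw [Subgroup.normalizer_eq_top_iff.mpr hT₀n]; exact le_top)
      rw [sup_comm] at hX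
      rw [hX, Subgroup.card_top] at hd1
      rw [sup_comm] at hd2
      obtain ⟨a, ha⟩ := IsPGroup.iff_card.mp S.isPGroup'
      obtain ⟨b, hb⟩ := IsPGroup.iff_card.mp hT₀.2.1
      obtain ⟨c, hc⟩ := IsPGroup.iff_card.mp hQ'.2.1
      have hdvd : Nat.card P ∣ p ^ a * (t ^ c * p ^ b) := by
        rw [← ha, ← hb, ← hc]
        exact hd1.trans (Nat.mul_dvd_mul_left _ hd2)
      have hprimes : ∀ q : ℕ, q.Prime → q ∣ Nat.card P → q = p ∨ q = t := by
        intro q hq hqd
        have h1 := hqd.trans hdvd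
        rcases (Nat.Prime.dvd_mul hq).mp h1 with h | h
        · left; exact (Nat.prime_dvd_prime_iff_eq hq (Fact.out : p.Prime)).mp (hq.dvd_of_dvd_pow h)
        · rcases (Nat.Prime.dvd_mul hq).mp h with h | h
          · right; exact (Nat.prime_dvd_prime_iff_eq hq ht).mp (hq.dvd_of_dvd_pow h)
          · left; exact (Nat.prime_dvd_prime_iff_eq hq (Fact.out : p.Prime)).mp (hq.dvd_of_dvd_pow h)
      calc (Nat.card P).primeFactors.card ≤ ({p, t} : Finset ℕ).card := Finset.card_le_card (fun q hq => by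
            rw [Nat.mem_primeFactors] at hq
            rcases hprimes q hq.1 hq.2.1 with h | h <;> simp [h])
      _ ≤ 2 := Finset.card_le_two
    · exfalso
      have hle := hover _ le_sup_right hX
      have hQ'M : cj g⁻¹ Q ≤ M := (le_sup_right.trans le_sup_left).trans hle
      have hsup : M ⊔ Cfsg.pResidual p P = ⊤ := by
        rw [eq_top_iff, ← hRS]
        exact sup_le le_sup_right (hSM.trans le_sup_left)
      exact Cfsg.Agent.S2836.not_dvd_index_of_sup (p := t) hRn hQ' hQ'M hsup htd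
  · -- (4)
    intro N hN hFN hNR
    rcases h3 N hN with h | h
    · right; exact le_antisymm hNR (sup_le h hFN)
    · left; exact le_antisymm h hFN

end Cfsg.Agent.S2905
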