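import Cfsg.Statements.S2911
import Cfsg.Agent.Lib.Helper2.InvTransfer

set_option autoImplicit false
open Cfsg

namespace Cfsg.Agent.S2911

theorem result {G : Type*} [Group G] [Finite G] (S : Sylow 2 G) (hS : Nonempty (↥(S : Subgroup G) ≃* Multiplicative (ZMod 2) × DihedralGroup 4)) : ∃ H : Subgroup G, H.index = 2 := by
  classical
  obtain ⟨e⟩ := hS
  have hT1 : ∀ t : (Multiplicative (ZMod 2) × DihedralGroup 4), (∀ y : (Multiplicative (ZMod 2) × DihedralGroup 4), y * t = t * y) → t ≠ 1 → (∀ y : (Multiplicative (ZMod 2) × DihedralGroup 4), y * y ≠ t) → t.1 ≠ 1 := by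
    decide
  obtain ⟨zT, hzT⟩ : ∃ zT : (Multiplicative (ZMod 2) × DihedralGroup 4), zT = (Multiplicative.ofAdd (1 : ZMod 2), 1) := ⟨_, rfl⟩
  have hzT2 : zT * zT = 1 := by rw [hzT]; decide
  have hzTc : ∀ y : (Multiplicative (ZMod 2) × DihedralGroup 4), y * zT = zT * y := by rw [hzT]; decide
  have hzTsq : ∀ y : (Multiplicative (ZMod 2) × DihedralGroup 4), y * y ≠ zT := by rw [hzT]; decide
  have hzT1 : zT ≠ 1 := by rw [hzT]; decide
  have hzTfst : zT.1 ≠ 1 := by rw [hzT]; decide
  obtain ⟨z, hz⟩ : ∃ z : ↥(S : Subgroup G), e z = zT := ⟨e.symm zT, e.apply_symm_apply zT⟩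
  obtain ⟨f, hf⟩ : ∃ f : ↥(S : Subgroup G) →* Multiplicative (ZMod 2), ∀ x, f x = (e x).1 :=
    ⟨(MonoidHom.fst _ _).comp e.toMonoidHom, fun x => rfl⟩
  have hfsurj : Function.Surjective f := by
    intro a
    refine ⟨e.symm (a, 1), ?_⟩
    rw [hf, e.apply_symm_apply]
  have hidx : f.ker.index = 2 := by
    rw [Subgroup.index_ker, MonoidHom.range_eq_top.mpr hfsurj, Subgroup.card_top,
      Nat.card_eq_fintype_card]
    decide
  have hrel : (f.ker.map (S : Subgroup G).subtype).relIndex (S : Subgroup G) = 2 := by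
    have e1 : (f.ker.map (S : Subgroup G).subtype).subgroupOf (S : Subgroup G) = f.ker :=
      Subgroup.comap_map_eq_self_of_injective (Subgroup.subtype_injective _) f.ker
    rw [Subgroup.relIndex, e1]
    exact hidx
  have hmemM : ∀ w : ↥(S : Subgroup G), (w : G) ∈ f.ker.map (S : Subgroup G).subtype → (e w).1 = 1 := by
    rintro w ⟨m, hm, hmw⟩
    have : m = w := Subtype.ext hmw
    have hm' : f m = 1 := MonoidHom.mem_ker.mp hm
    rw [this, hf] at hm'
    exact hm'
  have hodd : Odd (S : Subgroup G).index := by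
    rw [← Nat.not_even_iff_odd, even_iff_two_dvd]
    exact S.not_dvd_index
  have hzz : (z : G) * (z : G) = 1 := by
    have h1 : z * z = 1 := by
      apply e.injective
      rw [map_mul, hz, hzT2, map_one]
    have h2 := congrArg Subtype.val h1
    exact h2
  have hcent : ∀ s ∈ (S : Subgroup G), s * (z : G) = (z : G) * s := by
    intro s hs
    have h1 : (⟨s, hs⟩ : ↥(S : Subgroup G)) * z = z * ⟨s, hs⟩ := by
      apply e.injective
      rw [map_mul, map_mul, hz, hzTc]
    have h2 := congrArg Subtype.val h1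
    exact h2
  obtain ⟨N, hNi, _⟩ := Cfsg.Agent.Lib.Helper2.InvTransfer.involution_transfer' (S : Subgroup G)
    (f.ker.map (S : Subgroup G).subtype) S.isPGroup' hodd hrel (z : G) hzz z.2 hcent (by
      intro g hg hgM
      have hgi : g⁻¹ ∈ Subgroup.normalizer ((S : Subgroup G) : Set G) := inv_mem hg
      have hwS : g⁻¹ * (z : G) * g ∈ (S : Subgroup G) := by
        have h4 := (Subgroup.mem_normalizer_iff.mp hgi (z : G)).mp z.2
        rw [inv_inv] at h4
        exact h4
      have h5 := hmemM ⟨g⁻¹ * (z : G) * g, hwS⟩ hgM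
      refine hT1 (e ⟨g⁻¹ * (z : G) * g, hwS⟩) ?_ ?_ ?_ h5
      · intro y
        obtain ⟨s, rfl⟩ := e.surjective y
        rw [← map_mul, ← map_mul]
        congr 1
        apply Subtype.ext
        have hs' : g * (s : G) * g⁻¹ ∈ (S : Subgroup G) := (Subgroup.mem_normalizer_iff.mp hg (s : G)).mp s.2
        have h6 := hcent _ hs'
        show (s : G) * (g⁻¹ * (z : G) * g) = (g⁻¹ * (z : G) * g) * (s : G)
        calc (s : G) * (g⁻¹ * (z : G) * g) = g⁻¹ * ((g * (s : G) * g⁻¹) * (z : G)) * g := by group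
          _ = g⁻¹ * ((z : G) * (g * (s : G) * g⁻¹)) * g := by rw [h6]
          _ = (g⁻¹ * (z : G) * g) * (s : G) := by group
      · intro h1
        have h2 : (⟨g⁻¹ * (z : G) * g, hwS⟩ : ↥(S : Subgroup G)) = 1 := by
          apply e.injective; rw [h1, map_one]
        have h3 : g⁻¹ * (z : G) * g = 1 := congrArg Subtype.val h2
        have h4 : (z : G) = 1 := by
          have e2 : (z : G) = g * (g⁻¹ * (z : G) * g) * g⁻¹ := by group
          rw [e2, h3]; group
        have h5' : z = 1 := Subtype.ext h4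
        rw [h5', map_one] at hz
        exact hzT1 hz.symm
      · intro y hy
        obtain ⟨s, rfl⟩ := e.surjective y
        rw [← map_mul] at hy
        have h2 : s * s = ⟨g⁻¹ * (z : G) * g, hwS⟩ := e.injective hy
        have h3 : (s : G) * (s : G) = g⁻¹ * (z : G) * g := congrArg Subtype.val h2
        have hs' : g * (s : G) * g⁻¹ ∈ (S : Subgroup G) := (Subgroup.mem_normalizer_iff.mp hg (s : G)).mp s.2
        have h4 : (⟨g * (s : G) * g⁻¹, hs'⟩ : ↥(S : Subgroup G)) * ⟨g * (s : G) * g⁻¹, hs'⟩ = z := by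
          apply Subtype.ext
          show (g * (s : G) * g⁻¹) * (g * (s : G) * g⁻¹) = (z : G)
          have e2 : (g * (s : G) * g⁻¹) * (g * (s : G) * g⁻¹) = g * ((s : G) * (s : G)) * g⁻¹ := by
            group
          rw [e2, h3]; group
        have h5' := congrArg e h4
        rw [map_mul, hz] at h5'
        exact hzTsq _ h5')
  exact ⟨N, hNi⟩

end Cfsg.Agent.S2911
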