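import Cfsg.Statements.S2925
import Cfsg.Agent.Lib.Helper2.Comp24

set_option autoImplicit false
open Cfsg

namespace Cfsg.Agent.S2925

open Cfsg.Agent.Lib.Helper2.Comp in
open Pointwise in
theorem result {X : Type*} [Group X] [Finite X] (K : Subgroup X) (hK : Cfsg.IsComponent K) (T : Sylow 2 X) (Y : Subgroup X) (hYT : Y ≤ (T : Subgroup X)) (hYn : (Y.subgroupOf (T : Subgroup X)).Normal) (hYab : IsMulCommutative ↥Y) (hnot : ¬ Y ≤ Subgroup.normalizer (K : Set X)) (P : Sylow 2 (↥K ⧸ Subgroup.center ↥K)) : IsMulCommutative ↥(P : Subgroup (↥K ⧸ Subgroup.center ↥K)) := by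
  have : Fact (Nat.Prime 2) := ⟨Nat.prime_two⟩
  obtain ⟨y, hyY, hyK⟩ := SetLike.not_le_iff_exists.mp hnot
  obtain ⟨K', hK'⟩ : ∃ K', K' = K.map (MulAut.conj y).toMonoidHom := ⟨_, rfl⟩
  have hmemK' : ∀ k ∈ K, y * k * y⁻¹ ∈ K' := by
    intro k hk
    rw [hK']
    exact ⟨k, hk, rfl⟩
  have hK'c : IsComponent K' := by
    rcases map_component hK (MulAut.conj y).toMonoidHom (MulAut.conj y).surjective with h | h
    · exfalso
      have h0 : K = ⊥ := (Subgroup.map_eq_bot_iff_of_injective K (MulAut.conj y).injective).mp h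
      exact ne_bot_of_isQuasisimple hK.2 h0
    · rw [hK']; exact h
  have hne : K' ≠ K := by
    intro he
    apply hyK
    rw [Subgroup.mem_normalizer_iff]
    intro h
    constructor
    · intro hh
      rw [← he]
      exact hmemK' h hh
    · intro hh
      rw [← he, hK'] at hh
      obtain ⟨k, hk, hkh⟩ := hh
      have h0 : y * k * y⁻¹ = y * h * y⁻¹ := hkh
      have h1 : k = h := by simpa using h0
      rwa [← h1]
  have hcomm : K' ≤ Subgroup.centralizer (K : Set X) := components_commute hK'c hK hne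
  have hd : ∀ r ∈ (T : Subgroup X) ⊓ K, y * r * y⁻¹ * r⁻¹ ∈ Y := by
    intro r hr
    have h1 : r * y⁻¹ * r⁻¹ ∈ Y := by
      have h0 := hYn.conj_mem ⟨y⁻¹, hYT (Y.inv_mem hyY)⟩
        (Subgroup.mem_subgroupOf.mpr (Y.inv_mem hyY)) ⟨r, hr.1⟩
      exact Subgroup.mem_subgroupOf.mp h0
    have h2 := Y.mul_mem hyY h1
    have e : y * (r * y⁻¹ * r⁻¹) = y * r * y⁻¹ * r⁻¹ := by group
    rw [e] at h2
    exact h2
  have key : ∀ r ∈ (T : Subgroup X) ⊓ K, ∀ s ∈ (T : Subgroup X) ⊓ K,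
      s⁻¹ * r⁻¹ * s * r ∈ Subgroup.centralizer (K : Set X) := by
    intro r hr s hs
    obtain ⟨r', hr'⟩ : ∃ r', r' = y * r * y⁻¹ := ⟨_, rfl⟩
    obtain ⟨s', hs'⟩ : ∃ s', s' = y * s * y⁻¹ := ⟨_, rfl⟩
    have hr'K : r' ∈ K' := by rw [hr']; exact hmemK' r hr.2
    have hs'K : s' ∈ K' := by rw [hs']; exact hmemK' s hs.2
    have c1 : s' * r⁻¹ = r⁻¹ * s' :=
      (Subgroup.mem_centralizer_iff.mp (hcomm hs'K) r⁻¹ (K.inv_mem hr.2)).symm
    have c2 : s⁻¹ * r' = r' * s⁻¹ :=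
      Subgroup.mem_centralizer_iff.mp (hcomm hr'K) s⁻¹ (K.inv_mem hs.2)
    have E : (r' * r⁻¹) * (s' * s⁻¹) = (s' * s⁻¹) * (r' * r⁻¹) := by
      have h1 := hd r hr
      have h2 := hd s hs
      rw [← hr'] at h1
      rw [← hs'] at h2
      have h3 := hYab.is_comm.comm ⟨_, h1⟩ ⟨_, h2⟩
      exact congrArg Subtype.val h3
    have E' : r' * s' * r⁻¹ * s⁻¹ = s' * r' * s⁻¹ * r⁻¹ := by
      calc r' * s' * r⁻¹ * s⁻¹ = r' * (s' * r⁻¹) * s⁻¹ := by group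
        _ = r' * (r⁻¹ * s') * s⁻¹ := by rw [c1]
        _ = (r' * r⁻¹) * (s' * s⁻¹) := by group
        _ = (s' * s⁻¹) * (r' * r⁻¹) := E
        _ = s' * (s⁻¹ * r') * r⁻¹ := by group
        _ = s' * (r' * s⁻¹) * r⁻¹ := by rw [c2]
        _ = s' * r' * s⁻¹ * r⁻¹ := by group
    have e3 : s⁻¹ * r⁻¹ * s * r = r'⁻¹ * s'⁻¹ * r' * s' := by
      calc s⁻¹ * r⁻¹ * s * r = (s' * r')⁻¹ * (s' * r' * s⁻¹ * r⁻¹) * (s * r) := by group
        _ = (s' * r')⁻¹ * (r' * s' * r⁻¹ * s⁻¹) * (s * r) := by rw [E']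
        _ = r'⁻¹ * s'⁻¹ * r' * s' := by group
    rw [e3]
    exact hcomm (K'.mul_mem (K'.mul_mem (K'.mul_mem (K'.inv_mem hr'K) (K'.inv_mem hs'K)) hr'K) hs'K)
  obtain ⟨R, hR⟩ := exists_sylow_eq_inf_of_subnormal T hK.1
  have hf : Function.Surjective (QuotientGroup.mk' (Subgroup.center ↥K)) :=
    QuotientGroup.mk'_surjective _
  obtain ⟨g, hg⟩ := MulAction.exists_smul_eq (↥K ⧸ Subgroup.center ↥K) (R.mapSurjective hf) P
  have hQ : ∀ a ∈ ((R.mapSurjective hf : Sylow 2 (↥K ⧸ Subgroup.center ↥K)) : Subgroup (↥K ⧸ Subgroup.center ↥K)),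
      ∀ b ∈ ((R.mapSurjective hf : Sylow 2 (↥K ⧸ Subgroup.center ↥K)) : Subgroup (↥K ⧸ Subgroup.center ↥K)),
      a * b = b * a := by
    intro a ha b hb
    rw [Sylow.coe_mapSurjective] at ha hb
    obtain ⟨r, hr, rfl⟩ := ha
    obtain ⟨s, hs, rfl⟩ := hb
    have hr' : (r : X) ∈ (T : Subgroup X) ⊓ K := by
      have h0 : r ∈ (R : Subgroup ↥K) := hr
      rw [hR, Subgroup.mem_subgroupOf] at h0
      exact ⟨h0, r.2⟩
    have hs' : (s : X) ∈ (T : Subgroup X) ⊓ K := by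
      have h0 : s ∈ (R : Subgroup ↥K) := hs
      rw [hR, Subgroup.mem_subgroupOf] at h0
      exact ⟨h0, s.2⟩
    have hc : s⁻¹ * r⁻¹ * s * r ∈ Subgroup.center ↥K := by
      rw [Subgroup.mem_center_iff]
      intro k
      apply Subtype.ext
      exact Subgroup.mem_centralizer_iff.mp (key r hr' s hs') k.1 k.2
    have h1 : QuotientGroup.mk' (Subgroup.center ↥K) (s⁻¹ * r⁻¹ * s * r) = 1 :=
      (QuotientGroup.eq_one_iff _).mpr hc
    rw [map_mul, map_mul, map_mul, map_inv, map_inv] at h1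
    obtain ⟨a, ha⟩ : ∃ a, a = QuotientGroup.mk' (Subgroup.center ↥K) r := ⟨_, rfl⟩
    obtain ⟨b, hb⟩ : ∃ b, b = QuotientGroup.mk' (Subgroup.center ↥K) s := ⟨_, rfl⟩
    rw [← ha, ← hb] at h1 ⊢
    calc a * b = a * b * (b⁻¹ * a⁻¹ * b * a) := by rw [h1, mul_one]
      _ = b * a := by group
  have hPc : ∀ a ∈ (P : Subgroup (↥K ⧸ Subgroup.center ↥K)),
      ∀ b ∈ (P : Subgroup (↥K ⧸ Subgroup.center ↥K)), a * b = b * a := by
    intro a ha b hb
    rw [← hg, Sylow.coe_subgroup_smul, Subgroup.mem_smul_pointwise_iff_exists] at ha hb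
    obtain ⟨q1, hq1, e1⟩ := ha
    obtain ⟨q2, hq2, e2⟩ := hb
    have e1' : a = g * q1 * g⁻¹ := e1.symm
    have e2' : b = g * q2 * g⁻¹ := e2.symm
    rw [e1', e2']
    calc g * q1 * g⁻¹ * (g * q2 * g⁻¹) = g * (q1 * q2) * g⁻¹ := by group
      _ = g * (q2 * q1) * g⁻¹ := by rw [hQ q1 hq1 q2 hq2]
      _ = g * q2 * g⁻¹ * (g * q1 * g⁻¹) := by group
  exact ⟨⟨fun a b => Subtype.ext (hPc a.1 a.2 b.1 b.2)⟩⟩

end Cfsg.Agent.S2925
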