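import Cfsg.Statements.S2969
import Mathlib
import Cfsg.Agent.Lib.Helper5.Isolated

set_option autoImplicit false
open Cfsg Cfsg.Agent.Lib.Helper5

namespace Cfsg.Agent.S2969

/-- Let G be a finite group, p a prime and x ∈ G an element of p-power order which is isolated in G. If R is a p-subgroup of G containing x, then N_G(R) ≤ C_G(x); in particular x lies in the centre of R. Moreover, if x lies in a normal subgroup N of a subgroup H of G, then H = N·C_H(x). -/
theorem result {G : Type*} [Group G] [Finite G] {p : ℕ} [Fact p.Prime] (x : G) (hx : ∃ k : ℕ, orderOf x = p ^ k) (hiso : Cfsg.IsIsolated x) : (∀ R : Subgroup G, IsPGroup p ↥R → x ∈ R → Subgroup.normalizer (R : Set G) ≤ Subgroup.centralizer ({x} : Set G)) ∧ (∀ H N : Subgroup G, N ≤ H → H ≤ Subgroup.normalizer (N : Set G) → x ∈ N → N ⊔ (H ⊓ Subgroup.centralizer ({x} : Set G)) = H) := by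
  refine ⟨?_, ?_⟩
  · intro R hR hxR g hg
    rw [Subgroup.mem_centralizer_iff]
    intro y hy
    rw [Set.mem_singleton_iff] at hy
    rw [hy]
    have h1 : g * x * g⁻¹ ∈ R := by
      rw [Subgroup.mem_normalizer_iff] at hg
      exact (hg x).mp hxR
    have h2 := isolated_conj_eq_self hiso hx R hR hxR x (Subgroup.mem_zpowers x) g h1
    calc x * g = (g * x * g⁻¹) * g := by rw [h2]
      _ = g * x := by group
  · intro H N hNH hHN hxN
    apply le_antisymm (sup_le hNH inf_le_left)
    intro h hh
    have h1 : h * x * h⁻¹ ∈ N := by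
      have h2 := hHN hh
      rw [Subgroup.mem_normalizer_iff] at h2
      exact (h2 x).mp hxN
    obtain ⟨n, hn, hnx⟩ := isolated_conj_eq_of_mem hiso hx N hxN h h1
    have h3 : n * h ∈ H ⊓ Subgroup.centralizer ({x} : Set G) := by
      refine Subgroup.mem_inf.mpr ⟨mul_mem (hNH hn) hh, ?_⟩
      rw [Subgroup.mem_centralizer_iff]
      intro y hy
      rw [Set.mem_singleton_iff] at hy
      rw [hy]
      calc x * (n * h) = (n * (h * x * h⁻¹) * n⁻¹) * (n * h) := by rw [hnx]
        _ = n * h * x := by group
    have e : h = n⁻¹ * (n * h) := by group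
    rw [e]
    exact mul_mem (Subgroup.mem_sup_left (inv_mem hn)) (Subgroup.mem_sup_right h3)

end Cfsg.Agent.S2969
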