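import Cfsg.Statements.S2970
import Mathlib
import Cfsg.Agent.Lib.Helper5.Isolated

set_option autoImplicit false
open Cfsg Cfsg.Agent.Lib.Helper5

namespace Cfsg.Agent.S2970

/-- Let G be a finite group, p a prime and x ∈ G an element of p-power order which is isolated in G. Then the image of x in any quotient G ⧸ N is isolated in G ⧸ N; and if x ≠ 1 and the Sylow p-subgroups of G are cyclic, then G has a normal p-complement. -/
theorem result {G : Type*} [Group G] [Finite G] {p : ℕ} [Fact p.Prime] (x : G) (hx : ∃ k : ℕ, orderOf x = p ^ k) (hiso : Cfsg.IsIsolated x) : (∀ (N : Subgroup G) [N.Normal], Cfsg.IsIsolated (QuotientGroup.mk x : G ⧸ N)) ∧ (x ≠ 1 → (∀ P : Sylow p G, IsCyclic ↥(P : Subgroup G)) → Cfsg.HasNormalPComplement p G) := by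
  refine ⟨?_, ?_⟩
  · intro N _ gq hcomm
    obtain ⟨g, rfl⟩ := QuotientGroup.mk_surjective gq
    have hk : ∀ a ∈ ({(x : G ⧸ N), (g : G ⧸ N) * (x : G ⧸ N) * (g : G ⧸ N)⁻¹} : Set (G ⧸ N)),
        ∀ b ∈ ({(x : G ⧸ N), (g : G ⧸ N) * (x : G ⧸ N) * (g : G ⧸ N)⁻¹} : Set (G ⧸ N)),
        a * b = b * a := by
      intro a ha b hb
      rcases ha with rfl | rfl <;> rcases hb with rfl | rfl
      · rfl
      · exact hcomm.eq
      · exact hcomm.eq.symm
      · rfl
    have hmc := Subgroup.isMulCommutative_closure hk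
    have hxK : x ∈ (Subgroup.closure ({(x : G ⧸ N), (g : G ⧸ N) * (x : G ⧸ N) * (g : G ⧸ N)⁻¹} :
        Set (G ⧸ N))).comap (QuotientGroup.mk' N) := by
      rw [Subgroup.mem_comap]
      exact Subgroup.subset_closure (Set.mem_insert _ _)
    have hyK : g * x * g⁻¹ ∈ (Subgroup.closure ({(x : G ⧸ N),
        (g : G ⧸ N) * (x : G ⧸ N) * (g : G ⧸ N)⁻¹} : Set (G ⧸ N))).comap (QuotientGroup.mk' N) := by
      rw [Subgroup.mem_comap]
      exact Subgroup.subset_closure (Set.mem_insert_of_mem _ rfl)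
    obtain ⟨k, hkK, hkx⟩ := isolated_conj_eq_of_mem hiso hx _ hxK g hyK
    have hkq : (k : G ⧸ N) ∈ Subgroup.closure ({(x : G ⧸ N),
        (g : G ⧸ N) * (x : G ⧸ N) * (g : G ⧸ N)⁻¹} : Set (G ⧸ N)) := hkK
    have hyqm : (g : G ⧸ N) * (x : G ⧸ N) * (g : G ⧸ N)⁻¹ ∈ Subgroup.closure ({(x : G ⧸ N),
        (g : G ⧸ N) * (x : G ⧸ N) * (g : G ⧸ N)⁻¹} : Set (G ⧸ N)) :=
      Subgroup.subset_closure (Set.mem_insert_of_mem _ rfl)
    have hc := hmc.is_comm.comm ⟨(k : G ⧸ N), hkq⟩ ⟨_, hyqm⟩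
    have hc' : (k : G ⧸ N) * ((g : G ⧸ N) * (x : G ⧸ N) * (g : G ⧸ N)⁻¹) =
        ((g : G ⧸ N) * (x : G ⧸ N) * (g : G ⧸ N)⁻¹) * (k : G ⧸ N) := congrArg Subtype.val hc
    have h5 : (k : G ⧸ N) * ((g : G ⧸ N) * (x : G ⧸ N) * (g : G ⧸ N)⁻¹) * (k : G ⧸ N)⁻¹ =
        (x : G ⧸ N) := by
      have h6 := congrArg (QuotientGroup.mk (s := N)) hkx
      exact h6
    rw [hc', mul_inv_cancel_right] at h5
    exact h5
  · intro hx1 hcyc
    obtain ⟨k, hk⟩ := hx
    have hxp : IsPGroup p (Subgroup.zpowers x) :=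
      IsPGroup.of_card (n := k) (by rw [Nat.card_zpowers, hk])
    obtain ⟨P, hP⟩ := hxp.exists_le_sylow
    have hxP : x ∈ (P : Subgroup G) := hP (Subgroup.mem_zpowers x)
    haveI : IsCyclic P := hcyc P
    rcases Sylow.normalizer_le_centralizer_or_le_commutator P with h | h
    · exact ⟨P, _, MonoidHom.normal_ker _, MonoidHom.ker_transferSylow_isComplement' P h⟩
    · exfalso
      have hxc : x ∈ commutator G := h hxP
      letI : CommGroup ↥(P : Subgroup G) := IsCyclic.commGroup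
      have key : ∀ (i : ℕ) (g₀ : G), g₀⁻¹ * x ^ i * g₀ ∈ (P : Subgroup G) →
          g₀⁻¹ * x ^ i * g₀ = x ^ i := by
        intro i g₀ hg₀
        have h0 := isolated_conj_eq_self hiso ⟨k, hk⟩ (P : Subgroup G) P.2 hxP (x ^ i)
          (pow_mem (Subgroup.mem_zpowers x) i) g₀⁻¹ (by rw [inv_inv]; exact hg₀)
        rw [inv_inv] at h0
        exact h0
      have h1 := MonoidHom.transfer_eq_pow (MonoidHom.id ↥(P : Subgroup G)) x key
      have h2 : x ∈ (MonoidHom.transfer (MonoidHom.id ↥(P : Subgroup G))).ker :=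
        Abelianization.commutator_subset_ker _ hxc
      rw [MonoidHom.mem_ker, h1] at h2
      have h3 : x ^ (P : Subgroup G).index = 1 := congrArg Subtype.val h2
      have h4 : orderOf x ∣ (P : Subgroup G).index := orderOf_dvd_of_pow_eq_one h3
      rw [hk] at h4
      have hk0 : k ≠ 0 := by
        rintro rfl
        rw [pow_zero, orderOf_eq_one_iff] at hk
        exact hx1 hk
      exact P.not_dvd_index (dvd_trans (dvd_pow_self p hk0) h4)

end Cfsg.Agent.S2970
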