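import Cfsg.Statements.S3977
import Cfsg.Agent.Lib.Helper6.ClassTwoPow

set_option autoImplicit false
open Cfsg

namespace Cfsg.Agent.S3977

open Cfsg.Agent.Lib.Helper6

section
variable {G : Type*} [Group G] [Finite G] {p : ℕ} [Fact p.Prime]

theorem pow_eq_one_of_mem {n : ℕ} (H : Subgroup G) (hH : Nat.card H = n) (h : G) (hh : h ∈ H) :
    h ^ n = 1 := by
  have := pow_card_eq_one' (G := H) (x := ⟨h, hh⟩)
  rw [hH] at this
  exact congrArg Subtype.val this

theorem mem_of_pow_eq_one {m s : ℕ} (hG : Nat.card G = p ^ m) (hsm : s ≤ m) (H : Subgroup G)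
    (huniq : ∀ K : Subgroup G, Nat.card K = p ^ s → K = H) (x : G) (hx : x ^ (p ^ s) = 1) :
    x ∈ H := by
  have hp : p.Prime := Fact.out
  obtain ⟨a, ha, hxa⟩ := (Nat.dvd_prime_pow hp).mp (orderOf_dvd_of_pow_eq_one hx)
  obtain ⟨K, hK, hle⟩ := Sylow.exists_subgroup_card_pow_prime_le p (G := G) (n := a) (m := s)
    (by rw [hG]; exact pow_dvd_pow p hsm) (Subgroup.zpowers x) (by rw [Nat.card_zpowers, hxa]) ha
  rw [← huniq K hK]
  exact hle (Subgroup.mem_zpowers x)

theorem le_of_dvd_card {s : ℕ} (H : Subgroup G)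
    (huniq : ∀ K : Subgroup G, Nat.card K = p ^ s → K = H) (L : Subgroup G)
    (hL : p ^ s ∣ Nat.card L) : H ≤ L := by
  obtain ⟨K, hK⟩ := Sylow.exists_subgroup_card_pow_prime p (G := L) hL
  have := huniq (K.map L.subtype) (by
    rw [Subgroup.card_map_of_injective L.subtype_injective, hK])
  rw [← this]
  exact Subgroup.map_subtype_le K

theorem cyclic_base {s : ℕ} (hG : Nat.card G = p ^ (s + 1)) (H : Subgroup G)
    (hH : Nat.card H = p ^ s)
    (huniq : ∀ K : Subgroup G, Nat.card K = p ^ s → K = H) : IsCyclic G := by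
  have hp : p.Prime := Fact.out
  have hne : H ≠ ⊤ := by
    intro h
    rw [h, Subgroup.card_top, hG] at hH
    exact absurd (Nat.pow_right_injective hp.two_le hH) (by omega)
  obtain ⟨x, hx⟩ : ∃ x, x ∉ H := by
    by_contra hcon
    push Not at hcon
    exact hne (eq_top_iff.mpr (fun x _ => hcon x))
  have hx1 : x ^ (p ^ s) ≠ 1 := fun h => hx (mem_of_pow_eq_one hG (Nat.le_succ s) H huniq x h)
  have hdvd : orderOf x ∣ p ^ (s + 1) := by rw [← hG]; exact orderOf_dvd_natCard x
  obtain ⟨a, ha, hxa⟩ := (Nat.dvd_prime_pow hp).mp hdvd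
  have : a = s + 1 := by
    by_contra hne
    have : a ≤ s := by omega
    apply hx1
    apply orderOf_dvd_iff_pow_eq_one.mp
    rw [hxa]; exact pow_dvd_pow p this
  apply isCyclic_of_orderOf_eq_card x
  rw [hxa, this, hG]

theorem unique_succ {m s : ℕ} (hG : Nat.card G = p ^ m) (hs : 1 ≤ s) (hsm : s + 1 < m)
    (h2 : p ≠ 2 ∨ 2 ≤ s) (H : Subgroup G) (hH : Nat.card H = p ^ s)
    (huniq : ∀ K : Subgroup G, Nat.card K = p ^ s → K = H) :
    ∃ K₁ : Subgroup G, Nat.card K₁ = p ^ (s + 1) ∧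
      ∀ K : Subgroup G, Nat.card K = p ^ (s + 1) → K = K₁ := by
  have hp : p.Prime := Fact.out
  have hstar := mem_of_pow_eq_one hG (by omega : s ≤ m) H huniq
  have hss := le_of_dvd_card H huniq
  have hout : ∀ x, x ∉ H → H ≤ Subgroup.zpowers x := by
    intro x hx
    apply hss
    rw [Nat.card_zpowers]
    obtain ⟨a, -, hxa⟩ := (Nat.dvd_prime_pow hp).mp (hG ▸ orderOf_dvd_natCard x)
    rw [hxa]
    apply pow_dvd_pow
    by_contra hlt
    apply hx; apply hstar
    apply orderOf_dvd_iff_pow_eq_one.mp; rw [hxa]; exact pow_dvd_pow p (by omega)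
  have hidx : H.index * p ^ s = p ^ m := by rw [← hH, ← hG]; exact H.index_mul_card
  have hHne : ∃ x0, x0 ∉ H := by
    by_contra hcon
    push Not at hcon
    have htop : H = ⊤ := eq_top_iff.mpr (fun x _ => hcon x)
    rw [htop, Subgroup.card_top, hG] at hH
    exact absurd (Nat.pow_right_injective hp.two_le hH) (by omega)
  have hcent : ∀ h ∈ H, ∀ g : G, h * g = g * h := by
    intro h hh g
    by_cases hg : g ∈ H
    · obtain ⟨x0, hx0⟩ := hHne
      obtain ⟨i, rfl⟩ := Subgroup.mem_zpowers_iff.mp (hout x0 hx0 hh)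
      obtain ⟨j, rfl⟩ := Subgroup.mem_zpowers_iff.mp (hout x0 hx0 hg)
      rw [← zpow_add, ← zpow_add, add_comm]
    · obtain ⟨i, rfl⟩ := Subgroup.mem_zpowers_iff.mp (hout g hg hh)
      exact (Commute.zpow_self g i).eq
  have hHn : H.Normal := ⟨fun n hn g => by rw [← hcent n hn g]; simpa using hn⟩
  have hQp : IsPGroup p (G ⧸ H) := (IsPGroup.of_card hG).to_quotient H
  have hQnt : Nontrivial (G ⧸ H) := by
    rw [← Finite.one_lt_card_iff_nontrivial, ← Subgroup.index_eq_card]
    by_contra hcon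
    have h1 : H.index = 1 := by have := H.index_ne_zero_of_finite; omega
    rw [h1, one_mul] at hidx
    exact absurd (Nat.pow_right_injective hp.two_le hidx) (by omega)
  have hcnt := hQp.center_nontrivial
  obtain ⟨⟨t, ht⟩, htne⟩ := exists_ne (1 : Subgroup.center (G ⧸ H))
  have htne' : t ≠ 1 := fun h => htne (Subtype.ext h)
  obtain ⟨a, hta⟩ := IsPGroup.iff_orderOf.mp hQp t
  have ha0 : a ≠ 0 := by
    intro h0
    rw [h0, pow_zero, orderOf_eq_one_iff] at hta
    exact htne' hta
  obtain ⟨z, hz⟩ := QuotientGroup.mk_surjective (s := H) (t ^ (p ^ (a - 1)))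
  have hzH : z ∉ H := by
    intro hzH
    have h1 : ((z : G) : G ⧸ H) = 1 := (QuotientGroup.eq_one_iff z).mpr hzH
    rw [hz] at h1
    have h2 := orderOf_dvd_of_pow_eq_one h1
    rw [hta] at h2
    have := (Nat.pow_dvd_pow_iff_le_right hp.one_lt).mp h2
    omega
  have hzp : z ^ p ∈ H := by
    apply (QuotientGroup.eq_one_iff (z ^ p)).mp
    rw [QuotientGroup.mk_pow, hz, ← pow_mul, ← pow_succ, Nat.sub_add_cancel (by omega), ← hta,
      pow_orderOf_eq_one]
  have hzc : ((z : G) : G ⧸ H) ∈ Subgroup.center (G ⧸ H) := by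
    rw [hz]; exact Subgroup.pow_mem _ ht _
  -- order of z
  have hzord : orderOf z = p ^ (s + 1) := by
    obtain ⟨b, -, hzb⟩ := (Nat.dvd_prime_pow hp).mp (hG ▸ orderOf_dvd_natCard z)
    have hb1 : s + 1 ≤ b := by
      by_contra hlt
      apply hzH; apply hstar
      apply orderOf_dvd_iff_pow_eq_one.mp; rw [hzb]; exact pow_dvd_pow p (by omega)
    have hb2 : b ≤ s + 1 := by
      have h1 := pow_eq_one_of_mem H hH _ hzp
      rw [← pow_mul, ← pow_succ'] at h1
      have h2 := orderOf_dvd_of_pow_eq_one h1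
      rw [hzb] at h2
      exact (Nat.pow_dvd_pow_iff_le_right hp.one_lt).mp h2
    rw [hzb]; congr 1; omega
  have hHz : Subgroup.zpowers (z ^ p) = H := by
    apply huniq
    rw [Nat.card_zpowers, orderOf_pow' z hp.ne_zero, hzord,
      Nat.gcd_eq_right (dvd_pow_self p (by omega)), pow_succ, Nat.mul_div_cancel _ hp.pos]
  have hK1 : Nat.card (Subgroup.zpowers z) = p ^ (s + 1) := by rw [Nat.card_zpowers, hzord]
  refine ⟨Subgroup.zpowers z, hK1, ?_⟩
  intro K hK
  by_contra hne
  obtain ⟨y, hyK, hyK1⟩ : ∃ y ∈ K, y ∉ Subgroup.zpowers z := by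
    by_contra hcon
    push Not at hcon
    exact hne (Subgroup.eq_of_le_of_card_ge hcon (by rw [hK, hK1]))
  have hyp : y ^ p ∈ H := by
    apply hstar
    rw [← pow_mul, ← pow_succ']
    exact pow_eq_one_of_mem K hK y hyK
  have hyp' := hyp
  rw [← hHz] at hyp'
  obtain ⟨j, hj⟩ := Subgroup.mem_zpowers_iff.mp hyp'
  have hu1 : z ^ (-j) ∈ Subgroup.zpowers z := Subgroup.zpow_mem _ (Subgroup.mem_zpowers z) _
  have huc : ((z ^ (-j) : G) : G ⧸ H) ∈ Subgroup.center (G ⧸ H) := by
    rw [QuotientGroup.mk_zpow]; exact Subgroup.zpow_mem _ hzc _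
  have hup : (z ^ (-j)) ^ p * y ^ p = 1 := by
    rw [← hj, ← zpow_natCast z p, ← zpow_natCast (z ^ (-j)) p, ← zpow_mul, ← zpow_mul,
      ← zpow_add]
    have : -j * (p : ℤ) + (p : ℤ) * j = 0 := by ring
    rw [this, zpow_zero]
  generalize z ^ (-j) = u at hu1 huc hup
  have hc : y⁻¹ * u⁻¹ * y * u ∈ H := by
    apply (QuotientGroup.eq_one_iff _).mp
    have h1 := Subgroup.mem_center_iff.mp huc (y : G ⧸ H)
    simp only [QuotientGroup.mk_mul, QuotientGroup.mk_inv]
    rw [mul_assoc, h1]; group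
  have hyu : y * u = u * y * (y⁻¹ * u⁻¹ * y * u) := by group
  generalize y⁻¹ * u⁻¹ * y * u = c at hc hyu
  have hcu : Commute c u := hcent c hc u
  have hcy : Commute c y := hcent c hc y
  have hcp : c ^ p = 1 := by
    have h1 := pow_mul_of_central_comm u y c hyu hcy p
    rw [hcent _ hyp u] at h1
    have h2 : u * y ^ p * 1 = u * y ^ p * c ^ p := by rw [mul_one]; exact h1
    exact (mul_left_cancel h2).symm
  have hform := mul_pow_of_central_comm u y c hyu hcu hcy p
  rw [hup, one_mul] at hform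
  -- find d
  obtain ⟨d, hdH, hd⟩ : ∃ d ∈ H, d ^ p = c ^ (p.choose 2) := by
    rcases h2 with h2 | h2
    · refine ⟨1, H.one_mem, ?_⟩
      have h3 : p ∣ p.choose 2 := hp.dvd_choose_self (by norm_num) (by
        have := hp.two_le; omega)
      obtain ⟨e, he⟩ := h3
      rw [he, pow_mul, hcp, one_pow, one_pow]
    · by_cases hp2 : p = 2
      · subst hp2
        have hc' := hc
        rw [← hHz] at hc'
        obtain ⟨k, hk⟩ := Subgroup.mem_zpowers_iff.mp hc'
        have h3 : (z ^ 2) ^ (2 * k) = 1 := by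
          rw [mul_comm, zpow_mul, hk]
          exact_mod_cast hcp
        have h4 := orderOf_dvd_iff_zpow_eq_one.mpr h3
        have h5 : orderOf (z ^ 2) = 2 ^ s := by
          rw [← Nat.card_zpowers, hHz, hH]
        rw [h5] at h4
        have h6 : (2 : ℤ) ∣ k := by
          have h7 : (2 : ℤ) ^ 2 ∣ 2 * k := by
            refine dvd_trans ?_ h4
            push_cast
            exact pow_dvd_pow 2 h2
          have h8 : (2 : ℤ) * 2 ∣ 2 * k := by simpa [pow_two] using h7
          exact (mul_dvd_mul_iff_left (by norm_num : (2 : ℤ) ≠ 0)).mp h8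
        obtain ⟨k', rfl⟩ := h6
        refine ⟨(z ^ 2) ^ k', ?_, ?_⟩
        · rw [← hHz]; exact Subgroup.zpow_mem _ (Subgroup.mem_zpowers _) _
        · have : Nat.choose 2 2 = 1 := by decide
          rw [this, pow_one, ← hk, ← zpow_natCast ((z ^ 2) ^ k') 2, ← zpow_mul, mul_comm]
          norm_num
      · refine ⟨1, H.one_mem, ?_⟩
        have h3 : p ∣ p.choose 2 := hp.dvd_choose_self (by norm_num) (by
          have := hp.two_le; omega)
        obtain ⟨e, he⟩ := h3
        rw [he, pow_mul, hcp, one_pow, one_pow]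
  have hx : (u * y * d⁻¹) ^ p = 1 := by
    have hcomm : Commute (u * y) d⁻¹ := by
      have := hcent d⁻¹ (H.inv_mem hdH) (u * y)
      exact this.symm
    rw [hcomm.mul_pow, hform, inv_pow, hd, mul_inv_cancel]
  have hxH : u * y * d⁻¹ ∈ H := by
    apply hstar
    obtain ⟨s', rfl⟩ : ∃ s', s = s' + 1 := ⟨s - 1, by omega⟩
    rw [pow_succ', pow_mul, hx, one_pow]
  apply hyK1
  have hHle : H ≤ Subgroup.zpowers z := hout z hzH
  have : y = u⁻¹ * (u * y * d⁻¹) * d := by group
  rw [this]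
  exact Subgroup.mul_mem _ (Subgroup.mul_mem _ (Subgroup.inv_mem _ hu1) (hHle hxH)) (hHle hdH)

theorem main : ∀ (d s m : ℕ), Nat.card G = p ^ m → s + d + 1 = m → 1 ≤ s → (p ≠ 2 ∨ 2 ≤ s) →
    (∀ H K : Subgroup G, Nat.card H = p ^ s → Nat.card K = p ^ s → H = K) → IsCyclic G := by
  intro d
  induction d with
  | zero =>
    intro s m hG hsm hs h2 huniq
    obtain ⟨H, hH⟩ := Sylow.exists_subgroup_card_pow_prime p (G := G) (n := s)
      (by rw [hG]; exact pow_dvd_pow p (by omega))
    have : m = s + 1 := by omega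
    subst this
    exact cyclic_base hG H hH (fun K hK => huniq K H hK hH)
  | succ d ih =>
    intro s m hG hsm hs h2 huniq
    obtain ⟨H, hH⟩ := Sylow.exists_subgroup_card_pow_prime p (G := G) (n := s)
      (by rw [hG]; exact pow_dvd_pow p (by omega))
    obtain ⟨K₁, hK₁, hu⟩ := unique_succ hG hs (by omega) h2 H hH (fun K hK => huniq K H hK hH)
    exact ih (s + 1) m hG (by omega) (by omega) (Or.inr (by omega))
      (fun A B hA hB => (hu A hA).trans (hu B hB).symm)

end

/-- Let `p` be a prime and `G` a group of order `p ^ m` which has exactly one subgroup of order `p ^ s`, where `1 ≤ s < m`, and where `s ≥ 2` if `p = 2`. Then `G` is cyclic. (For `p = 2` and `s = 1` the generalized quaternion groups also occur; that case is the classical criterion for a unique involution.) -/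
theorem result {G : Type*} [Group G] [Finite G] (p m s : ℕ) (hp : p.Prime) (hG : Nat.card G = p ^ m) (hs : 1 ≤ s) (hsm : s < m) (h2 : p ≠ 2 ∨ 2 ≤ s) (huniq : ∀ H K : Subgroup G, Nat.card H = p ^ s → Nat.card K = p ^ s → H = K) : IsCyclic G := by
  have _ : Fact p.Prime := ⟨hp⟩
  exact main (m - s - 1) s m hG (by omega) hs h2 huniq

end Cfsg.Agent.S3977
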