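import Cfsg.Statements.S2971
import Mathlib
import Cfsg.Agent.Lib.Helper5.DStar
import Cfsg.Agent.S2970
import Cfsg.Agent.S3977

set_option autoImplicit false
open Cfsg Cfsg.Agent.Lib.Helper5

namespace Cfsg.Agent.S2971

/-- the subgroup generated by pairwise commuting elements of order dividing `p` is commutative
of exponent dividing `p` -/
theorem closure_comm_exp {G : Type*} [Group G] (p : ℕ) (S : Set G)
    (hc : ∀ a ∈ S, ∀ b ∈ S, a * b = b * a) (hp : ∀ a ∈ S, a ^ p = 1) :
    IsMulCommutative (Subgroup.closure S) ∧ ∀ a ∈ Subgroup.closure S, a ^ p = 1 := by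
  have h1 : Subgroup.closure S ≤ Subgroup.centralizer S := by
    rw [Subgroup.closure_le]
    intro a ha
    rw [SetLike.mem_coe, Subgroup.mem_centralizer_iff]
    intro b hb
    exact hc b hb a ha
  have hcomm : ∀ a ∈ Subgroup.closure S, ∀ b ∈ Subgroup.closure S, a * b = b * a := by
    intro a ha b hb
    have h2 : Subgroup.closure S ≤ Subgroup.centralizer {b} := by
      rw [Subgroup.closure_le]
      intro k hk
      rw [SetLike.mem_coe, Subgroup.mem_centralizer_iff]
      intro b' hb'
      rw [Set.mem_singleton_iff] at hb'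
      rw [hb']
      exact (Subgroup.mem_centralizer_iff.mp (h1 hb) k hk).symm
    have h3 := Subgroup.mem_centralizer_iff.mp (h2 ha) b rfl
    exact h3.symm
  refine ⟨isMulCommutative_of_comm hcomm, ?_⟩
  intro a ha
  induction ha using Subgroup.closure_induction with
  | mem k hk => exact hp k hk
  | one => simp
  | mul a b ha hb iha ihb =>
    have e : Commute a b := hcomm a ha b hb
    rw [e.mul_pow, iha, ihb, one_mul]
  | inv a ha iha => rw [inv_pow, iha, inv_one]

/-- for an odd prime `p`, the Sylow `p`-subgroups of a group of `p`-rank at most one are cyclic -/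
theorem sylow_cyclic_of_rank_one {G : Type*} [Group G] [Finite G] {p : ℕ} [Fact p.Prime]
    (hp : p ≠ 2) (hrk : Cfsg.PRankLE p 1 G) (P : Sylow p G) : IsCyclic ↥(P : Subgroup G) := by
  have hpp : p.Prime := Fact.out
  obtain ⟨m, hm⟩ := IsPGroup.iff_card.mp P.isPGroup'
  rcases Nat.lt_or_ge 1 m with hm1 | hm1
  · haveI : Nontrivial ↥(P : Subgroup G) := by
      rw [← Finite.one_lt_card_iff_nontrivial, hm]
      exact Nat.one_lt_pow (by omega) hpp.one_lt
    have hZp : IsPGroup p ↥(Subgroup.center ↥(P : Subgroup G)) := P.isPGroup'.to_subgroup _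
    haveI hZnt : Nontrivial ↥(Subgroup.center ↥(P : Subgroup G)) := P.isPGroup'.center_nontrivial
    obtain ⟨j, hj⟩ := IsPGroup.iff_card.mp hZp
    have hj0 : j ≠ 0 := by
      rintro rfl
      rw [pow_zero] at hj
      have h1 := Finite.one_lt_card_iff_nontrivial.mpr hZnt
      omega
    have hdvd : p ∣ Nat.card ↥(Subgroup.center ↥(P : Subgroup G)) := by
      rw [hj]; exact dvd_pow_self p hj0
    obtain ⟨⟨z, hzc⟩, hz⟩ := exists_prime_orderOf_dvd_card' p hdvd
    have hzo : orderOf z = p :=
      (Subgroup.orderOf_coe (⟨z, hzc⟩ : ↥(Subgroup.center ↥(P : Subgroup G)))).trans hz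
    have hzoG : orderOf (z : G) = p := by rw [Subgroup.orderOf_coe]; exact hzo
    have key : ∀ h : ↥(P : Subgroup G), h ^ p = 1 → h ∈ Subgroup.zpowers z := by
      intro h hh
      obtain ⟨hAc, hAe⟩ := closure_comm_exp p ({(h : G), (z : G)} : Set G)
        (by
          have hhz : (h : G) * (z : G) = (z : G) * (h : G) :=
            congrArg Subtype.val (Subgroup.mem_center_iff.mp hzc h)
          intro a ha b hb
          rcases ha with rfl | rfl <;> rcases hb with rfl | rfl
          · rfl
          · exact hhz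
          · exact hhz.symm
          · rfl)
        (by
          intro a ha
          rcases ha with rfl | rfl
          · have h1 := congrArg Subtype.val hh
            simpa using h1
          · have h1 := pow_orderOf_eq_one (z : G)
            rwa [hzoG] at h1)
      have hcard := hrk _ hAc hAe
      rw [pow_one] at hcard
      have hle : Subgroup.zpowers (z : G) ≤ Subgroup.closure ({(h : G), (z : G)} : Set G) := by
        rw [Subgroup.zpowers_le]; exact Subgroup.subset_closure (by simp)
      have heq := Subgroup.eq_of_le_of_card_ge hle (by rw [Nat.card_zpowers, hzoG]; exact hcard)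
      have hmem : (h : G) ∈ Subgroup.zpowers (z : G) := by
        rw [heq]; exact Subgroup.subset_closure (by simp)
      obtain ⟨i, hi⟩ := Subgroup.mem_zpowers_iff.mp hmem
      rw [Subgroup.mem_zpowers_iff]
      refine ⟨i, Subtype.ext ?_⟩
      simpa using hi
    have huniq0 : ∀ H : Subgroup ↥(P : Subgroup G), Nat.card H = p ^ 1 →
        H = Subgroup.zpowers z := by
      intro H hH
      rw [pow_one] at hH
      apply Subgroup.eq_of_le_of_card_ge
      · intro h hh
        apply key
        have h1 : (⟨h, hh⟩ : ↥H) ^ Nat.card ↥H = 1 := pow_card_eq_one'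
        rw [hH] at h1
        have h2 := congrArg Subtype.val h1
        simpa using h2
      · rw [Nat.card_zpowers, hzo, hH]
    exact Cfsg.Agent.S3977.result p m 1 hpp hm le_rfl hm1 (Or.inl hp)
      (fun H K hH hK => (huniq0 H hH).trans (huniq0 K hK).symm)
  · interval_cases m
    · rw [pow_zero] at hm
      haveI : Subsingleton ↥(P : Subgroup G) := (Nat.card_eq_one_iff_unique.mp hm).1
      exact isCyclic_of_subsingleton
    · rw [pow_one] at hm
      exact isCyclic_of_prime_card hm

/-- Let G be a finite group and p an odd prime such that G has p-rank at most 1 (no elementary abelian subgroup of order p²). If x ∈ G is an isolated element of order p, then x is central modulo the largest normal subgroup of G of order prime to p. -/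
theorem result {G : Type*} [Group G] [Finite G] {p : ℕ} [Fact p.Prime] (hp : p ≠ 2) (hrk : Cfsg.PRankLE p 1 G) (x : G) (hx : orderOf x = p) (hiso : Cfsg.IsIsolated x) : Cfsg.InZStar p x := by
  have hpp : p.Prime := Fact.out
  have hx1 : x ≠ 1 := by
    intro h
    rw [h, orderOf_one] at hx
    exact hpp.one_lt.ne hx
  have hcyc : ∀ P : Sylow p G, IsCyclic ↥(P : Subgroup G) :=
    fun P => sylow_cyclic_of_rank_one hp hrk P
  obtain ⟨P, N, hNn, hcompl⟩ :=
    (Cfsg.Agent.S2970.result x ⟨1, by rw [hx, pow_one]⟩ hiso).2 hx1 hcyc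
  have hNle : N ≤ Cfsg.pPrimeCore p G := by
    apply le_sSup
    refine ⟨hNn, ?_⟩
    have h1 : (P : Subgroup G).index = Nat.card N := hcompl.index_eq_card
    rw [← h1]
    exact (Nat.Coprime.symm ((Nat.Prime.coprime_iff_not_dvd hpp).mpr P.not_dvd_index))
  have hPc : ∀ a ∈ (P : Subgroup G), ∀ b ∈ (P : Subgroup G), a * b = b * a := by
    intro a ha b hb
    haveI := hcyc P
    letI := IsCyclic.commGroup (α := ↥(P : Subgroup G))
    exact congrArg Subtype.val (mul_comm (⟨a, ha⟩ : ↥(P : Subgroup G)) ⟨b, hb⟩)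
  have hdec : ∀ g : G, ∃ n ∈ N, ∃ u ∈ (P : Subgroup G), g = n * u := by
    intro g
    obtain ⟨⟨n, u⟩, hnu, -⟩ := hcompl.existsUnique g
    exact ⟨n.1, n.2, u.1, u.2, hnu.symm⟩
  intro g
  apply hNle
  obtain ⟨n₁, hn₁, u₁, hu₁, h1⟩ := hdec g
  obtain ⟨n₂, hn₂, u₂, hu₂, h2⟩ := hdec x
  rw [h1, h2]
  have e : n₁ * u₁ * (n₂ * u₂) * (n₁ * u₁)⁻¹ * (n₂ * u₂)⁻¹ =
      n₁ * (u₁ * n₂ * u₁⁻¹) * (u₁ * u₂ * u₁⁻¹ * u₂⁻¹) * (u₂ * n₁⁻¹ * u₂⁻¹) * n₂⁻¹ := by group
  have e2 : u₁ * u₂ * u₁⁻¹ * u₂⁻¹ = 1 := by rw [hPc u₁ hu₁ u₂ hu₂]; group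
  rw [e, e2, mul_one]
  exact mul_mem (mul_mem (mul_mem hn₁ (hNn.conj_mem _ hn₂ _)) (hNn.conj_mem _ (inv_mem hn₁) _))
    (inv_mem hn₂)

end Cfsg.Agent.S2971
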