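import Cfsg.Statements.S2972
import Mathlib
import Cfsg.Agent.Lib.Lead.PCore2
import Cfsg.Agent.Lib.Helper7.PPrime
import Cfsg.Agent.Lib.Helper3.Centric

set_option autoImplicit false
open Cfsg

namespace Cfsg.Agent.S2972


open Cfsg.Agent.Lib

theorem seq_key {G : Type*} [Group G] (x : G) (h : ℕ → G) (hcomm : ∀ i j, Commute (h i) (h j))
    (hx : ∀ i, h (i+1) = x * h i * x⁻¹) (k : ℕ) :
    (∀ j, Commute (h j) ((List.range k).map h).prod) ∧
    x * ((List.range k).map h).prod * x⁻¹ = (h 0)⁻¹ * ((List.range k).map h).prod * h k ∧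
    (x * ((List.range k).map (fun i => h i ^ i)).prod * x⁻¹) * (x * ((List.range k).map h).prod * x⁻¹)
      = ((List.range (k+1)).map (fun i => h i ^ i)).prod := by
  induction k with
  | zero => simp
  | succ k ih =>
    obtain ⟨ih1, ih2, ih3⟩ := ih
    have e1 : ((List.range (k+1)).map h).prod = ((List.range k).map h).prod * h k := by
      simp [List.range_succ]
    have e2 : ∀ m, ((List.range (m+1)).map (fun i => h i ^ i)).prod
        = ((List.range m).map (fun i => h i ^ i)).prod * h m ^ m := by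
      intro m; simp [List.range_succ]
    refine ⟨?_, ?_, ?_⟩
    · intro j; rw [e1]; exact (ih1 j).mul_right (hcomm j k)
    · rw [e1]
      have e3 : x * (((List.range k).map h).prod * h k) * x⁻¹
          = (x * ((List.range k).map h).prod * x⁻¹) * (x * h k * x⁻¹) := by group
      rw [e3, ih2, ← hx k]; group
    · rw [e2 (k+1), e1]
      rw [e2 k] at ih3 ⊢
      have e3 : x * (((List.range k).map h).prod * h k) * x⁻¹
          = (x * ((List.range k).map h).prod * x⁻¹) * h (k+1) := by rw [hx k]; group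
      have e4 : x * (((List.range k).map (fun i => h i ^ i)).prod * h k ^ k) * x⁻¹
          = (x * ((List.range k).map (fun i => h i ^ i)).prod * x⁻¹) * h (k+1) ^ k := by
        rw [hx k, conj_pow]; group
      have e5 : Commute (h (k+1)) (x * ((List.range k).map h).prod * x⁻¹) := by
        rw [ih2]
        exact (((hcomm (k+1) 0).inv_right).mul_right (ih1 (k+1))).mul_right (hcomm (k+1) k)
      have e6 : Commute (h (k+1) ^ k) (x * ((List.range k).map h).prod * x⁻¹) := e5.pow_left k
      rw [e3, e4]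
      calc x * ((List.range k).map (fun i => h i ^ i)).prod * x⁻¹ * h (k + 1) ^ k *
            (x * ((List.range k).map h).prod * x⁻¹ * h (k + 1))
          = x * ((List.range k).map (fun i => h i ^ i)).prod * x⁻¹ * (h (k + 1) ^ k *
            (x * ((List.range k).map h).prod * x⁻¹)) * h (k + 1) := by group
        _ = x * ((List.range k).map (fun i => h i ^ i)).prod * x⁻¹ *
            ((x * ((List.range k).map h).prod * x⁻¹) * h (k + 1) ^ k) * h (k + 1) := by rw [e6.eq]
        _ = (x * ((List.range k).map (fun i => h i ^ i)).prod * x⁻¹ *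
            (x * ((List.range k).map h).prod * x⁻¹)) * (h (k + 1) ^ k * h (k + 1)) := by group
        _ = _ := by rw [ih3, ← pow_succ]

theorem iso_key {G : Type*} [Group G] (x : G) (hiso : Cfsg.IsIsolated x) (h : ℕ → G)
    (hcomm : ∀ i j, Commute (h i) (h j)) (hx : ∀ i, h (i+1) = x * h i * x⁻¹) (p : ℕ)
    (hp : h p = h 0) (h0 : h 0 ^ p = 1) : ((List.range p).map h).prod = 1 := by
  obtain ⟨k1, k2, k3⟩ := seq_key x h hcomm hx p
  have e2 : ((List.range (p+1)).map (fun i => h i ^ i)).prod
      = ((List.range p).map (fun i => h i ^ i)).prod * h p ^ p := by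
    simp [List.range_succ]
  rw [e2, hp, h0, mul_one] at k3
  rw [hp] at k2
  have k4 : x * ((List.range p).map h).prod * x⁻¹ = ((List.range p).map h).prod := by
    rw [k2, mul_assoc, (k1 0).eq.symm, inv_mul_cancel_left]
  rw [k4] at k3
  set d := ((List.range p).map h).prod with hd
  set g := ((List.range p).map (fun i => h i ^ i)).prod with hg
  have k5 : g⁻¹ * x * g⁻¹⁻¹ = d⁻¹ * x := by
    have : x * g * x⁻¹ = g * d⁻¹ := by rw [eq_mul_inv_iff_mul_eq]; exact k3
    have e : x * g = g * d⁻¹ * x := by rw [← this]; group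
    rw [inv_inv, mul_assoc, e]; group
  have k6 : Commute x (g⁻¹ * x * g⁻¹⁻¹) := by
    rw [k5]
    have : Commute x d := by
      show x * d = d * x
      nth_rewrite 2 [← k4]; group
    exact (this.inv_right).mul_right (Commute.refl x)
  have k7 := hiso g⁻¹ k6
  rw [k5] at k7
  have : d⁻¹ = 1 := by
    have := congrArg (· * x⁻¹) k7
    simpa using this
  exact inv_eq_one.mp this

theorem le_normalizer_inf' {G : Type*} [Group G] {N A B : Subgroup G}
    (hA : N ≤ Subgroup.normalizer (A : Set G))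
    (hB : N ≤ Subgroup.normalizer (B : Set G)) :
    N ≤ Subgroup.normalizer ((A ⊓ B : Subgroup G) : Set G) := by
  intro n hn
  rw [Subgroup.mem_normalizer_iff]
  intro h
  rw [Subgroup.mem_inf, Subgroup.mem_inf, ← Subgroup.mem_normalizer_iff.mp (hA hn) h,
    ← Subgroup.mem_normalizer_iff.mp (hB hn) h]

theorem le_opc_of_normalized {G : Type*} [Group G] [Finite G] (p : ℕ) (N : Subgroup G) [N.Normal]
    (R : Subgroup G) (hRN : R ≤ N) (hNR : N ≤ Subgroup.normalizer (R : Set G)) (hc : (Nat.card R).Coprime p) :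
    R ≤ Cfsg.pPrimeCore p G := by
  haveI : (R.subgroupOf N).Normal := (Subgroup.normal_subgroupOf_iff_le_normalizer hRN).mpr hNR
  have hc' : (Nat.card (R.subgroupOf N)).Coprime p := by
    rw [Nat.card_congr (Subgroup.subgroupOfEquivOfLe hRN).toEquiv]; exact hc
  have h1 := Helper7.map_le_pPrimeCore_of_normal p N (R.subgroupOf N) hc'
  rw [Subgroup.subgroupOf_map_subtype, inf_eq_left.mpr hRN] at h1
  exact h1

theorem opc_bot {G : Type*} [Group G] [Finite G] {p : ℕ} (x : G) (hnz : ¬ Cfsg.InZStar p x)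
    (hquot : ∀ (N : Subgroup G) [N.Normal], N ≠ ⊥ → Cfsg.InZStar p (QuotientGroup.mk x : G ⧸ N)) :
    Cfsg.pPrimeCore p G = ⊥ := by
  by_contra h
  apply hnz
  intro g
  haveI := Lead.pPrimeCore_normal p G
  have h1 := hquot (Cfsg.pPrimeCore p G) h (QuotientGroup.mk g)
  have h0 := Lead.pPrimeCore_quotient (G := G) p
  rw [h0, Subgroup.mem_bot] at h1
  have h2 : ((g * x * g⁻¹ * x⁻¹ : G) : G ⧸ Cfsg.pPrimeCore p G) = 1 := h1
  exact (QuotientGroup.eq_one_iff _).mp h2

theorem comm_of_normal {G : Type*} [Group G] [Finite G] {p : ℕ} (x : G)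
    (hO : Cfsg.pPrimeCore p G = ⊥)
    (hmin : ∀ (H : Subgroup G) (hxH : x ∈ H), H ≠ ⊤ → Cfsg.InZStar p (⟨x, hxH⟩ : ↥H))
    (N : Subgroup G) [hN : N.Normal] (H : Subgroup G) (hNH : N ≤ H) (hxH : x ∈ H) (hH : H ≠ ⊤) :
    ∀ n ∈ N, n * x = x * n := by
  intro n hn
  have h1 := hmin H hxH hH ⟨n, hNH hn⟩
  set R : Subgroup G := (Cfsg.pPrimeCore p H).map H.subtype ⊓ N with hR
  have hRO : R ≤ Cfsg.pPrimeCore p G := by
    apply le_opc_of_normalized p N R inf_le_right
    · apply le_normalizer_inf'
      · haveI := Lead.pPrimeCore_normal p H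
        have h2 := Subgroup.le_normalizer_map (H := Cfsg.pPrimeCore p H) H.subtype
        rw [Subgroup.normalizer_eq_top, ← MonoidHom.range_eq_map, Subgroup.range_subtype] at h2
        exact hNH.trans h2
      · rw [Subgroup.normalizer_eq_top]; exact le_top
    · have h2 : Nat.card R ∣ Nat.card ((Cfsg.pPrimeCore p H).map H.subtype) :=
        Subgroup.card_dvd_of_le inf_le_left
      rw [Subgroup.card_map_of_injective H.subtype_injective] at h2
      exact Nat.Coprime.coprime_dvd_left h2 (Lead.pPrimeCore_coprime p)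
  have hc : n * x * n⁻¹ * x⁻¹ ∈ R := by
    refine Subgroup.mem_inf.mpr ⟨?_, ?_⟩
    · exact Subgroup.mem_map.mpr ⟨_, h1, rfl⟩
    · have : n * x * n⁻¹ * x⁻¹ = n * (x * n⁻¹ * x⁻¹) := by group
      rw [this]
      exact N.mul_mem hn (hN.conj_mem _ (N.inv_mem hn) x)
  have hc1 := hRO hc
  rw [hO, Subgroup.mem_bot] at hc1
  have : n * x * n⁻¹ * x⁻¹ * (x * n) = x * n := by rw [hc1, one_mul]
  rw [← this]; group

theorem nc_top {G : Type*} [Group G] [Finite G] {p : ℕ} (x : G)
    (hiso : Cfsg.IsIsolated x) (hnz : ¬ Cfsg.InZStar p x)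
    (hO : Cfsg.pPrimeCore p G = ⊥)
    (hmin : ∀ (H : Subgroup G) (hxH : x ∈ H), H ≠ ⊤ → Cfsg.InZStar p (⟨x, hxH⟩ : ↥H)) :
    Subgroup.normalClosure ({x} : Set G) = ⊤ := by
  by_contra hne
  have hxK : x ∈ Subgroup.normalClosure ({x} : Set G) :=
    Subgroup.subset_normalClosure (Set.mem_singleton x)
  have h1 := comm_of_normal x hO hmin (Subgroup.normalClosure ({x} : Set G)) _ le_rfl hxK hne
  apply hnz
  intro g
  have h2 : g * x * g⁻¹ ∈ Subgroup.normalClosure ({x} : Set G) :=
    Subgroup.normalClosure_normal.conj_mem _ hxK g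
  have h3 := hiso g (h1 _ h2).symm
  rw [h3, mul_inv_cancel]
  exact one_mem _

theorem sup_top {G : Type*} [Group G] (x : G)
    (hnc : Subgroup.normalClosure ({x} : Set G) = ⊤) :
    commutator G ⊔ Subgroup.zpowers x = ⊤ := by
  haveI : (commutator G ⊔ Subgroup.zpowers x).Normal := Subgroup.Normal.of_commutator_le G le_sup_left
  have h1 : Subgroup.normalClosure ({x} : Set G) ≤ commutator G ⊔ Subgroup.zpowers x := by
    apply Subgroup.normalClosure_le_normal
    intro y hy
    rw [Set.mem_singleton_iff] at hy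
    rw [hy]
    exact (le_sup_right : Subgroup.zpowers x ≤ _) (Subgroup.mem_zpowers x)
  rw [hnc] at h1
  exact top_le_iff.mp h1

theorem center_isPGroup {G : Type*} [Group G] [Finite G] {p : ℕ} [hp : Fact p.Prime]
    (hO : Cfsg.pPrimeCore p G = ⊥) : IsPGroup p (Subgroup.center G) := by
  rintro ⟨z, hz⟩
  have ho : orderOf z ≠ 0 := (orderOf_pos z).ne'
  obtain ⟨k, m, hm, hkm⟩ := Nat.exists_eq_pow_mul_and_not_dvd ho p hp.out.ne_one
  refine ⟨k, ?_⟩
  have hw : (z ^ p ^ k) ^ m = 1 := by
    rw [← pow_mul, ← hkm]; exact pow_orderOf_eq_one z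
  have hwc : ∀ w ∈ Subgroup.zpowers (z ^ p ^ k), w ∈ Subgroup.center G := by
    intro w hw'
    have : Subgroup.zpowers (z ^ p ^ k) ≤ Subgroup.center G := by
      rw [Subgroup.zpowers_le]; exact Subgroup.pow_mem _ hz _
    exact this hw'
  have hn : (Subgroup.zpowers (z ^ p ^ k)).Normal := by
    refine ⟨fun w hw' g => ?_⟩
    have h1 := Subgroup.mem_center_iff.mp (hwc w hw') g
    rw [h1, mul_assoc, mul_inv_cancel, mul_one]; exact hw'
  have hc : (Nat.card (Subgroup.zpowers (z ^ p ^ k))).Coprime p := by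
    rw [Nat.card_zpowers]
    have h1 : orderOf (z ^ p ^ k) ∣ m := orderOf_dvd_of_pow_eq_one hw
    exact Nat.Coprime.coprime_dvd_left h1 ((Nat.Prime.coprime_iff_not_dvd hp.out).mpr hm).symm
  have h2 : Subgroup.zpowers (z ^ p ^ k) ≤ Cfsg.pPrimeCore p G := le_sSup ⟨hn, hc⟩
  rw [hO] at h2
  have h3 := Subgroup.mem_bot.mp (h2 (Subgroup.mem_zpowers _))
  exact Subtype.ext h3

theorem center_bot {G : Type*} [Group G] [Finite G] {p : ℕ} [hp : Fact p.Prime] (x : G)
    (hiso : Cfsg.IsIsolated x) (hnz : ¬ Cfsg.InZStar p x)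
    (hO : Cfsg.pPrimeCore p G = ⊥)
    (hquot : ∀ (N : Subgroup G) [N.Normal], N ≠ ⊥ → Cfsg.InZStar p (QuotientGroup.mk x : G ⧸ N)) :
    Subgroup.center G = ⊥ := by
  by_contra hZ
  have hZp := center_isPGroup (p := p) hO
  set M : Subgroup G := (Cfsg.pPrimeCore p (G ⧸ Subgroup.center G)).comap
    (QuotientGroup.mk' (Subgroup.center G)) with hM
  haveI hMn : M.Normal := by
    haveI := Lead.pPrimeCore_normal p (G ⧸ Subgroup.center G)
    exact Subgroup.Normal.comap inferInstance _
  have hZM : Subgroup.center G ≤ M := by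
    intro z hz
    rw [hM, Subgroup.mem_comap]
    have : QuotientGroup.mk' (Subgroup.center G) z = 1 := (QuotientGroup.eq_one_iff z).mpr hz
    rw [this]; exact one_mem _
  have hxM : ∀ g : G, g * x * g⁻¹ * x⁻¹ ∈ M := by
    intro g
    have h1 := hquot (Subgroup.center G) hZ (QuotientGroup.mk g)
    rw [hM, Subgroup.mem_comap]
    exact h1
  set Y : Subgroup ↥M := (Subgroup.center G).subgroupOf M with hY
  have hYp : IsPGroup p Y := hZp.comap_subtype
  have hYc : Y ≤ Subgroup.center ↥M := by
    intro y hy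
    rw [Subgroup.mem_center_iff]
    intro m
    have h1 := Subgroup.mem_center_iff.mp (Subgroup.mem_subgroupOf.mp hy) (m : G)
    exact Subtype.ext h1
  have hidx : (Y.index).Coprime p := by
    have h1 : Y.index = (Subgroup.center G).relIndex M := rfl
    have h2 : (Subgroup.center G).relIndex M
        = Nat.card (Cfsg.pPrimeCore p (G ⧸ Subgroup.center G)) := by
      have h3 := Subgroup.relIndex_comap (⊥ : Subgroup (G ⧸ Subgroup.center G))
        (QuotientGroup.mk' (Subgroup.center G)) M
      have h4 : (⊥ : Subgroup (G ⧸ Subgroup.center G)).comap (QuotientGroup.mk' (Subgroup.center G))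
          = Subgroup.center G := by
        rw [MonoidHom.comap_bot, QuotientGroup.ker_mk']
      rw [h4, Subgroup.relIndex_bot_left, hM,
        Subgroup.map_comap_eq_self_of_surjective (QuotientGroup.mk'_surjective _)] at h3
      exact h3
    rw [h1, h2]
    exact Lead.pPrimeCore_coprime p
  have h5 := Helper3.sup_pPrimeCore_eq_top_of_central Y hYp hYc hidx
  have h6 : Cfsg.pPrimeCore p ↥M = ⊥ := by
    haveI := Helper7.pPrimeCore_normal' p ↥M
    have h7 := Helper7.map_le_pPrimeCore_of_normal p M (Cfsg.pPrimeCore p ↥M)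
      (Lead.pPrimeCore_coprime p)
    rw [hO, le_bot_iff] at h7
    exact (Subgroup.map_eq_bot_iff_of_injective _ M.subtype_injective).mp h7
  rw [h6, sup_bot_eq] at h5
  have hMZ : M ≤ Subgroup.center G := by
    intro m hm
    have : (⟨m, hm⟩ : ↥M) ∈ Y := by rw [h5]; exact Subgroup.mem_top _
    exact Subgroup.mem_subgroupOf.mp this
  apply hnz
  intro g
  have hc := Subgroup.mem_center_iff.mp (hMZ (hxM g))
  have h8 : Commute x (g * x * g⁻¹) := by
    have e : g * x * g⁻¹ = (g * x * g⁻¹ * x⁻¹) * x := by group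
    rw [e]
    exact (Commute.mul_right (hc x) (Commute.refl x))
  have h9 := hiso g h8
  rw [h9, mul_inv_cancel]
  exact one_mem _

theorem sup_top_of_normal {G : Type*} [Group G] [Finite G] {p : ℕ} (x : G)
    (hO : Cfsg.pPrimeCore p G = ⊥)
    (hmin : ∀ (H : Subgroup G) (hxH : x ∈ H), H ≠ ⊤ → Cfsg.InZStar p (⟨x, hxH⟩ : ↥H))
    (hnc : Subgroup.normalClosure ({x} : Set G) = ⊤) (hZ : Subgroup.center G = ⊥)
    (N : Subgroup G) [hN : N.Normal] (hNb : N ≠ ⊥) : N ⊔ Subgroup.zpowers x = ⊤ := by
  by_contra hne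
  have h1 := comm_of_normal x hO hmin N (N ⊔ Subgroup.zpowers x) le_sup_left
    ((le_sup_right : Subgroup.zpowers x ≤ _) (Subgroup.mem_zpowers x)) hne
  have h2 : x ∈ Subgroup.centralizer (N : Set G) := by
    rw [Subgroup.mem_centralizer_iff]
    intro n hn
    exact h1 n hn
  have h3 : Subgroup.normalClosure ({x} : Set G) ≤ Subgroup.centralizer (N : Set G) := by
    apply Subgroup.normalClosure_le_normal
    intro y hy
    rw [Set.mem_singleton_iff] at hy
    rw [hy]; exact h2
  rw [hnc] at h3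
  apply hNb
  rw [eq_bot_iff, ← hZ]
  intro n hn
  rw [Subgroup.mem_center_iff]
  intro g
  have h4 := Subgroup.mem_centralizer_iff.mp (h3 (Subgroup.mem_top g)) n hn
  exact h4.symm

theorem comm_not_comm {G : Type*} [Group G] [Finite G] {p : ℕ} [hp : Fact p.Prime] (x : G)
    (hx : orderOf x = p) (hO : Cfsg.pPrimeCore p G = ⊥) (hZ : Subgroup.center G = ⊥)
    (htop : commutator G ⊔ Subgroup.zpowers x = ⊤) :
    ¬ IsMulCommutative ↥(commutator G) := by
  intro hab
  have hq : ∀ {q : ℕ}, q.Prime → q ∣ Nat.card ↥(commutator G) → q = p := by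
    intro q hqp hq
    by_contra hne
    haveI : Fact q.Prime := ⟨hqp⟩
    obtain ⟨y, hy⟩ := exists_prime_orderOf_dvd_card' q hq
    haveI hyn : (Subgroup.zpowers y).Normal := by
      refine ⟨fun w hw g => ?_⟩
      have h1 : g * w = w * g := hab.is_comm.comm g w
      rw [h1, mul_assoc, mul_inv_cancel, mul_one]; exact hw
    have hc : (Nat.card (Subgroup.zpowers y)).Coprime p := by
      rw [Nat.card_zpowers, hy]
      exact (Nat.coprime_primes hqp hp.out).mpr hne
    have h2 := Helper7.map_le_pPrimeCore_of_normal p (commutator G) (Subgroup.zpowers y) hc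
    rw [hO, le_bot_iff] at h2
    have h3 := (Subgroup.map_eq_bot_iff_of_injective _ (commutator G).subtype_injective).mp h2
    have h4 : y = 1 := by
      have := Subgroup.mem_zpowers y
      rw [h3, Subgroup.mem_bot] at this
      exact this
    rw [h4, orderOf_one] at hy
    exact hqp.ne_one hy.symm
  have hcard := Nat.eq_prime_pow_of_unique_prime_dvd (Nat.card_pos (α := ↥(commutator G))).ne' hq
  have h1 := Lead.card_sup_dvd_of_normal (commutator G) (Subgroup.zpowers x)
  rw [htop, Subgroup.card_top, Nat.card_zpowers, hx, hcard, ← pow_succ] at h1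
  obtain ⟨j, -, hj⟩ := (Nat.dvd_prime_pow hp.out).mp h1
  have hG : IsPGroup p G := IsPGroup.of_card hj
  haveI : Nontrivial G := by
    refine ⟨⟨x, 1, ?_⟩⟩
    intro h
    rw [h, orderOf_one] at hx
    exact hp.out.ne_one hx.symm
  have h2 := hG.center_nontrivial
  rw [hZ] at h2
  exact not_nontrivial _ h2

theorem norm_le_norm_cent {G : Type*} [Group G] (T : Subgroup G) :
    Subgroup.normalizer (T : Set G)
      ≤ Subgroup.normalizer ((Subgroup.centralizer (T : Set G) : Subgroup G) : Set G) := by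
  rw [Subgroup.le_normalizer_iff]
  intro m hm y hy
  rw [Subgroup.mem_centralizer_iff]
  intro b hb
  have h1 : m⁻¹ * b * m ∈ T := by
    have := (Subgroup.mem_normalizer_iff.mp (inv_mem hm) b).mp hb
    simpa using this
  have h2 := Subgroup.mem_centralizer_iff.mp hy _ h1
  calc b * (m * y * m⁻¹) = m * (m⁻¹ * b * m * y) * m⁻¹ := by group
    _ = m * (y * (m⁻¹ * b * m)) * m⁻¹ := by rw [h2]
    _ = m * y * m⁻¹ * b := by group

theorem comm_simple {G : Type*} [Group G] [Finite G] {p : ℕ} [hp : Fact p.Prime] (x : G)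
    (hx : orderOf x = p) (hiso : Cfsg.IsIsolated x) (hO : Cfsg.pPrimeCore p G = ⊥)
    (htop : commutator G ⊔ Subgroup.zpowers x = ⊤)
    (hminN : ∀ (N : Subgroup G), N.Normal → N ≠ ⊥ → commutator G ≤ N)
    (hne : commutator G ≠ ⊥)
    (hnab : ¬ IsMulCommutative ↥(commutator G)) :
    IsSimpleGroup ↥(commutator G) := by
  haveI hNn' : (commutator G).Normal := inferInstance
  revert hminN hne hnab htop hNn'
  generalize commutator G = N
  intro htop hminN hne hnab hNn
  haveI : Nontrivial ↥N := (Subgroup.nontrivial_iff_ne_bot _).mpr hne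
  refine ⟨fun T' hT' => ?_⟩
  by_contra hcon
  push_neg at hcon
  obtain ⟨hT'b, hT't⟩ := hcon
  haveI := hT'
  let 𝒯 : Set (Subgroup G) :=
    {T | T ≤ N ∧ N ≤ Subgroup.normalizer (T : Set G) ∧ T ≠ ⊥ ∧ T ≠ N}
  have hmem : T'.map N.subtype ∈ 𝒯 := by
    refine ⟨Subgroup.map_subtype_le T', ?_, ?_, ?_⟩
    · have h2 := Subgroup.le_normalizer_map (H := T') N.subtype
      rw [Subgroup.normalizer_eq_top, ← MonoidHom.range_eq_map, Subgroup.range_subtype] at h2
      exact h2
    · intro h
      exact hT'b ((Subgroup.map_eq_bot_iff_of_injective _ N.subtype_injective).mp h)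
    · intro h
      apply hT't
      rw [eq_top_iff]
      intro n _
      have h1 : (n : G) ∈ T'.map N.subtype := by rw [h]; exact n.2
      obtain ⟨t, ht, hte⟩ := Subgroup.mem_map.mp h1
      have : t = n := Subtype.ext hte
      rw [← this]; exact ht
  obtain ⟨T, hT, hTmin⟩ := Set.exists_min_image 𝒯 (fun T => Nat.card T) (Set.toFinite 𝒯) ⟨_, hmem⟩
  obtain ⟨hTN, hNT, hTb, hTne⟩ := hT
  have M1 : ∀ T₂ : Subgroup G, T₂ ≤ T → N ≤ Subgroup.normalizer (T₂ : Set G) → T₂ ≠ ⊥ →
      T₂ = T := by
    intro T₂ h1 h2 h3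
    have h4 : T₂ ∈ 𝒯 := ⟨h1.trans hTN, h2, h3, fun h => hTne (le_antisymm hTN (h ▸ h1))⟩
    exact Subgroup.eq_of_le_of_card_ge h1 (hTmin T₂ h4)
  have FC' : ∀ g : G, (∃ a ∈ T, g * a * g⁻¹ ∉ T) →
      ∀ a ∈ T, ∀ b ∈ T, Commute (g * a * g⁻¹) b := by
    intro g hg a ha b hb
    set Tg : Subgroup G := T.map (MulAut.conj g).toMonoidHom with hTg
    have hmemTg : ∀ a ∈ T, g * a * g⁻¹ ∈ Tg := fun a ha => Subgroup.mem_map.mpr ⟨a, ha, by simp⟩
    have hNTg : N ≤ Subgroup.normalizer (Tg : Set G) := by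
      have h2 := Subgroup.le_normalizer_map (H := T) (MulAut.conj g).toMonoidHom
      refine le_trans ?_ h2
      intro n hn
      refine Subgroup.mem_map.mpr ⟨g⁻¹ * n * g, hNT ?_, by simp [mul_assoc]⟩
      have := hNn.conj_mem n hn g⁻¹
      simpa using this
    by_cases hb' : T ⊓ Tg = ⊥
    · have hc : (g * a * g⁻¹) * b * (g * a * g⁻¹)⁻¹ * b⁻¹ ∈ T ⊓ Tg := by
        have hgaN : g * a * g⁻¹ ∈ N := hNn.conj_mem a (hTN ha) g
        refine Subgroup.mem_inf.mpr ⟨?_, ?_⟩
        · exact T.mul_mem ((Subgroup.mem_normalizer_iff.mp (hNT hgaN) b).mp hb) (T.inv_mem hb)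
        · have e : (g * a * g⁻¹) * b * (g * a * g⁻¹)⁻¹ * b⁻¹
              = (g * a * g⁻¹) * (b * (g * a * g⁻¹)⁻¹ * b⁻¹) := by group
          rw [e]
          exact Tg.mul_mem (hmemTg a ha)
            ((Subgroup.mem_normalizer_iff.mp (hNTg (hTN hb)) _).mp (Tg.inv_mem (hmemTg a ha)))
      rw [hb', Subgroup.mem_bot] at hc
      show g * a * g⁻¹ * b = b * (g * a * g⁻¹)
      have : (g * a * g⁻¹) * b * (g * a * g⁻¹)⁻¹ * b⁻¹ * (b * (g * a * g⁻¹))
          = b * (g * a * g⁻¹) := by rw [hc, one_mul]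
      rw [← this]; group
    · exfalso
      have h1 := M1 (T ⊓ Tg) inf_le_left (le_normalizer_inf' hNT hNTg) hb'
      have h2 : T ≤ Tg := inf_eq_left.mp h1
      have h3 : Nat.card Tg = Nat.card T :=
        Subgroup.card_map_of_injective (MulAut.conj g).injective
      have h4 : T = Tg := Subgroup.eq_of_le_of_card_ge h2 h3.le
      obtain ⟨a', ha', hna'⟩ := hg
      apply hna'
      have h5 : g * a' * g⁻¹ ∈ Tg := hmemTg a' ha'
      rw [← h4] at h5
      exact h5
  have FX : ∃ a ∈ T, x * a * x⁻¹ ∉ T := by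
    by_contra hcon
    push_neg at hcon
    have h1 : T.map (MulAut.conj x).toMonoidHom ≤ T := by
      rintro _ ⟨a, ha, rfl⟩
      exact hcon a ha
    have h2 : Nat.card (T.map (MulAut.conj x).toMonoidHom) = Nat.card T :=
      Subgroup.card_map_of_injective (MulAut.conj x).injective
    have h3 : T.map (MulAut.conj x).toMonoidHom = T := Subgroup.eq_of_le_of_card_ge h1 h2.ge
    have h4 : x ∈ Subgroup.normalizer (T : Set G) := by
      rw [Subgroup.mem_normalizer_iff]
      intro a
      refine ⟨hcon a, fun ha => ?_⟩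
      have h5 : x * a * x⁻¹ ∈ T.map (MulAut.conj x).toMonoidHom := by rw [h3]; exact ha
      obtain ⟨b, hb, hbe⟩ := Subgroup.mem_map.mp h5
      have h6 : b = a := by
        have h7 : x * b * x⁻¹ = x * a * x⁻¹ := hbe
        simpa using h7
      rw [← h6]; exact hb
    have h5 : N ⊔ Subgroup.zpowers x ≤ Subgroup.normalizer (T : Set G) :=
      sup_le hNT (by rw [Subgroup.zpowers_le]; exact h4)
    rw [htop] at h5
    have h6 : T.Normal := Subgroup.normalizer_eq_top_iff.mp (top_le_iff.mp h5)
    exact hTne (le_antisymm hTN (hminN T h6 hTb))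
  have FXi : ∀ i : ℕ, ¬ p ∣ i → ∃ a ∈ T, x ^ i * a * (x ^ i)⁻¹ ∉ T := by
    intro i hi
    by_contra hcon
    push_neg at hcon
    have h1 : ∀ j : ℕ, ∀ a ∈ T, (x ^ i) ^ j * a * ((x ^ i) ^ j)⁻¹ ∈ T := by
      intro j
      induction j with
      | zero => intro a ha; simpa using ha
      | succ j ih =>
        intro a ha
        have e : (x ^ i) ^ (j+1) * a * ((x ^ i) ^ (j+1))⁻¹
            = x ^ i * ((x ^ i) ^ j * a * ((x ^ i) ^ j)⁻¹) * (x ^ i)⁻¹ := by
          rw [pow_succ']; group
        rw [e]; exact hcon _ (ih a ha)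
    have hcop : Nat.Coprime i p := ((Nat.Prime.coprime_iff_not_dvd hp.out).mpr hi).symm
    obtain ⟨j, -, hj⟩ := Nat.exists_mul_mod_eq_one_of_coprime hcop hp.out.one_lt
    have h2 : (x ^ i) ^ j = x := by
      rw [← pow_mul, ← pow_mod_orderOf, hx, hj, pow_one]
    obtain ⟨a, ha, hna⟩ := FX
    apply hna
    have h3 := h1 j a ha
    rw [h2] at h3
    exact h3
  have FC : ∀ i : ℕ, ¬ p ∣ i → ∀ a ∈ T, ∀ b ∈ T, Commute (x ^ i * a * (x ^ i)⁻¹) b :=
    fun i hi => FC' (x ^ i) (FXi i hi)
  have FD : ∀ t ∈ T, t ^ p = 1 → t ∈ Subgroup.centralizer (T : Set G) := by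
    intro t ht htp
    set h : ℕ → G := fun i => x ^ i * t * (x ^ i)⁻¹ with hh
    have hxp : x ^ p = 1 := by rw [← hx]; exact pow_orderOf_eq_one x
    have h0 : h 0 = t := by simp [hh]
    have hxs : ∀ i, h (i+1) = x * h i * x⁻¹ := by
      intro i; simp only [hh, pow_succ']; group
    have hadd : ∀ i d, h (i + d) = x ^ i * h d * (x ^ i)⁻¹ := by
      intro i d; simp only [hh, pow_add]; group
    have haux : ∀ i d, Commute (h i) (h (i + d)) := by
      intro i d
      rw [hadd i d]
      show Commute (x ^ i * t * (x ^ i)⁻¹) (x ^ i * h d * (x ^ i)⁻¹)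
      rw [Commute.conj_iff]
      by_cases hd : p ∣ d
      · have h1 : x ^ d = 1 := by
          obtain ⟨c, rfl⟩ := hd
          rw [pow_mul, hxp, one_pow]
        have h2 : h d = t := by simp [hh, h1]
        rw [h2]
      · exact (FC d hd t ht t ht).symm
    have hcomm : ∀ i j, Commute (h i) (h j) := by
      intro i j
      rcases le_total i j with hij | hij
      · obtain ⟨d, rfl⟩ := Nat.exists_eq_add_of_le hij
        exact haux i d
      · obtain ⟨d, rfl⟩ := Nat.exists_eq_add_of_le hij
        exact (haux j d).symm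
    have hpp : h p = h 0 := by simp [hh, hxp]
    have hd1 := iso_key x hiso h hcomm hxs p hpp (by rw [h0]; exact htp)
    have hind : ∀ k, 1 ≤ k → k ≤ p →
        t⁻¹ * ((List.range k).map h).prod ∈ Subgroup.centralizer (T : Set G) := by
      intro k hk
      induction k, hk using Nat.le_induction with
      | base => intro _; simp [h0]
      | succ k hk ih =>
        intro hkp
        have e1 : ((List.range (k+1)).map h).prod = ((List.range k).map h).prod * h k := by
          simp [List.range_succ]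
        rw [e1, ← mul_assoc]
        refine Subgroup.mul_mem _ (ih (by omega)) ?_
        rw [Subgroup.mem_centralizer_iff]
        intro b hb
        have hnd : ¬ p ∣ k := Nat.not_dvd_of_pos_of_lt (by omega) (by omega)
        exact (FC k hnd t ht b hb).eq.symm
    have h9 := hind p hp.out.one_lt.le le_rfl
    rw [hd1, mul_one] at h9
    exact (Subgroup.inv_mem_iff _).mp h9
  have hZn : N ≤ Subgroup.normalizer
      ((T ⊓ Subgroup.centralizer (T : Set G) : Subgroup G) : Set G) :=
    le_normalizer_inf' hNT (hNT.trans (norm_le_norm_cent T))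
  by_cases hZb : T ⊓ Subgroup.centralizer (T : Set G) = ⊥
  · have h1 : ¬ p ∣ Nat.card T := by
      intro hdvd
      obtain ⟨t, ht⟩ := exists_prime_orderOf_dvd_card' p hdvd
      have h2 : (t : G) ^ p = 1 := by
        have h3 : t ^ p = 1 := by rw [← ht]; exact pow_orderOf_eq_one t
        have h4 := congrArg Subtype.val h3
        exact (Subgroup.coe_pow T t p).symm.trans h4
      have h3 : (t : G) ∈ T ⊓ Subgroup.centralizer (T : Set G) :=
        Subgroup.mem_inf.mpr ⟨t.2, FD t t.2 h2⟩
      rw [hZb, Subgroup.mem_bot] at h3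
      have h4 : t = 1 := Subtype.ext h3
      rw [h4, orderOf_one] at ht
      exact hp.out.ne_one ht.symm
    have h2 : (Nat.card T).Coprime p := ((Nat.Prime.coprime_iff_not_dvd hp.out).mpr h1).symm
    have h3 := le_opc_of_normalized p N T hTN hNT h2
    rw [hO, le_bot_iff] at h3
    exact hTb h3
  · have h1 := M1 _ inf_le_left hZn hZb
    have hTab : T ≤ Subgroup.centralizer (T : Set G) := inf_eq_left.mp h1
    have hab : ∀ g : G, ∀ a ∈ T, ∀ b ∈ T, Commute (g * a * g⁻¹) b := by
      intro g a ha b hb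
      by_cases hg : ∃ a ∈ T, g * a * g⁻¹ ∉ T
      · exact FC' g hg a ha b hb
      · push_neg at hg
        exact (Subgroup.mem_centralizer_iff.mp (hTab hb) _ (hg a ha))
    have hS : ∀ u ∈ Group.conjugatesOfSet (T : Set G),
        ∀ v ∈ Group.conjugatesOfSet (T : Set G), Commute u v := by
      intro u hu v hv
      obtain ⟨a, ha, hau⟩ := Group.mem_conjugatesOfSet_iff.mp hu
      obtain ⟨b, hb, hbv⟩ := Group.mem_conjugatesOfSet_iff.mp hv
      obtain ⟨c, rfl⟩ := isConj_iff.mp hau
      obtain ⟨e, rfl⟩ := isConj_iff.mp hbv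
      have h2 := hab (e⁻¹ * c) a ha b hb
      have h3 := (Commute.conj_iff e).mpr h2
      have e1 : e * ((e⁻¹ * c) * a * (e⁻¹ * c)⁻¹) * e⁻¹ = c * a * c⁻¹ := by group
      rw [e1] at h3
      exact h3
    have hMc : Subgroup.normalClosure (T : Set G)
        ≤ Subgroup.centralizer ((Subgroup.normalClosure (T : Set G) : Subgroup G) : Set G) := by
      have hS1 : ∀ u ∈ Group.conjugatesOfSet (T : Set G),
          Subgroup.normalClosure (T : Set G) ≤ Subgroup.centralizer ({u} : Set G) := by
        intro u hu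
        show Subgroup.closure (Group.conjugatesOfSet (T : Set G)) ≤ _
        apply (Subgroup.closure_le _).mpr
        intro v hv
        rw [SetLike.mem_coe, Subgroup.mem_centralizer_iff]
        intro w hw
        rw [Set.mem_singleton_iff] at hw
        rw [hw]
        exact (hS u hu v hv).eq
      show Subgroup.closure (Group.conjugatesOfSet (T : Set G)) ≤ _
      apply (Subgroup.closure_le _).mpr
      intro u hu
      rw [SetLike.mem_coe, Subgroup.mem_centralizer_iff]
      intro w hw
      have h5 := Subgroup.mem_centralizer_iff.mp (hS1 u hu hw) u (Set.mem_singleton u)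
      exact h5.symm
    have hNM : N ≤ Subgroup.normalClosure (T : Set G) :=
      hminN _ Subgroup.normalClosure_normal
        (fun h => hTb (le_bot_iff.mp (h ▸ Subgroup.le_normalClosure)))
    apply hnab
    refine ⟨⟨fun a b => Subtype.ext ?_⟩⟩
    have h6 := Subgroup.mem_centralizer_iff.mp (hMc (hNM a.2)) (b : G) (hNM b.2)
    exact h6.symm

/-- Let G be a finite group, p a prime and x ∈ G an isolated element of order p (the only conjugate of x commuting with x is x) which is not central modulo the largest normal subgroup of order prime to p, while x is central modulo the largest normal subgroup of order prime to p in every proper subgroup containing x, and the image of x is so in every quotient of G by a nontrivial normal subgroup (a minimal counterexample to the Z*_p statement). Then the derived subgroup G' is a non-abelian simple group and G = G'⟨x⟩. -/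
theorem result {G : Type*} [Group G] [Finite G] {p : ℕ} [Fact p.Prime] (x : G) (hx : orderOf x = p) (hiso : Cfsg.IsIsolated x) (hnz : ¬ Cfsg.InZStar p x) (hmin : ∀ (H : Subgroup G) (hxH : x ∈ H), H ≠ ⊤ → Cfsg.InZStar p (⟨x, hxH⟩ : ↥H)) (hquot : ∀ (N : Subgroup G) [N.Normal], N ≠ ⊥ → Cfsg.InZStar p (QuotientGroup.mk x : G ⧸ N)) : IsSimpleGroup ↥(commutator G) ∧ ¬ IsMulCommutative ↥(commutator G) ∧ commutator G ⊔ Subgroup.zpowers x = ⊤ := by
  have hO := opc_bot x hnz hquot
  have hnc := nc_top x hiso hnz hO hmin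
  have htop := sup_top x hnc
  have hZ := center_bot x hiso hnz hO hquot
  have hne : commutator G ≠ ⊥ := by
    intro h
    apply hnz
    intro g
    have h1 : g * x * g⁻¹ * x⁻¹ ∈ commutator G := by
      rw [commutator_def]
      exact Subgroup.commutator_mem_commutator (Subgroup.mem_top g) (Subgroup.mem_top x)
    rw [h, Subgroup.mem_bot] at h1
    rw [h1]; exact one_mem _
  have hminN : ∀ (N : Subgroup G), N.Normal → N ≠ ⊥ → commutator G ≤ N := by
    intro N hN hNb
    haveI := hN
    exact Subgroup.Normal.commutator_le_of_self_sup_commutative_eq_top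
      (sup_top_of_normal x hO hmin hnc hZ N hNb) (Subgroup.zpowers_isMulCommutative x)
  have hnab := comm_not_comm x hx hO hZ htop
  exact ⟨comm_simple x hx hiso hO htop hminN hne hnab, hnab, htop⟩

end Cfsg.Agent.S2972
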