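import Cfsg.Statements.S2975
import Mathlib
import Cfsg.Agent.S2972
import Cfsg.Agent.Lib.Helper5.Isolated
import Cfsg.Agent.Lib.Lead.CoprimeSylow
import Cfsg.Agent.Lib.Lead.BaerSuzuki
import Cfsg.Agent.Lib.Lead.PCore2
import Cfsg.Agent.Lib.Lead.Fitting
import Cfsg.Agent.Lib.Helper7.PPrime

set_option autoImplicit false
open Cfsg Cfsg.Agent.Lib

namespace Cfsg.Agent.S2975


open scoped Pointwise in
theorem sylow_part {G : Type*} [Group G] [Finite G] {p : ℕ} [Fact p.Prime] (x : G)
    (hx : orderOf x = p) (hO : Cfsg.pPrimeCore p G = ⊥)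
    (hmin : ∀ (H : Subgroup G) (hxH : x ∈ H), H ≠ ⊤ → Cfsg.InZStar p (⟨x, hxH⟩ : ↥H))
    (q : ℕ) [Fact q.Prime] (Q : Subgroup G) (hQ : IsPGroup q ↥Q)
    (hxQ : x ∈ Subgroup.normalizer (Q : Set G))
    (hmax : ∀ R : Subgroup G, IsPGroup q ↥R → x ∈ Subgroup.normalizer (R : Set G) → Q ≤ R → R = Q) :
    Q = ⊥ ∨ ∃ S : Sylow q G, (S : Subgroup G) = Q := by
  have hp : p.Prime := Fact.out
  have hq : q.Prime := Fact.out
  by_cases hqp : q = p
  · subst hqp
    right
    have hZ : IsPGroup q ↥(Subgroup.zpowers x) :=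
      IsPGroup.of_card (n := 1) (by rw [Nat.card_zpowers, hx, pow_one])
    have hR : IsPGroup q ↥(Subgroup.zpowers x ⊔ Q) :=
      IsPGroup.to_sup_of_normal_right' hZ hQ (Subgroup.zpowers_le.mpr hxQ)
    have hxR : x ∈ Subgroup.zpowers x ⊔ Q := le_sup_left (a := Subgroup.zpowers x) (Subgroup.mem_zpowers x)
    have h1 := hmax _ hR (Subgroup.le_normalizer hxR) le_sup_right
    have hxQ' : x ∈ Q := by rw [← h1]; exact hxR
    obtain ⟨P, hQP⟩ := hQ.exists_le_sylow
    exact ⟨P, hmax _ P.isPGroup' (Subgroup.le_normalizer (hQP hxQ')) hQP⟩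
  · by_cases hQb : Q = ⊥
    · left; exact hQb
    right
    have hcopq : ∀ m : ℕ, (q ^ m).Coprime p := fun m =>
      Nat.Coprime.pow_left m ((Nat.coprime_primes hq hp).mpr hqp)
    set H := Subgroup.normalizer (Q : Set G) with hH
    have hQH : Q ≤ H := Subgroup.le_normalizer
    have hHtop : H ≠ ⊤ := by
      intro h
      haveI hQn : Q.Normal := Subgroup.normalizer_eq_top_iff.mp h
      have hc : (Nat.card Q).Coprime p := by
        obtain ⟨m, hm⟩ := IsPGroup.iff_card.mp hQ
        rw [hm]; exact hcopq m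
      have h2 := Helper7.le_pPrimeCore p Q hc
      rw [hO] at h2
      exact hQb (le_bot_iff.mp h2)
    have hZ := hmin H hxQ hHtop
    obtain ⟨S, hQS⟩ := hQ.exists_le_sylow
    by_contra hnS
    have hlt : Q < (S : Subgroup G) := lt_of_le_of_ne hQS (fun h => hnS ⟨S, h.symm⟩)
    obtain ⟨t, htS, htN, htQ⟩ := Lead.exists_mem_normalizer_not_mem S.isPGroup' hlt
    set x' : ↥H := ⟨x, hxQ⟩ with hx'
    set Kh : Subgroup ↥H := Cfsg.pPrimeCore p ↥H with hKh
    haveI hKn : Kh.Normal := Lead.pPrimeCore_normal p ↥H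
    set Rh : Subgroup ↥H := (S : Subgroup G).subgroupOf H with hRh
    set Qh : Subgroup ↥H := Q.subgroupOf H with hQh
    have hRq : IsPGroup q ↥Rh := S.isPGroup'.comap_subtype
    have hQq : IsPGroup q ↥Qh := hQ.comap_subtype
    have hQR : Qh ≤ Rh := fun y hy => hQS hy
    set Mh : Subgroup ↥H := Kh ⊔ Rh with hMh
    have hcomm : ∀ m : ↥H, x' * m * x'⁻¹ * m⁻¹ ∈ Kh := by
      intro m
      have h1 := hZ m
      have e : x' * m * x'⁻¹ * m⁻¹ = (m * x' * m⁻¹ * x'⁻¹)⁻¹ := by group
      rw [e]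
      exact Kh.inv_mem h1
    have hAM : Subgroup.zpowers x' ≤ Subgroup.normalizer (Mh : Set ↥H) := by
      rw [Subgroup.zpowers_le]
      apply Lead.mem_normalizer_of_conj_le
      intro m hm
      have e : x' * m * x'⁻¹ = (x' * m * x'⁻¹ * m⁻¹) * m := by group
      rw [e]
      exact Mh.mul_mem (le_sup_left (a := Kh) (hcomm m)) hm
    have hox' : orderOf x' = p := by
      rw [← hx]
      exact (orderOf_injective H.subtype H.subtype_injective x').symm
    have hcop : (Nat.card ↥(Subgroup.zpowers x')).Coprime (Nat.card ↥Mh) := by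
      rw [Nat.card_zpowers, hox']
      have h1 : Nat.card ↥Mh ∣ Nat.card ↥Kh * Nat.card ↥Rh := Lead.card_sup_dvd_of_normal Kh Rh
      have h2 : (Nat.card ↥Kh).Coprime p := Lead.pPrimeCore_coprime p
      have h3 : (Nat.card ↥Rh).Coprime p := by
        obtain ⟨m, hm⟩ := IsPGroup.iff_card.mp hRq
        rw [hm]; exact hcopq m
      exact (Nat.Coprime.coprime_dvd_left h1 (Nat.Coprime.mul_left h2 h3)).symm
    have hsolv : Group.IsSolvable ↥(Subgroup.zpowers x') :=
      Group.isSolvable_of_comm (fun a b => (Subgroup.zpowers_isMulCommutative x').is_comm.comm a b)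
    haveI hQhn : Qh.Normal := Subgroup.normal_in_normalizer
    have hUA : Subgroup.zpowers x' ≤ Subgroup.normalizer (Qh : Set ↥H) := by
      rw [Subgroup.normalizer_eq_top]; exact le_top
    obtain ⟨P, hQP, hAP⟩ := Lead.invariant_pgroup_le_invariant_sylow (Subgroup.zpowers x') Mh hAM hcop
      (Or.inl hsolv) q Qh (hQR.trans le_sup_right) hQq hUA
    set Q₂ : Subgroup G := ((P : Subgroup ↥Mh).map Mh.subtype).map H.subtype with hQ₂
    have hQ₂q : IsPGroup q ↥Q₂ := (P.isPGroup'.map _).map _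
    have hxQ₂ : x ∈ Subgroup.normalizer (Q₂ : Set G) := by
      have h1 := Subgroup.le_normalizer_map (H := (P : Subgroup ↥Mh).map Mh.subtype) H.subtype
      exact h1 (Subgroup.mem_map.mpr ⟨x', hAP (Subgroup.mem_zpowers x'), rfl⟩)
    have hQQ₂ : Q ≤ Q₂ := by
      intro y hy
      exact Subgroup.mem_map.mpr ⟨⟨y, hQH hy⟩, hQP hy, rfl⟩
    have h5 := hmax Q₂ hQ₂q hxQ₂ hQQ₂
    have hc1 : Nat.card ↥Q₂ = Nat.card ↥(P : Subgroup ↥Mh) := by
      rw [hQ₂, Subgroup.card_map_of_injective H.subtype_injective,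
        Subgroup.card_map_of_injective Mh.subtype_injective]
    have hc2 : Nat.card ↥Qh = Nat.card ↥Q :=
      Nat.card_congr (Subgroup.subgroupOfEquivOfLe hQH).toEquiv
    have hc3 : Nat.card ↥Rh ≤ Nat.card ↥(P : Subgroup ↥Mh) := by
      obtain ⟨m, hm⟩ := IsPGroup.iff_card.mp hRq
      have h6 : q ^ m ∣ Nat.card ↥Mh := by
        rw [← hm]; exact Subgroup.card_dvd_of_le le_sup_right
      have h7 := P.pow_dvd_card_of_pow_dvd_card h6
      rw [hm]
      exact Nat.le_of_dvd Nat.card_pos h7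
    have hRQ : Rh = Qh := by
      refine (Subgroup.eq_of_le_of_card_ge hQR ?_).symm
      rw [hc2, ← h5, hc1]; exact hc3
    apply htQ
    have h8 : (⟨t, htN⟩ : ↥H) ∈ Rh := htS
    rw [hRQ] at h8
    exact h8

/-- Let G be a finite group, p a prime and x ∈ G an isolated element of order p (the only conjugate of x commuting with x is x) which is not central modulo the largest normal subgroup of order prime to p, while x is central modulo the largest normal subgroup of order prime to p in every proper subgroup containing x, and the image of x is so in every quotient of G by a nontrivial normal subgroup (a minimal counterexample to the Z*_p statement). Then for every prime q, every q-subgroup of G that is normalized by x and maximal among the q-subgroups normalized by x is either trivial or a Sylow q-subgroup of G; and C_G(x) permutes the x-invariant Sylow q-subgroups of G transitively by conjugation. -/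
theorem result {G : Type*} [Group G] [Finite G] {p : ℕ} [Fact p.Prime] (x : G) (hx : orderOf x = p) (hiso : Cfsg.IsIsolated x) (hnz : ¬ Cfsg.InZStar p x) (hmin : ∀ (H : Subgroup G) (hxH : x ∈ H), H ≠ ⊤ → Cfsg.InZStar p (⟨x, hxH⟩ : ↥H)) (hquot : ∀ (N : Subgroup G) [N.Normal], N ≠ ⊥ → Cfsg.InZStar p (QuotientGroup.mk x : G ⧸ N)) (q : ℕ) [Fact q.Prime] : (∀ Q : Subgroup G, IsPGroup q ↥Q → x ∈ Subgroup.normalizer (Q : Set G) → (∀ R : Subgroup G, IsPGroup q ↥R → x ∈ Subgroup.normalizer (R : Set G) → Q ≤ R → R = Q) → Q = ⊥ ∨ ∃ S : Sylow q G, (S : Subgroup G) = Q) ∧ (∀ S₁ S₂ : Sylow q G, x ∈ Subgroup.normalizer ((S₁ : Subgroup G) : Set G) → x ∈ Subgroup.normalizer ((S₂ : Subgroup G) : Set G) → ∃ c ∈ Subgroup.centralizer ({x} : Set G), (S₁ : Subgroup G).map (MulAut.conj c).toMonoidHom = (S₂ : Subgroup G)) := by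
  have hp : p.Prime := Fact.out
  have hxp : ∃ k : ℕ, orderOf x = p ^ k := ⟨1, by rw [hx, pow_one]⟩
  have hO := Cfsg.Agent.S2972.opc_bot x hnz hquot
  refine ⟨fun Q hQ hxQ hmax => sylow_part x hx hO hmin q Q hQ hxQ hmax, ?_⟩
  intro S₁ S₂ h1 h2
  obtain ⟨g, hg⟩ := MulAction.exists_smul_eq G S₁ S₂
  have hg' : (S₁ : Subgroup G).map (MulAut.conj g).toMonoidHom = (S₂ : Subgroup G) := by
    rw [← hg]; rfl
  have hgx : g * x * g⁻¹ ∈ Subgroup.normalizer ((S₂ : Subgroup G) : Set G) := by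
    rw [← hg']
    have h3 := Subgroup.le_normalizer_map (H := (S₁ : Subgroup G)) (MulAut.conj g).toMonoidHom
    exact h3 (Subgroup.mem_map.mpr ⟨x, h1, by simp⟩)
  obtain ⟨c, hc, hcx⟩ := Helper5.isolated_conj_eq_of_mem hiso hxp
    (Subgroup.normalizer ((S₂ : Subgroup G) : Set G)) h2 g hgx
  refine ⟨c * g, ?_, ?_⟩
  · rw [Subgroup.mem_centralizer_iff]
    intro y hy
    rw [Set.mem_singleton_iff] at hy
    rw [hy]
    have e : c * (g * x * g⁻¹) * c⁻¹ = (c * g) * x * (c * g)⁻¹ := by group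
    rw [e] at hcx
    exact (mul_inv_eq_iff_eq_mul.mp hcx).symm
  · have e : (MulAut.conj (c * g)).toMonoidHom
        = (MulAut.conj c).toMonoidHom.comp (MulAut.conj g).toMonoidHom := by
      ext y; simp [mul_assoc]
    rw [e, ← Subgroup.map_map, hg']
    exact Subgroup.mem_normalizer_iff_map_conj_eq.mp hc

end Cfsg.Agent.S2975
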