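import Cfsg.Statements.S3011
import Cfsg.Agent.Lib.Helper2.InvOdd

set_option autoImplicit false
open Cfsg

namespace Cfsg.Agent.S3011

open Cfsg.Agent.Lib.Helper2.InvOdd in
theorem result {G : Type*} [Group G] [Finite G] (V : Subgroup G) (hV : Cfsg.IsElementaryAbelian 2 V) (hV1 : V ≠ ⊥) (hS : Cfsg.IsSidkiPair V) (h4 : Nat.card V ≤ 4) : V ⊓ Cfsg.pCore 2 G ≠ ⊥ := by
  classical
  intro hbot
  obtain ⟨hVc, hV2⟩ := hV
  have hsq : ∀ x ∈ V, x * x = 1 := fun x hx => by rw [← pow_two]; exact hV2 x hx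
  have hinv : ∀ x ∈ V, x⁻¹ = x := fun x hx => inv_eq_of_mul_eq_one_left (hsq x hx)
  -- every nontrivial element of `V` inverts a nontrivial element of odd order
  have hwit : ∀ v ∈ V, v ≠ 1 → ∃ x : G, Odd (orderOf x) ∧ v * x * v⁻¹ = x⁻¹ ∧ x ≠ 1 := by
    intro v hv hv1
    by_contra hcon
    push_neg at hcon
    have hord : orderOf v = 2 := orderOf_eq_prime (hV2 v hv) hv1
    have h1 := mem_pCore_two_of_no_inverted v hord (fun x hx hxi => hcon x hx hxi)
    have hmem : v ∈ V ⊓ Cfsg.pCore 2 G := ⟨hv, h1⟩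
    rw [hbot, Subgroup.mem_bot] at hmem
    exact hv1 hmem
  -- the key configuration is impossible
  have claim : ∀ a ∈ V, ∀ b ∈ V, (∀ w ∈ V, w = 1 ∨ w = a ∨ w = b ∨ w = a * b) →
      ∀ h k : G, Odd (orderOf h) → Odd (orderOf k) → h ≠ 1 → k ≠ 1 → a * h * a⁻¹ = h⁻¹ →
        b * h * b⁻¹ = h → b * k * b⁻¹ = k⁻¹ → a * k * a⁻¹ = k → False := by
    intro a ha b hb hall h k hho hko hh1 hk1 hah hbh hbk hak
    have conj_ab : ∀ x : G, (a * b) * x * (a * b)⁻¹ = a * (b * x * b⁻¹) * a⁻¹ := fun x => by group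
    have hkh : Commute k h := by
      obtain ⟨X, hX⟩ : ∃ X : G, X = k * h * k⁻¹ := ⟨_, rfl⟩
      have hXodd : Odd (orderOf X) := by
        rw [hX, Cfsg.Agent.Lib.Lead.orderOf_conj_eq]; exact hho
      have haX : a * X * a⁻¹ = X⁻¹ := by
        have e1 : a * X * a⁻¹ = (a * k * a⁻¹) * (a * h * a⁻¹) * (a * k * a⁻¹)⁻¹ := by rw [hX]; group
        rw [e1, hah, hak, hX]; group
      have hbX : b * X * b⁻¹ = k⁻¹ * h * k := by
        have e1 : b * X * b⁻¹ = (b * k * b⁻¹) * (b * h * b⁻¹) * (b * k * b⁻¹)⁻¹ := by rw [hX]; group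
        rw [e1, hbh, hbk]; group
      obtain ⟨w, hw, hw1, hwc⟩ := hS X a ha hXodd haX
      have hwX : w * X * w⁻¹ = X := by rw [hwc, mul_inv_cancel_right]
      rcases hall w hw with e | e | e | e
      · exact absurd e hw1
      · exfalso
        rw [e, haX] at hwX
        have hX1 := eq_one_of_odd_of_inv_eq hXodd hwX
        apply hh1
        have e2 : h = k⁻¹ * X * k := by rw [hX]; group
        rw [e2, hX1]; group
      · rw [e, hbX] at hwX
        rw [hX] at hwX
        have h5 : Commute (k ^ 2) h := by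
          show k ^ 2 * h = h * k ^ 2
          have e1 : k ^ 2 * h = k * (k * h * k⁻¹) * k := by rw [pow_two]; group
          have e2 : h * k ^ 2 = k * (k⁻¹ * h * k) * k := by rw [pow_two]; group
          rw [e1, e2, hwX]
        exact commute_of_sq_commute hko h5
      · exfalso
        rw [e, conj_ab, hbX] at hwX
        have h6 : a * (k⁻¹ * h * k) * a⁻¹ = k⁻¹ * h⁻¹ * k := by
          have e1 : a * (k⁻¹ * h * k) * a⁻¹ = (a * k * a⁻¹)⁻¹ * (a * h * a⁻¹) * (a * k * a⁻¹) := by group
          rw [e1, hah, hak]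
        rw [h6, hX] at hwX
        have h7 : k ^ 2 * h * (k ^ 2)⁻¹ = h⁻¹ := by
          have e1 : k ^ 2 * h * (k ^ 2)⁻¹ = k * (k * h * k⁻¹) * k⁻¹ := by rw [pow_two]; group
          have e2 : h⁻¹ = k * (k⁻¹ * h⁻¹ * k) * k⁻¹ := by group
          rw [e1, e2, hwX]
        have hk2odd : Odd (orderOf (k ^ 2)) := Odd.of_dvd_nat hko (orderOf_pow_dvd 2)
        exact hh1 (eq_one_of_odd_invert hk2odd hho h7)
    have hyodd : Odd (orderOf (h * k)) := by
      have h1 : orderOf (h * k) ∣ orderOf h * orderOf k :=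
        (hkh.symm.orderOf_mul_dvd_lcm).trans (Nat.lcm_dvd_mul _ _)
      exact Odd.of_dvd_nat (hho.mul hko) h1
    have hay : a * (h * k) * a⁻¹ = h⁻¹ * k := by
      have e1 : a * (h * k) * a⁻¹ = (a * h * a⁻¹) * (a * k * a⁻¹) := by group
      rw [e1, hah, hak]
    have hby : b * (h * k) * b⁻¹ = h * k⁻¹ := by
      have e1 : b * (h * k) * b⁻¹ = (b * h * b⁻¹) * (b * k * b⁻¹) := by group
      rw [e1, hbh, hbk]
    have hcy : (a * b) * (h * k) * (a * b)⁻¹ = (h * k)⁻¹ := by
      rw [conj_ab, hby]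
      have e1 : a * (h * k⁻¹) * a⁻¹ = (a * h * a⁻¹) * (a * k * a⁻¹)⁻¹ := by group
      rw [e1, hah, hak, mul_inv_rev]
      exact (hkh.inv_inv).eq.symm
    obtain ⟨w, hw, hw1, hwc⟩ := hS (h * k) (a * b) (V.mul_mem ha hb) hyodd hcy
    have hwy : w * (h * k) * w⁻¹ = h * k := by rw [hwc, mul_inv_cancel_right]
    rcases hall w hw with e | e | e | e
    · exact hw1 e
    · rw [e, hay] at hwy
      have h8 : h⁻¹ = h := mul_right_cancel hwy
      exact hh1 (eq_one_of_odd_of_inv_eq hho h8)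
    · rw [e, hby] at hwy
      have h8 : k⁻¹ = k := mul_left_cancel hwy
      exact hk1 (eq_one_of_odd_of_inv_eq hko h8)
    · rw [e, hcy] at hwy
      have hy1 : h * k = 1 := eq_one_of_odd_of_inv_eq hyodd hwy
      have hk' : k = h⁻¹ := eq_inv_of_mul_eq_one_right hy1
      rw [hk'] at hak
      have h9 : a * h⁻¹ * a⁻¹ = h := by rw [← conj_inv, hah, inv_inv]
      rw [h9] at hak
      exact hh1 (eq_one_of_odd_of_inv_eq hho hak.symm)
  -- choose `a`
  obtain ⟨a, ha, ha1⟩ : ∃ a ∈ V, a ≠ 1 := by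
    by_contra hcon
    push_neg at hcon
    exact hV1 ((Subgroup.eq_bot_iff_forall V).mpr hcon)
  obtain ⟨h, hho, hah, hh1⟩ := hwit a ha ha1
  obtain ⟨b, hb, hb1, hbh⟩ := hS h a ha hho hah
  have hbh' : b * h * b⁻¹ = h := by rw [hbh, mul_inv_cancel_right]
  have hab : a ≠ b := by
    intro e
    rw [← e, hah] at hbh'
    exact hh1 (eq_one_of_odd_of_inv_eq hho hbh')
  have hab1 : a * b ≠ 1 := by
    intro e
    apply hab
    have := eq_inv_of_mul_eq_one_left e
    rw [this, hinv b hb]
  have hall : ∀ w ∈ V, w = 1 ∨ w = a ∨ w = b ∨ w = a * b := by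
    let S : Finset G := {1, a, b, a * b}
    have hScard : S.card = 4 := by
      have h1a : (1 : G) ≠ a := fun e => ha1 e.symm
      have h1b : (1 : G) ≠ b := fun e => hb1 e.symm
      have h1ab : (1 : G) ≠ a * b := fun e => hab1 e.symm
      have haab : a ≠ a * b := by
        intro e
        apply hb1
        have : a * 1 = a * b := by rw [mul_one]; exact e
        exact (mul_left_cancel this).symm
      have hbab : b ≠ a * b := by
        intro e
        apply ha1
        have : 1 * b = a * b := by rw [one_mul]; exact e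
        exact (mul_right_cancel this).symm
      simp [S, Finset.card_insert_of_notMem, h1a, h1b, h1ab, hab, haab, hbab]
    have hSV : (S : Set G) ⊆ (V : Set G) := by
      intro x hx
      simp only [S, Finset.coe_insert, Finset.coe_singleton, Set.mem_insert_iff,
        Set.mem_singleton_iff] at hx
      rcases hx with rfl | rfl | rfl | rfl
      · exact V.one_mem
      · exact ha
      · exact hb
      · exact V.mul_mem ha hb
    have hEq : (S : Set G) = (V : Set G) := by
      apply Set.eq_of_subset_of_ncard_le hSV _ (Set.toFinite _)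
      rw [Set.ncard_coe_finset, hScard, ← Nat.card_coe_set_eq]
      exact h4
    intro w hw
    have hwS : w ∈ (S : Set G) := by rw [hEq]; exact hw
    simpa [S] using hwS
  obtain ⟨k, hko, hbk, hk1⟩ := hwit b hb hb1
  obtain ⟨w, hw, hw1, hwk⟩ := hS k b hb hko hbk
  have hwk' : w * k * w⁻¹ = k := by rw [hwk, mul_inv_cancel_right]
  rcases hall w hw with e | e | e | e
  · exact hw1 e
  · rw [e] at hwk'
    exact claim a ha b hb hall h k hho hko hh1 hk1 hah hbh' hbk hwk'
  · rw [e, hbk] at hwk'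
    exact hk1 (eq_one_of_odd_of_inv_eq hko hwk')
  · rw [e] at hwk'
    have hch : (a * b) * h * (a * b)⁻¹ = h⁻¹ := by
      have e1 : (a * b) * h * (a * b)⁻¹ = a * (b * h * b⁻¹) * a⁻¹ := by group
      rw [e1, hbh', hah]
    have hall' : ∀ w ∈ V, w = 1 ∨ w = a * b ∨ w = b ∨ w = (a * b) * b := by
      intro w hw
      have hcbb : (a * b) * b = a := by rw [mul_assoc, hsq b hb, mul_one]
      rw [hcbb]
      rcases hall w hw with e | e | e | e
      · left; exact e
      · right; right; right; exact e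
      · right; right; left; exact e
      · right; left; exact e
    exact claim (a * b) (V.mul_mem ha hb) b hb hall' h k hho hko hh1 hk1 hch hbh' hbk hwk'

end Cfsg.Agent.S3011
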