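import Cfsg.Statements.S3015
import Mathlib
import Cfsg.Agent.Lib.Helper5.TransferMax
import Cfsg.Agent.Lib.Helper7.PPrime

set_option autoImplicit false
open Cfsg

namespace Cfsg.Agent.S3015


open Cfsg.Agent.Lib.Helper5 Cfsg.Agent.Lib

/-- an element normalizing a generating set normalizes the closure -/
theorem closure_conj_stable {G : Type*} [Group G] [Finite G] (S : Set G) (k : G)
    (hk : ∀ x ∈ S, k * x * k⁻¹ ∈ S) :
    k ∈ Subgroup.normalizer ((Subgroup.closure S : Subgroup G) : Set G) := by
  rw [Subgroup.mem_normalizer_iff_map_conj_eq]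
  have h1 : (Subgroup.closure S).map (MulAut.conj k).toMonoidHom ≤ Subgroup.closure S := by
    rw [MonoidHom.map_closure, Subgroup.closure_le]
    rintro _ ⟨x, hx, rfl⟩
    exact Subgroup.subset_closure (hk x hx)
  exact Subgroup.eq_of_le_of_card_ge h1
    (Subgroup.card_map_of_injective (MulAut.conj k).injective).ge

theorem claimA {G : Type*} [Group G] [Finite G] [IsSimpleGroup G]
    (M H : Subgroup G) (hmaxM : IsCoatom M) (hHM : H ≤ M) (hHn : (H.subgroupOf M).Normal)
    (hidx : (H.relIndex M).Prime) (hNM : Subgroup.normalizer (M : Set G) = M) (g : G)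
    (hg : H.map (MulAut.conj g).toMonoidHom ≤ M) : H.map (MulAut.conj g).toMonoidHom = H := by
  classical
  by_contra hne
  have hB : M ≤ Subgroup.normalizer (H : Set G) :=
    (Subgroup.normal_subgroupOf_iff_le_normalizer hHM).mp hHn
  have hgN : g ∉ Subgroup.normalizer (H : Set G) := fun h =>
    hne (Subgroup.mem_normalizer_iff_map_conj_eq.mp h)
  have hgM : g ∉ M := fun h => hgN (hB h)
  haveI : Fact (H.relIndex M).Prime := ⟨hidx⟩
  -- the quotient has prime order
  have hcardQ : Nat.card (↥M ⧸ H.subgroupOf M) = H.relIndex M := rfl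
  set S : Set G := {x | x ∈ M ∧ (orderOf x).Coprime (H.relIndex M)} with hS
  have hSH : ∀ x ∈ S, x ∈ H := by
    rintro x ⟨hxM, hxc⟩
    have h1 : (QuotientGroup.mk' (H.subgroupOf M) ⟨x, hxM⟩) ^ (orderOf x) = 1 := by
      rw [← map_pow]
      have : (⟨x, hxM⟩ : ↥M) ^ orderOf x = 1 := Subtype.ext (by simp [pow_orderOf_eq_one])
      rw [this, map_one]
    have h2 : (QuotientGroup.mk' (H.subgroupOf M) ⟨x, hxM⟩) ^ (H.relIndex M) = 1 := by
      rw [← hcardQ]; exact pow_card_eq_one'
    have h3 := pow_gcd_eq_one.mpr ⟨h1, h2⟩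
    rw [Nat.Coprime.gcd_eq_one hxc, pow_one] at h3
    exact Subgroup.mem_subgroupOf.mp ((QuotientGroup.eq_one_iff _).mp h3)
  have hRM : Subgroup.closure S ≤ M := (Subgroup.closure_le _).mpr (fun x hx => hx.1)
  have hgR : g ∈ Subgroup.normalizer ((Subgroup.closure S : Subgroup G) : Set G) := by
    apply closure_conj_stable
    intro x hx
    refine ⟨hg (Subgroup.mem_map.mpr ⟨x, hSH x hx, rfl⟩), ?_⟩
    have h1 : orderOf (g * x * g⁻¹) = orderOf x :=
      orderOf_injective (MulAut.conj g).toMonoidHom (MulAut.conj g).injective x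
    rw [h1]; exact hx.2
  have hMR : M ≤ Subgroup.normalizer ((Subgroup.closure S : Subgroup G) : Set G) := by
    intro m hm
    apply closure_conj_stable
    intro x hx
    refine ⟨M.mul_mem (M.mul_mem hm hx.1) (M.inv_mem hm), ?_⟩
    have h1 : orderOf (m * x * m⁻¹) = orderOf x :=
      orderOf_injective (MulAut.conj m).toMonoidHom (MulAut.conj m).injective x
    rw [h1]; exact hx.2
  have hRbot : Subgroup.closure S = ⊥ := by
    have h1 : Subgroup.normalizer ((Subgroup.closure S : Subgroup G) : Set G) = ⊤ := by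
      rcases hmaxM.le_iff.mp hMR with h | h
      · exact h
      · exfalso; rw [h] at hgR; exact hgM hgR
    have h2 : (Subgroup.closure S).Normal := Subgroup.normalizer_eq_top_iff.mp h1
    rcases IsSimpleGroup.eq_bot_or_eq_top_of_normal _ h2 with h | h
    · exact h
    · exfalso
      rw [h] at hRM
      exact hmaxM.1 (top_le_iff.mp hRM)
  -- M is an r-group
  have hMp : IsPGroup (H.relIndex M) M := by
    rintro ⟨x, hxM⟩
    have ho : orderOf x ≠ 0 := (orderOf_pos x).ne'
    obtain ⟨k, m', hm', hkm⟩ := Nat.exists_eq_pow_mul_and_not_dvd ho (H.relIndex M) hidx.ne_one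
    refine ⟨k, ?_⟩
    have hw : (x ^ (H.relIndex M) ^ k) ^ m' = 1 := by
      rw [← pow_mul, ← hkm]; exact pow_orderOf_eq_one x
    have hwS : x ^ (H.relIndex M) ^ k ∈ S := by
      refine ⟨M.pow_mem hxM _, ?_⟩
      have h1 : orderOf (x ^ (H.relIndex M) ^ k) ∣ m' := orderOf_dvd_of_pow_eq_one hw
      exact Nat.Coprime.coprime_dvd_left h1 ((Nat.Prime.coprime_iff_not_dvd hidx).mpr hm').symm
    have h2 : x ^ (H.relIndex M) ^ k ∈ Subgroup.closure S := Subgroup.subset_closure hwS
    rw [hRbot, Subgroup.mem_bot] at h2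
    exact Subtype.ext h2
  -- the conjugate of H is normal in M
  have hHgn : ((H.map (MulAut.conj g).toMonoidHom).subgroupOf M).Normal := by
    apply Subgroup.normal_of_index_eq_minFac_card
    have h1 : ((H.map (MulAut.conj g).toMonoidHom).subgroupOf M).index = H.relIndex M := by
      show (H.map (MulAut.conj g).toMonoidHom).relIndex M = H.relIndex M
      have e1 := Helper7.relIndex_mul_card_of_le hg
      have e2 := Helper7.relIndex_mul_card_of_le hHM
      rw [Subgroup.card_map_of_injective (MulAut.conj g).injective] at e1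
      have hpos : 0 < Nat.card H := Nat.card_pos
      exact Nat.eq_of_mul_eq_mul_right hpos (e1.trans e2.symm)
    rw [h1]
    obtain ⟨n, hn⟩ := hMp.exists_card_eq
    have hn0 : n ≠ 0 := by
      rintro rfl
      rw [pow_zero] at hn
      have h2 : H.relIndex M ∣ Nat.card M := Subgroup.relIndex_dvd_card H M
      rw [hn] at h2
      exact hidx.one_lt.ne' (Nat.dvd_one.mp h2)
    rw [hn, Nat.Prime.pow_minFac hidx hn0]
  have hMHg : M ≤ Subgroup.normalizer
      ((H.map (MulAut.conj g).toMonoidHom : Subgroup G) : Set G) :=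
    (Subgroup.normal_subgroupOf_iff_le_normalizer hg).mp hHgn
  have hMgHg : M.map (MulAut.conj g).toMonoidHom ≤ Subgroup.normalizer
      ((H.map (MulAut.conj g).toMonoidHom : Subgroup G) : Set G) :=
    (Subgroup.map_mono hB).trans (Subgroup.le_normalizer_map _)
  have hMg : ¬ M.map (MulAut.conj g).toMonoidHom ≤ M := by
    intro h
    have h1 : M.map (MulAut.conj g).toMonoidHom = M := Subgroup.eq_of_le_of_card_ge h
      (Subgroup.card_map_of_injective (MulAut.conj g).injective).ge
    have h2 : g ∈ Subgroup.normalizer (M : Set G) := Subgroup.mem_normalizer_iff_map_conj_eq.mpr h1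
    rw [hNM] at h2
    exact hgM h2
  have hNt : Subgroup.normalizer
      ((H.map (MulAut.conj g).toMonoidHom : Subgroup G) : Set G) = ⊤ := by
    rcases hmaxM.le_iff.mp hMHg with h | h
    · exact h
    · exfalso; rw [h] at hMgHg; exact hMg hMgHg
  have hn : (H.map (MulAut.conj g).toMonoidHom).Normal := Subgroup.normalizer_eq_top_iff.mp hNt
  rcases IsSimpleGroup.eq_bot_or_eq_top_of_normal _ hn with h | h
  · have h1 : H = ⊥ := (Subgroup.map_eq_bot_iff_of_injective _ (MulAut.conj g).injective).mp h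
    apply hne
    rw [h1, Subgroup.map_bot]
  · rw [h] at hg
    exact hmaxM.1 (top_le_iff.mp hg)

/-- Let G be a finite non-abelian simple group, M a maximal subgroup of G and H a normal subgroup of M of prime index in M. Then G is generated by H together with one of its conjugates. -/
theorem result {G : Type*} [Group G] [Finite G] [IsSimpleGroup G] (hG : ¬ IsMulCommutative G) (M H : Subgroup G) (hmaxM : IsCoatom M) (hHM : H ≤ M) (hHn : (H.subgroupOf M).Normal) (hidx : (H.relIndex M).Prime) : ∃ g : G, H ⊔ H.map (MulAut.conj g).toMonoidHom = ⊤ := by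
  classical
  by_contra hno
  push_neg at hno
  have hB : M ≤ Subgroup.normalizer (H : Set G) :=
    (Subgroup.normal_subgroupOf_iff_le_normalizer hHM).mp hHn
  have hHneM : ¬ M ≤ H := fun h => hidx.ne_one (Subgroup.relIndex_eq_one.mpr h)
  have hMbot : M ≠ ⊥ := fun h => hHneM (h ▸ bot_le)
  have hNM : Subgroup.normalizer (M : Set G) = M := by
    rcases hmaxM.le_iff.mp (Subgroup.le_normalizer (H := M)) with h | h
    · exfalso
      have hn : M.Normal := Subgroup.normalizer_eq_top_iff.mp h
      rcases IsSimpleGroup.eq_bot_or_eq_top_of_normal _ hn with h' | h'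
      · exact hMbot h'
      · exact hmaxM.1 h'
    · exact h
  have hcomm : commutator G = ⊤ := by
    rcases IsSimpleGroup.eq_bot_or_eq_top_of_normal (commutator G) inferInstance with h | h
    · exact absurd ((commutator_eq_bot_iff G).mp h) hG
    · exact h
  have hmaxH : ∀ X : Subgroup G, H ≤ X → X ≤ M → X = H ∨ X = M := by
    intro X hHX hXM
    have h1 := Subgroup.relIndex_mul_relIndex H X M hHX hXM
    have h2 : H.relIndex X = 1 ∨ X.relIndex M = 1 := by
      have h3 : H.relIndex X ∣ H.relIndex M := Dvd.intro _ h1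
      rcases (Nat.dvd_prime hidx).mp h3 with h4 | h4
      · exact Or.inl h4
      · right
        rw [h4] at h1
        have hpos : 0 < H.relIndex M := hidx.pos
        exact Nat.eq_of_mul_eq_mul_left hpos (by rw [h1, mul_one])
    rcases h2 with h2 | h2
    · exact Or.inl (le_antisymm (Subgroup.relIndex_eq_one.mp h2) hHX)
    · exact Or.inr (le_antisymm hXM (Subgroup.relIndex_eq_one.mp h2))
  have hA := claimA M H hmaxM hHM hHn hidx hNM
  -- M / H is abelian
  have hab : ∀ a ∈ M, ∀ b ∈ M, a * b * a⁻¹ * b⁻¹ ∈ H := by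
    intro a ha b hb
    haveI := hHn
    haveI : Fact (Nat.card (↥M ⧸ H.subgroupOf M)).Prime := ⟨hidx⟩
    haveI : IsCyclic (↥M ⧸ H.subgroupOf M) := isCyclic_of_prime_card rfl
    letI : CommGroup (↥M ⧸ H.subgroupOf M) := IsCyclic.commGroup
    have h1 : QuotientGroup.mk' (H.subgroupOf M) (⟨a, ha⟩ * ⟨b, hb⟩ * ⟨a, ha⟩⁻¹ * ⟨b, hb⟩⁻¹) = 1 := by
      simp only [map_mul, map_inv]
      rw [mul_comm (QuotientGroup.mk' (H.subgroupOf M) ⟨a, ha⟩)
        (QuotientGroup.mk' (H.subgroupOf M) ⟨b, hb⟩), mul_inv_cancel_right, mul_inv_cancel]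
    exact Subgroup.mem_subgroupOf.mp ((QuotientGroup.eq_one_iff _).mp h1)
  -- the H = ⊥ subcase
  have hbotcase : H = ⊥ → ∀ g : G, g ∉ M → ∀ m ∈ M, g * m * g⁻¹ ∈ M → g * m * g⁻¹ ∈ H := by
    intro hHb g hg m hm hy
    by_contra hyH
    rcases hmaxH (M ⊓ M.map (MulAut.conj g).toMonoidHom) (hHb ▸ bot_le) inf_le_left with h | h
    · apply hyH
      rw [← h]
      exact Subgroup.mem_inf.mpr ⟨hy, Subgroup.mem_map.mpr ⟨m, hm, rfl⟩⟩
    · have h1 : M ≤ M.map (MulAut.conj g).toMonoidHom := inf_eq_left.mp h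
      have h2 : M = M.map (MulAut.conj g).toMonoidHom := Subgroup.eq_of_le_of_card_ge h1
        (Subgroup.card_map_of_injective (MulAut.conj g).injective).le
      have h3 : g ∈ Subgroup.normalizer (M : Set G) :=
        Subgroup.mem_normalizer_iff_map_conj_eq.mpr h2.symm
      rw [hNM] at h3
      exact hg h3
  have hstar : ∀ g : G, g ∉ M → ∀ m ∈ M, g * m * g⁻¹ ∈ M → g * m * g⁻¹ ∈ H := by
    intro g hg m hm hy
    by_contra hyH
    have hHb : H ≠ ⊥ := fun h => hyH (hbotcase h g hg m hm hy)
    have hHn' : ¬ H.Normal := by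
      intro hn
      rcases IsSimpleGroup.eq_bot_or_eq_top_of_normal _ hn with h | h
      · exact hHb h
      · exact hHneM (h ▸ le_top)
    have hyN : g * m * g⁻¹ ∈ Subgroup.normalizer
        ((H ⊔ H.map (MulAut.conj g).toMonoidHom : Subgroup G) : Set G) := by
      rw [Subgroup.mem_normalizer_iff_map_conj_eq, Subgroup.map_sup]
      have e1 : H.map (MulAut.conj (g * m * g⁻¹)).toMonoidHom = H :=
        Subgroup.mem_normalizer_iff_map_conj_eq.mp (hB hy)
      have e2 : (H.map (MulAut.conj g).toMonoidHom).map (MulAut.conj (g * m * g⁻¹)).toMonoidHom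
          = H.map (MulAut.conj g).toMonoidHom := by
        apply Subgroup.mem_normalizer_iff_map_conj_eq.mp
        exact Subgroup.le_normalizer_map (MulAut.conj g).toMonoidHom
          (Subgroup.mem_map.mpr ⟨m, hB hm, rfl⟩)
      exact congrArg₂ (· ⊔ ·) e1 e2
    have hMle : M ≤ Subgroup.normalizer
        ((H ⊔ H.map (MulAut.conj g).toMonoidHom : Subgroup G) : Set G) := by
      rcases hmaxH (H ⊔ Subgroup.zpowers (g * m * g⁻¹)) le_sup_left
        (sup_le hHM (by rw [Subgroup.zpowers_le]; exact hy)) with h | h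
      · exfalso
        apply hyH
        have h4 : g * m * g⁻¹ ∈ H ⊔ Subgroup.zpowers (g * m * g⁻¹) :=
          (le_sup_right : Subgroup.zpowers (g * m * g⁻¹) ≤ _) (Subgroup.mem_zpowers _)
        rw [h] at h4
        exact h4
      · rw [← h]
        refine sup_le ?_ ?_
        · exact le_sup_left.trans Subgroup.le_normalizer
        · rw [Subgroup.zpowers_le]; exact hyN
    rcases hmaxM.le_iff.mp hMle with h | h
    · have hLn : (H ⊔ H.map (MulAut.conj g).toMonoidHom).Normal :=
        Subgroup.normalizer_eq_top_iff.mp h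
      rcases IsSimpleGroup.eq_bot_or_eq_top_of_normal _ hLn with h' | h'
      · exact hHb (le_bot_iff.mp (h' ▸ le_sup_left))
      · exact hno g h'
    · have h1 : H.map (MulAut.conj g).toMonoidHom ≤ M := by
        rw [← h]
        exact le_sup_right.trans Subgroup.le_normalizer
      have h2 := hA g h1
      have h3 : g ∈ Subgroup.normalizer (H : Set G) :=
        Subgroup.mem_normalizer_iff_map_conj_eq.mpr h2
      rcases hmaxM.le_iff.mp hB with h4 | h4
      · exact hHn' (Subgroup.normalizer_eq_top_iff.mp h4)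
      · rw [h4] at h3; exact hg h3
  obtain ⟨K₀, hK₀n, hK₀c, hK₀M⟩ := transfer_kernel_inf H M hHM hB hab hstar
  rw [hcomm, top_le_iff] at hK₀c
  rw [hK₀c, top_inf_eq] at hK₀M
  exact hHneM hK₀M.le

end Cfsg.Agent.S3015
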