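import Cfsg.Statements.S3021
import Mathlib
import Cfsg.Agent.S3056
import Cfsg.Agent.Lib.Helper6.NormGrow

set_option autoImplicit false
open Cfsg

namespace Cfsg.Agent.S3021

theorem mem_normalizer_of_map_le {G : Type*} [Group G] [Finite G] (H : Subgroup G) (g : G)
    (h : H.map (MulAut.conj g).toMonoidHom ≤ H) : g ∈ Subgroup.normalizer (H : Set G) := by
  have heq : H.map (MulAut.conj g).toMonoidHom = H := by
    apply Subgroup.eq_of_le_of_card_ge h
    rw [Subgroup.card_map_of_injective (MulAut.conj g).injective]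
  rw [Subgroup.mem_normalizer_iff]
  intro x
  have h1 := Cfsg.Agent.S3056.mem_map_conj_iff' H g (g * x * g⁻¹)
  rw [heq] at h1
  have e : g⁻¹ * (g * x * g⁻¹) * g = x := by group
  rw [e] at h1
  exact h1.symm

theorem key_ec {G : Type*} [Group G] [Finite G] (H : Subgroup G) (hcl : Cfsg.IsExtremelyClosed H)
    (g : G) (h : H.map (MulAut.conj g).toMonoidHom ≤ Subgroup.normalizer (H : Set G)) :
    g ∈ Subgroup.normalizer (H : Set G) := by
  apply mem_normalizer_of_map_le
  intro y hy
  have h1 : y ∈ (H ⊔ H.map (MulAut.conj g).toMonoidHom) ⊓ Subgroup.normalizer (H : Set G) :=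
    Subgroup.mem_inf.mpr ⟨Subgroup.mem_sup_right hy, h hy⟩
  rw [hcl g] at h1
  exact h1

/-- Let G be a finite group, p a prime and H a p-subgroup of G that is extremely closed (for every g, the subgroup generated by H and g H g⁻¹ meets N_G(H) exactly in H). Then every p-subgroup Q of G containing H has N_G(Q) ≤ N_G(H); in particular every Sylow p-subgroup P of G containing H normalizes H, and H is strongly closed in P with respect to G. -/
theorem result {G : Type*} [Group G] [Finite G] {p : ℕ} [Fact p.Prime] (H : Subgroup G) (hHp : IsPGroup p H) (hcl : Cfsg.IsExtremelyClosed H) : (∀ Q : Subgroup G, IsPGroup p Q → H ≤ Q → Subgroup.normalizer (Q : Set G) ≤ Subgroup.normalizer (H : Set G)) ∧ ∀ P : Sylow p G, H ≤ (P : Subgroup G) → (P : Subgroup G) ≤ Subgroup.normalizer (H : Set G) ∧ Cfsg.IsStronglyClosed H (P : Subgroup G) := by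
  have part1 : ∀ Q : Subgroup G, IsPGroup p Q → H ≤ Q →
      Subgroup.normalizer (Q : Set G) ≤ Subgroup.normalizer (H : Set G) := by
    intro Q hQ hHQ
    have hQN : Q ≤ Subgroup.normalizer (H : Set G) := by
      by_contra hcon
      have hlt : Q ⊓ Subgroup.normalizer (H : Set G) < Q := by
        refine lt_of_le_of_ne inf_le_left ?_
        intro heq
        apply hcon
        rw [← heq]
        exact inf_le_right
      obtain ⟨r, hrQ, hrN, hrC⟩ := Cfsg.Agent.Lib.Helper6.exists_mem_normalizer_not_mem hQ hlt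
      apply hrC
      refine Subgroup.mem_inf.mpr ⟨hrQ, ?_⟩
      apply key_ec H hcl
      rintro _ ⟨y, hy, rfl⟩
      have h1 : y ∈ Q ⊓ Subgroup.normalizer (H : Set G) :=
        Subgroup.mem_inf.mpr ⟨hHQ hy, Subgroup.le_normalizer hy⟩
      rw [Subgroup.mem_normalizer_iff] at hrN
      exact ((hrN y).mp h1).2
    intro g hg
    apply key_ec H hcl
    rintro _ ⟨y, hy, rfl⟩
    apply hQN
    rw [Subgroup.mem_normalizer_iff] at hg
    exact (hg y).mp (hHQ hy)
  refine ⟨part1, ?_⟩
  intro P hHP
  have hPN : (P : Subgroup G) ≤ Subgroup.normalizer (H : Set G) :=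
    le_trans Subgroup.le_normalizer (part1 (P : Subgroup G) P.2 hHP)
  refine ⟨hPN, hHP, ?_⟩
  intro x hx g hg
  have h1 : g * x * g⁻¹ ∈ (H ⊔ H.map (MulAut.conj g).toMonoidHom) ⊓ Subgroup.normalizer (H : Set G) :=
    Subgroup.mem_inf.mpr ⟨Subgroup.mem_sup_right ⟨x, hx, rfl⟩, hPN hg⟩
  rw [hcl g] at h1
  exact h1

end Cfsg.Agent.S3021
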