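import Cfsg.Statements.S3048
import Mathlib
import Cfsg.Agent.S3012
import Cfsg.Agent.S3013
import Cfsg.Agent.S3015
import Cfsg.Agent.Lib.Helper2.InvOdd
import Cfsg.Agent.Lib.Helper2.Comp2
import Cfsg.Agent.Lib.Helper4.Basic
import Cfsg.Agent.Lib.Helper4.Subn
import Cfsg.Agent.Lib.Helper4.CharP
import Cfsg.Agent.Lib.Helper5.DStar2
import Cfsg.Agent.Lib.Helper6.NormGrow
import Cfsg.Agent.Lib.Helper7.PPrime
import Cfsg.Agent.Lib.Lead.PCore2
import Cfsg.Agent.Lib.Lead.BaerSuzuki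

set_option autoImplicit false
universe u
open Cfsg Cfsg.Agent.Lib

namespace Cfsg.Agent.S3048



theorem odd_mem_of_sq_mem {G : Type*} [Group G] (K : Subgroup G) (h : G)
    (ho : Odd (orderOf h)) (h2 : h ^ 2 ∈ K) : h ∈ K := by
  obtain ⟨m, hm⟩ := exists_pow_eq_self_of_coprime (n := 2) (x := h)
    (Nat.coprime_two_left.mpr ho)
  rw [← hm]
  exact K.pow_mem h2 m

theorem odd_inv_eq {G : Type*} [Group G] (h : G) (ho : Odd (orderOf h)) (hi : h = h⁻¹) :
    h = 1 := by
  apply Helper2.InvOdd.eq_one_of_odd_of_sq ho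
  rw [pow_two]
  nth_rewrite 1 [hi]
  exact inv_mul_cancel h

theorem mem_sup_normalizes {G : Type*} [Group G] {T U : Subgroup G}
    (hU : U ≤ Subgroup.normalizer (T : Set G)) {k : G} (hk : k ∈ T ⊔ U) :
    ∃ t ∈ T, ∃ u ∈ U, k = t * u := by
  have hconj : ∀ u ∈ U, ∀ t ∈ T, u * t * u⁻¹ ∈ T := fun u hu t ht =>
    (Subgroup.mem_normalizer_iff.mp (hU hu) t).mp ht
  rw [Subgroup.sup_eq_closure] at hk
  induction hk using Subgroup.closure_induction with
  | mem x hx =>
    rcases hx with hx | hx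
    · exact ⟨x, hx, 1, U.one_mem, by rw [mul_one]⟩
    · exact ⟨1, T.one_mem, x, hx, by rw [one_mul]⟩
  | one => exact ⟨1, T.one_mem, 1, U.one_mem, by rw [mul_one]⟩
  | mul x y _ _ hx hy =>
    obtain ⟨t₁, ht₁, u₁, hu₁, rfl⟩ := hx
    obtain ⟨t₂, ht₂, u₂, hu₂, rfl⟩ := hy
    refine ⟨t₁ * (u₁ * t₂ * u₁⁻¹), T.mul_mem ht₁ (hconj u₁ hu₁ t₂ ht₂), u₁ * u₂,
      U.mul_mem hu₁ hu₂, by group⟩
  | inv x _ hx =>
    obtain ⟨t₁, ht₁, u₁, hu₁, rfl⟩ := hx
    refine ⟨u₁⁻¹ * t₁⁻¹ * u₁⁻¹⁻¹, hconj u₁⁻¹ (U.inv_mem hu₁) _ (T.inv_mem ht₁), u₁⁻¹,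
      U.inv_mem hu₁, by group⟩

/-- a central subgroup of order prime to its index has a normal complement -/
theorem central_complement {C : Type*} [Group C] [Finite C] (Y : Subgroup C)
    (hcent : Y ≤ Subgroup.center C) (hcop : (Nat.card Y).Coprime Y.index) :
    ∃ D : Subgroup C, D.Normal ∧ Nat.card D = Y.index := by
  haveI hYn : Y.Normal := by
    refine ⟨fun y hy g => ?_⟩
    have h1 := Subgroup.mem_center_iff.mp (hcent hy) g
    rw [h1, mul_assoc, mul_inv_cancel, mul_one]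
    exact hy
  obtain ⟨D, hD⟩ := Subgroup.exists_right_complement'_of_coprime hcop
  refine ⟨D, ?_, hD.symm.index_eq_card.symm⟩
  refine ⟨fun d hd g => ?_⟩
  obtain ⟨⟨a, b⟩, hab⟩ := hD.2 g
  have hab' : (a : C) * (b : C) = g := hab
  have ha := Subgroup.mem_center_iff.mp (hcent a.2)
  have e : g * d * g⁻¹ = (b : C) * d * (b : C)⁻¹ := by
    rw [← hab']
    have h1 : (a : C) * (b : C) * d * ((a : C) * (b : C))⁻¹
        = (a : C) * ((b : C) * d * (b : C)⁻¹) * (a : C)⁻¹ := by group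
    rw [h1, ← ha ((b : C) * d * (b : C)⁻¹), mul_inv_cancel_right]
  rw [e]
  exact D.mul_mem (D.mul_mem b.2 hd) (D.inv_mem b.2)

theorem subn2_bot {G : Type*} [Group G] [Finite G] (hO : Cfsg.pCore 2 G = ⊥) (R : Subgroup G)
    (hR : R.IsSubnormal) (h2 : IsPGroup 2 R) : R = ⊥ := by
  haveI : Fact (Nat.Prime 2) := ⟨Nat.prime_two⟩
  have h1 := Helper4.subnormal_pgroup_le_pCore hR h2
  rw [hO] at h1
  exact le_bot_iff.mp h1

theorem central_invol {G : Type*} [Group G] [Finite G] (hO : Cfsg.pCore 2 G = ⊥) (z : G)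
    (hz : z ∈ Subgroup.center G) (hz2 : z ^ 2 = 1) : z = 1 := by
  haveI : Fact (Nat.Prime 2) := ⟨Nat.prime_two⟩
  have hn : (Subgroup.zpowers z).Normal := by
    refine ⟨fun w hw g => ?_⟩
    have hc : Subgroup.zpowers z ≤ Subgroup.center G := by
      rw [Subgroup.zpowers_le]; exact hz
    have h1 := Subgroup.mem_center_iff.mp (hc hw) g
    rw [h1, mul_assoc, mul_inv_cancel, mul_one]; exact hw
  have h2 : IsPGroup 2 (Subgroup.zpowers z) := by
    have h3 : orderOf z ∣ 2 := orderOf_dvd_of_pow_eq_one hz2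
    rcases (Nat.dvd_prime Nat.prime_two).mp h3 with h4 | h4
    · exact IsPGroup.of_card (n := 0) (by rw [Nat.card_zpowers, h4, pow_zero])
    · exact IsPGroup.of_card (n := 1) (by rw [Nat.card_zpowers, h4, pow_one])
  have h3 := Helper4.le_pCore hn h2
  rw [hO] at h3
  exact Subgroup.mem_bot.mp (h3 (Subgroup.mem_zpowers z))

/-- the Sidki condition for a sub-pair -/
theorem sidki_sub {G : Type*} [Group G] (V : Subgroup G) (hS : Cfsg.IsSidkiPair V)
    (K U : Subgroup G) (hUV : U ≤ V) (hUK : U ≤ K) (hU1 : U ≠ ⊥)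
    (hkey : ∀ h ∈ K, h ≠ 1 → Odd (orderOf h) → ∀ u ∈ U, u * h * u⁻¹ = h⁻¹ →
      ∀ w ∈ V, w ≠ 1 → w * h = h * w → w ∈ U) :
    Cfsg.IsSidkiPair (U.subgroupOf K) := by
  intro h v hv ho hinv
  by_cases h1 : h = 1
  · obtain ⟨u₁, hu₁, hu₁1⟩ : ∃ u ∈ U, u ≠ 1 := by
      by_contra hcon
      push_neg at hcon
      exact hU1 ((Subgroup.eq_bot_iff_forall U).mpr hcon)
    refine ⟨⟨u₁, hUK hu₁⟩, Subgroup.mem_subgroupOf.mpr hu₁, ?_, ?_⟩
    · intro h'; exact hu₁1 (congrArg Subtype.val h')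
    · rw [h1, mul_one, one_mul]
  · have hv' : (v : G) ∈ U := Subgroup.mem_subgroupOf.mp hv
    have ho' : Odd (orderOf (h : G)) := by rw [Subgroup.orderOf_coe]; exact ho
    have hinv' : (v : G) * (h : G) * (v : G)⁻¹ = (h : G)⁻¹ := congrArg Subtype.val hinv
    have h1' : (h : G) ≠ 1 := fun h' => h1 (Subtype.ext h')
    obtain ⟨w, hw, hw1, hwc⟩ := hS (h : G) (v : G) (hUV hv') ho' hinv'
    have hwU := hkey (h : G) h.2 h1' ho' (v : G) hv' hinv' w hw hw1 hwc
    refine ⟨⟨w, hUK hwU⟩, Subgroup.mem_subgroupOf.mpr hwU, ?_, Subtype.ext hwc⟩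
    intro h'; exact hw1 (congrArg Subtype.val h')

/-- minimality applied to a proper subgroup -/
theorem min_sub_core {G : Type u} [Group G] [Finite G] (V : Subgroup G)
    (hV : Cfsg.IsElementaryAbelian 2 V)
    (hminG : ∀ (H : Type u) [Group H] [Finite H] (W : Subgroup H), Nat.card H < Nat.card G →
      Cfsg.IsElementaryAbelian 2 W → W ≠ ⊥ → Cfsg.IsSidkiPair W → W ⊓ Cfsg.pCore 2 H ≠ ⊥)
    (K : Subgroup G) (hK : K ≠ ⊤) (U : Subgroup G) (hUV : U ≤ V) (hUK : U ≤ K) (hU1 : U ≠ ⊥)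
    (hSid : Cfsg.IsSidkiPair (U.subgroupOf K)) :
    ∃ u ∈ U, u ≠ 1 ∧ ∃ hu : u ∈ K, (⟨u, hu⟩ : ↥K) ∈ Cfsg.pCore 2 ↥K := by
  have hcard : Nat.card ↥K < Nat.card G := by
    have h1 := Helper6.card_lt_card_of_lt (lt_top_iff_ne_top.mpr hK)
    rwa [Subgroup.card_top] at h1
  have hea : Cfsg.IsElementaryAbelian 2 (U.subgroupOf K) := by
    refine ⟨⟨⟨fun a b => ?_⟩⟩, fun a ha => ?_⟩
    · have ha : ((a : ↥K) : G) ∈ V := hUV (Subgroup.mem_subgroupOf.mp a.2)
      have hb : ((b : ↥K) : G) ∈ V := hUV (Subgroup.mem_subgroupOf.mp b.2)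
      have h1 : (⟨_, ha⟩ : ↥V) * ⟨_, hb⟩ = ⟨_, hb⟩ * ⟨_, ha⟩ := hV.1.is_comm.comm _ _
      have h2 : ((a : ↥K) : G) * ((b : ↥K) : G) = ((b : ↥K) : G) * ((a : ↥K) : G) :=
        congrArg Subtype.val h1
      exact Subtype.ext (Subtype.ext h2)
    · have h1 := hV.2 (a : G) (hUV (Subgroup.mem_subgroupOf.mp ha))
      exact Subtype.ext h1
  have hne : U.subgroupOf K ≠ ⊥ := by
    intro h
    rw [Subgroup.subgroupOf_eq_bot] at h
    have h1 := disjoint_iff.mp h
    rw [inf_eq_left.mpr hUK] at h1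
    exact hU1 h1
  have h1 := hminG ↥K (U.subgroupOf K) hcard hea hne hSid
  obtain ⟨x, hx, hx1⟩ : ∃ x ∈ U.subgroupOf K ⊓ Cfsg.pCore 2 ↥K, x ≠ 1 := by
    by_contra hcon
    push_neg at hcon
    exact h1 ((Subgroup.eq_bot_iff_forall _).mpr hcon)
  obtain ⟨hxU, hxO⟩ := Subgroup.mem_inf.mp hx
  exact ⟨(x : G), Subgroup.mem_subgroupOf.mp hxU, fun h' => hx1 (Subtype.ext h'), x.2, hxO⟩

theorem min_sub {G : Type u} [Group G] [Finite G] (V : Subgroup G)
    (hV : Cfsg.IsElementaryAbelian 2 V) (hS : Cfsg.IsSidkiPair V)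
    (hminG : ∀ (H : Type u) [Group H] [Finite H] (W : Subgroup H), Nat.card H < Nat.card G →
      Cfsg.IsElementaryAbelian 2 W → W ≠ ⊥ → Cfsg.IsSidkiPair W → W ⊓ Cfsg.pCore 2 H ≠ ⊥)
    (K : Subgroup G) (hK : K ≠ ⊤) (U : Subgroup G) (hUV : U ≤ V) (hUK : U ≤ K) (hU1 : U ≠ ⊥)
    (hkey : ∀ h ∈ K, h ≠ 1 → Odd (orderOf h) → ∀ u ∈ U, u * h * u⁻¹ = h⁻¹ →
      ∀ w ∈ V, w ≠ 1 → w * h = h * w → w ∈ U) :
    ∃ u ∈ U, u ≠ 1 ∧ ∃ hu : u ∈ K, (⟨u, hu⟩ : ↥K) ∈ Cfsg.pCore 2 ↥K :=
  min_sub_core V hV hminG K hK U hUV hUK hU1 (sidki_sub V hS K U hUV hUK hU1 hkey)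

theorem le_normalizer_inf' {G : Type*} [Group G] {N A B : Subgroup G}
    (hA : N ≤ Subgroup.normalizer (A : Set G))
    (hB : N ≤ Subgroup.normalizer (B : Set G)) :
    N ≤ Subgroup.normalizer ((A ⊓ B : Subgroup G) : Set G) := by
  intro n hn
  rw [Subgroup.mem_normalizer_iff]
  intro h
  rw [Subgroup.mem_inf, Subgroup.mem_inf, ← Subgroup.mem_normalizer_iff.mp (hA hn) h,
    ← Subgroup.mem_normalizer_iff.mp (hB hn) h]

/-- an element of `O₂(K)` normalizing a subnormal subgroup `X ≤ K` of `G` centralizes it, when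
`O₂(G) = 1` -/
theorem cent_of_o2 {G : Type*} [Group G] [Finite G] (hO : Cfsg.pCore 2 G = ⊥)
    (K X : Subgroup G) (hXK : X ≤ K) (hXs : X.IsSubnormal) (u : G) (huK : u ∈ K)
    (huO : (⟨u, huK⟩ : ↥K) ∈ Cfsg.pCore 2 ↥K) (hux : ∀ x ∈ X, u * x * u⁻¹ ∈ X) :
    u ∈ Subgroup.centralizer (X : Set G) := by
  haveI : Fact (Nat.Prime 2) := ⟨Nat.prime_two⟩
  rw [Subgroup.mem_centralizer_iff]
  intro n hn
  have hOn : K ≤ Subgroup.normalizer (((Cfsg.pCore 2 ↥K).map K.subtype : Subgroup G) : Set G) := by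
    haveI := Helper4.pCore_normal 2 ↥K
    have h2 := Subgroup.le_normalizer_map (H := Cfsg.pCore 2 ↥K) K.subtype
    rw [Subgroup.normalizer_eq_top, ← MonoidHom.range_eq_map, Subgroup.range_subtype] at h2
    exact h2
  have huOm : u ∈ (Cfsg.pCore 2 ↥K).map K.subtype := Subgroup.mem_map.mpr ⟨⟨u, huK⟩, huO, rfl⟩
  have hc : u * n * u⁻¹ * n⁻¹ ∈ (Cfsg.pCore 2 ↥K).map K.subtype ⊓ X := by
    refine Subgroup.mem_inf.mpr ⟨?_, ?_⟩
    · have e : u * n * u⁻¹ * n⁻¹ = u * (n * u⁻¹ * n⁻¹) := by group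
      rw [e]
      exact Subgroup.mul_mem _ huOm
        ((Subgroup.mem_normalizer_iff.mp (hOn (hXK hn)) _).mp (Subgroup.inv_mem _ huOm))
    · exact X.mul_mem (hux n hn) (X.inv_mem hn)
  have hR : (Cfsg.pCore 2 ↥K).map K.subtype ⊓ X = ⊥ := by
    apply subn2_bot hO
    · refine Subgroup.IsSubnormal.step _ X inf_le_right hXs ?_
      rw [Subgroup.normal_subgroupOf_iff_le_normalizer inf_le_right]
      exact le_normalizer_inf' (hXK.trans hOn) Subgroup.le_normalizer
    · exact IsPGroup.to_le ((Helper4.pCore_isPGroup 2 ↥K).map K.subtype) inf_le_left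
  rw [hR, Subgroup.mem_bot] at hc
  have h3 : u * n * u⁻¹ * n⁻¹ * (n * u) = n * u := by rw [hc, one_mul]
  rw [← h3]; group

theorem quot_data {G : Type u} [Group G] [Finite G] (V : Subgroup G)
    (hV : Cfsg.IsElementaryAbelian 2 V) (hV1 : V ≠ ⊥) (hS : Cfsg.IsSidkiPair V)
    (hminG : ∀ (H : Type u) [Group H] [Finite H] (W : Subgroup H), Nat.card H < Nat.card G →
      Cfsg.IsElementaryAbelian 2 W → W ≠ ⊥ → Cfsg.IsSidkiPair W → W ⊓ Cfsg.pCore 2 H ≠ ⊥)
    (K : Subgroup G) [K.Normal] (hK : K ≠ ⊥) (hVK : V ⊓ K = ⊥) :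
    V.map (QuotientGroup.mk' K) ⊓ Cfsg.pCore 2 (G ⧸ K) ≠ ⊥ := by
  have hcard : Nat.card (G ⧸ K) < Nat.card G := by
    have h1 := Subgroup.card_eq_card_quotient_mul_card_subgroup K
    have h2 : 1 < Nat.card K := by
      rw [Subgroup.one_lt_card_iff_ne_bot]; exact hK
    have h3 : 0 < Nat.card (G ⧸ K) := Nat.card_pos
    rw [h1]; nlinarith
  have hS' := Cfsg.Agent.S3012.result V K hV hV1 hS hVK
  have hea : Cfsg.IsElementaryAbelian 2 (V.map (QuotientGroup.mk' K)) := by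
    refine ⟨⟨⟨?_⟩⟩, ?_⟩
    · rintro ⟨_, a, ha, rfl⟩ ⟨_, b, hb, rfl⟩
      apply Subtype.ext
      show QuotientGroup.mk' K a * QuotientGroup.mk' K b
        = QuotientGroup.mk' K b * QuotientGroup.mk' K a
      rw [← map_mul, ← map_mul]
      have h1 : (⟨a, ha⟩ : ↥V) * ⟨b, hb⟩ = ⟨b, hb⟩ * ⟨a, ha⟩ := hV.1.is_comm.comm _ _
      rw [show a * b = b * a from congrArg Subtype.val h1]
    · rintro _ ⟨a, ha, rfl⟩
      rw [← map_pow, hV.2 a ha, map_one]
  have hne' : V.map (QuotientGroup.mk' K) ≠ ⊥ := by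
    intro h
    rw [Subgroup.map_eq_bot_iff, QuotientGroup.ker_mk'] at h
    apply hV1
    rw [← inf_eq_left.mpr h]; exact hVK
  exact hminG (G ⧸ K) _ hcard hea hne' hS'

theorem o2_bot {G : Type u} [Group G] [Finite G] (V : Subgroup G)
    (hV : Cfsg.IsElementaryAbelian 2 V) (hV1 : V ≠ ⊥) (hS : Cfsg.IsSidkiPair V)
    (hVO : V ⊓ Cfsg.pCore 2 G = ⊥)
    (hminG : ∀ (H : Type u) [Group H] [Finite H] (W : Subgroup H), Nat.card H < Nat.card G →
      Cfsg.IsElementaryAbelian 2 W → W ≠ ⊥ → Cfsg.IsSidkiPair W → W ⊓ Cfsg.pCore 2 H ≠ ⊥) :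
    Cfsg.pCore 2 G = ⊥ := by
  haveI : Fact (Nat.Prime 2) := ⟨Nat.prime_two⟩
  by_contra hne
  haveI hKn : (Cfsg.pCore 2 G).Normal := Helper4.pCore_normal 2 G
  apply quot_data V hV hV1 hS hminG (Cfsg.pCore 2 G) hne hVO
  rw [eq_bot_iff]
  rintro x ⟨hx1, hx2⟩
  obtain ⟨a, ha, rfl⟩ := hx1
  have h2 : a ∈ Cfsg.pCore 2 G :=
    Helper5.mem_pCore_of_mk_mem (Cfsg.pCore 2 G) (Helper4.pCore_isPGroup 2 G) a hx2
  rw [Subgroup.mem_bot]
  exact (QuotientGroup.eq_one_iff a).mpr h2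

theorem nc_top' {G : Type u} [Group G] [Finite G] (V : Subgroup G)
    (hV : Cfsg.IsElementaryAbelian 2 V) (hV1 : V ≠ ⊥) (hS : Cfsg.IsSidkiPair V)
    (hO : Cfsg.pCore 2 G = ⊥)
    (hminG : ∀ (H : Type u) [Group H] [Finite H] (W : Subgroup H), Nat.card H < Nat.card G →
      Cfsg.IsElementaryAbelian 2 W → W ≠ ⊥ → Cfsg.IsSidkiPair W → W ⊓ Cfsg.pCore 2 H ≠ ⊥) :
    Subgroup.normalClosure (V : Set G) = ⊤ := by
  by_contra hne
  obtain ⟨u, huV, hu1, huK, huO⟩ := min_sub V hV hS hminG _ hne V le_rfl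
    Subgroup.le_normalClosure hV1 (fun h _ _ _ _ _ _ w hw _ _ => hw)
  have h1 : u ∈ (Cfsg.pCore 2 ↥(Subgroup.normalClosure (V : Set G))).map
      (Subgroup.normalClosure (V : Set G)).subtype := Subgroup.mem_map.mpr ⟨⟨u, huK⟩, huO, rfl⟩
  have h2 := Helper4.pCore_map_subtype_le 2 (Subgroup.normalClosure (V : Set G)) h1
  rw [hO, Subgroup.mem_bot] at h2
  exact hu1 h2

theorem cent_of_proper {G : Type u} [Group G] [Finite G] (V : Subgroup G)
    (hV : Cfsg.IsElementaryAbelian 2 V) (hV1 : V ≠ ⊥) (hS : Cfsg.IsSidkiPair V)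
    (hO : Cfsg.pCore 2 G = ⊥)
    (hminG : ∀ (H : Type u) [Group H] [Finite H] (W : Subgroup H), Nat.card H < Nat.card G →
      Cfsg.IsElementaryAbelian 2 W → W ≠ ⊥ → Cfsg.IsSidkiPair W → W ⊓ Cfsg.pCore 2 H ≠ ⊥)
    (N : Subgroup G) [hN : N.Normal] (hNV : N ⊔ V ≠ ⊤) :
    ∃ u ∈ V, u ≠ 1 ∧ u ∈ Subgroup.centralizer (N : Set G) := by
  obtain ⟨u, huV, hu1, huK, huO⟩ := min_sub V hV hS hminG _ hNV V le_rfl le_sup_right hV1
    (fun h _ _ _ _ _ _ w hw _ _ => hw)
  exact ⟨u, huV, hu1, cent_of_o2 hO (N ⊔ V) N le_sup_left hN.isSubnormal u huK huO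
    (fun x hx => hN.conj_mem x hx u)⟩

theorem cent_sidki {G : Type u} [Group G] [Finite G] (V : Subgroup G)
    (hV : Cfsg.IsElementaryAbelian 2 V) (hV1 : V ≠ ⊥) (hS : Cfsg.IsSidkiPair V)
    (hO : Cfsg.pCore 2 G = ⊥)
    (hminG : ∀ (H : Type u) [Group H] [Finite H] (W : Subgroup H), Nat.card H < Nat.card G →
      Cfsg.IsElementaryAbelian 2 W → W ≠ ⊥ → Cfsg.IsSidkiPair W → W ⊓ Cfsg.pCore 2 H ≠ ⊥)
    (N : Subgroup G) [hN : N.Normal]
    (hV0 : V ⊓ Subgroup.centralizer (N : Set G) ≠ ⊥) :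
    Cfsg.IsSidkiPair (V ⊓ Subgroup.centralizer (N : Set G)) := by
  intro h v hv ho hinv
  obtain ⟨hvV, hvC⟩ := Subgroup.mem_inf.mp hv
  by_cases h1 : h = 1
  · obtain ⟨u₁, hu₁, hu₁1⟩ : ∃ u ∈ V ⊓ Subgroup.centralizer (N : Set G), u ≠ 1 := by
      by_contra hcon
      push_neg at hcon
      exact hV0 ((Subgroup.eq_bot_iff_forall _).mpr hcon)
    exact ⟨u₁, hu₁, hu₁1, by rw [h1, mul_one, one_mul]⟩
  · have hv1 : v ≠ 1 := by
      rintro rfl
      rw [one_mul, inv_one, mul_one] at hinv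
      exact h1 (odd_inv_eq h ho hinv)
    haveI hCn : (Subgroup.centralizer (N : Set G)).Normal := inferInstance
    have hhC : h ∈ Subgroup.centralizer (N : Set G) := by
      apply odd_mem_of_sq_mem _ h ho
      have e1 : v * h⁻¹ * v⁻¹ = h := by
        have h2 := congrArg (fun z => z⁻¹) hinv
        simpa [mul_assoc] using h2
      have e : h ^ 2 = (h * v * h⁻¹) * v⁻¹ := by
        rw [pow_two]; nth_rewrite 2 [← e1]; group
      rw [e]
      exact Subgroup.mul_mem _ (hCn.conj_mem v hvC h) (Subgroup.inv_mem _ hvC)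
    obtain ⟨hne, hSid⟩ := Cfsg.Agent.S3013.result V hV hV1 hS v h hvV ho hinv
      (Subgroup.centralizer ({v} : Set G) ⊓ Subgroup.centralizer ({h} : Set G)) rfl
    have hHtop : Subgroup.centralizer ({v} : Set G) ⊓ Subgroup.centralizer ({h} : Set G) ≠ ⊤ := by
      intro htop
      apply hv1
      apply central_invol hO v _ (hV.2 v hvV)
      rw [Subgroup.mem_center_iff]
      intro g
      have hg : g ∈ Subgroup.centralizer ({v} : Set G) ⊓ Subgroup.centralizer ({h} : Set G) := by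
        rw [htop]; exact Subgroup.mem_top g
      have h3 := Subgroup.mem_centralizer_iff.mp (Subgroup.mem_inf.mp hg).1 v (Set.mem_singleton v)
      exact h3.symm
    obtain ⟨w, hwU, hw1, hwH, hwO⟩ := min_sub_core V hV hminG _ hHtop _ inf_le_right inf_le_left
      hne hSid
    have hwV : w ∈ V := (Subgroup.mem_inf.mp hwU).2
    have hwh : h * w = w * h :=
      Subgroup.mem_centralizer_iff.mp (Subgroup.mem_inf.mp hwH).2 h (Set.mem_singleton h)
    have hNH : N ≤ Subgroup.centralizer ({v} : Set G) ⊓ Subgroup.centralizer ({h} : Set G) := by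
      intro n hn
      refine Subgroup.mem_inf.mpr ⟨?_, ?_⟩
      · rw [Subgroup.mem_centralizer_iff]
        intro y hy
        rw [Set.mem_singleton_iff] at hy
        rw [hy]
        exact (Subgroup.mem_centralizer_iff.mp hvC n hn).symm
      · rw [Subgroup.mem_centralizer_iff]
        intro y hy
        rw [Set.mem_singleton_iff] at hy
        rw [hy]
        exact (Subgroup.mem_centralizer_iff.mp hhC n hn).symm
    have hwC := cent_of_o2 hO _ N hNH hN.isSubnormal w hwH hwO (fun x hx => hN.conj_mem x hx w)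
    exact ⟨w, Subgroup.mem_inf.mpr ⟨hwV, hwC⟩, hw1, hwh.symm⟩

theorem normal_central {G : Type u} [Group G] [Finite G] (V : Subgroup G)
    (hV : Cfsg.IsElementaryAbelian 2 V) (hV1 : V ≠ ⊥) (hS : Cfsg.IsSidkiPair V)
    (hO : Cfsg.pCore 2 G = ⊥) (hnc : Subgroup.normalClosure (V : Set G) = ⊤)
    (hminG : ∀ (H : Type u) [Group H] [Finite H] (W : Subgroup H), Nat.card H < Nat.card G →
      Cfsg.IsElementaryAbelian 2 W → W ≠ ⊥ → Cfsg.IsSidkiPair W → W ⊓ Cfsg.pCore 2 H ≠ ⊥)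
    (hminV : ∀ W : Subgroup G, Nat.card W < Nat.card V → Cfsg.IsElementaryAbelian 2 W → W ≠ ⊥ →
      Cfsg.IsSidkiPair W → W ⊓ Cfsg.pCore 2 G ≠ ⊥)
    (N : Subgroup G) [hN : N.Normal] (hNV : N ⊔ V ≠ ⊤) : N ≤ Subgroup.center G := by
  obtain ⟨u, huV, hu1, huC⟩ := cent_of_proper V hV hV1 hS hO hminG N hNV
  have hV0 : V ⊓ Subgroup.centralizer (N : Set G) ≠ ⊥ := by
    intro h
    have h2 : u ∈ V ⊓ Subgroup.centralizer (N : Set G) := Subgroup.mem_inf.mpr ⟨huV, huC⟩
    rw [h, Subgroup.mem_bot] at h2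
    exact hu1 h2
  have hSid := cent_sidki V hV hV1 hS hO hminG N hV0
  have hea : Cfsg.IsElementaryAbelian 2 (V ⊓ Subgroup.centralizer (N : Set G)) := by
    refine ⟨⟨⟨fun a b => ?_⟩⟩, fun a ha => hV.2 a ha.1⟩
    have h1 : (⟨(a : G), a.2.1⟩ : ↥V) * ⟨(b : G), b.2.1⟩ = ⟨(b : G), b.2.1⟩ * ⟨(a : G), a.2.1⟩ :=
      hV.1.is_comm.comm _ _
    have h2 : (a : G) * (b : G) = (b : G) * (a : G) := congrArg Subtype.val h1
    exact Subtype.ext h2
  have hcard : ¬ Nat.card (V ⊓ Subgroup.centralizer (N : Set G) : Subgroup G) < Nat.card V := by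
    intro hlt
    have h2 := hminV _ hlt hea hV0 hSid
    rw [hO, inf_bot_eq] at h2
    exact h2 rfl
  have heq : V ⊓ Subgroup.centralizer (N : Set G) = V :=
    Subgroup.eq_of_le_of_card_ge inf_le_left (not_lt.mp hcard)
  have hVC : V ≤ Subgroup.centralizer (N : Set G) := inf_eq_left.mp heq
  have h1 : Subgroup.normalClosure (V : Set G) ≤ Subgroup.centralizer (N : Set G) :=
    Subgroup.normalClosure_le_normal (SetLike.coe_subset_coe.mpr hVC)
  rw [hnc] at h1
  intro n hn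
  rw [Subgroup.mem_center_iff]
  intro g
  exact (Subgroup.mem_centralizer_iff.mp (h1 (Subgroup.mem_top g)) n hn).symm

theorem center_bot' {G : Type u} [Group G] [Finite G] (V : Subgroup G)
    (hV : Cfsg.IsElementaryAbelian 2 V) (hV1 : V ≠ ⊥) (hS : Cfsg.IsSidkiPair V)
    (hO : Cfsg.pCore 2 G = ⊥)
    (hminG : ∀ (H : Type u) [Group H] [Finite H] (W : Subgroup H), Nat.card H < Nat.card G →
      Cfsg.IsElementaryAbelian 2 W → W ≠ ⊥ → Cfsg.IsSidkiPair W → W ⊓ Cfsg.pCore 2 H ≠ ⊥) :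
    Subgroup.center G = ⊥ := by
  haveI : Fact (Nat.Prime 2) := ⟨Nat.prime_two⟩
  by_contra hZ
  have hVZ : V ⊓ Subgroup.center G = ⊥ := by
    rw [eq_bot_iff]
    rintro z ⟨hzV, hzZ⟩
    exact Subgroup.mem_bot.mpr (central_invol hO z hzZ (hV.2 z hzV))
  apply quot_data V hV hV1 hS hminG (Subgroup.center G) hZ hVZ
  have hOq : Cfsg.pCore 2 (G ⧸ Subgroup.center G) = ⊥ := by
    set M : Subgroup G := (Cfsg.pCore 2 (G ⧸ Subgroup.center G)).comap
      (QuotientGroup.mk' (Subgroup.center G)) with hM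
    haveI hMn : M.Normal := (Helper4.pCore_normal 2 (G ⧸ Subgroup.center G)).comap _
    have hYc : (Subgroup.center G).subgroupOf M ≤ Subgroup.center ↥M := by
      intro y hy
      rw [Subgroup.mem_center_iff]
      intro m
      have h1 := Subgroup.mem_center_iff.mp (Subgroup.mem_subgroupOf.mp hy) (m : G)
      exact Subtype.ext h1
    have hidx : ((Subgroup.center G).subgroupOf M).index
        = Nat.card (Cfsg.pCore 2 (G ⧸ Subgroup.center G)) := by
      have h3 := Subgroup.relIndex_comap (⊥ : Subgroup (G ⧸ Subgroup.center G))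
        (QuotientGroup.mk' (Subgroup.center G)) M
      have h4 : (⊥ : Subgroup (G ⧸ Subgroup.center G)).comap (QuotientGroup.mk' (Subgroup.center G))
          = Subgroup.center G := by
        rw [MonoidHom.comap_bot, QuotientGroup.ker_mk']
      rw [h4, Subgroup.relIndex_bot_left, hM,
        Subgroup.map_comap_eq_self_of_surjective (QuotientGroup.mk'_surjective _)] at h3
      exact h3
    obtain ⟨k, hk⟩ := (Helper4.pCore_isPGroup 2 (G ⧸ Subgroup.center G)).exists_card_eq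
    have hodd : (Nat.card ((Subgroup.center G).subgroupOf M)).Coprime
        ((Subgroup.center G).subgroupOf M).index := by
      rw [hidx, hk]
      apply Nat.Coprime.pow_right
      rw [Nat.coprime_comm, Nat.Prime.coprime_iff_not_dvd Nat.prime_two]
      intro h2
      obtain ⟨y, hy⟩ := exists_prime_orderOf_dvd_card' 2 h2
      have hy1 : ((y : ↥M) : G) = 1 := by
        apply central_invol hO _ (Subgroup.mem_subgroupOf.mp y.2)
        have h5 : y ^ 2 = 1 := by rw [← hy]; exact pow_orderOf_eq_one y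
        have h6 := congrArg (fun z : ↥((Subgroup.center G).subgroupOf M) => ((z : ↥M) : G)) h5
        simpa using h6
      have hy2 : y = 1 := Subtype.ext (Subtype.ext hy1)
      rw [hy2, orderOf_one] at hy
      exact absurd hy (by norm_num)
    obtain ⟨D, hDn, hDc⟩ := central_complement _ hYc hodd
    have hD2 : IsPGroup 2 D := IsPGroup.of_card (n := k) (by rw [hDc, hidx, hk])
    have hDbot : D.map M.subtype = ⊥ := by
      apply subn2_bot hO
      · refine Subgroup.IsSubnormal.step _ M (Subgroup.map_subtype_le D) hMn.isSubnormal ?_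
        have e : (D.map M.subtype).subgroupOf M = D :=
          Subgroup.comap_map_eq_self_of_injective M.subtype_injective D
        rw [e]; exact hDn
      · exact hD2.map _
    have hD1 : Nat.card D = 1 := by
      have h7 := (Subgroup.map_eq_bot_iff_of_injective _ M.subtype_injective).mp hDbot
      rw [h7, Subgroup.card_bot]
    rw [hDc, hidx] at hD1
    exact Subgroup.card_eq_one.mp hD1
  rw [hOq, inf_bot_eq]

theorem sup_top_of_normal' {G : Type u} [Group G] [Finite G] (V : Subgroup G)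
    (hV : Cfsg.IsElementaryAbelian 2 V) (hV1 : V ≠ ⊥) (hS : Cfsg.IsSidkiPair V)
    (hO : Cfsg.pCore 2 G = ⊥) (hnc : Subgroup.normalClosure (V : Set G) = ⊤)
    (hZ : Subgroup.center G = ⊥)
    (hminG : ∀ (H : Type u) [Group H] [Finite H] (W : Subgroup H), Nat.card H < Nat.card G →
      Cfsg.IsElementaryAbelian 2 W → W ≠ ⊥ → Cfsg.IsSidkiPair W → W ⊓ Cfsg.pCore 2 H ≠ ⊥)
    (hminV : ∀ W : Subgroup G, Nat.card W < Nat.card V → Cfsg.IsElementaryAbelian 2 W → W ≠ ⊥ →
      Cfsg.IsSidkiPair W → W ⊓ Cfsg.pCore 2 G ≠ ⊥)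
    (N : Subgroup G) [hN : N.Normal] (hN1 : N ≠ ⊥) : N ⊔ V = ⊤ := by
  by_contra hne
  have h1 := normal_central V hV hV1 hS hO hnc hminG hminV N hne
  rw [hZ] at h1
  exact hN1 (le_bot_iff.mp h1)

theorem norm_le_norm_cent {G : Type*} [Group G] (T : Subgroup G) :
    Subgroup.normalizer (T : Set G)
      ≤ Subgroup.normalizer ((Subgroup.centralizer (T : Set G) : Subgroup G) : Set G) := by
  rw [Subgroup.le_normalizer_iff]
  intro m hm y hy
  rw [Subgroup.mem_centralizer_iff]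
  intro b hb
  have h1 : m⁻¹ * b * m ∈ T := by
    have := (Subgroup.mem_normalizer_iff.mp (inv_mem hm) b).mp hb
    simpa using this
  have h2 := Subgroup.mem_centralizer_iff.mp hy _ h1
  calc b * (m * y * m⁻¹) = m * (m⁻¹ * b * m * y) * m⁻¹ := by group
    _ = m * (y * (m⁻¹ * b * m)) * m⁻¹ := by rw [h2]
    _ = m * y * m⁻¹ * b := by group

/-- a minimal normal subgroup is not abelian -/
theorem min_normal_nonab {G : Type u} [Group G] [Finite G] (V : Subgroup G)
    (hV : Cfsg.IsElementaryAbelian 2 V) (hV1 : V ≠ ⊥) (hS : Cfsg.IsSidkiPair V)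
    (hO : Cfsg.pCore 2 G = ⊥) (hZ : Subgroup.center G = ⊥)
    (N : Subgroup G) (hN : N.Normal) (hNV : N ⊔ V = ⊤)
    (hNmin : ∀ M : Subgroup G, M.Normal → M ≠ ⊥ → M ≤ N → M = N) :
    ¬ IsMulCommutative ↥N := by
  haveI : Fact (Nat.Prime 2) := ⟨Nat.prime_two⟩
  intro hab
  have hNab : ∀ a ∈ N, ∀ b ∈ N, a * b = b * a := by
    intro a ha b hb
    have h1 : (⟨a, ha⟩ : ↥N) * ⟨b, hb⟩ = ⟨b, hb⟩ * ⟨a, ha⟩ := hab.is_comm.comm _ _
    exact congrArg Subtype.val h1
  have hVab : ∀ a ∈ V, ∀ b ∈ V, a * b = b * a := by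
    intro a ha b hb
    have h1 : (⟨a, ha⟩ : ↥V) * ⟨b, hb⟩ = ⟨b, hb⟩ * ⟨a, ha⟩ := hV.1.is_comm.comm _ _
    exact congrArg Subtype.val h1
  obtain ⟨v, hvV, hv1⟩ : ∃ v ∈ V, v ≠ 1 := by
    by_contra hcon
    push_neg at hcon
    exact hV1 ((Subgroup.eq_bot_iff_forall V).mpr hcon)
  have hvo : orderOf v = 2 := orderOf_eq_prime (hV.2 v hvV) hv1
  obtain ⟨x, hxo, hxinv, hx1⟩ : ∃ x : G, Odd (orderOf x) ∧ v * x * v⁻¹ = x⁻¹ ∧ x ≠ 1 := by
    by_contra hcon
    push_neg at hcon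
    have h1 := Helper2.InvOdd.mem_pCore_two_of_no_inverted v hvo hcon
    rw [hO, Subgroup.mem_bot] at h1
    exact hv1 h1
  have hVN : V ≤ Subgroup.normalizer (N : Set G) := by
    rw [Subgroup.normalizer_eq_top]; exact le_top
  have hxN : x ∈ N := by
    apply odd_mem_of_sq_mem N x hxo
    obtain ⟨n, hn, u, hu, rfl⟩ := mem_sup_normalizes hVN (show x ∈ N ⊔ V by rw [hNV]; trivial)
    have e : (n * u) ^ 2 = n * (u * n * u⁻¹) * u ^ 2 := by rw [pow_two, pow_two]; group
    rw [e, hV.2 u hu, mul_one]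
    exact N.mul_mem hn (hN.conj_mem n hn u)
  obtain ⟨w, hwV, hw1, hwx⟩ := hS x v hvV hxo hxinv
  have hXn : (N ⊓ Subgroup.centralizer ({w} : Set G)).Normal := by
    apply Subgroup.normalizer_eq_top_iff.mp
    rw [eq_top_iff, ← hNV]
    refine sup_le ?_ ?_
    · rw [Subgroup.le_normalizer_iff]
      intro n hn y hy
      have hyN := (Subgroup.mem_inf.mp hy).1
      have e : n * y * n⁻¹ = y := by rw [hNab n hn y hyN, mul_inv_cancel_right]
      rw [e]; exact hy
    · rw [Subgroup.le_normalizer_iff]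
      intro u hu y hy
      obtain ⟨hyN, hyC⟩ := Subgroup.mem_inf.mp hy
      refine Subgroup.mem_inf.mpr ⟨hN.conj_mem y hyN u, ?_⟩
      rw [Subgroup.mem_centralizer_iff]
      intro z hz
      rw [Set.mem_singleton_iff] at hz
      rw [hz]
      have h1 : w * y = y * w := Subgroup.mem_centralizer_iff.mp hyC w (Set.mem_singleton w)
      have h2 : w * u = u * w := hVab w hwV u hu
      have h3 : w * u⁻¹ = u⁻¹ * w := by
        have := congrArg (fun z => u⁻¹ * z * u⁻¹) h2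
        simp only [mul_assoc, inv_mul_cancel_left, mul_inv_cancel, mul_one] at this
        exact this.symm
      calc w * (u * y * u⁻¹) = (w * u) * y * u⁻¹ := by group
        _ = u * (w * y) * u⁻¹ := by rw [h2]; group
        _ = u * y * (w * u⁻¹) := by rw [h1]; group
        _ = u * y * u⁻¹ * w := by rw [h3]; group
  have hXx : x ∈ N ⊓ Subgroup.centralizer ({w} : Set G) := by
    refine Subgroup.mem_inf.mpr ⟨hxN, ?_⟩
    rw [Subgroup.mem_centralizer_iff]
    intro z hz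
    rw [Set.mem_singleton_iff] at hz
    rw [hz]; exact hwx
  have hXeq := hNmin _ hXn (fun h => hx1 (by rw [h, Subgroup.mem_bot] at hXx; exact hXx))
    inf_le_left
  have hNC : N ≤ Subgroup.centralizer ({w} : Set G) := inf_eq_left.mp hXeq
  have hVC : V ≤ Subgroup.centralizer ({w} : Set G) := by
    intro u hu
    rw [Subgroup.mem_centralizer_iff]
    intro z hz
    rw [Set.mem_singleton_iff] at hz
    rw [hz]; exact hVab w hwV u hu
  have htop : (⊤ : Subgroup G) ≤ Subgroup.centralizer ({w} : Set G) := by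
    rw [← hNV]; exact sup_le hNC hVC
  have hwZ : w ∈ Subgroup.center G := by
    rw [Subgroup.mem_center_iff]
    intro g
    exact (Subgroup.mem_centralizer_iff.mp (htop (Subgroup.mem_top g)) w (Set.mem_singleton w)).symm
  rw [hZ, Subgroup.mem_bot] at hwZ
  exact hw1 hwZ

/-- a minimal normal subgroup is simple -/
theorem min_normal_simple {G : Type u} [Group G] [Finite G] (V : Subgroup G)
    (hV : Cfsg.IsElementaryAbelian 2 V) (hV1 : V ≠ ⊥) (hS : Cfsg.IsSidkiPair V)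
    (hO : Cfsg.pCore 2 G = ⊥) (hZ : Subgroup.center G = ⊥)
    (hminG : ∀ (H : Type u) [Group H] [Finite H] (W : Subgroup H), Nat.card H < Nat.card G →
      Cfsg.IsElementaryAbelian 2 W → W ≠ ⊥ → Cfsg.IsSidkiPair W → W ⊓ Cfsg.pCore 2 H ≠ ⊥)
    (N : Subgroup G) (hNn : N.Normal) (hN1 : N ≠ ⊥) (hNV : N ⊔ V = ⊤)
    (hNmin : ∀ M : Subgroup G, M.Normal → M ≠ ⊥ → M ≤ N → M = N)
    (hnab : ¬ IsMulCommutative ↥N) :
    IsSimpleGroup ↥N := by
  haveI : Fact (Nat.Prime 2) := ⟨Nat.prime_two⟩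
  haveI : Nontrivial ↥N := (Subgroup.nontrivial_iff_ne_bot _).mpr hN1
  refine ⟨fun T' hT' => ?_⟩
  by_contra hcon
  push_neg at hcon
  obtain ⟨hT'b, hT't⟩ := hcon
  haveI := hT'
  have hVab : ∀ a ∈ V, ∀ b ∈ V, a * b = b * a := by
    intro a ha b hb
    have h1 : (⟨a, ha⟩ : ↥V) * ⟨b, hb⟩ = ⟨b, hb⟩ * ⟨a, ha⟩ := hV.1.is_comm.comm _ _
    exact congrArg Subtype.val h1
  let 𝒯 : Set (Subgroup G) :=
    {T | T ≤ N ∧ N ≤ Subgroup.normalizer (T : Set G) ∧ T ≠ ⊥ ∧ T ≠ N}
  have hmem : T'.map N.subtype ∈ 𝒯 := by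
    refine ⟨Subgroup.map_subtype_le T', ?_, ?_, ?_⟩
    · have h2 := Subgroup.le_normalizer_map (H := T') N.subtype
      rw [Subgroup.normalizer_eq_top, ← MonoidHom.range_eq_map, Subgroup.range_subtype] at h2
      exact h2
    · intro h
      exact hT'b ((Subgroup.map_eq_bot_iff_of_injective _ N.subtype_injective).mp h)
    · intro h
      apply hT't
      rw [eq_top_iff]
      intro n _
      have h1 : (n : G) ∈ T'.map N.subtype := by rw [h]; exact n.2
      obtain ⟨t, ht, hte⟩ := Subgroup.mem_map.mp h1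
      have : t = n := Subtype.ext hte
      rw [← this]; exact ht
  obtain ⟨T, hT, hTmin⟩ := Set.exists_min_image 𝒯 (fun T => Nat.card T) (Set.toFinite 𝒯) ⟨_, hmem⟩
  obtain ⟨hTN, hNT, hTb, hTne⟩ := hT
  have M1 : ∀ T₂ : Subgroup G, T₂ ≤ T → N ≤ Subgroup.normalizer (T₂ : Set G) → T₂ ≠ ⊥ →
      T₂ = T := by
    intro T₂ h1 h2 h3
    have h4 : T₂ ∈ 𝒯 := ⟨h1.trans hTN, h2, h3, fun h => hTne (le_antisymm hTN (h ▸ h1))⟩
    exact Subgroup.eq_of_le_of_card_ge h1 (hTmin T₂ h4)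
  have FC' : ∀ g : G, (∃ a ∈ T, g * a * g⁻¹ ∉ T) →
      ∀ a ∈ T, ∀ b ∈ T, Commute (g * a * g⁻¹) b := by
    intro g hg a ha b hb
    set Tg : Subgroup G := T.map (MulAut.conj g).toMonoidHom with hTg
    have hmemTg : ∀ a ∈ T, g * a * g⁻¹ ∈ Tg := fun a ha => Subgroup.mem_map.mpr ⟨a, ha, by simp⟩
    have hNTg : N ≤ Subgroup.normalizer (Tg : Set G) := by
      have h2 := Subgroup.le_normalizer_map (H := T) (MulAut.conj g).toMonoidHom
      refine le_trans ?_ h2
      intro n hn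
      refine Subgroup.mem_map.mpr ⟨g⁻¹ * n * g, hNT ?_, by simp [mul_assoc]⟩
      have := hNn.conj_mem n hn g⁻¹
      simpa using this
    by_cases hb' : T ⊓ Tg = ⊥
    · have hc : (g * a * g⁻¹) * b * (g * a * g⁻¹)⁻¹ * b⁻¹ ∈ T ⊓ Tg := by
        have hgaN : g * a * g⁻¹ ∈ N := hNn.conj_mem a (hTN ha) g
        refine Subgroup.mem_inf.mpr ⟨?_, ?_⟩
        · exact T.mul_mem ((Subgroup.mem_normalizer_iff.mp (hNT hgaN) b).mp hb) (T.inv_mem hb)
        · have e : (g * a * g⁻¹) * b * (g * a * g⁻¹)⁻¹ * b⁻¹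
              = (g * a * g⁻¹) * (b * (g * a * g⁻¹)⁻¹ * b⁻¹) := by group
          rw [e]
          exact Tg.mul_mem (hmemTg a ha)
            ((Subgroup.mem_normalizer_iff.mp (hNTg (hTN hb)) _).mp (Tg.inv_mem (hmemTg a ha)))
      rw [hb', Subgroup.mem_bot] at hc
      show g * a * g⁻¹ * b = b * (g * a * g⁻¹)
      have : (g * a * g⁻¹) * b * (g * a * g⁻¹)⁻¹ * b⁻¹ * (b * (g * a * g⁻¹))
          = b * (g * a * g⁻¹) := by rw [hc, one_mul]
      rw [← this]; group
    · exfalso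
      have h1 := M1 (T ⊓ Tg) inf_le_left (le_normalizer_inf' hNT hNTg) hb'
      have h2 : T ≤ Tg := inf_eq_left.mp h1
      have h3 : Nat.card Tg = Nat.card T :=
        Subgroup.card_map_of_injective (MulAut.conj g).injective
      have h4 : T = Tg := Subgroup.eq_of_le_of_card_ge h2 h3.le
      obtain ⟨a', ha', hna'⟩ := hg
      apply hna'
      have h5 : g * a' * g⁻¹ ∈ Tg := hmemTg a' ha'
      rw [← h4] at h5
      exact h5
  have hmove : ∀ g : G, g ∉ Subgroup.normalizer (T : Set G) → ∃ a ∈ T, g * a * g⁻¹ ∉ T := by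
    intro g hg
    by_contra hcon
    push_neg at hcon
    exact hg (Lead.mem_normalizer_of_conj_le T g hcon)
  have hTnn : ¬ T.Normal := fun h => hTne (hNmin T h hTb hTN)
  -- the centre of T is trivial
  have hZT : T ⊓ Subgroup.centralizer (T : Set G) = ⊥ := by
    by_contra hZb
    have h1 := M1 _ inf_le_left (le_normalizer_inf' hNT (hNT.trans (norm_le_norm_cent T))) hZb
    have hTab : T ≤ Subgroup.centralizer (T : Set G) := inf_eq_left.mp h1
    have hab : ∀ g : G, ∀ a ∈ T, ∀ b ∈ T, Commute (g * a * g⁻¹) b := by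
      intro g a ha b hb
      by_cases hg : ∃ a ∈ T, g * a * g⁻¹ ∉ T
      · exact FC' g hg a ha b hb
      · push_neg at hg
        exact (Subgroup.mem_centralizer_iff.mp (hTab hb) _ (hg a ha))
    have hS' : ∀ u ∈ Group.conjugatesOfSet (T : Set G),
        ∀ v ∈ Group.conjugatesOfSet (T : Set G), Commute u v := by
      intro u hu v hv
      obtain ⟨a, ha, hau⟩ := Group.mem_conjugatesOfSet_iff.mp hu
      obtain ⟨b, hb, hbv⟩ := Group.mem_conjugatesOfSet_iff.mp hv
      obtain ⟨c, rfl⟩ := isConj_iff.mp hau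
      obtain ⟨e, rfl⟩ := isConj_iff.mp hbv
      have h2 := hab (e⁻¹ * c) a ha b hb
      have h3 := (Commute.conj_iff e).mpr h2
      have e1 : e * ((e⁻¹ * c) * a * (e⁻¹ * c)⁻¹) * e⁻¹ = c * a * c⁻¹ := by group
      rw [e1] at h3
      exact h3
    have hMc : Subgroup.normalClosure (T : Set G)
        ≤ Subgroup.centralizer ((Subgroup.normalClosure (T : Set G) : Subgroup G) : Set G) := by
      have hS1 : ∀ u ∈ Group.conjugatesOfSet (T : Set G),
          Subgroup.normalClosure (T : Set G) ≤ Subgroup.centralizer ({u} : Set G) := by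
        intro u hu
        show Subgroup.closure (Group.conjugatesOfSet (T : Set G)) ≤ _
        apply (Subgroup.closure_le _).mpr
        intro v hv
        rw [SetLike.mem_coe, Subgroup.mem_centralizer_iff]
        intro w hw
        rw [Set.mem_singleton_iff] at hw
        rw [hw]
        exact (hS' u hu v hv).eq
      show Subgroup.closure (Group.conjugatesOfSet (T : Set G)) ≤ _
      apply (Subgroup.closure_le _).mpr
      intro u hu
      rw [SetLike.mem_coe, Subgroup.mem_centralizer_iff]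
      intro w hw
      have h5 := Subgroup.mem_centralizer_iff.mp (hS1 u hu hw) u (Set.mem_singleton u)
      exact h5.symm
    have hNM : Subgroup.normalClosure (T : Set G) = N :=
      hNmin _ Subgroup.normalClosure_normal
        (fun h => hTb (le_bot_iff.mp (h ▸ Subgroup.le_normalClosure)))
        (Subgroup.normalClosure_le_normal (SetLike.coe_subset_coe.mpr hTN))
    apply hnab
    refine ⟨⟨fun a b => Subtype.ext ?_⟩⟩
    have ha : (a : G) ∈ Subgroup.normalClosure (T : Set G) := by rw [hNM]; exact a.2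
    have hb : (b : G) ∈ Subgroup.normalClosure (T : Set G) := by rw [hNM]; exact b.2
    have h6 := Subgroup.mem_centralizer_iff.mp (hMc ha) (b : G) hb
    exact h6.symm
  have hTsub : T.IsSubnormal :=
    Subgroup.IsSubnormal.step T N hTN hNn.isSubnormal
      ((Subgroup.normal_subgroupOf_iff_le_normalizer hTN).mpr hNT)
  -- an element of odd order in T
  obtain ⟨x, hxT, hxo, hx1⟩ : ∃ x ∈ T, Odd (orderOf x) ∧ x ≠ 1 := by
    by_contra hcon
    push_neg at hcon
    apply hTb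
    apply subn2_bot hO T hTsub
    rintro ⟨t, ht⟩
    have ho : orderOf t ≠ 0 := (orderOf_pos t).ne'
    obtain ⟨k, m, hm, hkm⟩ := Nat.exists_eq_pow_mul_and_not_dvd ho 2 (by norm_num)
    refine ⟨k, ?_⟩
    have hw : (t ^ 2 ^ k) ^ m = 1 := by
      rw [← pow_mul, ← hkm]; exact pow_orderOf_eq_one t
    have hodd : Odd (orderOf (t ^ 2 ^ k)) := by
      have h1 : orderOf (t ^ 2 ^ k) ∣ m := orderOf_dvd_of_pow_eq_one hw
      exact Odd.of_dvd_nat (Nat.odd_iff.mpr (by omega)) h1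
    exact Subtype.ext (hcon _ (T.pow_mem ht _) hodd)
  -- an element of V moving T
  obtain ⟨v, hvV, hvN⟩ : ∃ v ∈ V, v ∉ Subgroup.normalizer (T : Set G) := by
    by_contra hcon
    push_neg at hcon
    apply hTnn
    apply Subgroup.normalizer_eq_top_iff.mp
    rw [eq_top_iff, ← hNV]
    exact sup_le hNT hcon
  have FCv := FC' v (hmove v hvN)
  have hvv : v * v = 1 := by rw [← pow_two]; exact hV.2 v hvV
  have hvinv : v⁻¹ = v := inv_eq_of_mul_eq_one_left hvv
  have hcent_of : ∀ z ∈ T, (∀ b ∈ T, Commute z b) → z = 1 := by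
    intro z hz hc
    have h1 : z ∈ T ⊓ Subgroup.centralizer (T : Set G) := by
      refine Subgroup.mem_inf.mpr ⟨hz, ?_⟩
      rw [Subgroup.mem_centralizer_iff]
      intro b hb
      exact (hc b hb).eq.symm
    rw [hZT, Subgroup.mem_bot] at h1
    exact h1
  have hyx : Commute (v * x * v⁻¹) x := FCv x hxT x hxT
  have hh1 : x * (v * x * v⁻¹)⁻¹ ≠ 1 := by
    intro h
    have e : x = v * x * v⁻¹ := mul_inv_eq_one.mp h
    apply hx1
    apply hcent_of x hxT
    intro b hb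
    have := FCv x hxT b hb
    rw [← e] at this
    exact this
  have hho : Odd (orderOf (x * (v * x * v⁻¹)⁻¹)) := by
    have h1 : orderOf (x * (v * x * v⁻¹)⁻¹) ∣ orderOf x * orderOf (v * x * v⁻¹)⁻¹ :=
      (hyx.symm.inv_right).orderOf_mul_dvd_mul_orderOf
    have h2 : orderOf (v * x * v⁻¹)⁻¹ = orderOf x := by
      rw [orderOf_inv]
      have := orderOf_injective (MulAut.conj v).toMonoidHom (MulAut.conj v).injective x
      simpa using this
    rw [h2] at h1
    exact Odd.of_dvd_nat (hxo.mul hxo) h1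
  have hhinv : v * (x * (v * x * v⁻¹)⁻¹) * v⁻¹ = (x * (v * x * v⁻¹)⁻¹)⁻¹ := by
    have e1 : v * (x * (v * x * v⁻¹)⁻¹) * v⁻¹ = (v * x * v⁻¹) * (v * v * x * (v * v)⁻¹)⁻¹ := by
      group
    rw [e1, hvv]; group
  obtain ⟨w, hwV, hw1, hwh⟩ := hS _ v hvV hho hhinv
  have hwv : w * v = v * w := hVab w hwV v hvV
  -- the normalizer of T in V is nontrivial
  have hU1 : V ⊓ Subgroup.normalizer (T : Set G) ≠ ⊥ := by
    by_cases hwN : w ∈ Subgroup.normalizer (T : Set G)
    · intro h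
      have h2 : w ∈ V ⊓ Subgroup.normalizer (T : Set G) := Subgroup.mem_inf.mpr ⟨hwV, hwN⟩
      rw [h, Subgroup.mem_bot] at h2
      exact hw1 h2
    · by_cases hwvN : w * v ∈ Subgroup.normalizer (T : Set G)
      · intro h
        have h2 : w * v ∈ V ⊓ Subgroup.normalizer (T : Set G) :=
          Subgroup.mem_inf.mpr ⟨V.mul_mem hwV hvV, hwvN⟩
        rw [h, Subgroup.mem_bot] at h2
        have h3 : w = v := by
          have := eq_inv_of_mul_eq_one_left h2
          rw [hvinv] at this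
          exact this
        rw [h3] at hwh
        apply hh1
        apply odd_inv_eq _ hho
        rw [← hhinv, hwh]; group
      · exfalso
        have FCw := FC' w (hmove w hwN)
        have FCwv := FC' (w * v) (hmove _ hwvN)
        apply hx1
        apply hcent_of x hxT
        intro b hb
        have e : x = (w * x * w⁻¹) * ((w * v) * x * (w * v)⁻¹)⁻¹ * (v * x * v⁻¹) := by
          have h2 : w * (x * (v * x * v⁻¹)⁻¹) * w⁻¹ = x * (v * x * v⁻¹)⁻¹ := by
            rw [hwh]; group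
          have h3 : w * (x * (v * x * v⁻¹)⁻¹) * w⁻¹
              = (w * x * w⁻¹) * ((w * v) * x * (w * v)⁻¹)⁻¹ := by group
          rw [h3] at h2
          rw [h2]; group
        rw [e]
        exact ((FCw x hxT b hb).mul_left ((FCwv x hxT b hb).inv_left)).mul_left (FCv x hxT b hb)
  have hUT : V ⊓ Subgroup.normalizer (T : Set G) ≤ Subgroup.normalizer (T : Set G) := inf_le_right
  have hK : T ⊔ (V ⊓ Subgroup.normalizer (T : Set G)) ≠ ⊤ := by
    intro h
    apply hTnn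
    apply Subgroup.normalizer_eq_top_iff.mp
    rw [eq_top_iff, ← h]
    exact sup_le Subgroup.le_normalizer hUT
  have hkey : ∀ h ∈ T ⊔ (V ⊓ Subgroup.normalizer (T : Set G)), h ≠ 1 → Odd (orderOf h) →
      ∀ u ∈ V ⊓ Subgroup.normalizer (T : Set G), u * h * u⁻¹ = h⁻¹ →
      ∀ w ∈ V, w ≠ 1 → w * h = h * w → w ∈ V ⊓ Subgroup.normalizer (T : Set G) := by
    intro h hhK hh1 hho u hu hinv w hw hw1 hwc
    have hhT : h ∈ T := by
      apply odd_mem_of_sq_mem T h hho
      obtain ⟨t, ht, u', hu', rfl⟩ := mem_sup_normalizes hUT hhK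
      have e : (t * u') ^ 2 = t * (u' * t * u'⁻¹) * u' ^ 2 := by rw [pow_two, pow_two]; group
      rw [e, hV.2 u' hu'.1, mul_one]
      exact T.mul_mem ht ((Subgroup.mem_normalizer_iff.mp hu'.2 t).mp ht)
    refine Subgroup.mem_inf.mpr ⟨hw, ?_⟩
    by_contra hwN
    apply hh1
    apply hcent_of h hhT
    intro b hb
    have h2 := FC' w (hmove w hwN) h hhT b hb
    have e : w * h * w⁻¹ = h := by rw [hwc]; group
    rw [e] at h2
    exact h2
  obtain ⟨u₀, hu₀U, hu₀1, hu₀K, hu₀O⟩ := min_sub V hV hS hminG _ hK _ inf_le_left le_sup_right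
    hU1 hkey
  obtain ⟨hu₀V, hu₀N⟩ := Subgroup.mem_inf.mp hu₀U
  have hu₀C := cent_of_o2 hO _ T le_sup_left hTsub u₀ hu₀K hu₀O
    (fun x hx => (Subgroup.mem_normalizer_iff.mp hu₀N x).mp hx)
  -- the V-conjugates of T generate N
  set S : Set G := {y | ∃ u ∈ V, ∃ t ∈ T, y = u * t * u⁻¹} with hSdef
  have hSN : Subgroup.closure S ≤ N := by
    rw [Subgroup.closure_le]
    rintro y ⟨u, hu, t, ht, rfl⟩
    exact hNn.conj_mem t (hTN ht) u
  have hTS : T ≤ Subgroup.closure S := by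
    intro t ht
    exact Subgroup.subset_closure ⟨1, V.one_mem, t, ht, by group⟩
  have hSn : (Subgroup.closure S).Normal := by
    apply Subgroup.normalizer_eq_top_iff.mp
    rw [eq_top_iff, ← hNV]
    refine sup_le ?_ ?_
    · intro n hn
      apply Cfsg.Agent.S3015.closure_conj_stable
      rintro y ⟨u, hu, t, ht, rfl⟩
      refine ⟨u, hu, (u⁻¹ * n * u) * t * (u⁻¹ * n * u)⁻¹, ?_, by group⟩
      have h1 : u⁻¹ * n * u ∈ N := by
        have := hNn.conj_mem n hn u⁻¹
        simpa using this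
      exact (Subgroup.mem_normalizer_iff.mp (hNT h1) t).mp ht
    · intro k hk
      apply Cfsg.Agent.S3015.closure_conj_stable
      rintro y ⟨u, hu, t, ht, rfl⟩
      exact ⟨k * u, V.mul_mem hk hu, t, ht, by group⟩
  have hSeq : Subgroup.closure S = N :=
    hNmin _ hSn (fun h => hTb (le_bot_iff.mp (h ▸ hTS))) hSN
  have hNC : N ≤ Subgroup.centralizer ({u₀} : Set G) := by
    rw [← hSeq, Subgroup.closure_le]
    rintro y ⟨u, hu, t, ht, rfl⟩
    rw [SetLike.mem_coe, Subgroup.mem_centralizer_iff]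
    intro z hz
    rw [Set.mem_singleton_iff] at hz
    rw [hz]
    have h1 : t * u₀ = u₀ * t := Subgroup.mem_centralizer_iff.mp hu₀C t ht
    have h2 : u₀ * u = u * u₀ := hVab u₀ hu₀V u hu
    have h3 : u₀ * u⁻¹ = u⁻¹ * u₀ := by
      have := congrArg (fun z => u⁻¹ * z * u⁻¹) h2
      simp only [mul_assoc, inv_mul_cancel_left, mul_inv_cancel, mul_one] at this
      exact this.symm
    calc u₀ * (u * t * u⁻¹) = (u₀ * u) * t * u⁻¹ := by group
      _ = u * (u₀ * t) * u⁻¹ := by rw [h2]; group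
      _ = u * t * (u₀ * u⁻¹) := by rw [← h1]; group
      _ = u * t * u⁻¹ * u₀ := by rw [h3]; group
  have hVC : V ≤ Subgroup.centralizer ({u₀} : Set G) := by
    intro u hu
    rw [Subgroup.mem_centralizer_iff]
    intro z hz
    rw [Set.mem_singleton_iff] at hz
    rw [hz]; exact hVab u₀ hu₀V u hu
  have htop : (⊤ : Subgroup G) ≤ Subgroup.centralizer ({u₀} : Set G) := by
    rw [← hNV]; exact sup_le hNC hVC
  have hwZ : u₀ ∈ Subgroup.center G := by
    rw [Subgroup.mem_center_iff]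
    intro g
    exact (Subgroup.mem_centralizer_iff.mp (htop (Subgroup.mem_top g)) u₀
      (Set.mem_singleton u₀)).symm
  rw [hZ, Subgroup.mem_bot] at hwZ
  exact hu₀1 hwZ

/-- the generalized Fitting subgroup is the simple normal subgroup -/
theorem gfs_eq {G : Type u} [Group G] [Finite G] (V : Subgroup G)
    (hV : Cfsg.IsElementaryAbelian 2 V) (hO : Cfsg.pCore 2 G = ⊥)
    (N : Subgroup G) (hNn : N.Normal) (hNV : N ⊔ V = ⊤)
    (hNs : IsSimpleGroup ↥N) (hnab : ¬ IsMulCommutative ↥N) :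
    Cfsg.generalizedFittingSubgroup G = N := by
  haveI : Fact (Nat.Prime 2) := ⟨Nat.prime_two⟩
  haveI := hNn
  haveI := hNs
  have hperf : commutator ↥N = ⊤ := by
    rcases (inferInstance : (commutator ↥N).Normal).eq_bot_or_eq_top with h | h
    · exact absurd ((commutator_eq_bot_iff ↥N).mp h) hnab
    · exact h
  have hZN : Subgroup.center ↥N = ⊥ := by
    rcases (inferInstance : (Subgroup.center ↥N).Normal).eq_bot_or_eq_top with h | h
    · exact h
    · exact absurd (Subgroup.center_eq_top_iff.mp h) hnab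
  have hVN : V ≤ Subgroup.normalizer (N : Set G) := by
    rw [Subgroup.normalizer_eq_top]; exact le_top
  have hCN : Subgroup.centralizer (N : Set G) ⊓ N = ⊥ := by
    rw [eq_bot_iff]
    intro x hx
    obtain ⟨hxC, hxN⟩ := Subgroup.mem_inf.mp hx
    have h1 : (⟨x, hxN⟩ : ↥N) ∈ Subgroup.center ↥N := by
      rw [Subgroup.mem_center_iff]
      intro g
      apply Subtype.ext
      exact Subgroup.mem_centralizer_iff.mp hxC g g.2
    rw [hZN, Subgroup.mem_bot] at h1
    rw [Subgroup.mem_bot]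
    exact congrArg Subtype.val h1
  have hC : Subgroup.centralizer (N : Set G) = ⊥ := by
    have h2 : IsPGroup 2 ↥(Subgroup.centralizer (N : Set G)) := by
      rintro ⟨c, hc⟩
      refine ⟨1, ?_⟩
      apply Subtype.ext
      have h3 : c ^ 2 ∈ Subgroup.centralizer (N : Set G) ⊓ N := by
        refine Subgroup.mem_inf.mpr ⟨Subgroup.pow_mem _ hc 2, ?_⟩
        obtain ⟨n, hn, u, hu, rfl⟩ := mem_sup_normalizes hVN (show c ∈ N ⊔ V by rw [hNV]; trivial)
        have e : (n * u) ^ 2 = n * (u * n * u⁻¹) * u ^ 2 := by rw [pow_two, pow_two]; group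
        rw [e, hV.2 u hu, mul_one]
        exact N.mul_mem hn (hNn.conj_mem n hn u)
      rw [hCN, Subgroup.mem_bot] at h3
      simpa using h3
    have h4 := Helper4.le_pCore (Subgroup.normal_centralizer (H := N)) h2
    rw [hO] at h4
    exact le_bot_iff.mp h4
  have hNcomp : IsComponent N := by
    refine ⟨hNn.isSubnormal, Helper2.Comp.isQuasisimple_of_forall_normal hperf inferInstance ?_⟩
    intro M hM
    rcases hM.eq_bot_or_eq_top with h | h
    · right; rw [h]; exact bot_le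
    · left; exact h
  have h1 : N ≤ Cfsg.layer G := Helper2.Comp.le_layer hNcomp
  have h2 : Cfsg.layer G ≤ N := by
    apply sSup_le
    intro K hK
    rcases Helper2.Comp.le_or_le_centralizer hK hNn.isSubnormal with h | h
    · exact h
    · have h5 : K ≤ Subgroup.centralizer (N : Set G) := Subgroup.le_centralizer_iff.mp h
      rw [hC] at h5
      exact absurd (le_bot_iff.mp h5) (Helper2.Comp.ne_bot_of_isQuasisimple hK.2)
  have h3 : Cfsg.fittingSubgroup G ≤ N := by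
    apply sSup_le
    rintro M ⟨hMn, hMnil⟩
    haveI := hMn
    have hsn : ((M ⊓ N).subgroupOf N).Normal := by
      have : (M ⊓ N).Normal := inferInstance
      exact Subgroup.Normal.subgroupOf this N
    rcases hsn.eq_bot_or_eq_top with h | h
    · have h6 : M ⊓ N = ⊥ := by
        have := (Subgroup.subgroupOf_eq_bot.mp h)
        rw [disjoint_iff, inf_assoc, inf_idem] at this
        exact this
      have h7 : ⁅M, N⁆ = ⊥ := by
        rw [eq_bot_iff, ← h6]
        exact Subgroup.commutator_le_inf M N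
      have h8 := Subgroup.commutator_eq_bot_iff_le_centralizer.mp h7
      rw [hC] at h8
      exact h8.trans bot_le
    · exfalso
      have h6 : N ≤ M := by
        have := Subgroup.subgroupOf_eq_top.mp h
        exact this.trans inf_le_left
      haveI : Group.IsPerfect ↥N := ⟨hperf⟩
      haveI : Group.IsSolvable ↥M := IsNilpotent.to_isSolvable
      exact Group.IsPerfect.not_isSolvable ↥N
        (Group.isSolvable_of_isSolvable_injective (Subgroup.inclusion_injective h6))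
  show Cfsg.layer G ⊔ Cfsg.fittingSubgroup G = N
  exact le_antisymm (sup_le h2 h3) (h1.trans le_sup_left)

/-- Minimal counterexample reduction for the Sidki pair problem. Let G be a finite group and V a nontrivial elementary abelian 2-subgroup satisfying the Sidki pair condition with V ∩ O₂(G) = 1. Suppose that for every finite group H of smaller order, every nontrivial elementary abelian 2-subgroup W of H satisfying the Sidki pair condition meets O₂(H) nontrivially, and that the same holds in G for every such subgroup W of order smaller than that of V. Then the generalized Fitting subgroup F*(G) is a non-abelian simple group and G = V F*(G). -/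
theorem result {G : Type u} [Group G] [Finite G] (V : Subgroup G) (hV : Cfsg.IsElementaryAbelian 2 V) (hV1 : V ≠ ⊥) (hS : Cfsg.IsSidkiPair V) (hVO : V ⊓ Cfsg.pCore 2 G = ⊥) (hminG : ∀ (H : Type u) [Group H] [Finite H] (W : Subgroup H), Nat.card H < Nat.card G → Cfsg.IsElementaryAbelian 2 W → W ≠ ⊥ → Cfsg.IsSidkiPair W → W ⊓ Cfsg.pCore 2 H ≠ ⊥) (hminV : ∀ W : Subgroup G, Nat.card W < Nat.card V → Cfsg.IsElementaryAbelian 2 W → W ≠ ⊥ → Cfsg.IsSidkiPair W → W ⊓ Cfsg.pCore 2 G ≠ ⊥) : IsSimpleGroup ↥(Cfsg.generalizedFittingSubgroup G) ∧ ¬ IsMulCommutative ↥(Cfsg.generalizedFittingSubgroup G) ∧ V ⊔ Cfsg.generalizedFittingSubgroup G = ⊤ := by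
  haveI : Fact (Nat.Prime 2) := ⟨Nat.prime_two⟩
  have hO := o2_bot V hV hV1 hS hVO hminG
  have hnc := nc_top' V hV hV1 hS hO hminG
  have hZ := center_bot' V hV hV1 hS hO hminG
  have hsup : ∀ (N : Subgroup G), N.Normal → N ≠ ⊥ → N ⊔ V = ⊤ := fun N hN hN1 =>
    @sup_top_of_normal' G _ _ V hV hV1 hS hO hnc hZ hminG hminV N hN hN1
  have hVlt : (⊤ : Subgroup G) ≠ ⊥ := by
    intro h
    exact hV1 (le_bot_iff.mp (h ▸ le_top))
  obtain ⟨N, ⟨hNn, hN1⟩, hNm⟩ := Set.exists_min_image {M : Subgroup G | M.Normal ∧ M ≠ ⊥}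
    (fun M => Nat.card M) (Set.toFinite _) ⟨⊤, Subgroup.normal_top, hVlt⟩
  have hNmin : ∀ M : Subgroup G, M.Normal → M ≠ ⊥ → M ≤ N → M = N := by
    intro M hM hM1 hMN
    exact Subgroup.eq_of_le_of_card_ge hMN (hNm M ⟨hM, hM1⟩)
  have hNV := hsup N hNn hN1
  have hnab := min_normal_nonab V hV hV1 hS hO hZ N hNn hNV hNmin
  have hNs := min_normal_simple V hV hV1 hS hO hZ hminG N hNn hN1 hNV hNmin hnab
  have hF := gfs_eq V hV hO N hNn hNV hNs hnab
  rw [hF]
  exact ⟨hNs, hnab, by rw [sup_comm]; exact hNV⟩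

end Cfsg.Agent.S3048
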