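import Cfsg.Statements.S3060
import Mathlib
import Cfsg.Agent.Lib.Helper5.DStar2
import Cfsg.Agent.Lib.Helper5.SylowChain
import Cfsg.Agent.Lib.Helper5.Replacement
import Cfsg.Agent.Lib.Helper4.Basic
import Cfsg.Agent.S3056

set_option autoImplicit false
open Cfsg Cfsg.Agent.Lib.Helper5 commutatorElement

namespace Cfsg.Agent.S3060

/-- The D*-Theorem. For a finite p-group S let D*(S) be the subgroup generated by the abelian subgroups A of S such that every x ∈ S with ⟨A, x⟩ of nilpotency class at most two centralizes A. Let p be an odd prime and H a finite p-stable group with Sylow p-subgroup S. Here H is p-stable in the following sense: the largest normal p-subgroup O_p(H) contains its centralizer in H, and for every normal p-subgroup P of H, every element acting quadratically on P has image in O_p(H/C_H(P)). Then D*(S) is a normal subgroup of H. -/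
theorem result {G : Type*} [Group G] [Finite G] {p : ℕ} [Fact p.Prime] (hp : p ≠ 2)
    (hc : Subgroup.centralizer (Cfsg.pCore p G : Set G) ≤ Cfsg.pCore p G)
    (hst : ∀ (P : Subgroup G) [P.Normal], IsPGroup p P → Cfsg.IsPStableOn p P) (S : Sylow p G) :
    (Cfsg.dStarOf (S : Subgroup G)).Normal := by
  classical
  have hS : IsPGroup p (S : Subgroup G) := S.isPGroup'
  have hQn : (Cfsg.pCore p G).Normal := Cfsg.Agent.Lib.Helper4.pCore_normal p G
  have hQp : IsPGroup p (Cfsg.pCore p G) := Cfsg.Agent.Lib.Helper4.pCore_isPGroup p G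
  have hQS : Cfsg.pCore p G ≤ (S : Subgroup G) := Cfsg.Agent.Lib.Helper4.pCore_le_sylow S
  have hD : InD (S : Subgroup G) (Cfsg.dStarOf (S : Subgroup G)) := inD_dStarOf (S : Subgroup G) hS
  generalize hDdef : Cfsg.dStarOf (S : Subgroup G) = D at hD ⊢
  have hconjS : ∀ s ∈ (S : Subgroup G),
      (S : Subgroup G).map (MulAut.conj s).toMonoidHom = (S : Subgroup G) := by
    intro s hs
    ext x
    rw [Cfsg.Agent.S3056.mem_map_conj_iff']
    constructor
    · intro h
      have e : x = s * (s⁻¹ * x * s) * s⁻¹ := by group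
      rw [e]
      exact mul_mem (mul_mem hs h) (inv_mem hs)
    · intro h
      exact mul_mem (mul_mem (inv_mem hs) h) hs
  -- Step 0: D is normal in S
  have hDS : ∀ s ∈ (S : Subgroup G), ∀ d ∈ D, s * d * s⁻¹ ∈ D := by
    intro s hs d hd
    have h1 : InD ((S : Subgroup G).map (MulAut.conj s).toMonoidHom)
        (D.map (MulAut.conj s).toMonoidHom) :=
      inD_map _ (MulAut.conj s).injective hD
    rw [hconjS s hs] at h1
    have h2 := le_dStarOf_of_inD _ _ h1
    rw [hDdef] at h2
    exact h2 ⟨d, hd, rfl⟩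
  -- Step 1: D ≤ O_p(G)
  have hDQ : D ≤ Cfsg.pCore p G := by
    intro d hd
    have h1 : ⁅Cfsg.pCore p G, Subgroup.zpowers d⁆ ≤ D := by
      rw [Subgroup.commutator_le]
      intro q hq z hz
      have hzD : z ∈ D := (Subgroup.zpowers_le.mpr hd) hz
      rw [commutatorElement_def]
      exact mul_mem (hDS q (hQS hq) z hzD) (inv_mem hzD)
    have h2 : ⁅⁅Cfsg.pCore p G, Subgroup.zpowers d⁆, Subgroup.zpowers d⁆ = ⊥ := by
      rw [eq_bot_iff, Subgroup.commutator_le]
      intro a ha z hz
      have hzD : z ∈ D := (Subgroup.zpowers_le.mpr hd) hz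
      rw [Subgroup.mem_bot, commutatorElement_eq_one_iff_mul_comm]
      exact hD.2.1 a (h1 ha) z hzD
    have h3 := hst (Cfsg.pCore p G) hQp d h2
    exact mem_pCore_of_mk_mem (Subgroup.centralizer (Cfsg.pCore p G : Set G)) (hQp.to_le hc) d h3
  -- Step 2: the conjugates of D commute pairwise
  have hDgQ : ∀ g : G, D.map (MulAut.conj g).toMonoidHom ≤ Cfsg.pCore p G := by
    intro g
    rintro _ ⟨d, hd, rfl⟩
    exact hQn.conj_mem d (hDQ hd) g
  have hDgc : ∀ g : G, ∀ a ∈ D.map (MulAut.conj g).toMonoidHom,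
      ∀ b ∈ D.map (MulAut.conj g).toMonoidHom, a * b = b * a := by
    intro g
    exact (inD_map _ (MulAut.conj g).injective hD).2.1
  have hcomm1 : ∀ g : G, ∀ a ∈ D, ∀ b ∈ D.map (MulAut.conj g).toMonoidHom, a * b = b * a := by
    intro g
    apply inD_centralizes_of_normalizes (S : Subgroup G) hS D hD _ ((hDgQ g).trans hQS) (hDgc g)
    intro d hd
    apply mem_normalizer_of_forall_conj_mem
    intro x hx
    rw [Cfsg.Agent.S3056.mem_map_conj_iff'] at hx ⊢
    have h1 : g⁻¹ * d * g ∈ (S : Subgroup G) := by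
      apply hQS
      have := hQn.conj_mem d (hDQ hd) g⁻¹
      simpa using this
    have h2 := hDS _ h1 _ hx
    have e : g⁻¹ * (d * x * d⁻¹) * g = g⁻¹ * d * g * (g⁻¹ * x * g) * (g⁻¹ * d * g)⁻¹ := by group
    rw [e]; exact h2
  have hcomm2 : ∀ g g' : G, ∀ a ∈ D.map (MulAut.conj g).toMonoidHom,
      ∀ b ∈ D.map (MulAut.conj g').toMonoidHom, a * b = b * a := by
    intro g g' a ha b hb
    rw [Cfsg.Agent.S3056.mem_map_conj_iff'] at ha
    have hb' : g⁻¹ * b * g ∈ D.map (MulAut.conj (g⁻¹ * g')).toMonoidHom := by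
      rw [Cfsg.Agent.S3056.mem_map_conj_iff'] at hb ⊢
      have e : (g⁻¹ * g')⁻¹ * (g⁻¹ * b * g) * (g⁻¹ * g') = g'⁻¹ * b * g' := by group
      rw [e]; exact hb
    have h1 := hcomm1 (g⁻¹ * g') _ ha _ hb'
    have e1 : a * b = g * ((g⁻¹ * a * g) * (g⁻¹ * b * g)) * g⁻¹ := by group
    have e2 : b * a = g * ((g⁻¹ * b * g) * (g⁻¹ * a * g)) * g⁻¹ := by group
    rw [e1, e2, h1]
  -- Step 3: the normal closure N of D
  obtain ⟨N, hNdef⟩ : ∃ N : Subgroup G, N = ⨆ g : G, D.map (MulAut.conj g).toMonoidHom := ⟨_, rfl⟩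
  have hDgN : ∀ g : G, D.map (MulAut.conj g).toMonoidHom ≤ N := by
    intro g; rw [hNdef]; exact le_iSup (fun g : G => D.map (MulAut.conj g).toMonoidHom) g
  have hNQ : N ≤ Cfsg.pCore p G := by
    rw [hNdef]; exact iSup_le hDgQ
  have hDN : D ≤ N := by
    intro d hd
    apply hDgN 1
    rw [Cfsg.Agent.S3056.mem_map_conj_iff']
    simpa using hd
  have hNc : ∀ a ∈ N, ∀ b ∈ N, a * b = b * a := by
    have h1 : N ≤ Subgroup.centralizer (N : Set G) := by
      conv_lhs => rw [hNdef]
      apply iSup_le; intro g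
      rw [Subgroup.le_centralizer_iff]
      rw [hNdef]
      apply iSup_le; intro g'
      intro x hx
      rw [Subgroup.mem_centralizer_iff]
      intro y hy
      exact hcomm2 g g' y hy x hx
    intro a ha b hb
    have := Subgroup.mem_centralizer_iff.mp (h1 hb) a ha
    exact this
  have hNn : N.Normal := by
    constructor
    intro n hn g
    have h1 : N.map (MulAut.conj g).toMonoidHom ≤ N := by
      conv_lhs => rw [hNdef]
      rw [Subgroup.map_iSup]
      apply iSup_le; intro g'
      rintro _ ⟨x, hx0, rfl⟩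
      have hx : x ∈ D.map (MulAut.conj g').toMonoidHom := hx0
      apply hDgN (g * g')
      rw [Cfsg.Agent.S3056.mem_map_conj_iff'] at hx ⊢
      have e : (g * g')⁻¹ * ((MulAut.conj g).toMonoidHom x) * (g * g') = g'⁻¹ * x * g' := by
        show (g * g')⁻¹ * (g * x * g⁻¹) * (g * g') = g'⁻¹ * x * g'
        group
      rw [e]; exact hx
    exact h1 ⟨n, hn, rfl⟩
  have hInD : InD (S : Subgroup G) N := by
    refine ⟨hNQ.trans hQS, hNc, ?_⟩
    intro x hxS hcl a ha
    have hq : ⁅⁅N, Subgroup.zpowers x⁆, Subgroup.zpowers x⁆ = ⊥ := by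
      rw [eq_bot_iff, ← hcl]
      exact Subgroup.commutator_mono (Subgroup.commutator_mono le_sup_left le_sup_right) le_sup_right
    have hmk := hst N (hQp.to_le hNQ) x hq
    have hwx : ∀ a ∈ N, (a * x * a⁻¹ * x⁻¹) * x = x * (a * x * a⁻¹ * x⁻¹) := by
      intro a ha
      have h1 : ⁅a, x⁆ ∈ ⁅N ⊔ Subgroup.zpowers x, N ⊔ Subgroup.zpowers x⁆ :=
        Subgroup.commutator_mem_commutator ((le_sup_left : N ≤ N ⊔ Subgroup.zpowers x) ha)
          ((le_sup_right : Subgroup.zpowers x ≤ N ⊔ Subgroup.zpowers x) (Subgroup.mem_zpowers x))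
      have h2 : ⁅⁅a, x⁆, x⁆ ∈
          ⁅⁅N ⊔ Subgroup.zpowers x, N ⊔ Subgroup.zpowers x⁆, N ⊔ Subgroup.zpowers x⁆ :=
        Subgroup.commutator_mem_commutator h1
          ((le_sup_right : Subgroup.zpowers x ≤ N ⊔ Subgroup.zpowers x) (Subgroup.mem_zpowers x))
      rw [hcl, Subgroup.mem_bot, commutatorElement_eq_one_iff_mul_comm, commutatorElement_def] at h2
      exact h2
    have hwN : ∀ a ∈ N, a * x * a⁻¹ * x⁻¹ ∈ N := by
      intro a ha
      have h1 := hNn.conj_mem a⁻¹ (inv_mem ha) x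
      have e : a * x * a⁻¹ * x⁻¹ = a * (x * a⁻¹ * x⁻¹) := by group
      rw [e]; exact mul_mem ha h1
    have key : ∀ g : G, D.map (MulAut.conj g).toMonoidHom ≤ Subgroup.centralizer {x} := by
      intro g
      obtain ⟨y, hy, c, hc', hxy⟩ :=
        exists_mul_of_mk_mem_pCore (Subgroup.centralizer (N : Set G)) (g • S) x hmk
      have hcN : ∀ n ∈ N, c * n = n * c := by
        intro n hn
        exact (Subgroup.mem_centralizer_iff.mp hc' n hn).symm
      have hySg : y ∈ (S : Subgroup G).map (MulAut.conj g).toMonoidHom := by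
        rw [Cfsg.Agent.S3056.mem_map_conj_iff']
        exact (mem_sylow_smul_iff g y S).mp hy
      have hw : ∀ a ∈ N, a * y * a⁻¹ * y⁻¹ = a * x * a⁻¹ * x⁻¹ := by
        intro a ha
        have e := hcN a⁻¹ (inv_mem ha)
        rw [hxy]
        calc a * y * a⁻¹ * y⁻¹ = a * y * (a⁻¹ * c) * c⁻¹ * y⁻¹ := by group
          _ = a * y * (c * a⁻¹) * c⁻¹ * y⁻¹ := by rw [e]
          _ = a * (y * c) * a⁻¹ * (y * c)⁻¹ := by group
      have hyx : y = x * c⁻¹ := by rw [hxy]; group
      have hcl2 : ⁅⁅D.map (MulAut.conj g).toMonoidHom ⊔ Subgroup.zpowers y,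
          D.map (MulAut.conj g).toMonoidHom ⊔ Subgroup.zpowers y⁆,
          D.map (MulAut.conj g).toMonoidHom ⊔ Subgroup.zpowers y⁆ = ⊥ := by
        apply class_two_of_comm_central _ y (hDgc g)
        · intro a ha b hb
          rw [hw a (hDgN g ha)]
          exact hNc _ (hwN a (hDgN g ha)) _ (hDgN g hb)
        · intro a ha
          rw [hw a (hDgN g ha)]
          have h1 := hwx a (hDgN g ha)
          have h2 := hcN _ (hwN a (hDgN g ha))
          rw [hyx]
          calc a * x * a⁻¹ * x⁻¹ * (x * c⁻¹) = (a * x * a⁻¹ * x⁻¹ * x) * c⁻¹ := by group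
            _ = x * (a * x * a⁻¹ * x⁻¹) * c⁻¹ := by rw [h1]
            _ = x * (c⁻¹ * (c * (a * x * a⁻¹ * x⁻¹))) * c⁻¹ := by group
            _ = x * (c⁻¹ * ((a * x * a⁻¹ * x⁻¹) * c)) * c⁻¹ := by rw [h2]
            _ = x * c⁻¹ * (a * x * a⁻¹ * x⁻¹) := by group
      have h3 := (inD_map (MulAut.conj g).toMonoidHom (MulAut.conj g).injective hD).2.2 y hySg hcl2
      intro a ha
      rw [Subgroup.mem_centralizer_iff]
      intro h hh
      rw [Set.mem_singleton_iff] at hh
      rw [hh]
      have h4 := h3 a ha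
      have h5 := hcN a (hDgN g ha)
      rw [hxy]
      calc y * c * a = y * (c * a) := by group
        _ = y * (a * c) := by rw [h5]
        _ = (y * a) * c := by group
        _ = (a * y) * c := by rw [h4]
        _ = a * (y * c) := by group
    have hNle : N ≤ Subgroup.centralizer {x} := by
      rw [hNdef]; exact iSup_le key
    have := Subgroup.mem_centralizer_iff.mp (hNle ha) x (Set.mem_singleton x)
    exact this.symm
  have hND : N ≤ D := by
    have := le_dStarOf_of_inD _ _ hInD
    rw [hDdef] at this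
    exact this
  have hEq : D = N := le_antisymm hDN hND
  rw [hEq]; exact hNn

end Cfsg.Agent.S3060
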