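import Cfsg.Statements.S3082
import Mathlib
import Cfsg.Agent.Lib.Helper1.GRD4
import Cfsg.Agent.Lib.Helper1.GT8
import Cfsg.Agent.Lib.Helper1.ZJD
import Cfsg.Agent.S0653
import Cfsg.Agent.S3079

set_option autoImplicit false
open Cfsg

namespace Cfsg.Agent.S3082

open Cfsg.Agent.Lib.Helper1

universe u

/-- `D ↦ Z(J_o(D))` -/
def zjAbW (X : Type u) [Group X] (D : Subgroup X) : Subgroup X := zjW goodAb D

/-- `D ↦ Ω₁(Z(J_e(D)))` -/
def zjEaW (p : ℕ) (X : Type u) [Group X] (D : Subgroup X) : Subgroup X :=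
  zjW (Cfsg.IsElementaryAbelian p) D

theorem zjW_ea_ne_bot {G : Type*} [Group G] [Finite G] {p : ℕ} [Fact p.Prime] (T : Subgroup G)
    (hT : IsPGroup p T) (hne : T ≠ ⊥) : zjW (Cfsg.IsElementaryAbelian p) T ≠ ⊥ := by
  haveI : Nontrivial ↥T := (Subgroup.nontrivial_iff_ne_bot T).mpr hne
  haveI := hT.center_nontrivial
  obtain ⟨k, hk0, hk⟩ := (IsPGroup.nontrivial_iff_card
    (hT.to_subgroup (Subgroup.center ↥T))).mp inferInstance
  have hdvd : p ∣ Nat.card (Subgroup.center ↥T) := by rw [hk]; exact dvd_pow_self p hk0.ne'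
  obtain ⟨⟨z, hz⟩, hzo⟩ := exists_prime_orderOf_dvd_card' p hdvd
  have hzp : (z : G) ^ p = 1 := by
    have h1 : (⟨z, hz⟩ : Subgroup.center ↥T) ^ p = 1 := by rw [← hzo]; exact pow_orderOf_eq_one _
    have h2 := congrArg Subtype.val (congrArg Subtype.val h1)
    simpa using h2
  have hz1 : (z : G) ≠ 1 := by
    intro h
    have : (⟨z, hz⟩ : Subgroup.center ↥T) = 1 := Subtype.ext (Subtype.ext h)
    rw [this, orderOf_one] at hzo
    exact (Fact.out : p.Prime).one_lt.ne hzo
  intro hbot
  have hzW : (z : G) ∈ zjW (Cfsg.IsElementaryAbelian p) T := by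
    unfold zjW
    rw [Subgroup.mem_sInf]
    intro U hU
    have hxA : ∀ a ∈ U, a * (z : G) = (z : G) * a := fun a ha => by
      have := Subgroup.mem_center_iff.mp hz ⟨a, hU.1 ha⟩
      exact congrArg Subtype.val this
    have hcm := isMulCommutative_sup_zpowers hU.2.1.1 (z : G) hxA
    have hEA : Cfsg.IsElementaryAbelian p (U ⊔ Subgroup.zpowers (z : G)) := by
      refine ⟨hcm, ?_⟩
      apply Cfsg.Agent.S3079.pow_eq_one_of_mem_sup p (comm_of_isMulCommutative hcm) hU.2.1.2
      intro b hb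
      obtain ⟨k, rfl⟩ := Subgroup.mem_zpowers_iff.mp hb
      rw [← zpow_natCast, ← zpow_mul, mul_comm, zpow_mul, zpow_natCast, hzp, one_zpow]
    have hle : U ⊔ Subgroup.zpowers (z : G) ≤ T :=
      sup_le hU.1 (by rw [Subgroup.zpowers_le]; exact z.2)
    have hcard := hU.2.2 _ hle hEA
    have h1 : U = U ⊔ Subgroup.zpowers (z : G) := Subgroup.eq_of_le_of_card_ge le_sup_left hcard
    rw [h1]
    exact (le_sup_right : Subgroup.zpowers (z : G) ≤ _) (Subgroup.mem_zpowers _)
  rw [hbot, Subgroup.mem_bot] at hzW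
  exact hz1 hzW

theorem zjAbW_dfunctor (p : ℕ) [Fact p.Prime] : DFunctor.{u} p zjAbW where
  le := fun X _ _ D => zjW_le goodAb goodAb_bot D
  map := fun X Y _ _ _ _ π D hinj => zjW_map_gen goodAb goodAb D π hinj goodAb_bot
    (fun U _ h => goodAb_map U π h) (by
      intro V hV hVg x hx y hy
      obtain ⟨hx1, hx2⟩ := Subgroup.mem_inf.mp hx
      obtain ⟨hy1, hy2⟩ := Subgroup.mem_inf.mp hy
      have h1 : π ((x * y)⁻¹ * (y * x)) = 1 := by
        rw [map_mul, map_inv, map_mul, map_mul, hVg _ hx1 _ hy1, inv_mul_cancel]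
      have h2 := hinj _ (D.mul_mem (D.inv_mem (D.mul_mem hx2 hy2)) (D.mul_mem hy2 hx2)) h1
      exact inv_mul_eq_one.mp h2)
  ne_bot := fun X _ _ D hD hne => zjW_goodAb_ne_bot D hD hne

theorem zjEaW_dfunctor (p : ℕ) [Fact p.Prime] : DFunctor.{u} p (zjEaW p) where
  le := fun X _ _ D => zjW_le _ (Cfsg.Agent.S3079.isElementaryAbelian_bot p) D
  map := fun X Y _ _ _ _ π D hinj => zjW_map_gen _ _ D π hinj
    (Cfsg.Agent.S3079.isElementaryAbelian_bot p)
    (fun U _ h => ⟨isMulCommutative_of_comm (by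
        rintro _ ⟨a, ha, rfl⟩ _ ⟨b, hb, rfl⟩
        rw [← map_mul, ← map_mul, comm_of_isMulCommutative h.1 a ha b hb]), by
        rintro _ ⟨a, ha, rfl⟩
        rw [← map_pow, h.2 a ha, map_one]⟩)
    (by
      intro V hV hVg
      refine ⟨isMulCommutative_of_comm ?_, ?_⟩
      · intro x hx y hy
        obtain ⟨hx1, hx2⟩ := Subgroup.mem_inf.mp hx
        obtain ⟨hy1, hy2⟩ := Subgroup.mem_inf.mp hy
        have h1 : π ((x * y)⁻¹ * (y * x)) = 1 := by
          rw [map_mul, map_inv, map_mul, map_mul,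
            comm_of_isMulCommutative hVg.1 _ hx1 _ hy1, inv_mul_cancel]
        have h2 := hinj _ (D.mul_mem (D.inv_mem (D.mul_mem hx2 hy2)) (D.mul_mem hy2 hx2)) h1
        exact inv_mul_eq_one.mp h2
      · intro x hx
        obtain ⟨hx1, hx2⟩ := Subgroup.mem_inf.mp hx
        apply hinj _ (D.pow_mem hx2 p)
        rw [map_pow]; exact hVg.2 _ hx1)
  ne_bot := fun X _ _ D hD hne => zjW_ea_ne_bot D hD hne

/-- The Glauberman–Thompson normal p-complement criterion for strongly closed subgroups, p odd. Let G be a finite group, P a Sylow p-subgroup and D a subgroup of P strongly closed in P with respect to G. If N_G(Z(J(D))) has a normal p-complement (J(D) generated by the abelian subgroups of D of largest order), or N_G(Ω₁(Z(J_e(D)))) has one (J_e(D) generated by the elementary abelian subgroups of largest order), then G has a normal p-complement. -/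
theorem result {G : Type*} [Group G] [Finite G] {p : ℕ} [Fact p.Prime] (hp : p ≠ 2) (P : Sylow p G) (D : Subgroup G) (hD : Cfsg.IsStronglyClosed D (P : Subgroup G)) (h : Cfsg.HasNormalPComplement p ↥(Subgroup.normalizer ((Cfsg.centerThompsonAOf D) : Set G)) ∨ Cfsg.HasNormalPComplement p ↥(Subgroup.normalizer ((Cfsg.omegaOne p (Cfsg.centerThompsonOf p D)) : Set G))) : Cfsg.HasNormalPComplement p G := by
  rcases h with h | h
  · apply grd (zjAbW_dfunctor p) ?_ P D hD ?_
    · intro X _ _ hc hbar T hT D' hD'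
      show (zjW goodAb D').Normal
      apply zjd_normal goodAb hp hc (fun B _ hB => min_pstable hp hbar T hT B hB) T D' hD'
      · exact goodAb_bot
      · intro U h; exact h
      · intro U ψ h; exact goodAb_equiv U ψ h
      · intro A A' _ h _; exact h
    · show Cfsg.HasNormalPComplement p ↥(Subgroup.normalizer (zjW goodAb D : Set G))
      have h1 : Cfsg.centerThompsonAOf D = zjW goodAb D :=
        Cfsg.Agent.S0653.centerThompsonAOf_eq_zjW D
      rw [← h1]; exact h
  · apply grd (zjEaW_dfunctor p) ?_ P D hD ?_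
    · intro X _ _ hc hbar T hT D' hD'
      show (zjW (Cfsg.IsElementaryAbelian p) D').Normal
      apply zjd_normal _ hp hc (fun B _ hB => min_pstable hp hbar T hT B hB) T D' hD'
      · exact Cfsg.Agent.S3079.isElementaryAbelian_bot p
      · intro U h
        exact comm_of_isMulCommutative h.1
      · intro U ψ h
        refine ⟨isMulCommutative_of_comm ?_, ?_⟩
        · rintro _ ⟨a, ha, rfl⟩ _ ⟨b, hb, rfl⟩
          rw [← map_mul, ← map_mul, comm_of_isMulCommutative h.1 a ha b hb]
        · rintro _ ⟨a, ha, rfl⟩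
          rw [← map_pow, h.2 a ha, map_one]
      · intro A A' hA hcomm hexp
        exact ⟨isMulCommutative_of_comm hcomm, hexp p hA.2⟩
    · show Cfsg.HasNormalPComplement p
        ↥(Subgroup.normalizer (zjW (Cfsg.IsElementaryAbelian p) D : Set G))
      rw [← Cfsg.Agent.S3079.omegaOne_centerThompsonOf_eq_zjW]; exact h

end Cfsg.Agent.S3082
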