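import Cfsg.Statements.S3080
import Mathlib
import Cfsg.Agent.Lib.Helper1.FD2
import Cfsg.Agent.S3082

set_option autoImplicit false
open Cfsg

namespace Cfsg.Agent.S3080

open Cfsg.Agent.Lib.Helper1 Cfsg.Agent.S3082

universe u

theorem zjAbW_norm {p : ℕ} [Fact p.Prime] (hp : p ≠ 2) : ∀ (Y : Type u) [Group Y] [Finite Y],
    Subgroup.centralizer (Cfsg.pCore p Y : Set Y) ≤ Cfsg.pCore p Y →
    (∀ (B : Subgroup Y) [B.Normal], IsPGroup p B → Cfsg.IsPStableOn p B) →
    ∀ (T : Sylow p Y) (D : Subgroup Y), Cfsg.IsStronglyClosed D (T : Subgroup Y) →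
      (zjAbW Y D).Normal := by
  intro Y _ _ hc hst T D hD
  show (zjW goodAb D).Normal
  apply zjd_normal goodAb hp hc hst T D hD
  · exact goodAb_bot
  · intro U h; exact h
  · intro U ψ h; exact goodAb_equiv U ψ h
  · intro A A' _ h _; exact h

theorem zjEaW_norm {p : ℕ} [Fact p.Prime] (hp : p ≠ 2) : ∀ (Y : Type u) [Group Y] [Finite Y],
    Subgroup.centralizer (Cfsg.pCore p Y : Set Y) ≤ Cfsg.pCore p Y →
    (∀ (B : Subgroup Y) [B.Normal], IsPGroup p B → Cfsg.IsPStableOn p B) →
    ∀ (T : Sylow p Y) (D : Subgroup Y), Cfsg.IsStronglyClosed D (T : Subgroup Y) →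
      (zjEaW p Y D).Normal := by
  intro Y _ _ hc hst T D hD
  show (zjW (Cfsg.IsElementaryAbelian p) D).Normal
  apply zjd_normal _ hp hc hst T D hD
  · exact Cfsg.Agent.S3079.isElementaryAbelian_bot p
  · intro U h
    exact comm_of_isMulCommutative h.1
  · intro U ψ h
    refine ⟨isMulCommutative_of_comm ?_, ?_⟩
    · rintro _ ⟨a, ha, rfl⟩ _ ⟨b, hb, rfl⟩
      rw [← map_mul, ← map_mul, comm_of_isMulCommutative h.1 a ha b hb]
    · rintro _ ⟨a, ha, rfl⟩
      rw [← map_pow, h.2 a ha, map_one]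
  · intro A A' hA hcomm hexp
    exact ⟨isMulCommutative_of_comm hcomm, hexp p hA.2⟩

/-- Let p be an odd prime, G a finite group that is p-stable in the normalizer form, P a Sylow p-subgroup such that N_G(U) is p-constrained for every nontrivial subgroup U of P, and D a subgroup of P strongly closed in P with respect to G. Then N_G(Z(J(D))) controls strong G-fusion in P (for every subset A of P and every g ∈ G with gAg⁻¹ ⊆ P, some element of that normalizer acts on A exactly as g does; J(D) is generated by the abelian subgroups of D of largest order), and so does N_G(Ω₁(Z(J_e(D)))) (J_e(D) generated by the elementary abelian subgroups of largest order). -/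
theorem result {G : Type*} [Group G] [Finite G] {p : ℕ} [Fact p.Prime] (hp : p ≠ 2) (P : Sylow p G) (D : Subgroup G) (hD : Cfsg.IsStronglyClosed D (P : Subgroup G)) (hst : Cfsg.IsNormalizerPStable p G) (hc : ∀ U : Subgroup G, U ≤ (P : Subgroup G) → U ≠ ⊥ → Cfsg.IsPConstrained p ↥(Subgroup.normalizer (U : Set G))) : (∀ A : Set G, A ⊆ (P : Subgroup G) → Cfsg.ControlsStrongFusionOf (Subgroup.normalizer ((Cfsg.centerThompsonAOf D) : Set G)) (P : Subgroup G) A) ∧ (∀ A : Set G, A ⊆ (P : Subgroup G) → Cfsg.ControlsStrongFusionOf (Subgroup.normalizer ((Cfsg.omegaOne p (Cfsg.centerThompsonOf p D)) : Set G)) (P : Subgroup G) A) := by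
  constructor
  · intro A hA
    have h1 := fd_control (zjAbW_dfunctor p) (zjAbW_norm hp) P D hD hst hc A hA
    have h2 : Cfsg.centerThompsonAOf D = zjAbW G D :=
      Cfsg.Agent.S0653.centerThompsonAOf_eq_zjW D
    rw [h2]; exact h1
  · intro A hA
    have h1 := fd_control (zjEaW_dfunctor p) (zjEaW_norm hp) P D hD hst hc A hA
    have h2 : Cfsg.omegaOne p (Cfsg.centerThompsonOf p D) = zjEaW p G D :=
      Cfsg.Agent.S3079.omegaOne_centerThompsonOf_eq_zjW p D
    rw [h2]; exact h1

end Cfsg.Agent.S3080
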