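import Cfsg.Statements.S3183
import Mathlib
import Cfsg.Agent.Lib.Helper5.SylowChain
import Cfsg.Agent.Lib.Helper5.NormalCompl
import Cfsg.Agent.Lib.Helper6.NormGrow

set_option autoImplicit false
open Cfsg Cfsg.Agent.Lib.Helper5 Cfsg.Agent.Lib.Helper6

namespace Cfsg.Agent.S3183

theorem mem_center_map' {G : Type*} [Group G] (U : Subgroup G) (z : G) :
    z ∈ (Subgroup.center ↥U).map U.subtype ↔ z ∈ U ∧ ∀ u ∈ U, u * z = z * u := by
  constructor
  · rintro ⟨⟨z, hz⟩, hzc, rfl⟩
    refine ⟨hz, fun u hu => ?_⟩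
    have h1 := Subgroup.mem_center_iff.mp hzc ⟨u, hu⟩
    exact congrArg Subtype.val h1
  · rintro ⟨hz, hc⟩
    have h1 : (⟨z, hz⟩ : U) ∈ Subgroup.center ↥U := by
      rw [Subgroup.mem_center_iff]
      intro u
      exact Subtype.ext (hc u u.2)
    exact ⟨⟨z, hz⟩, h1, rfl⟩

theorem inter_le_center {G : Type*} [Group G] [Finite G]
    (hCI : ∀ S T : Sylow 2 G, S ≠ T → ∃ U : Sylow 2 G,
      (S : Subgroup G) ⊓ (T : Subgroup G) ≤
        (Subgroup.center ↥(U : Subgroup G)).map (U : Subgroup G).subtype)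
    (S : Sylow 2 G) : ∀ (n : ℕ) (T : Sylow 2 G), T ≠ S →
      Nat.card (S : Subgroup G) - Nat.card ↥((S : Subgroup G) ⊓ (T : Subgroup G)) = n →
      (S : Subgroup G) ⊓ (T : Subgroup G) ≤
        (Subgroup.center ↥(S : Subgroup G)).map (S : Subgroup G).subtype := by
  haveI : Fact (Nat.Prime 2) := ⟨Nat.prime_two⟩
  intro n
  induction n using Nat.strong_induction_on with
  | _ n ih =>
    intro T hTS hn
    obtain ⟨U, hU⟩ := hCI S T (Ne.symm hTS)
    have hDlt : (S : Subgroup G) ⊓ (T : Subgroup G) < (S : Subgroup G) := by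
      refine lt_of_le_of_ne inf_le_left ?_
      intro h
      have h1 : (S : Subgroup G) ≤ (T : Subgroup G) := inf_eq_left.mp h
      exact hTS (Sylow.ext (S.is_maximal' T.isPGroup' h1))
    obtain ⟨x, hxS, hxN, hxD⟩ := exists_mem_normalizer_not_mem S.isPGroup' hDlt
    have hUc : ∀ u ∈ (U : Subgroup G), ∀ d ∈ (S : Subgroup G) ⊓ (T : Subgroup G), u * d = d * u := by
      intro u hu d hd
      exact ((mem_center_map' _ d).mp (hU hd)).2 u hu
    have hUN : (U : Subgroup G) ≤
        Subgroup.normalizer (((S : Subgroup G) ⊓ (T : Subgroup G) : Subgroup G) : Set G) := by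
      refine le_trans ?_ (Subgroup.centralizer_le_normalizer _)
      intro u hu
      rw [Subgroup.mem_centralizer_iff]
      intro d hd
      exact (hUc u hu d hd).symm
    obtain ⟨c, hcN, hcU⟩ := exists_conj_mem_sylow_of_le U _ hUN
      ((S : Subgroup G) ⊓
        Subgroup.normalizer (((S : Subgroup G) ⊓ (T : Subgroup G) : Subgroup G) : Set G))
      (S.isPGroup'.to_le inf_le_left) inf_le_right
    have hxR : ∀ y ∈ (S : Subgroup G), y ∈ Subgroup.normalizer
        (((S : Subgroup G) ⊓ (T : Subgroup G) : Subgroup G) : Set G) →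
        y ∈ ((c⁻¹ • U : Sylow 2 G) : Subgroup G) := by
      intro y hy hyN
      rw [mem_sylow_smul_iff, inv_inv]
      exact hcU y (Subgroup.mem_inf.mpr ⟨hy, hyN⟩)
    have hRc : ∀ r ∈ ((c⁻¹ • U : Sylow 2 G) : Subgroup G),
        ∀ d ∈ (S : Subgroup G) ⊓ (T : Subgroup G), r * d = d * r := by
      intro r hr d hd
      rw [mem_sylow_smul_iff, inv_inv] at hr
      have hd' : c * d * c⁻¹ ∈ (S : Subgroup G) ⊓ (T : Subgroup G) :=
        (Subgroup.mem_normalizer_iff.mp hcN d).mp hd
      have h3 := hUc _ hr _ hd'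
      have e1 : r * d = c⁻¹ * ((c * r * c⁻¹) * (c * d * c⁻¹)) * c := by group
      have e2 : d * r = c⁻¹ * ((c * d * c⁻¹) * (c * r * c⁻¹)) * c := by group
      rw [e1, e2, h3]
    by_cases hRS : (c⁻¹ • U : Sylow 2 G) = S
    · intro d hd
      rw [mem_center_map']
      refine ⟨(Subgroup.mem_inf.mp hd).1, fun s hs => ?_⟩
      rw [← hRS] at hs
      exact hRc s hs d hd
    · have hle : (S : Subgroup G) ⊓ (T : Subgroup G) ≤
          (S : Subgroup G) ⊓ ((c⁻¹ • U : Sylow 2 G) : Subgroup G) := by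
        intro d hd
        exact Subgroup.mem_inf.mpr ⟨(Subgroup.mem_inf.mp hd).1,
          hxR d (Subgroup.mem_inf.mp hd).1 (Subgroup.le_normalizer hd)⟩
      have hxSR : x ∈ (S : Subgroup G) ⊓ ((c⁻¹ • U : Sylow 2 G) : Subgroup G) :=
        Subgroup.mem_inf.mpr ⟨hxS, hxR x hxS hxN⟩
      have hcard : Nat.card ↥((S : Subgroup G) ⊓ (T : Subgroup G)) <
          Nat.card ↥((S : Subgroup G) ⊓ ((c⁻¹ • U : Sylow 2 G) : Subgroup G)) := by
        by_contra hge
        push Not at hge
        have h4 := Subgroup.eq_of_le_of_card_ge hle hge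
        rw [← h4] at hxSR
        exact hxD hxSR
      have hcard2 : Nat.card ↥((S : Subgroup G) ⊓ ((c⁻¹ • U : Sylow 2 G) : Subgroup G)) ≤
          Nat.card (S : Subgroup G) := Subgroup.card_le_of_le inf_le_left
      have h5 := ih _ (by omega) (c⁻¹ • U) hRS rfl
      exact hle.trans h5

/-- Let G be a finite group in which the intersection of any two distinct Sylow 2-subgroups is contained in the centre of some Sylow 2-subgroup, and let S be a Sylow 2-subgroup. Then for every x in S the centralizer of x in S is a Sylow 2-subgroup of the centralizer of x in G (no 2-subgroup centralizing x is larger), and for every other Sylow 2-subgroup T the intersection S ∩ T lies in both the centre of S and the centre of T. -/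
theorem result {G : Type*} [Group G] [Finite G]
    (hCI : ∀ S T : Sylow 2 G, S ≠ T → ∃ U : Sylow 2 G,
      (S : Subgroup G) ⊓ (T : Subgroup G) ≤ (Subgroup.center ↥(U : Subgroup G)).map (U : Subgroup G).subtype)
    (S : Sylow 2 G) :
    (∀ x ∈ (S : Subgroup G), ∀ P : Subgroup G, IsPGroup 2 ↥P → P ≤ Subgroup.centralizer ({x} : Set G) →
        Nat.card ↥P ≤ Nat.card ↥((S : Subgroup G) ⊓ Subgroup.centralizer ({x} : Set G))) ∧
    (∀ T : Sylow 2 G, T ≠ S →
        (S : Subgroup G) ⊓ (T : Subgroup G) ≤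
          (Subgroup.center ↥(S : Subgroup G)).map (S : Subgroup G).subtype ⊓
            (Subgroup.center ↥(T : Subgroup G)).map (T : Subgroup G).subtype) := by
  haveI : Fact (Nat.Prime 2) := ⟨Nat.prime_two⟩
  have K : ∀ S T : Sylow 2 G, T ≠ S → (S : Subgroup G) ⊓ (T : Subgroup G) ≤
      (Subgroup.center ↥(S : Subgroup G)).map (S : Subgroup G).subtype :=
    fun S T h => inter_le_center hCI S _ T h rfl
  constructor
  · intro x hxS P hP hPC
    obtain ⟨Cx, hCx⟩ : ∃ Cx : Subgroup G, Cx = Subgroup.centralizer ({x} : Set G) := ⟨_, rfl⟩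
    rw [← hCx] at hPC ⊢
    have hxC : x ∈ Cx := by
      rw [hCx, Subgroup.mem_centralizer_iff]
      intro h hh; rw [Set.mem_singleton_iff] at hh; rw [hh]
    have hQ₀ : IsPGroup 2 (((S : Subgroup G) ⊓ Cx).subgroupOf Cx) :=
      (S.isPGroup'.to_le inf_le_left).comap_subtype
    obtain ⟨Q, hQ⟩ := hQ₀.exists_le_sylow
    have hP' : IsPGroup 2 (P.subgroupOf Cx) := hP.comap_subtype
    obtain ⟨Q₂, hQ₂⟩ := hP'.exists_le_sylow
    have hcardQ : Nat.card Q₂ = Nat.card Q := by
      rw [Sylow.card_eq_multiplicity, Sylow.card_eq_multiplicity]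
    have hc1 : Nat.card P = Nat.card (P.subgroupOf Cx) :=
      (Nat.card_congr (Subgroup.subgroupOfEquivOfLe hPC).toEquiv).symm
    have hc2 : Nat.card (P.subgroupOf Cx) ≤ Nat.card Q₂ := Subgroup.card_le_of_le hQ₂
    have hQ' : (Q : Subgroup Cx).map Cx.subtype ≤ (S : Subgroup G) ⊓ Cx := by
      have hQ'p : IsPGroup 2 ((Q : Subgroup Cx).map Cx.subtype) := Q.isPGroup'.map _
      obtain ⟨T, hT⟩ := hQ'p.exists_le_sylow
      have hmemQ' : ∀ s ∈ (S : Subgroup G) ⊓ Cx, s ∈ (Q : Subgroup Cx).map Cx.subtype := by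
        intro s hs
        exact ⟨⟨s, (Subgroup.mem_inf.mp hs).2⟩, hQ (Subgroup.mem_subgroupOf.mpr hs), rfl⟩
      have hQ'C : (Q : Subgroup Cx).map Cx.subtype ≤ Cx := by
        rintro _ ⟨q, -, rfl⟩; exact q.2
      by_cases hTS : T = S
      · rw [hTS] at hT
        exact le_inf hT hQ'C
      · exfalso
        have hxT : x ∈ (T : Subgroup G) := hT (hmemQ' x (Subgroup.mem_inf.mpr ⟨hxS, hxC⟩))
        have hxZ := K S T hTS (Subgroup.mem_inf.mpr ⟨hxS, hxT⟩)
        rw [mem_center_map'] at hxZ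
        have hSC : (S : Subgroup G) ≤ Cx := by
          intro s hs
          rw [hCx, Subgroup.mem_centralizer_iff]
          intro h hh; rw [Set.mem_singleton_iff] at hh; rw [hh]
          exact (hxZ.2 s hs).symm
        have hST : (S : Subgroup G) ≤ (T : Subgroup G) := by
          intro s hs
          exact hT (hmemQ' s (Subgroup.mem_inf.mpr ⟨hs, hSC hs⟩))
        exact hTS (Sylow.ext (S.is_maximal' T.isPGroup' hST))
    have hc3 : Nat.card Q ≤ Nat.card ↥((S : Subgroup G) ⊓ Cx) := by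
      have h6 := Subgroup.card_le_of_le hQ'
      rwa [Subgroup.card_map_of_injective (Subgroup.subtype_injective _)] at h6
    omega
  · intro T hTS
    apply le_inf (K S T hTS)
    have h7 := K T S (Ne.symm hTS)
    rwa [inf_comm] at h7

end Cfsg.Agent.S3183
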