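import Cfsg.Statements.S3190
import Mathlib
import Cfsg.Agent.Lib.Helper5.Replacement
import Cfsg.Agent.Lib.Helper4.AxB
import Cfsg.Agent.Lib.Lead.Nilpotent
import Cfsg.Agent.S3183

set_option autoImplicit false
open Cfsg Cfsg.Agent.Lib.Helper5 commutatorElement

namespace Cfsg.Agent.S3190

/-- Let p be an odd prime and, inside a finite group, let P be a p-subgroup normalized by a Klein four-group T. Let R be a subgroup of P, normal in P and normalized by T, such that P is the product of R with the centralizer of T in P. If T centralizes the centre of P, then T centralizes the centre of R. -/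
theorem result {X : Type*} [Group X] [Finite X]
    {p : ℕ} (hp : p.Prime) (hodd : Odd p) (P T R : Subgroup X) (hP : IsPGroup p ↥P) (hT : IsKleinFour ↥T)
    (hTP : T ≤ Subgroup.normalizer (P : Set X)) (hRP : R ≤ P) (hRn : (R.subgroupOf P).Normal)
    (hTR : T ≤ Subgroup.normalizer (R : Set X)) (hfac : R ⊔ (P ⊓ Subgroup.centralizer (T : Set X)) = P)
    (hZ : T ≤ Subgroup.centralizer (((Subgroup.center ↥P).map P.subtype : Subgroup X) : Set X)) :
    T ≤ Subgroup.centralizer (((Subgroup.center ↥R).map R.subtype : Subgroup X) : Set X) := by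
  haveI : Fact p.Prime := ⟨hp⟩
  obtain ⟨ZR, hZR⟩ : ∃ ZR : Subgroup X, ZR = (Subgroup.center ↥R).map R.subtype := ⟨_, rfl⟩
  rw [← hZR]
  have hmemZR : ∀ z, z ∈ ZR ↔ z ∈ R ∧ ∀ u ∈ R, u * z = z * u := by
    intro z; rw [hZR]; exact Cfsg.Agent.S3183.mem_center_map' R z
  have hPR : ∀ g ∈ P, ∀ r ∈ R, g * r * g⁻¹ ∈ R := by
    intro g hg r hr
    have h1 := hRn.conj_mem ⟨r, hRP hr⟩ (Subgroup.mem_subgroupOf.mpr hr) ⟨g, hg⟩
    exact Subgroup.mem_subgroupOf.mp h1
  have hPR' : ∀ g ∈ P, ∀ r ∈ R, g⁻¹ * r * g ∈ R := by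
    intro g hg r hr
    have h1 := hPR g⁻¹ (inv_mem hg) r hr
    rwa [inv_inv] at h1
  have hnormZ : ∀ g : X, (∀ r ∈ R, g * r * g⁻¹ ∈ R) → (∀ r ∈ R, g⁻¹ * r * g ∈ R) →
      ∀ z ∈ ZR, g * z * g⁻¹ ∈ ZR := by
    intro g hg hg' z hz
    rw [hmemZR] at hz ⊢
    refine ⟨hg z hz.1, ?_⟩
    intro u hu
    have h1 := hz.2 (g⁻¹ * u * g) (hg' u hu)
    have e1 : u * (g * z * g⁻¹) = g * (g⁻¹ * u * g * z) * g⁻¹ := by group
    have e2 : g * z * g⁻¹ * u = g * (z * (g⁻¹ * u * g)) * g⁻¹ := by group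
    rw [e1, e2, h1]
  have hTZ : T ≤ Subgroup.normalizer (ZR : Set X) := by
    intro t ht
    have h1 : ∀ r ∈ R, t * r * t⁻¹ ∈ R :=
      fun r hr => (Subgroup.mem_normalizer_iff.mp (hTR ht) r).mp hr
    have h2 : ∀ r ∈ R, t⁻¹ * r * t ∈ R := by
      intro r hr
      have h3 := (Subgroup.mem_normalizer_iff.mp (inv_mem (hTR ht)) r).mp hr
      rwa [inv_inv] at h3
    exact mem_normalizer_of_forall_conj_mem ZR t (hnormZ t h1 h2)
  have hZRcomm : ∀ a ∈ ZR, ∀ b ∈ ZR, a * b = b * a := by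
    intro a ha b hb
    rw [hmemZR] at ha hb
    exact hb.2 a ha.1
  have hcard : Nat.card T = 4 := hT.card_four
  have hcop : ∀ v ∈ ZR, v ^ Nat.card T = 1 → v = 1 := by
    intro v hv hv4
    rw [hcard] at hv4
    have hvP : v ∈ P := hRP ((hmemZR v).mp hv).1
    obtain ⟨k, hk⟩ := hP ⟨v, hvP⟩
    have hk' : v ^ p ^ k = 1 := by
      have h1 := congrArg Subtype.val hk
      simpa using h1
    have h2p : Nat.Coprime 2 p := by
      rw [Nat.coprime_primes Nat.prime_two hp]
      rintro rfl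
      exact absurd hodd (by decide)
    have hc : Nat.Coprime 4 (p ^ k) := by
      have h1 : Nat.Coprime (2 ^ 2) (p ^ k) := Nat.Coprime.pow 2 k h2p
      simpa using h1
    have h1 : v ^ Nat.gcd 4 (p ^ k) = 1 := pow_gcd_eq_one.mpr ⟨hv4, hk'⟩
    rw [Nat.Coprime.gcd_eq_one hc, pow_one] at h1
    exact h1
  have hbot := Cfsg.Agent.Lib.Helper4.comm_inf_centralizer_eq_bot T ZR hTZ hZRcomm hcop
  obtain ⟨W, hW⟩ : ∃ W : Subgroup X, W = ⁅ZR, T⁆ := ⟨_, rfl⟩
  rw [← hW] at hbot
  have hWZ : W ≤ ZR := by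
    rw [hW, Subgroup.commutator_le]
    intro z hz t ht
    rw [commutatorElement_def]
    have h1 : t * z⁻¹ * t⁻¹ ∈ ZR := (Subgroup.mem_normalizer_iff.mp (hTZ ht) _).mp (inv_mem hz)
    have e : z * t * z⁻¹ * t⁻¹ = z * (t * z⁻¹ * t⁻¹) := by group
    rw [e]; exact mul_mem hz h1
  have hRN : R ≤ Subgroup.normalizer (W : Set X) := by
    intro r hr
    apply mem_normalizer_of_forall_conj_mem
    intro w hw
    have h1 := ((hmemZR w).mp (hWZ hw)).2 r hr
    have e : r * w * r⁻¹ = w := by rw [h1]; group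
    rw [e]; exact hw
  have hCN : P ⊓ Subgroup.centralizer (T : Set X) ≤ Subgroup.normalizer (W : Set X) := by
    intro c hc
    obtain ⟨hcP, hcT⟩ := hc
    apply mem_normalizer_of_forall_conj_mem
    have hle : ⁅ZR, T⁆ ≤ W.comap (MulAut.conj c).toMonoidHom := by
      rw [Subgroup.commutator_le]
      intro z hz t ht
      rw [Subgroup.mem_comap]
      show c * ⁅z, t⁆ * c⁻¹ ∈ W
      have hct : c * t * c⁻¹ = t := by
        have h1 := Subgroup.mem_centralizer_iff.mp hcT t ht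
        rw [← h1]; group
      have e : c * ⁅z, t⁆ * c⁻¹ = ⁅c * z * c⁻¹, c * t * c⁻¹⁆ := by
        rw [commutatorElement_def, commutatorElement_def]; group
      rw [e, hct, hW]
      exact Subgroup.commutator_mem_commutator (hnormZ c (hPR c hcP) (hPR' c hcP) z hz) ht
    intro w hw
    have hw' : w ∈ ⁅ZR, T⁆ := by rw [← hW]; exact hw
    exact hle hw'
  have hWP : ∀ g ∈ P, ∀ w ∈ W, g * w * g⁻¹ ∈ W := by
    intro g hg w hw
    have hg' : g ∈ R ⊔ (P ⊓ Subgroup.centralizer (T : Set X)) := by rw [hfac]; exact hg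
    have h1 := (sup_le hRN hCN) hg'
    exact (Subgroup.mem_normalizer_iff.mp h1 w).mp hw
  have hWbot : W = ⊥ := by
    by_contra hne
    haveI : Group.IsNilpotent ↥P := hP.isNilpotent
    haveI hWn : (W.subgroupOf P).Normal := by
      constructor
      intro n hn g
      rw [Subgroup.mem_subgroupOf] at hn ⊢
      exact hWP g g.2 n hn
    have hWP' : W ≤ P := hWZ.trans (fun z hz => hRP ((hmemZR z).mp hz).1)
    have hne' : W.subgroupOf P ≠ ⊥ := by
      intro h
      apply hne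
      rw [Subgroup.subgroupOf_eq_bot] at h
      exact le_bot_iff.mp (h le_rfl hWP')
    have h1 := Cfsg.Agent.Lib.Lead.normal_inf_center_ne_bot (W.subgroupOf P) hne'
    apply h1
    rw [eq_bot_iff]
    rintro ⟨w, hwP⟩ ⟨hwW, hwZ⟩
    rw [Subgroup.mem_bot]
    apply Subtype.ext
    show w = 1
    have hwW' : w ∈ W := Subgroup.mem_subgroupOf.mp hwW
    have hwZP : w ∈ (Subgroup.center ↥P).map P.subtype := ⟨⟨w, hwP⟩, hwZ, rfl⟩
    have hwT : w ∈ Subgroup.centralizer (T : Set X) := by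
      rw [Subgroup.mem_centralizer_iff]
      intro t ht
      have h2 := Subgroup.mem_centralizer_iff.mp (hZ ht) w hwZP
      exact h2.symm
    have h3 : w ∈ W ⊓ Subgroup.centralizer (T : Set X) := ⟨hwW', hwT⟩
    rw [hbot] at h3
    exact Subgroup.mem_bot.mp h3
  rw [Subgroup.le_centralizer_iff]
  rw [hW] at hWbot
  exact Subgroup.commutator_eq_bot_iff_le_centralizer.mp hWbot

end Cfsg.Agent.S3190
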