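import Cfsg.Statements.S3195
import Cfsg.Agent.S3011

set_option autoImplicit false
open Cfsg

namespace Cfsg.Agent.S3195

open Cfsg.Agent.Lib.Helper2.InvOdd in
theorem result {G : Type*} [Group G] [Finite G]
    (A : Subgroup G) (hA : IsKleinFour ↥A)
    (h : ∀ a ∈ A, a ≠ 1 → ∀ g : G, A ⊓ Subgroup.centralizer ({g * a * g⁻¹} : Set G) ≠ ⊥) :
    A ⊓ Cfsg.pCore 2 G ≠ ⊥ := by
  have hcard : Nat.card A = 4 := hA.card_four
  have hexp : Monoid.exponent A = 2 := hA.exponent_two
  have hsq : ∀ x ∈ A, x ^ 2 = 1 := by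
    intro x hx
    have h1 : (⟨x, hx⟩ : A) ^ 2 = 1 := by rw [← hexp]; exact Monoid.pow_exponent_eq_one _
    have := congrArg Subtype.val h1
    simpa using this
  have hcomm : ∀ x ∈ A, ∀ y ∈ A, x * y = y * x := by
    intro x hx y hy
    have h1 := mul_comm_of_exponent_two hexp (⟨x, hx⟩ : A) ⟨y, hy⟩
    exact congrArg Subtype.val h1
  have hEA : Cfsg.IsElementaryAbelian 2 A :=
    ⟨⟨⟨fun a b => Subtype.ext (hcomm a.1 a.2 b.1 b.2)⟩⟩, hsq⟩
  have hne : A ≠ ⊥ := by
    intro e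
    rw [e, Subgroup.card_bot] at hcard
    omega
  obtain ⟨w₀, hw₀, hw₀1⟩ : ∃ w ∈ A, w ≠ 1 := by
    by_contra hcon
    push_neg at hcon
    exact hne ((Subgroup.eq_bot_iff_forall A).mpr hcon)
  have hSid : Cfsg.IsSidkiPair A := by
    intro x v hv hodd hinv
    by_cases hv1 : v = 1
    · rw [hv1] at hinv
      have hx1 : x = 1 := by
        apply eq_one_of_odd_of_inv_eq hodd
        rw [← hinv]; group
      exact ⟨w₀, hw₀, hw₀1, by rw [hx1, mul_one, one_mul]⟩
    · have hcen := h v hv hv1 x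
      obtain ⟨w, hw, hw1⟩ : ∃ w ∈ A ⊓ Subgroup.centralizer ({x * v * x⁻¹} : Set G), w ≠ 1 := by
        by_contra hcon
        push_neg at hcon
        exact hcen ((Subgroup.eq_bot_iff_forall _).mpr hcon)
      refine ⟨w, hw.1, hw1, ?_⟩
      have hwc : (x * v * x⁻¹) * w = w * (x * v * x⁻¹) :=
        Subgroup.mem_centralizer_iff.mp hw.2 _ rfl
      have hwv : Commute w v := hcomm w hw.1 v hv
      have hvv : v * v = 1 := by rw [← pow_two]; exact hsq v hv
      have hvinv : v⁻¹ = v := inv_eq_of_mul_eq_one_left hvv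
      -- x * x = (x v x⁻¹)⁻¹ * v
      have hx2 : x * x = (x * v * x⁻¹)⁻¹ * v := by
        have e1 : (x * v * x⁻¹)⁻¹ * v = x * (v * x * v⁻¹)⁻¹ := by
          rw [hvinv]
          have : (x * v * x⁻¹)⁻¹ * v = x * v⁻¹ * x⁻¹ * v := by group
          rw [this, hvinv]
          have : (v * x * v)⁻¹ = v⁻¹ * x⁻¹ * v⁻¹ := by group
          rw [this, hvinv]; group
        rw [e1, hinv, inv_inv]
      have hc1 : Commute w ((x * v * x⁻¹)⁻¹) := (show Commute w (x * v * x⁻¹) from hwc.symm).inv_right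
      have hc2 : Commute w (x * x) := by rw [hx2]; exact hc1.mul_right hwv
      have hc3 : Commute (x ^ 2) w := by rw [pow_two]; exact hc2.symm
      exact (commute_of_sq_commute hodd hc3).symm.eq
  exact Cfsg.Agent.S3011.result A hEA hne hSid (le_of_eq hcard)

end Cfsg.Agent.S3195
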