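import Cfsg.Statements.S3247
import Cfsg.Agent.Lib.Helper2.Comp22

set_option autoImplicit false
open Cfsg

namespace Cfsg.Agent.S3247

open Cfsg.Agent.Lib.Helper2.Comp in
theorem result {G : Type*} [Group G] [Finite G] (p : ℕ) [hp : Fact p.Prime]
    (h : (∀ M : Subgroup G, (∃ T : Subgroup G, IsPGroup p ↥T ∧ T ≠ ⊥ ∧ M = Subgroup.normalizer (T : Set G)) → M ≠ ⊤ →
        (∀ M' : Subgroup G, (∃ T' : Subgroup G, IsPGroup p ↥T' ∧ T' ≠ ⊥ ∧ M' = Subgroup.normalizer (T' : Set G)) → M' ≠ ⊤ → M ≤ M' → M = M') →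
        Cfsg.IsPConstrained p ↥M) ∨
      (∀ x : G, orderOf x = p → Cfsg.IsPConstrained p ↥(Subgroup.centralizer ({x} : Set G))))
    (T : Subgroup G) (hT : IsPGroup p ↥T) (hT1 : T ≠ ⊥) (hTG : Subgroup.normalizer (T : Set G) ≠ ⊤) :
    Cfsg.IsPConstrained p ↥(Subgroup.normalizer (T : Set G)) := by
  obtain ⟨N, hNdef⟩ : ∃ N, N = Subgroup.normalizer (T : Set G) := ⟨_, rfl⟩
  rw [← hNdef] at hTG ⊢
  have hTN : T ≤ N := by rw [hNdef]; exact Subgroup.le_normalizer
  apply (isPConstrained_iff_pLayer p).mpr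
  rcases h with h | h
  · obtain ⟨M, hM⟩ := (Set.toFinite {M : Subgroup G | (∃ T' : Subgroup G, IsPGroup p ↥T' ∧ T' ≠ ⊥ ∧
        M = Subgroup.normalizer (T' : Set G)) ∧ M ≠ ⊤ ∧ N ≤ M}).exists_maximal
        ⟨N, ⟨T, hT, hT1, hNdef⟩, hTG, le_rfl⟩
    have hMc : IsPConstrained p ↥M :=
      h M hM.1.1 hM.1.2.1 (fun M' hM' hM'top hle =>
        le_antisymm hle (hM.2 ⟨hM', hM'top, hM.1.2.2.trans hle⟩ hle))
    have hNM : N ≤ M := hM.1.2.2
    have hTM : T ≤ M := hTN.trans hNM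
    have h1 : pLayer p ↥(Subgroup.normalizer ((T.subgroupOf M : Subgroup ↥M) : Set ↥M)) = ⊥ :=
      pLayer_eq_bot_of_local (p := p) ((isPConstrained_iff_pLayer p).mp hMc)
        (P := T.subgroupOf M) (hT.comap_subtype) le_rfl
        (Subgroup.centralizer_le_normalizer _) (Or.inl Subgroup.le_normalizer)
    rw [← Subgroup.subgroupOf_normalizer_eq hTM, ← hNdef] at h1
    exact pLayer_eq_bot_of_mulEquiv p (Subgroup.subgroupOfEquivOfLe hNM) h1
  · have hnt : Nontrivial ↥T := (Subgroup.nontrivial_iff_ne_bot T).mpr hT1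
    have hcn : Nontrivial ↥(Subgroup.center ↥T) := hT.center_nontrivial
    have hpc : p ∣ Nat.card ↥(Subgroup.center ↥T) := by
      have hpg : IsPGroup p ↥(Subgroup.center ↥T) := hT.to_subgroup _
      obtain ⟨k, hk⟩ := IsPGroup.iff_card.mp hpg
      rw [hk]
      have hk0 : k ≠ 0 := by
        rintro rfl
        rw [pow_zero] at hk
        have := Finite.one_lt_card (α := ↥(Subgroup.center ↥T))
        omega
      exact dvd_pow_self p hk0
    obtain ⟨z, hz⟩ := exists_prime_orderOf_dvd_card' p hpc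
    obtain ⟨x, hxdef⟩ : ∃ x : G, x = ((z : ↥T) : G) := ⟨_, rfl⟩
    have hox : orderOf x = p := by
      rw [hxdef, Subgroup.orderOf_coe, Subgroup.orderOf_coe, hz]
    have hxT : x ∈ T := by rw [hxdef]; exact (z : ↥T).2
    have hxc : ∀ t ∈ T, t * x = x * t := by
      intro t ht
      have h0 := Subgroup.mem_center_iff.mp z.2 ⟨t, ht⟩
      have h1 := congrArg Subtype.val h0
      rw [hxdef]
      exact h1
    obtain ⟨X, hXdef⟩ : ∃ X, X = Subgroup.centralizer ({x} : Set G) := ⟨_, rfl⟩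
    have hXc : IsPConstrained p ↥X := by rw [hXdef]; exact h x hox
    have hTX : T ≤ X := by
      intro t ht
      rw [hXdef, Subgroup.mem_centralizer_singleton_iff]
      exact hxc t ht
    have h1 : pLayer p ↥(Subgroup.normalizer ((T.subgroupOf X : Subgroup ↥X) : Set ↥X)) = ⊥ :=
      pLayer_eq_bot_of_local (p := p) ((isPConstrained_iff_pLayer p).mp hXc)
        (P := T.subgroupOf X) (hT.comap_subtype) le_rfl
        (Subgroup.centralizer_le_normalizer _) (Or.inl Subgroup.le_normalizer)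
    rw [← Subgroup.subgroupOf_normalizer_eq hTX, ← hNdef, ← Subgroup.inf_subgroupOf_right] at h1
    have h2 : pLayer p ↥(N ⊓ X) = ⊥ :=
      pLayer_eq_bot_of_mulEquiv p (Subgroup.subgroupOfEquivOfLe inf_le_right) h1
    have h3 : pLayer p ↥((N ⊓ X).subgroupOf N) = ⊥ :=
      pLayer_eq_bot_of_mulEquiv p (Subgroup.subgroupOfEquivOfLe inf_le_left).symm h2
    have hTn : (T.subgroupOf N).Normal := by rw [hNdef]; exact Subgroup.normal_in_normalizer
    have eq2 : Subgroup.centralizer ({(⟨x, hTN hxT⟩ : ↥N)} : Set ↥N) = (N ⊓ X).subgroupOf N := by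
      ext y
      rw [Subgroup.mem_centralizer_singleton_iff, Subgroup.mem_subgroupOf, Subgroup.mem_inf,
        hXdef, Subgroup.mem_centralizer_singleton_iff, Subtype.ext_iff]
      constructor
      · intro hy
        exact ⟨y.2, hy⟩
      · intro hy
        exact hy.2
    rw [← eq2] at h3
    exact pLayer_eq_bot_of_centralizer p hTn (hT.comap_subtype) (x := ⟨x, hTN hxT⟩)
      (Subgroup.mem_subgroupOf.mpr hxT) h3

end Cfsg.Agent.S3247
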