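import Cfsg.Statements.S3494
import Mathlib

set_option autoImplicit false
open Cfsg

namespace Cfsg.Agent.S3494

open MulAction Pointwise

theorem subdeg_eq {G : Type*} [Group G] {Ω : Type*} [MulAction G Ω] (x y : Ω) :
    (orbit (stabilizer G x) y).ncard = (stabilizer G y).relIndex (stabilizer G x) := by
  rw [← MulAction.index_stabilizer (stabilizer G x) y]
  have h : stabilizer (↥(stabilizer G x)) y = (stabilizer G y).subgroupOf (stabilizer G x) := by
    ext s
    rw [Subgroup.mem_subgroupOf, mem_stabilizer_iff, mem_stabilizer_iff]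
    rfl
  rw [h]
  rfl

theorem subdeg_symm {G : Type*} [Group G] [Finite G] {Ω : Type*} [Finite Ω] [MulAction G Ω]
    [IsPretransitive G Ω] (x y : Ω) :
    (orbit (stabilizer G x) y).ncard = (orbit (stabilizer G y) x).ncard := by
  rw [subdeg_eq, subdeg_eq]
  have h1 := Subgroup.relIndex_mul_index
    (inf_le_left : stabilizer G x ⊓ stabilizer G y ≤ stabilizer G x)
  have h2 := Subgroup.relIndex_mul_index
    (inf_le_right : stabilizer G x ⊓ stabilizer G y ≤ stabilizer G y)
  rw [Subgroup.inf_relIndex_left] at h1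
  rw [Subgroup.inf_relIndex_right] at h2
  rw [MulAction.index_stabilizer_of_transitive] at h1 h2
  have hpos : 0 < Nat.card Ω := by
    haveI : Nonempty Ω := ⟨x⟩
    exact Nat.card_pos
  exact Nat.eq_of_mul_eq_mul_right hpos (h1.trans h2.symm)

theorem smul_orbit_sub {G : Type*} [Group G] {Ω : Type*} [MulAction G Ω] (H : Subgroup G)
    (s : G) (hs : s ∈ H) (γ : Ω) : s • (orbit H γ) = orbit H γ := by
  ext x
  rw [Set.mem_smul_set_iff_inv_smul_mem]
  constructor
  · rintro ⟨t, ht⟩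
    refine ⟨⟨s, hs⟩ * t, ?_⟩
    have h1 : (t : G) • γ = s⁻¹ • x := ht
    show (s * (t : G)) • γ = x
    rw [mul_smul, h1, smul_inv_smul]
  · rintro ⟨t, ht⟩
    refine ⟨⟨s, hs⟩⁻¹ * t, ?_⟩
    have h1 : (t : G) • γ = x := ht
    show (s⁻¹ * (t : G)) • γ = s⁻¹ • x
    rw [mul_smul, h1]

theorem stab_not_le {G : Type*} [Group G] [Finite G] {Ω : Type*} [Finite Ω] [MulAction G Ω]
    [FaithfulSMul G Ω] (hprim : IsPreprimitive G Ω) (hH : ∀ α : Ω, stabilizer G α ≠ ⊥)
    (α β : Ω) (hne : β ≠ α) : ¬ stabilizer G β ≤ stabilizer G α := by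
  intro hle
  haveI : Nontrivial Ω := ⟨⟨β, α, hne⟩⟩
  have hcoα : IsCoatom (stabilizer G α) := IsPreprimitive.isCoatom_stabilizer_of_isPreprimitive G α
  have hcoβ : IsCoatom (stabilizer G β) := IsPreprimitive.isCoatom_stabilizer_of_isPreprimitive G β
  have heq : stabilizer G β = stabilizer G α := by
    rcases eq_or_lt_of_le hle with h | h
    · exact h
    · exact absurd (hcoβ.2 _ h) hcoα.1
  obtain ⟨g, hg⟩ := exists_smul_eq G α β
  have hconj : stabilizer G β = (stabilizer G α).map (MulAut.conj g).toMonoidHom := by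
    rw [← hg]; exact stabilizer_smul_eq_stabilizer_map_conj g α
  have hgN : g ∈ Subgroup.normalizer (stabilizer G α : Set G) := by
    rw [Subgroup.mem_normalizer_iff]
    intro h
    constructor
    · intro hh
      have h1 : g * h * g⁻¹ ∈ stabilizer G β := by rw [hconj]; exact ⟨h, hh, rfl⟩
      rw [heq] at h1; exact h1
    · intro hh
      rw [← heq, hconj] at hh
      obtain ⟨h', hh', he⟩ := hh
      have h2 : g * h' * g⁻¹ = g * h * g⁻¹ := he
      have h3 : h' = h := by
        have e1 : h' = g⁻¹ * (g * h' * g⁻¹) * g := by group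
        rw [e1, h2]; group
      rw [← h3]; exact hh'
  have hN : Subgroup.normalizer (stabilizer G α : Set G) = stabilizer G α := by
    rcases eq_or_lt_of_le (Subgroup.le_normalizer (H := stabilizer G α)) with h | h
    · exact h.symm
    · exfalso
      have htop := hcoα.2 _ h
      have hnorm : (stabilizer G α).Normal := Subgroup.normalizer_eq_top_iff.mp htop
      apply hH α
      rw [eq_bot_iff]
      intro s hs
      rw [Subgroup.mem_bot]
      apply FaithfulSMul.eq_of_smul_eq_smul (α := Ω)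
      intro x
      rw [one_smul]
      obtain ⟨t, ht⟩ := exists_smul_eq G α x
      have h1 : t⁻¹ * s * t ∈ stabilizer G α := by
        have h2 := hnorm.conj_mem s hs t⁻¹
        simpa using h2
      rw [← ht]
      have h2 : s • t • α = t • ((t⁻¹ * s * t) • α) := by
        rw [smul_smul, smul_smul]; congr 1; group
      rw [h2, mem_stabilizer_iff.mp h1]
  rw [hN] at hgN
  apply hne
  rw [← hg]; exact mem_stabilizer_iff.mp hgN

theorem orbit_lt {G : Type*} [Group G] [Finite G] {Ω : Type*} [Finite Ω] [MulAction G Ω]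
    [FaithfulSMul G Ω] (hprim : IsPreprimitive G Ω) (hH : ∀ α : Ω, stabilizer G α ≠ ⊥)
    (hep : ∀ (α ω : Ω), IsPreprimitive (stabilizer G α) (orbit (stabilizer G α) ω))
    (α : Ω) (K : Subgroup G) (hKα : K ≤ stabilizer G α)
    (hKn : ∀ s ∈ stabilizer G α, ∀ k ∈ K, s * k * s⁻¹ ∈ K)
    (β : Ω) (hβ : β ≠ α) (hKβ : ∀ k ∈ K, k • β = β)
    (γ : Ω) (hγ : ∃ k ∈ K, k • γ ≠ γ) :
    (orbit (stabilizer G α) γ).ncard < (orbit (stabilizer G β) γ).ncard := by
  classical
  have hP : ∀ x ∈ orbit (stabilizer G α) γ, ∃ k ∈ K, k • γ = x := by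
    intro x hx
    haveI := hep α γ
    haveI hNn : (K.subgroupOf (stabilizer G α)).Normal := by
      constructor
      intro n hn s
      rw [Subgroup.mem_subgroupOf] at hn ⊢
      exact hKn s s.2 n hn
    have hfix : fixedPoints (K.subgroupOf (stabilizer G α)) (orbit (stabilizer G α) γ) ≠
        Set.univ := by
      intro h
      obtain ⟨k, hk, hkγ⟩ := hγ
      have h1 : (⟨γ, mem_orbit_self γ⟩ : orbit (stabilizer G α) γ) ∈
          fixedPoints (K.subgroupOf (stabilizer G α)) (orbit (stabilizer G α) γ) := by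
        rw [h]; trivial
      have h2 := h1 ⟨⟨k, hKα hk⟩, by rw [Subgroup.mem_subgroupOf]; exact hk⟩
      apply hkγ
      exact congrArg Subtype.val h2
    haveI := IsQuasiPreprimitive.isPretransitive_of_normal (G := stabilizer G α)
      (X := orbit (stabilizer G α) γ) (N := K.subgroupOf (stabilizer G α)) hfix
    obtain ⟨n, hn⟩ := exists_smul_eq (K.subgroupOf (stabilizer G α))
      (⟨γ, mem_orbit_self γ⟩ : orbit (stabilizer G α) γ) ⟨x, hx⟩
    refine ⟨((n : stabilizer G α) : G), Subgroup.mem_subgroupOf.mp n.2, ?_⟩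
    exact congrArg Subtype.val hn
  have hsub : orbit (stabilizer G α) γ ⊆ orbit (stabilizer G β) γ := by
    intro x hx
    obtain ⟨k, hk, hkx⟩ := hP x hx
    exact ⟨⟨k, hKβ k hk⟩, hkx⟩
  by_contra hlt
  push_neg at hlt
  have heq : orbit (stabilizer G α) γ = orbit (stabilizer G β) γ :=
    Set.eq_of_subset_of_ncard_le hsub hlt (Set.toFinite _)
  haveI : Nontrivial Ω := ⟨⟨β, α, hβ⟩⟩
  have hcoα : IsCoatom (stabilizer G α) := IsPreprimitive.isCoatom_stabilizer_of_isPreprimitive G α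
  obtain ⟨Sg, hSg⟩ : ∃ S : Set Ω, S = orbit (stabilizer G α) γ := ⟨_, rfl⟩
  have hα : stabilizer G α ≤ stabilizer G Sg := by
    intro s hs
    rw [mem_stabilizer_iff, hSg]
    exact smul_orbit_sub _ s hs γ
  have hβ' : stabilizer G β ≤ stabilizer G Sg := by
    intro s hs
    rw [mem_stabilizer_iff, hSg, heq]
    exact smul_orbit_sub _ s hs γ
  rcases eq_or_lt_of_le hα with h | h
  · exact stab_not_le hprim hH α β hβ (by rw [h]; exact hβ')
  · have htop := hcoα.2 _ h
    obtain ⟨g, hg⟩ := exists_smul_eq G γ α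
    have hgS : g ∈ stabilizer G Sg := by rw [htop]; trivial
    have hαS : α ∈ Sg := by
      have h1 : g • γ ∈ g • Sg := Set.smul_mem_smul_set (by rw [hSg]; exact mem_orbit_self γ)
      rw [mem_stabilizer_iff.mp hgS, hg] at h1; exact h1
    rw [hSg] at hαS
    obtain ⟨s, hs⟩ := hαS
    have hγα : γ = α := by
      have h2 : (s : G) • γ = α := hs
      have h3 : (s : G)⁻¹ • α = α := by
        rw [inv_smul_eq_iff]; exact (mem_stabilizer_iff.mp s.2).symm
      calc γ = (s : G)⁻¹ • ((s : G) • γ) := (inv_smul_smul _ _).symm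
        _ = (s : G)⁻¹ • α := by rw [h2]
        _ = α := h3
    obtain ⟨k, hk, hkγ⟩ := hγ
    apply hkγ; rw [hγα]; exact mem_stabilizer_iff.mp (hKα hk)

theorem manning_core {G : Type*} [Group G] [Finite G] {Ω : Type*} [Finite Ω] [MulAction G Ω]
    [FaithfulSMul G Ω] (hprim : IsPreprimitive G Ω) (hH : ∀ α : Ω, stabilizer G α ≠ ⊥)
    (hep : ∀ (α ω : Ω), IsPreprimitive (stabilizer G α) (orbit (stabilizer G α) ω))
    (α : Ω) (K : Subgroup G) (hKα : K ≤ stabilizer G α)
    (hKn : ∀ s ∈ stabilizer G α, ∀ k ∈ K, s * k * s⁻¹ ∈ K)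
    (β : Ω) (hβ : β ≠ α) (hKβ : ∀ k ∈ K, k • β = β)
    (γ₀ : Ω) (hγ₀ : ∃ k ∈ K, k • γ₀ ≠ γ₀) : False := by
  classical
  haveI : IsPretransitive G Ω := hprim.toIsPretransitive
  -- the fixed-point relation of the conjugates of K
  obtain ⟨Fx, hFx⟩ : ∃ Fx : G → Ω → Prop,
      ∀ g x, Fx g x ↔ ∀ k ∈ K, k • (g⁻¹ • x) = g⁻¹ • x := ⟨_, fun _ _ => Iff.rfl⟩
  -- well-definedness
  have hwd : ∀ g g' : G, ∀ x : Ω, g • α = g' • α → Fx g x → Fx g' x := by
    intro g g' x hgg hx
    rw [hFx] at hx ⊢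
    intro k hk
    have hs : g⁻¹ * g' ∈ stabilizer G α := by
      rw [mem_stabilizer_iff, mul_smul, ← hgg, inv_smul_smul]
    have h1 := hKn _ hs k hk
    have h2 := hx _ h1
    have e1 : g'⁻¹ • x = (g⁻¹ * g')⁻¹ • (g⁻¹ • x) := by
      rw [smul_smul]; congr 1; group
    rw [e1]
    have e2 : k • (g⁻¹ * g')⁻¹ • g⁻¹ • x =
        (g⁻¹ * g')⁻¹ • ((g⁻¹ * g' * k * (g⁻¹ * g')⁻¹) • (g⁻¹ • x)) := by
      simp only [smul_smul]; congr 1; group
    rw [e2, h2]
  -- conjugates of K
  have hlt : ∀ (g : G) (y γ : Ω), Fx g y → y ≠ g • α → ¬ Fx g γ →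
      (orbit (stabilizer G (g • α)) γ).ncard < (orbit (stabilizer G y) γ).ncard := by
    intro g y γ hy hyne hγ
    rw [hFx] at hy hγ
    have hmem : ∀ k' ∈ K.map (MulAut.conj g).toMonoidHom, ∃ k ∈ K, k' = g * k * g⁻¹ := by
      intro k' hk'
      obtain ⟨k, hk, rfl⟩ := hk'
      exact ⟨k, hk, rfl⟩
    apply orbit_lt hprim hH hep (g • α) (K.map (MulAut.conj g).toMonoidHom)
    · intro k' hk'
      obtain ⟨k, hk, rfl⟩ := hmem k' hk'
      rw [mem_stabilizer_iff, smul_smul]
      have e : g * k * g⁻¹ * g = g * k := by group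
      rw [e, mul_smul, mem_stabilizer_iff.mp (hKα hk)]
    · intro s hs k' hk'
      obtain ⟨k, hk, rfl⟩ := hmem k' hk'
      have hs' : g⁻¹ * s * g ∈ stabilizer G α := by
        rw [mem_stabilizer_iff] at hs ⊢
        rw [mul_smul, mul_smul, hs, inv_smul_smul]
      refine ⟨(g⁻¹ * s * g) * k * (g⁻¹ * s * g)⁻¹, hKn _ hs' k hk, ?_⟩
      show g * ((g⁻¹ * s * g) * k * (g⁻¹ * s * g)⁻¹) * g⁻¹ = s * (g * k * g⁻¹) * s⁻¹
      group
    · exact hyne
    · intro k' hk'
      obtain ⟨k, hk, rfl⟩ := hmem k' hk'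
      have h1 := hy k hk
      have e : (g * k * g⁻¹) • y = g • (k • (g⁻¹ • y)) := by
        rw [smul_smul, smul_smul]
      rw [e, h1, smul_inv_smul]
    · by_contra hcon
      push_neg at hcon
      apply hγ
      intro k hk
      have h1 := hcon (g * k * g⁻¹) ⟨k, hk, rfl⟩
      have e : k • (g⁻¹ • γ) = g⁻¹ • ((g * k * g⁻¹) • γ) := by
        rw [smul_smul, smul_smul]; congr 1; group
      rw [e, h1]
  -- a maximal moved pair
  have hS0 : ¬ Fx 1 γ₀ := by
    rw [hFx]
    intro h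
    obtain ⟨k, hk, hkγ⟩ := hγ₀
    apply hkγ
    have h1 := h k hk
    rw [inv_one, one_smul] at h1
    exact h1
  obtain ⟨⟨g, γ⟩, hmem, hmax⟩ := Set.exists_max_image {p : G × Ω | ¬ Fx p.1 p.2}
    (fun p => (orbit (stabilizer G (p.1 • α)) p.2).ncard) (Set.toFinite _) ⟨(1, γ₀), hS0⟩
  have hgγ : ¬ Fx g γ := hmem
  obtain ⟨t, ht⟩ := exists_smul_eq G α γ
  have hFα : ∀ s : G, Fx s (s • α) := by
    intro s
    rw [hFx]
    intro k hk
    rw [inv_smul_smul]; exact mem_stabilizer_iff.mp (hKα hk)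
  have hδγ : g • α ≠ γ := by
    intro h
    apply hgγ
    rw [← h]; exact hFα g
  -- step 5
  have h5 : ∀ y, Fx g y → y ≠ g • α → Fx t y := by
    intro y hy hyδ
    have h1 := hlt g y γ hy hyδ hgγ
    by_contra hty
    have h2 : (orbit (stabilizer G (t • α)) y).ncard ≤ (orbit (stabilizer G (g • α)) γ).ncard :=
      hmax (t, y) hty
    rw [ht, subdeg_symm γ y] at h2
    omega
  -- fixed point sets
  obtain ⟨Fs, hFs⟩ : ∃ Fs : G → Set Ω, ∀ s x, x ∈ Fs s ↔ Fx s x := ⟨fun s => {x | Fx s x}, fun _ _ => Iff.rfl⟩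
  have hFs_eq : ∀ s s' : G, s • α = s' • α → Fs s = Fs s' := by
    intro s s' h
    ext x
    rw [hFs, hFs]
    exact ⟨hwd s s' x h, hwd s' s x h.symm⟩
  have hFs_smul : ∀ h s : G, Fs (h * s) = h • Fs s := by
    intro h s
    ext x
    rw [Set.mem_smul_set_iff_inv_smul_mem, hFs, hFs, hFx, hFx]
    have e : (h * s)⁻¹ • x = s⁻¹ • h⁻¹ • x := by rw [smul_smul]; congr 1; group
    rw [e]
  have hFs_card : ∀ s : G, (Fs s).ncard = (Fs 1).ncard := by
    intro s
    have h1 := hFs_smul s 1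
    rw [mul_one] at h1
    rw [h1]
    exact Set.ncard_image_of_injective _ (MulAction.injective s)
  obtain ⟨C, hC⟩ : ∃ C : Set Ω, C = Fs g \ {g • α} := ⟨_, rfl⟩
  have hγC : γ ∉ C := by
    rw [hC]; intro h; exact hgγ ((hFs g γ).mp h.1)
  have hFt : insert γ C = Fs t := by
    apply Set.eq_of_subset_of_ncard_le _ _ (Set.toFinite _)
    · intro x hx
      rcases hx with rfl | hx
      · rw [hFs, ← ht]; exact hFα t
      · rw [hC] at hx
        rw [hFs]
        exact h5 x ((hFs g x).mp hx.1) hx.2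
    · rw [Set.ncard_insert_of_notMem hγC (Set.toFinite _), hC,
        Set.ncard_diff_singleton_of_mem ((hFs g _).mpr (hFα g)), hFs_card t, hFs_card g]
      have hpos : 0 < (Fs g).ncard :=
        (Set.ncard_pos (Set.toFinite _)).mpr ⟨g • α, (hFs g _).mpr (hFα g)⟩
      rw [hFs_card g] at hpos
      omega
  -- the block
  obtain ⟨E, hE⟩ : ∃ E : Set Ω, ∀ x, x ∈ E ↔ ∀ s : G, s • α = x → Fs s \ {x} = C :=
    ⟨{x | ∀ s : G, s • α = x → Fs s \ {x} = C}, fun _ => Iff.rfl⟩
  have hδE : g • α ∈ E := by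
    rw [hE]
    intro s hs
    rw [hFs_eq s g hs, hC]
  have hγE : γ ∈ E := by
    rw [hE]
    intro s hs
    rw [hFs_eq s t (hs.trans ht.symm), ← hFt]
    ext x
    constructor
    · rintro ⟨hx1, hx2⟩
      rcases hx1 with h | h
      · exact absurd h hx2
      · exact h
    · intro hx
      exact ⟨Or.inr hx, fun h => hγC (h ▸ hx)⟩
  have hstep : ∀ h' : G, h' • C = C → ∀ z ∈ E, h' • z ∈ E := by
    intro h' hh' z hz
    rw [hE] at hz ⊢
    intro s hs
    have h1 : (h'⁻¹ * s) • α = z := by rw [mul_smul, hs, inv_smul_smul]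
    have h2 := hz _ h1
    have h3 : Fs s = h' • Fs (h'⁻¹ * s) := by
      rw [← hFs_smul]; congr 1; group
    rw [h3, ← Set.smul_set_singleton, ← Set.smul_set_sdiff, h2, hh']
  have hblock : IsBlock G E := by
    rw [isBlock_iff_smul_eq_of_mem]
    intro h a ha hha
    obtain ⟨s, hs⟩ := exists_smul_eq G α a
    have h1 := (hE a).mp ha s hs
    have h2 := (hE (h • a)).mp hha (h * s) (by rw [mul_smul, hs])
    have hhC : h • C = C := by
      calc h • C = h • (Fs s \ {a}) := by rw [h1]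
        _ = Fs (h * s) \ {h • a} := by
            rw [Set.smul_set_sdiff, Set.smul_set_singleton, ← hFs_smul]
        _ = C := h2
    have hhC' : h⁻¹ • C = C := by
      conv_lhs => rw [← hhC]
      rw [inv_smul_smul]
    apply Set.Subset.antisymm
    · rintro x ⟨z, hz, rfl⟩
      exact hstep h hhC z hz
    · intro x hx
      rw [Set.mem_smul_set_iff_inv_smul_mem]
      exact hstep h⁻¹ hhC' x hx
  rcases hblock.subsingleton_or_eq_univ with hsub | huniv
  · exact hδγ (hsub hδE hγE)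
  · have hβC : g • β ∈ C := by
      rw [hC]
      refine ⟨?_, ?_⟩
      · rw [hFs, hFx]
        intro k hk
        rw [inv_smul_smul]; exact hKβ k hk
      · intro h
        exact hβ (smul_left_cancel g h)
    have hβE : g • β ∈ E := by rw [huniv]; trivial
    obtain ⟨s, hs⟩ := exists_smul_eq G α (g • β)
    have h1 := (hE _).mp hβE s hs
    rw [← h1] at hβC
    exact hβC.2 rfl

/-- Manning's Theorem on extremely primitive groups. Let a finite group G act faithfully and primitively on a finite set Ω with non-trivial point stabilizers, and suppose every point stabilizer G_α acts primitively on each of its orbits. Then G_α acts faithfully on each of its orbits other than {α}: an element of G_α fixing every point of one such orbit is the identity. -/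
theorem result {G : Type*} [Group G] [Finite G] {Ω : Type*} [Fintype Ω] [MulAction G Ω] [FaithfulSMul G Ω] (hprim : MulAction.IsPreprimitive G Ω) (hH : ∀ α : Ω, MulAction.stabilizer G α ≠ ⊥) (hep : ∀ (α : Ω) (ω : Ω), MulAction.IsPreprimitive (MulAction.stabilizer G α) (MulAction.orbit (MulAction.stabilizer G α) ω))
    (α ω : Ω) (hω : ω ≠ α) (h : MulAction.stabilizer G α) (hfix : ∀ x ∈ MulAction.orbit (MulAction.stabilizer G α) ω, h • x = x) : h = 1 := by
  classical
  by_contra hne1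
  obtain ⟨K, hKdef⟩ : ∃ K : Subgroup G, K = (stabilizer G α) ⊓
      (⨅ x : orbit (stabilizer G α) ω, stabilizer G (x : Ω)) := ⟨_, rfl⟩
  have hKmem : ∀ k : G, k ∈ K ↔ k ∈ stabilizer G α ∧
      ∀ x ∈ orbit (stabilizer G α) ω, k • x = x := by
    intro k
    rw [hKdef, Subgroup.mem_inf, Subgroup.mem_iInf]
    constructor
    · rintro ⟨h1, h2⟩
      exact ⟨h1, fun x hx => mem_stabilizer_iff.mp (h2 ⟨x, hx⟩)⟩
    · rintro ⟨h1, h2⟩
      exact ⟨h1, fun x => mem_stabilizer_iff.mpr (h2 x.1 x.2)⟩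
  have hKα : K ≤ stabilizer G α := fun k hk => ((hKmem k).mp hk).1
  have hKn : ∀ s ∈ stabilizer G α, ∀ k ∈ K, s * k * s⁻¹ ∈ K := by
    intro s hs k hk
    rw [hKmem] at hk ⊢
    refine ⟨Subgroup.mul_mem _ (Subgroup.mul_mem _ hs hk.1) (Subgroup.inv_mem _ hs), ?_⟩
    intro x hx
    have h1 : s⁻¹ • x ∈ orbit (stabilizer G α) ω := by
      obtain ⟨t, ht⟩ := hx
      refine ⟨⟨s, hs⟩⁻¹ * t, ?_⟩
      have h2 : (t : G) • ω = x := ht
      show (s⁻¹ * (t : G)) • ω = s⁻¹ • x
      rw [mul_smul, h2]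
    have h2 := hk.2 _ h1
    rw [mul_smul, mul_smul, h2, smul_inv_smul]
  have hKω : ∀ k ∈ K, k • ω = ω := fun k hk => ((hKmem k).mp hk).2 ω (mem_orbit_self ω)
  have hhK : (h : G) ∈ K := by
    rw [hKmem]
    exact ⟨h.2, fun x hx => hfix x hx⟩
  have hh1 : (h : G) ≠ 1 := fun hh => hne1 (Subtype.ext hh)
  have hmoved : ∃ γ₀ : Ω, ∃ k ∈ K, k • γ₀ ≠ γ₀ := by
    by_contra hcon
    push_neg at hcon
    apply hh1
    apply FaithfulSMul.eq_of_smul_eq_smul (α := Ω)
    intro x
    rw [one_smul]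
    exact hcon x (h : G) hhK
  obtain ⟨γ₀, hγ₀⟩ := hmoved
  exact manning_core hprim hH hep α K hKα hKn ω hω hKω γ₀ hγ₀

end Cfsg.Agent.S3494
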