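import Cfsg.Statements.S3495
import Mathlib
import Cfsg.Agent.S3494

set_option autoImplicit false
open Cfsg

namespace Cfsg.Agent.S3495

open MulAction Pointwise

theorem normal_orbit {G : Type*} [Group G] {Ω : Type*} [MulAction G Ω]
    (α γ : Ω) (hep : IsPreprimitive (stabilizer G α) (orbit (stabilizer G α) γ))
    (K : Subgroup G) (hKα : K ≤ stabilizer G α)
    (hKn : ∀ s ∈ stabilizer G α, ∀ k ∈ K, s * k * s⁻¹ ∈ K)
    (hγ : ∃ k ∈ K, k • γ ≠ γ) :
    ∀ x ∈ orbit (stabilizer G α) γ, ∃ k ∈ K, k • γ = x := by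
  intro x hx
  haveI := hep
  haveI hNn : (K.subgroupOf (stabilizer G α)).Normal := by
    constructor
    intro n hn s
    rw [Subgroup.mem_subgroupOf] at hn ⊢
    exact hKn s s.2 n hn
  have hfix : fixedPoints (K.subgroupOf (stabilizer G α)) (orbit (stabilizer G α) γ) ≠
      Set.univ := by
    intro h
    obtain ⟨k, hk, hkγ⟩ := hγ
    have h1 : (⟨γ, mem_orbit_self γ⟩ : orbit (stabilizer G α) γ) ∈
        fixedPoints (K.subgroupOf (stabilizer G α)) (orbit (stabilizer G α) γ) := by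
      rw [h]; trivial
    have h2 := h1 ⟨⟨k, hKα hk⟩, by rw [Subgroup.mem_subgroupOf]; exact hk⟩
    apply hkγ
    exact congrArg Subtype.val h2
  haveI := IsQuasiPreprimitive.isPretransitive_of_normal (G := stabilizer G α)
    (X := orbit (stabilizer G α) γ) (N := K.subgroupOf (stabilizer G α)) hfix
  obtain ⟨n, hn⟩ := exists_smul_eq (K.subgroupOf (stabilizer G α))
    (⟨γ, mem_orbit_self γ⟩ : orbit (stabilizer G α) γ) ⟨x, hx⟩
  refine ⟨((n : stabilizer G α) : G), Subgroup.mem_subgroupOf.mp n.2, ?_⟩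
  exact congrArg Subtype.val hn

/-- Let a finite group G act faithfully and primitively on a finite set Ω with non-trivial point stabilizers, each acting primitively on every one of its orbits (an extremely primitive group), and suppose G has an elementary abelian normal p-subgroup N acting regularly on Ω (affine type). Then every non-trivial subgroup M of a point stabilizer G_α that is normal in G_α has the same orbits on Ω as G_α, and normalizes no subgroup of N other than 1 and N. -/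
theorem result {G : Type*} [Group G] [Finite G] {Ω : Type*} [Fintype Ω] [MulAction G Ω] [FaithfulSMul G Ω] (hprim : MulAction.IsPreprimitive G Ω) (hH : ∀ α : Ω, MulAction.stabilizer G α ≠ ⊥) (hep : ∀ (α : Ω) (ω : Ω), MulAction.IsPreprimitive (MulAction.stabilizer G α) (MulAction.orbit (MulAction.stabilizer G α) ω))
    (N : Subgroup G) [N.Normal] (hNc : IsMulCommutative N) (p : ℕ) (hp : p.Prime) (hNp : ∀ n ∈ N, n ^ p = 1)
    (hNtr : MulAction.IsPretransitive N Ω) (hNreg : ∀ ω : Ω, MulAction.stabilizer N ω = ⊥) (α : Ω) (M : Subgroup G) (hM : M ≠ ⊥) (hMle : M ≤ MulAction.stabilizer G α)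
    (hMn : MulAction.stabilizer G α ≤ Subgroup.normalizer (M : Set G)) :
    (∀ ω : Ω, MulAction.orbit M ω = MulAction.orbit (MulAction.stabilizer G α) ω) ∧
    (∀ L : Subgroup G, L ≤ N → M ≤ Subgroup.normalizer (L : Set G) → L = ⊥ ∨ L = N) := by
  classical
  have hKn : ∀ s ∈ stabilizer G α, ∀ k ∈ M, s * k * s⁻¹ ∈ M := by
    intro s hs k hk
    exact (Subgroup.mem_normalizer_iff.mp (hMn hs) k).mp hk
  -- M moves some point
  have hmoved : ∃ γ₀ : Ω, ∃ k ∈ M, k • γ₀ ≠ γ₀ := by
    by_contra hcon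
    push_neg at hcon
    apply hM
    rw [eq_bot_iff]
    intro m hm
    rw [Subgroup.mem_bot]
    apply FaithfulSMul.eq_of_smul_eq_smul (α := Ω)
    intro x
    rw [one_smul]
    exact hcon x m hm
  obtain ⟨γ₀, hγ₀⟩ := hmoved
  -- M moves every point other than α
  have hmv : ∀ ω : Ω, ω ≠ α → ∃ k ∈ M, k • ω ≠ ω := by
    intro ω hω
    by_contra hcon
    push_neg at hcon
    exact Cfsg.Agent.S3494.manning_core hprim hH hep α M hMle hKn ω hω hcon γ₀ hγ₀
  have h1 : ∀ ω : Ω, MulAction.orbit M ω = MulAction.orbit (MulAction.stabilizer G α) ω := by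
    intro ω
    apply Set.Subset.antisymm
    · rintro x ⟨m, hm⟩
      exact ⟨⟨(m : G), hMle m.2⟩, hm⟩
    · intro x hx
      by_cases hω : ω = α
      · obtain ⟨s, hs⟩ := hx
        have h2 : (s : G) • ω = x := hs
        rw [hω, mem_stabilizer_iff.mp s.2] at h2
        rw [← h2, hω]
        exact mem_orbit_self α
      · obtain ⟨k, hk, hkx⟩ := normal_orbit α ω (hep α ω) M hMle hKn (hmv ω hω) x hx
        exact ⟨⟨k, hk⟩, hkx⟩
  refine ⟨h1, ?_⟩
  intro L hLN hML
  by_cases hLb : L = ⊥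
  · exact Or.inl hLb
  right
  have hNcomm : ∀ a ∈ N, ∀ b ∈ N, a * b = b * a := by
    intro a ha b hb
    exact congrArg Subtype.val (hNc.is_comm.comm ⟨a, ha⟩ ⟨b, hb⟩)
  have hreg : ∀ n ∈ N, n • α = α → n = 1 := by
    intro n hn hnα
    have h2 : (⟨n, hn⟩ : N) ∈ MulAction.stabilizer N α := hnα
    rw [hNreg α, Subgroup.mem_bot] at h2
    exact congrArg Subtype.val h2
  -- the stabilizer normalizes L
  have ha : ∀ g ∈ stabilizer G α, ∀ l ∈ L, g * l * g⁻¹ ∈ L := by
    intro g hg l hl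
    have h2 : g • l • α ∈ MulAction.orbit (MulAction.stabilizer G α) (l • α) := ⟨⟨g, hg⟩, rfl⟩
    rw [← h1] at h2
    obtain ⟨m, hm⟩ := h2
    have hm' : (m : G) • l • α = g • l • α := hm
    have hmL : (m : G) * l * (m : G)⁻¹ ∈ L :=
      (Subgroup.mem_normalizer_iff.mp (hML m.2) l).mp hl
    have hgα : g⁻¹ • α = α := by
      rw [inv_smul_eq_iff]; exact (mem_stabilizer_iff.mp hg).symm
    have hmα : (m : G)⁻¹ • α = α := by
      rw [inv_smul_eq_iff]; exact (mem_stabilizer_iff.mp (hMle m.2)).symm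
    have e1 : (g * l * g⁻¹) • α = g • l • α := by
      rw [mul_smul, mul_smul, hgα]
    have e2 : ((m : G) * l * (m : G)⁻¹) • α = (m : G) • l • α := by
      rw [mul_smul, mul_smul, hmα]
    have hN1 : g * l * g⁻¹ ∈ N := Subgroup.Normal.conj_mem inferInstance l (hLN hl) g
    have hN2 : (m : G) * l * (m : G)⁻¹ ∈ N := hLN hmL
    have h3 : ((m : G) * l * (m : G)⁻¹)⁻¹ * (g * l * g⁻¹) = 1 := by
      apply hreg _ (Subgroup.mul_mem _ (Subgroup.inv_mem _ hN2) hN1)
      rw [mul_smul, e1, ← hm', ← e2, inv_smul_smul]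
    have h4 : g * l * g⁻¹ = (m : G) * l * (m : G)⁻¹ := (inv_mul_eq_one.mp h3).symm
    rw [h4]; exact hmL
  -- L is normal in G
  haveI hLn : L.Normal := by
    constructor
    intro l hl g
    haveI := hNtr
    obtain ⟨n, hn⟩ := exists_smul_eq N α (g • α)
    have hn' : (n : G) • α = g • α := hn
    have hs : (n : G)⁻¹ * g ∈ stabilizer G α := by
      rw [mem_stabilizer_iff, mul_smul, ← hn', inv_smul_smul]
    have h2 := ha _ hs l hl
    have h3 : g * l * g⁻¹ = (n : G) * (((n : G)⁻¹ * g) * l * ((n : G)⁻¹ * g)⁻¹) * (n : G)⁻¹ := by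
      group
    rw [h3, hNcomm _ n.2 _ (hLN h2)]
    have e : ((n : G)⁻¹ * g) * l * ((n : G)⁻¹ * g)⁻¹ * (n : G) * (n : G)⁻¹ =
        ((n : G)⁻¹ * g) * l * ((n : G)⁻¹ * g)⁻¹ := by group
    rw [e]; exact h2
  -- L is transitive
  haveI := hprim
  have hfix : fixedPoints L Ω ≠ Set.univ := by
    intro h
    apply hLb
    rw [eq_bot_iff]
    intro l hl
    rw [Subgroup.mem_bot]
    apply FaithfulSMul.eq_of_smul_eq_smul (α := Ω)
    intro x
    rw [one_smul]
    have h2 : x ∈ fixedPoints L Ω := by rw [h]; trivial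
    exact h2 ⟨l, hl⟩
  haveI hLt : IsPretransitive L Ω := IsQuasiPreprimitive.isPretransitive_of_normal hfix
  apply le_antisymm hLN
  intro n hn
  obtain ⟨l, hl⟩ := exists_smul_eq L α (n • α)
  have hl' : (l : G) • α = n • α := hl
  have h2 : (l : G)⁻¹ * n = 1 := by
    apply hreg _ (Subgroup.mul_mem _ (Subgroup.inv_mem _ (hLN l.2)) hn)
    rw [mul_smul, ← hl', inv_smul_smul]
  have h3 : n = (l : G) := (inv_mul_eq_one.mp h2).symm
  rw [h3]; exact l.2

end Cfsg.Agent.S3495
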