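import Cfsg.Statements.S3554
import Mathlib

set_option autoImplicit false
open Cfsg

namespace Cfsg.Agent.S3554

/-- Let G act faithfully and transitively on a finite set and suppose G has a non-trivial cyclic normal subgroup. Then some element of G of prime order fixes no point. -/
theorem result {G Ω : Type*} [Group G] [Finite G] [MulAction G Ω] [FaithfulSMul G Ω] [Finite Ω]
    (htrans : MulAction.IsPretransitive G Ω) (C : Subgroup G) (hC : C.Normal) (hC1 : C ≠ ⊥) (hcyc : IsCyclic ↥C) :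
    ∃ g : G, (orderOf g).Prime ∧ ∀ ω : Ω, g • ω ≠ ω := by
  classical
  have hcard : 1 < Nat.card C := C.one_lt_card_iff_ne_bot.mpr hC1
  obtain ⟨p, hp, hpd⟩ := Nat.exists_prime_and_dvd (Nat.ne_of_gt hcard)
  have : Fact p.Prime := ⟨hp⟩
  obtain ⟨c, hc⟩ := exists_prime_orderOf_dvd_card' p hpd
  refine ⟨(c : G), by rw [Subgroup.orderOf_coe, hc]; exact hp, ?_⟩
  intro ω hω
  obtain ⟨c₀, hc₀⟩ := IsCyclic.exists_generator (α := C)
  have hconj : ∀ h : G, ∃ m : ℤ, h * (c : G) * h⁻¹ = (c : G) ^ m := by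
    intro h
    have := hC
    obtain ⟨a, ha⟩ := Subgroup.mem_zpowers_iff.mp (hc₀ c)
    obtain ⟨m, hm⟩ := Subgroup.mem_zpowers_iff.mp (hc₀ (MulAut.conjNormal h c₀))
    refine ⟨m, ?_⟩
    have h1 : MulAut.conjNormal h c = c ^ m := by
      rw [← ha, map_zpow, ← hm, ← zpow_mul, ← zpow_mul, mul_comm]
    have h2 := congrArg (Subtype.val) h1
    simpa using h2
  have hfix : ∀ ω' : Ω, (c : G) • ω' = ω' := by
    intro ω'
    obtain ⟨h, rfl⟩ := MulAction.exists_smul_eq G ω ω'
    obtain ⟨m, hm⟩ := hconj h⁻¹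
    have h1 : (c : G) * h = h * (c : G) ^ m := by
      rw [← hm]; group
    rw [← mul_smul, h1, mul_smul]
    congr 1
    have h2 : (c : G) ^ m ∈ MulAction.stabilizer G ω :=
      Subgroup.zpow_mem _ (MulAction.mem_stabilizer_iff.mpr hω) m
    exact MulAction.mem_stabilizer_iff.mp h2
  have h1 : (c : G) = 1 := FaithfulSMul.eq_of_smul_eq_smul (α := Ω) (by intro a; rw [hfix a, one_smul])
  have h2 : orderOf (c : G) = 1 := by rw [h1, orderOf_one]
  rw [Subgroup.orderOf_coe, hc] at h2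
  exact hp.one_lt.ne' h2

end Cfsg.Agent.S3554
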