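import Cfsg.Statements.S3555
import Mathlib
import Cfsg.Agent.Lib.Lead.Basic

set_option autoImplicit false
open Cfsg

namespace Cfsg.Agent.S3555


open MulAction
open scoped Pointwise

/-- Counting argument: in a transitive group all of whose derangements are involutions, an element
fixing two points fixes everything. -/
theorem fix_all {G Ω : Type*} [Group G] [Fintype G] [MulAction G Ω] [Fintype Ω]
    [Nonempty Ω] (htrans : IsPretransitive G Ω)
    (hinv : ∀ g : G, (∀ ω : Ω, g • ω ≠ ω) → g * g = 1)
    (g : G) (α β : Ω) (hαβ : α ≠ β) (hgα : g • α = α) (hgβ : g • β = β) : ∀ ω : Ω, g • ω = ω := by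
  classical
  obtain ⟨Fix, hFix⟩ : ∃ Fix : G → Finset Ω, Fix = fun g => Finset.univ.filter (fun ω => g • ω = ω) :=
    ⟨_, rfl⟩
  have hmemFix : ∀ (g : G) (ω : Ω), ω ∈ Fix g ↔ g • ω = ω := by
    intro g ω; rw [hFix]; simp
  obtain ⟨f, hf⟩ : ∃ f : G → ℕ, f = fun g => (Fix g).card := ⟨_, rfl⟩
  have hfg : ∀ g, f g = (Fix g).card := fun g => by rw [hf]
  have hfle : ∀ g, f g ≤ Fintype.card Ω := fun g => by rw [hfg]; exact Finset.card_le_univ _
  -- Burnside
  have hB : ∑ g : G, f g = Fintype.card G := by
    have h1 := MulAction.sum_card_fixedBy_eq_card_orbits_mul_card_group G Ω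
    have h2 : Fintype.card (Quotient (orbitRel G Ω)) = 1 := by
      haveI : Subsingleton (Quotient (orbitRel G Ω)) :=
        (pretransitive_iff_subsingleton_quotient G Ω).mp htrans
      rw [Fintype.card_eq_one_iff]
      exact ⟨Quotient.mk _ (Classical.arbitrary Ω), fun y => Subsingleton.elim _ _⟩
    rw [h2, one_mul] at h1
    rw [← h1]
    apply Finset.sum_congr rfl
    intro g _
    rw [hfg]
    exact (Fintype.card_of_subtype (Fix g) (fun x => by rw [hmemFix, mem_fixedBy])).symm
  obtain ⟨D, hD⟩ : ∃ D : Finset G, D = Finset.univ.filter (fun g => ∀ ω : Ω, g • ω ≠ ω) := ⟨_, rfl⟩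
  have hmemD : ∀ t : G, t ∈ D ↔ ∀ ω : Ω, t • ω ≠ ω := by
    intro t; rw [hD]; simp
  obtain ⟨P, hP⟩ : ∃ P : Ω → Finset (G × Ω), P = fun α =>
      Finset.univ.filter (fun p => p.1 • α = α ∧ p.1 • p.2 = p.2 ∧ p.2 ≠ α) := ⟨_, rfl⟩
  have hmemP : ∀ (α : Ω) (p : G × Ω), p ∈ P α ↔ (p.1 • α = α ∧ p.1 • p.2 = p.2 ∧ p.2 ≠ α) := by
    intro α p; rw [hP]; simp
  have hDP : ∀ α, D.card ≤ (P α).card := by
    intro α
    obtain ⟨t₀, ht₀def⟩ : ∃ t₀ : Ω → G, t₀ = fun β =>
        if h : ∃ s ∈ D, s • α = β then h.choose else 1 := ⟨_, rfl⟩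
    have ht₀ : ∀ t ∈ D, t₀ (t • α) ∈ D ∧ t₀ (t • α) • α = t • α := by
      intro t ht
      have h : ∃ s ∈ D, s • α = t • α := ⟨t, ht, rfl⟩
      rw [ht₀def]
      simp only [dif_pos h]
      exact h.choose_spec
    apply Finset.card_le_card_of_injOn (fun t => ((t₀ (t • α))⁻¹ * t, t • α))
    · intro t ht
      have ht' : t ∈ D := ht
      obtain ⟨hs, hsα⟩ := ht₀ t ht'
      have htD : ∀ ω : Ω, t • ω ≠ ω := (hmemD t).mp ht'
      have hsD : ∀ ω : Ω, t₀ (t • α) • ω ≠ ω := (hmemD _).mp hs
      have ht2 : t * t = 1 := hinv t htD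
      have hs2 := hinv _ hsD
      show ((t₀ (t • α))⁻¹ * t, t • α) ∈ P α
      rw [hmemP]
      generalize t₀ (t • α) = s at hs hsα hsD hs2 ⊢
      refine ⟨?_, ?_, htD α⟩
      · show (s⁻¹ * t) • α = α
        rw [mul_smul, ← hsα, inv_smul_smul]
      · show (s⁻¹ * t) • (t • α) = t • α
        rw [mul_smul, ← mul_smul t t, ht2, one_smul, inv_smul_eq_iff, ← hsα, ← mul_smul, hs2,
          one_smul]
    · intro t _ t' _ heq
      simp only [Prod.mk.injEq] at heq
      obtain ⟨h2, h1⟩ := heq
      rw [h1] at h2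
      exact mul_left_cancel h2
  have hPsum : ∑ α : Ω, (P α).card = ∑ g : G, f g * (f g - 1) := by
    have h1 : ∀ α, (P α).card =
        ∑ g : G, ∑ β : Ω, if (g • α = α ∧ g • β = β ∧ β ≠ α) then 1 else 0 := by
      intro α
      rw [hP, Finset.card_filter, Fintype.sum_prod_type]
    simp_rw [h1]
    rw [Finset.sum_comm]
    apply Finset.sum_congr rfl
    intro g _
    have h2 : ∀ α, (∑ β : Ω, if (g • α = α ∧ g • β = β ∧ β ≠ α) then 1 else 0) =
        if g • α = α then f g - 1 else 0 := by
      intro α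
      by_cases hα : g • α = α
      · simp only [hα, true_and, if_true]
        rw [← Finset.card_filter]
        have h3 : Finset.univ.filter (fun β => g • β = β ∧ β ≠ α) = (Fix g).erase α := by
          ext β
          rw [Finset.mem_erase, hmemFix]
          simp [and_comm]
        rw [h3, Finset.card_erase_of_mem ((hmemFix g α).mpr hα), hfg]
      · simp [hα]
    simp_rw [h2]
    rw [← Finset.sum_filter, Finset.sum_const, smul_eq_mul]
    have h4 : Finset.univ.filter (fun α => g • α = α) = Fix g := by rw [hFix]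
    rw [h4, hfg]
  obtain ⟨K, hK⟩ : ∃ K : Finset G, K = Finset.univ.filter (fun g => ¬ (f g = 0)) := ⟨_, rfl⟩
  have hmemK : ∀ g : G, g ∈ K ↔ f g ≠ 0 := by
    intro g; rw [hK]; simp
  have hDK : D = Finset.univ.filter (fun g => f g = 0) := by
    ext g
    rw [hmemD, Finset.mem_filter, hfg, Finset.card_eq_zero]
    constructor
    · intro h
      refine ⟨Finset.mem_univ _, ?_⟩
      rw [Finset.eq_empty_iff_forall_notMem]
      intro ω hω
      exact h ω ((hmemFix g ω).mp hω)
    · rintro ⟨-, h⟩ ω hω
      have : ω ∈ Fix g := (hmemFix g ω).mpr hω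
      rw [h] at this
      exact (Finset.notMem_empty _) this
  have hcard : D.card + K.card = Fintype.card G := by
    rw [hDK, hK]
    exact Finset.card_filter_add_card_filter_not _
  have hsumK : ∀ F : G → ℕ, (∀ g, f g = 0 → F g = 0) → ∑ g : G, F g = ∑ g ∈ K, F g := by
    intro F hF
    rw [hK, Finset.sum_filter]
    apply Finset.sum_congr rfl
    intro g _
    by_cases h : f g = 0
    · simp [h, hF g h]
    · simp [h]
  have h1 : ∑ g ∈ K, f g = Fintype.card G := by
    rw [← hsumK f (fun g h => h)]; exact hB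
  have h2 : ∑ g ∈ K, (f g - 1) + K.card = ∑ g ∈ K, f g := by
    rw [Finset.card_eq_sum_ones, ← Finset.sum_add_distrib]
    apply Finset.sum_congr rfl
    intro g hg
    have : f g ≠ 0 := (hmemK g).mp hg
    omega
  have h3 : ∑ g ∈ K, (f g - 1) = D.card := by omega
  have h4 : Fintype.card Ω * D.card ≤ ∑ g ∈ K, f g * (f g - 1) := by
    rw [← hsumK (fun g => f g * (f g - 1)) (fun g h => by simp [h]), ← hPsum]
    calc Fintype.card Ω * D.card = ∑ α : Ω, D.card := by
          rw [Finset.sum_const, Finset.card_univ, smul_eq_mul]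
      _ ≤ ∑ α : Ω, (P α).card := Finset.sum_le_sum (fun α _ => hDP α)
  have h5 : ∑ g ∈ K, Fintype.card Ω * (f g - 1) = Fintype.card Ω * D.card := by
    rw [← Finset.mul_sum, h3]
  have h6 : ∀ g ∈ K, f g * (f g - 1) ≤ Fintype.card Ω * (f g - 1) :=
    fun g _ => Nat.mul_le_mul_right _ (hfle g)
  have h7 : ∑ g ∈ K, f g * (f g - 1) = ∑ g ∈ K, Fintype.card Ω * (f g - 1) :=
    le_antisymm (Finset.sum_le_sum h6) (by rw [h5]; exact h4)
  have h8 := (Finset.sum_eq_sum_iff_of_le h6).mp h7
  have hgK : g ∈ K := by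
    rw [hmemK, hfg]
    exact Finset.card_ne_zero_of_mem ((hmemFix g α).mpr hgα)
  have h9 := h8 g hgK
  have h10 : 2 ≤ f g := by
    have hsub : ({α, β} : Finset Ω) ⊆ Fix g := by
      intro x hx
      simp only [Finset.mem_insert, Finset.mem_singleton] at hx
      rcases hx with rfl | rfl
      · exact (hmemFix g _).mpr hgα
      · exact (hmemFix g _).mpr hgβ
    calc 2 = ({α, β} : Finset Ω).card := (Finset.card_pair hαβ).symm
      _ ≤ (Fix g).card := Finset.card_le_card hsub
      _ = f g := (hfg g).symm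
  have h11 : f g = Fintype.card Ω := by
    have hpos : 0 < f g - 1 := by omega
    exact Nat.eq_of_mul_eq_mul_right hpos h9
  have h12 : Fix g = Finset.univ := (Finset.card_eq_iff_eq_univ _).mp (by rw [← hfg]; exact h11)
  intro ω
  have : ω ∈ Fix g := by rw [h12]; exact Finset.mem_univ _
  exact (hmemFix g ω).mp this

/-- Let G act faithfully and transitively on a finite set and suppose every element of G fixing no point is an involution. Then either G is an elementary abelian 2-group, or G is a Frobenius group whose Frobenius kernel is an elementary abelian 2-group: G has a Frobenius complement H, and the elements lying in no conjugate of H, together with the identity, pairwise commute and square to the identity. -/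
theorem result {G Ω : Type*} [Group G] [Finite G] [MulAction G Ω] [FaithfulSMul G Ω] [Finite Ω]
    (htrans : MulAction.IsPretransitive G Ω) (hinv : ∀ g : G, (∀ ω : Ω, g • ω ≠ ω) → orderOf g = 2) :
    (IsMulCommutative G ∧ ∀ g : G, g ^ 2 = 1) ∨
    (∃ H : Subgroup G, Cfsg.IsFrobeniusComplement H ∧
      (∀ x ∈ Cfsg.frobeniusKernel H, x ^ 2 = 1) ∧
      ∀ x ∈ Cfsg.frobeniusKernel H, ∀ y ∈ Cfsg.frobeniusKernel H, x * y = y * x) := by
  classical
  rcases isEmpty_or_nonempty Ω with hΩ | hΩ
  · left
    have htriv : ∀ g : G, g = 1 := by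
      intro g
      apply FaithfulSMul.eq_of_smul_eq_smul (α := Ω)
      intro ω; exact (hΩ.false ω).elim
    exact ⟨⟨⟨fun a b => by rw [htriv a, htriv b]⟩⟩, fun g => by rw [htriv g, one_pow]⟩
  · obtain ⟨α⟩ := hΩ
    haveI : Nonempty Ω := ⟨α⟩
    haveI : Fintype G := Fintype.ofFinite G
    haveI : Fintype Ω := Fintype.ofFinite Ω
    have hinv' : ∀ g : G, (∀ ω : Ω, g • ω ≠ ω) → g * g = 1 := by
      intro g hg
      have := hinv g hg
      rw [← pow_two, ← this]; exact pow_orderOf_eq_one g
    have key : ∀ g : G, ∀ a b : Ω, a ≠ b → g • a = a → g • b = b → g = 1 := by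
      intro g a b hab ha hb
      have h := fix_all htrans hinv' g a b hab ha hb
      apply FaithfulSMul.eq_of_smul_eq_smul (α := Ω)
      intro ω; rw [h ω, one_smul]
    have hcomm : ∀ s t : G, (∀ ω : Ω, s • ω ≠ ω) → (∀ ω : Ω, t • ω ≠ ω) → s * t = t * s := by
      intro s t hs ht
      have hs2 := hinv' s hs
      have ht2 := hinv' t ht
      have hsi : s⁻¹ = s := inv_eq_of_mul_eq_one_left hs2
      have hti : t⁻¹ = t := inv_eq_of_mul_eq_one_left ht2
      by_cases hst : ∀ ω : Ω, (s * t) • ω ≠ ω
      · have h := hinv' _ hst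
        have h1 : s * t = (s * t)⁻¹ := eq_inv_of_mul_eq_one_left h
        rw [mul_inv_rev, hsi, hti] at h1
        exact h1
      · push Not at hst
        obtain ⟨ω, hω⟩ := hst
        have h1 : t • ω = s • ω := by
          have h : s • ((s * t) • ω) = s • ω := by rw [hω]
          rw [mul_smul, ← mul_smul, hs2, one_smul] at h
          exact h
        have h2 : (s * t) • (t • ω) = t • ω := by
          rw [mul_smul, ← mul_smul t t, ht2, one_smul, ← h1]
        have h3 := key (s * t) ω (t • ω) (fun h => ht ω h.symm) hω h2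
        have h4 : s = t := by
          have := eq_inv_of_mul_eq_one_left h3
          rw [this]; exact hti
        rw [h4]
    have hfixconj : ∀ (x y : G), x • (y • α) = y • α → y⁻¹ * x * y ∈ stabilizer G α := by
      intro x y h
      rw [mem_stabilizer_iff, mul_smul, mul_smul, h, inv_smul_smul]
    by_cases hH : stabilizer G α = ⊥
    · left
      have hall : ∀ g : G, g ≠ 1 → ∀ ω : Ω, g • ω ≠ ω := by
        intro g hg ω hω
        obtain ⟨x, rfl⟩ := exists_smul_eq G α ω
        have h1 := hfixconj g x hω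
        rw [hH, Subgroup.mem_bot] at h1
        apply hg
        have h2 : g = x * (x⁻¹ * g * x) * x⁻¹ := by group
        rw [h2, h1, mul_one, mul_inv_cancel]
      have hsq : ∀ g : G, g * g = 1 := by
        intro g
        by_cases hg : g = 1
        · rw [hg, one_mul]
        · exact hinv' g (hall g hg)
      refine ⟨⟨⟨fun a b => ?_⟩⟩, fun g => by rw [pow_two]; exact hsq g⟩
      by_cases ha : a = 1
      · rw [ha, one_mul, mul_one]
      by_cases hb : b = 1
      · rw [hb, one_mul, mul_one]
      exact hcomm a b (hall a ha) (hall b hb)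
    · right
      have hkd : ∀ x : G, (∀ g : G, x ∉ MulAut.conj g • stabilizer G α) → ∀ ω : Ω, x • ω ≠ ω := by
        intro x hx ω hω
        obtain ⟨y, rfl⟩ := exists_smul_eq G α ω
        apply hx y
        rw [Cfsg.Agent.Lib.Lead.mem_conj_smul]
        exact hfixconj x y hω
      refine ⟨stabilizer G α, ⟨hH, ?_, ?_⟩, ?_, ?_⟩
      · intro htop
        apply hH
        rw [eq_bot_iff]
        intro g _
        rw [Subgroup.mem_bot]
        have hω : ∀ ω : Ω, ω = α := by
          intro ω
          obtain ⟨x, rfl⟩ := exists_smul_eq G α ω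
          have : x ∈ stabilizer G α := by rw [htop]; trivial
          exact this
        apply FaithfulSMul.eq_of_smul_eq_smul (α := Ω)
        intro ω
        rw [hω (g • ω), hω ((1 : G) • ω)]
      · intro g hg
        rw [eq_bot_iff]
        intro x hx
        obtain ⟨hx1, hx2⟩ := Subgroup.mem_inf.mp hx
        have hxα : x • α = α := hx1
        rw [Cfsg.Agent.Lib.Lead.mem_conj_smul] at hx2
        have hxg : x • (g • α) = g • α := by
          have h1 : (g⁻¹ * x * g) • α = α := hx2
          rw [mul_smul, mul_smul, inv_smul_eq_iff] at h1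
          exact h1
        have hne : α ≠ g • α := fun h => hg h.symm
        rw [Subgroup.mem_bot]; exact key x α (g • α) hne hxα hxg
      · intro x hx
        rcases hx with rfl | hx
        · exact one_pow 2
        · rw [pow_two]; exact hinv' x (hkd x hx)
      · intro x hx y hy
        rcases hx with rfl | hx
        · rw [one_mul, mul_one]
        rcases hy with rfl | hy
        · rw [one_mul, mul_one]
        exact hcomm x y (hkd x hx) (hkd y hy)

end Cfsg.Agent.S3555
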