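import Cfsg.Statements.S3634
import Cfsg.Agent.Lib.Helper6.FrobAct
import Cfsg.Agent.Lib.Helper7.PPrime

set_option autoImplicit false

namespace Cfsg.Agent.S3634

open Cfsg.Agent.Lib Cfsg.Agent.Lib.Helper6
open scoped IsMulCommutative

/-- Let G be a finite group with normal subgroups K ≤ M, and let p, q, r be distinct primes with p dividing the order of K, q dividing the order of M/K and r dividing the order of G/M. Then p, q, r are not pairwise non-adjacent in the prime graph of G: G has an element of order pq, pr or qr. -/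
theorem result {G : Type*} [Group G] [Finite G] (K M : Subgroup G) [K.Normal] [M.Normal] (hKM : K ≤ M)
    (p q r : ℕ) (hp : p.Prime) (hq : q.Prime) (hr : r.Prime) (hpq : p ≠ q) (hpr : p ≠ r) (hqr : q ≠ r)
    (hpK : p ∣ Nat.card ↥K) (hqM : q ∣ Nat.card ↥M / Nat.card ↥K) (hrG : r ∣ Nat.card G / Nat.card ↥M) :
    (∃ x : G, orderOf x = p * q) ∨ (∃ x : G, orderOf x = p * r) ∨ (∃ x : G, orderOf x = q * r) := by
  classical
  haveI : Fact p.Prime := ⟨hp⟩
  haveI : Fact q.Prime := ⟨hq⟩
  haveI : Fact r.Prime := ⟨hr⟩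
  by_contra hcon
  push Not at hcon
  obtain ⟨h_pq, h_pr, h_qr⟩ := hcon
  -- Step 1
  obtain ⟨P, hPK, hPp, hPcard, hPfr⟩ := frattini_sylow K p
  have hPne : P ≠ ⊥ := by
    intro hbot
    rw [hbot, Subgroup.card_bot] at hPcard
    have h1 : 0 < (Nat.card K).factorization p :=
      Nat.Prime.factorization_pos_of_dvd hp Nat.card_pos.ne' hpK
    have h2 : 1 < p ^ (Nat.card K).factorization p := Nat.one_lt_pow h1.ne' hp.one_lt
    omega
  set N₁ := Subgroup.normalizer (P : Set G) with hN₁
  have hN₁M : N₁ ⊔ M = ⊤ := top_le_iff.mp (hPfr ▸ sup_le_sup_left hKM N₁)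
  have hDed : (N₁ ⊓ M) ⊔ K = M := by
    apply le_antisymm (sup_le inf_le_right hKM)
    intro m hm
    have hm' : m ∈ ((N₁ ⊔ K : Subgroup G) : Set G) := by rw [hPfr]; trivial
    rw [Subgroup.mul_normal] at hm'
    obtain ⟨n, hn, k, hk, rfl⟩ := Set.mem_mul.mp hm'
    refine Subgroup.mul_mem _ (Subgroup.mem_sup_left ⟨hn, ?_⟩) (Subgroup.mem_sup_right hk)
    have := M.mul_mem hm (M.inv_mem (hKM hk))
    simpa using this
  have hq1 : q ∣ Nat.card ↥(N₁ ⊓ M) := by
    have h1 : K.relIndex M = Nat.card M / Nat.card K := by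
      have := Helper7.relIndex_mul_card_of_le hKM
      rw [← this]
      exact (Nat.mul_div_cancel _ Nat.card_pos).symm
    have h2 : K.relIndex M = K.relIndex (N₁ ⊓ M) := by
      conv_lhs => rw [← hDed]
      exact Subgroup.relIndex_sup_right _ _
    rw [← h1, h2] at hqM
    exact hqM.trans (Subgroup.relIndex_dvd_card _ _)
  -- Step 2
  obtain ⟨Q', hQ'M, hQ'q, hQ'card, hQ'fr⟩ := frattini_sylow (M.subgroupOf N₁) q
  have hcardMs : Nat.card (M.subgroupOf N₁) = Nat.card ↥(N₁ ⊓ M) := by
    rw [← Subgroup.inf_subgroupOf_right, inf_comm]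
    exact Nat.card_congr (Subgroup.subgroupOfEquivOfLe inf_le_left).toEquiv
  have hQ'ne : Q' ≠ ⊥ := by
    intro hbot
    rw [hbot, Subgroup.card_bot, hcardMs] at hQ'card
    have h1 : 0 < (Nat.card ↥(N₁ ⊓ M)).factorization q :=
      Nat.Prime.factorization_pos_of_dvd hq Nat.card_pos.ne' hq1
    have h2 : 1 < q ^ (Nat.card ↥(N₁ ⊓ M)).factorization q := Nat.one_lt_pow h1.ne' hq.one_lt
    omega
  have hr1 : r ∣ Nat.card ↥(Subgroup.normalizer (Q' : Set ↥N₁)) := by
    have h1 : (M.subgroupOf N₁).index = M.index := by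
      show M.relIndex N₁ = M.index
      rw [← Subgroup.relIndex_sup_right N₁ M, hN₁M, Subgroup.relIndex_top_right]
    have h2 : (M.subgroupOf N₁).index =
        (M.subgroupOf N₁).relIndex (Subgroup.normalizer (Q' : Set ↥N₁)) := by
      rw [← Subgroup.relIndex_sup_right (Subgroup.normalizer (Q' : Set ↥N₁)) (M.subgroupOf N₁),
        hQ'fr, Subgroup.relIndex_top_right]
    have h3 : M.index = Nat.card G / Nat.card M := by
      have := M.card_mul_index
      rw [← this]
      exact (Nat.mul_div_cancel_left _ Nat.card_pos).symm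
    have h4 : r ∣ (M.subgroupOf N₁).relIndex (Subgroup.normalizer (Q' : Set ↥N₁)) := by
      rw [← h2, h1, h3]; exact hrG
    exact h4.trans (Subgroup.relIndex_dvd_card _ _)
  obtain ⟨z', hz'⟩ := exists_prime_orderOf_dvd_card' r hr1
  have hzG : orderOf (((z' : ↥N₁)) : G) = r := by
    rw [Subgroup.orderOf_coe, Subgroup.orderOf_coe, hz']
  -- the action
  letI := conjCenterAction P
  have hsmul : ∀ (g : ↥N₁) (v : ↥(Subgroup.center ↥P)),
      (((g • v : ↥(Subgroup.center ↥P)) : ↥P) : G) = (g : G) * ((v : ↥P) : G) * (g : G)⁻¹ :=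
    fun g v => rfl
  have hVord : ∀ v : ↥(Subgroup.center ↥P), ∃ k, orderOf ((v : ↥P) : G) = p ^ k := by
    intro v
    obtain ⟨k, hk⟩ := hPp (v : ↥P)
    apply exists_orderOf_eq_pow_of_pow_eq_one hp (k := k)
    have := congrArg Subtype.val hk
    simpa using this
  have hQord : ∀ u : ↥N₁, u ∈ Q' → ∃ k, orderOf (u : G) = q ^ k := by
    intro u hu
    obtain ⟨k, hk⟩ := hQ'q ⟨u, hu⟩
    apply exists_orderOf_eq_pow_of_pow_eq_one hq (k := k)
    have h1 := congrArg Subtype.val hk
    have h2 : u ^ q ^ k = 1 := by simpa using h1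
    have h3 := congrArg Subtype.val h2
    simpa using h3
  have hmain := frob_action (H := ↥N₁) (V := ↥(Subgroup.center ↥P)) Q' (z' : ↥N₁) r hr
    (by
      have h1 : z' ^ r = 1 := by rw [← hz', pow_orderOf_eq_one]
      have h2 := congrArg Subtype.val h1
      simpa using h2)
    (fun u hu => (Subgroup.mem_normalizer_iff.mp z'.2 u).mp hu)
    (by
      intro u hu hcomm
      by_contra hu1
      have hu1' : (u : G) ≠ 1 := by
        intro h; apply hu1; apply Subtype.ext; simpa using h
      have hc : Commute (u : G) ((z' : ↥N₁) : G) := by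
        have := congrArg Subtype.val hcomm
        exact this.symm
      obtain ⟨w, hw⟩ := exists_orderOf_eq_mul hq hr hqr hu1'
        (by intro h; rw [h, orderOf_one] at hzG; exact hr.one_lt.ne' hzG.symm)
        (hQord u hu) ⟨1, by rw [hzG, pow_one]⟩ hc
      exact h_qr w hw)
    (by
      intro v hv
      by_contra hv1
      have hv1' : ((v : ↥P) : G) ≠ 1 := by
        intro h; apply hv1; apply Subtype.ext; apply Subtype.ext; simpa using h
      have hc : Commute ((v : ↥P) : G) ((z' : ↥N₁) : G) := by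
        have h1 := hsmul (z' : ↥N₁) v
        rw [hv] at h1
        show ((v : ↥P) : G) * ((z' : ↥N₁) : G) = ((z' : ↥N₁) : G) * ((v : ↥P) : G)
        conv_lhs => rw [h1]
        group
      obtain ⟨w, hw⟩ := exists_orderOf_eq_mul hp hr hpr hv1'
        (by intro h; rw [h, orderOf_one] at hzG; exact hr.one_lt.ne' hzG.symm)
        (hVord v) ⟨1, by rw [hzG, pow_one]⟩ hc
      exact h_pr w hw)
    (by
      intro v hv
      by_contra hv1
      have hv1' : ((v : ↥P) : G) ≠ 1 := by
        intro h; apply hv1; apply Subtype.ext; apply Subtype.ext; simpa using h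
      obtain ⟨y, hy1⟩ := (Subgroup.ne_bot_iff_exists_ne_one).mp hQ'ne
      have hy1' : (((y : ↥N₁)) : G) ≠ 1 := by
        intro h; apply hy1; apply Subtype.ext; apply Subtype.ext; simpa using h
      have hc : Commute ((v : ↥P) : G) (((y : ↥N₁)) : G) := by
        have h1 := hsmul (y : ↥N₁) v
        rw [hv (y : ↥N₁) y.2] at h1
        show ((v : ↥P) : G) * ((y : ↥N₁) : G) = ((y : ↥N₁) : G) * ((v : ↥P) : G)
        conv_lhs => rw [h1]
        group
      obtain ⟨w, hw⟩ := exists_orderOf_eq_mul hp hq hpq hv1' hy1' (hVord v) (hQord y y.2) hc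
      exact h_pq w hw)
  -- a nontrivial central element
  haveI : Nontrivial ↥P := (Subgroup.nontrivial_iff_ne_bot P).mpr hPne
  haveI : Nontrivial ↥(Subgroup.center ↥P) := hPp.center_nontrivial
  obtain ⟨v, hv⟩ := exists_ne (1 : ↥(Subgroup.center ↥P))
  have h1 := hmain v
  have h2 : orderOf v ∣ Nat.card Q' := orderOf_dvd_of_pow_eq_one h1
  obtain ⟨b, hb⟩ := hQ'q.exists_card_eq
  obtain ⟨k, hk⟩ := hVord v
  have h3 : orderOf v = orderOf ((v : ↥P) : G) := by
    rw [Subgroup.orderOf_coe, Subgroup.orderOf_coe]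
  rw [h3, hk, hb] at h2
  have h4 : (p ^ k).Coprime (q ^ b) :=
    Nat.Coprime.pow _ _ ((Nat.coprime_primes hp hq).mpr hpq)
  have h5 : p ^ k = 1 := Nat.Coprime.eq_one_of_dvd h4 h2
  rw [h5, orderOf_eq_one_iff] at hk
  apply hv; apply Subtype.ext; apply Subtype.ext; simpa using hk

end Cfsg.Agent.S3634
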