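import Cfsg.Statements.S3633
import Cfsg.Agent.S3634
import Cfsg.Agent.Lib.Helper6.RealElt
import Cfsg.Agent.Lib.Helper6.NormGrow

set_option autoImplicit false

namespace Cfsg.Agent.S3633

open Cfsg.Agent.Lib.Helper6
open scoped commutatorElement

/-- `q`-primary preimage of the abelianisation of a normal subgroup -/
def primPre {G : Type*} [Group G] (K : Subgroup G) [K.Normal] (q : ℕ) : Subgroup G where
  carrier := {x | x ∈ K ∧ ∃ k : ℕ, x ^ (q ^ k) ∈ ⁅K, K⁆}
  one_mem' := ⟨K.one_mem, 0, by simp⟩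
  inv_mem' := by
    rintro x ⟨hx, k, hk⟩
    exact ⟨K.inv_mem hx, k, by rw [inv_pow]; exact Subgroup.inv_mem _ hk⟩
  mul_mem' := by
    rintro x y ⟨hx, k, hk⟩ ⟨hy, l, hl⟩
    refine ⟨K.mul_mem hx hy, k + l, ?_⟩
    haveI : (⁅K, K⁆ : Subgroup G).Normal := Subgroup.commutator_normal K K
    have hker : ∀ w : G, QuotientGroup.mk' ⁅K, K⁆ w = 1 ↔ w ∈ ⁅K, K⁆ := by
      intro w
      rw [← MonoidHom.mem_ker, QuotientGroup.ker_mk']
    have hcomm : Commute (QuotientGroup.mk' ⁅K, K⁆ x) (QuotientGroup.mk' ⁅K, K⁆ y) := by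
      have h1 : QuotientGroup.mk' ⁅K, K⁆ ((x * y)⁻¹ * (y * x)) = 1 := by
        rw [hker]
        have : (x * y)⁻¹ * (y * x) = ⁅y⁻¹, x⁻¹⁆ := by rw [commutatorElement_def]; group
        rw [this]
        exact Subgroup.commutator_mem_commutator (K.inv_mem hy) (K.inv_mem hx)
      rw [map_mul, map_inv, inv_mul_eq_one, map_mul, map_mul] at h1
      exact h1
    have h1 : QuotientGroup.mk' ⁅K, K⁆ ((x * y) ^ q ^ (k + l)) = 1 := by
      rw [map_pow, map_mul, hcomm.mul_pow, ← map_pow, ← map_pow]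
      have hx' : x ^ q ^ (k + l) ∈ ⁅K, K⁆ := by
        rw [pow_add, pow_mul]; exact Subgroup.pow_mem _ hk _
      have hy' : y ^ q ^ (k + l) ∈ ⁅K, K⁆ := by
        rw [pow_add, mul_comm, pow_mul]; exact Subgroup.pow_mem _ hl _
      rw [(hker _).mpr hx', (hker _).mpr hy', mul_one]
    exact (hker _).mp h1

theorem sepD {G : Type*} [Group G] [Finite G] (q r : ℕ) (hq : q.Prime) (hr : r.Prime)
    (hqr : q ≠ r) :
    ∀ (n : ℕ) (K : Subgroup G), Nat.card K = n → K.Normal → Group.IsSolvable ↥K →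
      q ∣ Nat.card K → r ∣ Nat.card K →
      ∃ L : Subgroup G, L ≤ K ∧ L.Normal ∧
        ((q ∣ Nat.card L ∧ ¬ r ∣ Nat.card L) ∨ (r ∣ Nat.card L ∧ ¬ q ∣ Nat.card L)) := by
  intro n
  induction n using Nat.strong_induction_on with
  | _ n ih =>
  intro K hn hKn hKs hqK hrK
  haveI := hKn
  haveI : Fact q.Prime := ⟨hq⟩
  haveI : Fact r.Prime := ⟨hr⟩
  haveI hK₁n : (⁅K, K⁆ : Subgroup G).Normal := Subgroup.commutator_normal K K
  have hK₁le : ⁅K, K⁆ ≤ K := Subgroup.commutator_le_self K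
  have hK₁lt' : ⁅K, K⁆ < K := by
    haveI : Nontrivial ↥K := by
      rw [← Finite.one_lt_card_iff_nontrivial]
      have := Nat.le_of_dvd Nat.card_pos hqK
      have := hq.two_le
      omega
    have h := Group.IsSolvable.commutator_lt_top_of_nontrivial ↥K
    rw [← Subgroup.map_subtype_lt_map_subtype, Subgroup.map_subtype_commutator,
      ← MonoidHom.range_eq_map, K.range_subtype] at h
    exact h
  have hK₁lt : Nat.card ↥⁅K, K⁆ < n := hn ▸ card_lt_card_of_lt hK₁lt'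
  have hK₁s : Group.IsSolvable ↥⁅K, K⁆ :=
    Group.isSolvable_of_isSolvable_injective (Subgroup.inclusion_injective hK₁le)
  by_cases h1 : q ∣ Nat.card ↥⁅K, K⁆
  · by_cases h2 : r ∣ Nat.card ↥⁅K, K⁆
    · obtain ⟨L, hL, hLn, hL2⟩ := ih _ hK₁lt ⁅K, K⁆ rfl hK₁n hK₁s h1 h2
      exact ⟨L, hL.trans hK₁le, hLn, hL2⟩
    · exact ⟨⁅K, K⁆, hK₁le, hK₁n, Or.inl ⟨h1, h2⟩⟩
  · by_cases h2 : r ∣ Nat.card ↥⁅K, K⁆
    · exact ⟨⁅K, K⁆, hK₁le, hK₁n, Or.inr ⟨h2, h1⟩⟩
    · refine ⟨primPre K q, fun x hx => hx.1, ?_, Or.inl ⟨?_, ?_⟩⟩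
      · constructor
        intro x hx g
        obtain ⟨hxK, k, hk⟩ := hx
        refine ⟨hKn.conj_mem x hxK g, k, ?_⟩
        rw [conj_pow]
        exact hK₁n.conj_mem _ hk g
      · obtain ⟨x, hx⟩ := exists_prime_orderOf_dvd_card' q hqK
        have hxL : (x : G) ∈ primPre K q := ⟨x.2, 1, by
          rw [pow_one, ← hx, ← Subgroup.orderOf_coe, pow_orderOf_eq_one]
          exact Subgroup.one_mem _⟩
        have := Subgroup.orderOf_dvd_natCard (primPre K q) hxL
        rwa [Subgroup.orderOf_coe, hx] at this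
      · intro hrL
        obtain ⟨y, hy⟩ := exists_prime_orderOf_dvd_card' r hrL
        obtain ⟨hyK, k, hk⟩ := y.2
        have hy1 : (y : G) ^ r ∈ ⁅K, K⁆ := by
          rw [← hy, ← Subgroup.orderOf_coe, pow_orderOf_eq_one]
          exact Subgroup.one_mem _
        have hyK₁ : (y : G) ∈ ⁅K, K⁆ :=
          mem_of_pow_mem_of_coprime
            (Nat.Coprime.pow_left k ((Nat.coprime_primes hq hr).mpr hqr)) hk hy1
        have := Subgroup.orderOf_dvd_natCard ⁅K, K⁆ hyK₁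
        rw [Subgroup.orderOf_coe, hy] at this
        exact h2 this

theorem prime_dvd_card_map {G H : Type*} [Group G] [Finite G] [Group H] [Finite H] (f : G →* H)
    (K : Subgroup G) {q : ℕ} (hq : q.Prime) (h1 : q ∣ Nat.card K) (h2 : ¬ q ∣ Nat.card f.ker) :
    q ∣ Nat.card (K.map f) := by
  haveI : Fact q.Prime := ⟨hq⟩
  obtain ⟨x, hx⟩ := exists_prime_orderOf_dvd_card' q h1
  have hx' : orderOf (x : G) = q := by rw [Subgroup.orderOf_coe, hx]
  have h3 : orderOf (f x) ∣ q := hx' ▸ orderOf_map_dvd f (x : G)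
  rcases (Nat.dvd_prime hq).mp h3 with h4 | h4
  · exfalso
    rw [orderOf_eq_one_iff] at h4
    have h5 : (x : G) ∈ f.ker := h4
    exact h2 (hx' ▸ Subgroup.orderOf_dvd_natCard _ h5)
  · rw [← h4]
    exact Subgroup.orderOf_dvd_natCard _ (Subgroup.mem_map_of_mem f x.2)

theorem prime_dvd_card_comap {G H : Type*} [Group G] [Finite G] [Group H] [Finite H] (f : G →* H)
    (hf : Function.Surjective f) (M : Subgroup H) {q : ℕ} (hq : q.Prime) (h1 : q ∣ Nat.card M) :
    q ∣ Nat.card (M.comap f) := by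
  haveI : Fact q.Prime := ⟨hq⟩
  obtain ⟨y, hy⟩ := exists_prime_orderOf_dvd_card' q h1
  obtain ⟨x, hx⟩ := hf (y : H)
  have hxM : x ∈ M.comap f := by
    show f x ∈ M
    rw [hx]; exact y.2
  have h2 : orderOf (f x) = q := by rw [hx, Subgroup.orderOf_coe, hy]
  exact (h2 ▸ orderOf_map_dvd f x).trans (Subgroup.orderOf_dvd_natCard _ hxM)

theorem not_dvd_card_comap {G H : Type*} [Group G] [Finite G] [Group H] [Finite H] (f : G →* H)
    (M : Subgroup H) {r : ℕ} (hr : r.Prime) (h1 : ¬ r ∣ Nat.card f.ker) (h2 : ¬ r ∣ Nat.card M) :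
    ¬ r ∣ Nat.card (M.comap f) := by
  haveI : Fact r.Prime := ⟨hr⟩
  intro h
  obtain ⟨y, hy⟩ := exists_prime_orderOf_dvd_card' r h
  have hy' : orderOf (y : G) = r := by rw [Subgroup.orderOf_coe, hy]
  have h3 : orderOf (f y) ∣ r := hy' ▸ orderOf_map_dvd f (y : G)
  rcases (Nat.dvd_prime hr).mp h3 with h4 | h4
  · rw [orderOf_eq_one_iff] at h4
    have h5 : (y : G) ∈ f.ker := h4
    exact h1 (hy' ▸ Subgroup.orderOf_dvd_natCard _ h5)
  · apply h2
    rw [← h4]
    exact Subgroup.orderOf_dvd_natCard _ y.2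

theorem sep' {G : Type*} [Group G] [Finite G] (A B : Subgroup G) [A.Normal] [B.Normal]
    (hAB : A ≤ B) (a b c : ℕ) (ha : a.Prime) (hb : b.Prime) (hc : c.Prime) (hab : a ≠ b)
    (hac : a ≠ c) (hbc : b ≠ c) (haA : a ∣ Nat.card A) (hbB : b ∣ Nat.card B)
    (hbA : ¬ b ∣ Nat.card A) (hcG : c ∣ Nat.card G) (hcB : ¬ c ∣ Nat.card B) :
    (∃ x : G, orderOf x = a * b) ∨ (∃ x : G, orderOf x = a * c) ∨ (∃ x : G, orderOf x = b * c) := by
  apply Cfsg.Agent.S3634.result A B hAB a b c ha hb hc hab hac hbc haA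
  · have h1 : Nat.card A * (Nat.card B / Nat.card A) = Nat.card B :=
      Nat.mul_div_cancel' (Subgroup.card_dvd_of_le hAB)
    rw [← h1] at hbB
    exact ((Nat.Prime.dvd_mul hb).mp hbB).resolve_left hbA
  · have h1 : Nat.card B * (Nat.card G / Nat.card B) = Nat.card G :=
      Nat.mul_div_cancel' (Subgroup.card_subgroup_dvd_card B)
    rw [← h1] at hcG
    exact ((Nat.Prime.dvd_mul hc).mp hcG).resolve_left hcB

/-- two of the three primes are adjacent -/
def Good (G : Type*) [Group G] (p q r : ℕ) : Prop :=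
  ∃ a b : ℕ, (a = p ∨ a = q ∨ a = r) ∧ (b = p ∨ b = q ∨ b = r) ∧ a ≠ b ∧ ∃ x : G, orderOf x = a * b

theorem sepF₀ {G : Type*} [Group G] [Finite G] (K L : Subgroup G) [K.Normal] [L.Normal]
    (hKs : Group.IsSolvable ↥K) (hLK : L ≤ K) (p q r : ℕ) (hp : p.Prime) (hq : q.Prime)
    (hr : r.Prime) (hpq : p ≠ q) (hpr : p ≠ r) (hqr : q ≠ r)
    (hpL : p ∣ Nat.card L) (hqL : ¬ q ∣ Nat.card L) (hqK : q ∣ Nat.card K)
    (hrG : r ∣ Nat.card G) : Good G p q r := by
  have hqG : q ∣ Nat.card G := hqK.trans (Subgroup.card_subgroup_dvd_card K)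
  by_cases hrK : r ∣ Nat.card K
  · by_cases hrL : r ∣ Nat.card L
    · have hLs : Group.IsSolvable ↥L :=
        Group.isSolvable_of_isSolvable_injective (Subgroup.inclusion_injective hLK)
      obtain ⟨L₂, hL₂L, hL₂n, h | h⟩ := sepD p r hp hr hpr _ L rfl inferInstance hLs hpL hrL
      · haveI := hL₂n
        rcases sep' L₂ L hL₂L p r q hp hr hq hpr hpq hqr.symm h.1 hrL h.2 hqG hqL with
          ⟨x, hx⟩ | ⟨x, hx⟩ | ⟨x, hx⟩
        · exact ⟨p, r, Or.inl rfl, Or.inr (Or.inr rfl), hpr, x, hx⟩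
        · exact ⟨p, q, Or.inl rfl, Or.inr (Or.inl rfl), hpq, x, hx⟩
        · exact ⟨r, q, Or.inr (Or.inr rfl), Or.inr (Or.inl rfl), hqr.symm, x, hx⟩
      · haveI := hL₂n
        rcases sep' L₂ L hL₂L r p q hr hp hq hpr.symm hqr.symm hpq h.1 hpL h.2 hqG hqL with
          ⟨x, hx⟩ | ⟨x, hx⟩ | ⟨x, hx⟩
        · exact ⟨r, p, Or.inr (Or.inr rfl), Or.inl rfl, hpr.symm, x, hx⟩
        · exact ⟨r, q, Or.inr (Or.inr rfl), Or.inr (Or.inl rfl), hqr.symm, x, hx⟩
        · exact ⟨p, q, Or.inl rfl, Or.inr (Or.inl rfl), hpq, x, hx⟩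
    · have hker : (QuotientGroup.mk' L).ker = L := QuotientGroup.ker_mk' L
      have hKbn : (K.map (QuotientGroup.mk' L)).Normal :=
        Subgroup.Normal.map (inferInstance : K.Normal) _ (QuotientGroup.mk'_surjective L)
      have hKbs : Group.IsSolvable ↥(K.map (QuotientGroup.mk' L)) :=
        Group.isSolvable_of_surjective (MonoidHom.subgroupMap_surjective (QuotientGroup.mk' L) K)
      have hqKb : q ∣ Nat.card (K.map (QuotientGroup.mk' L)) :=
        prime_dvd_card_map _ K hq hqK (by rw [hker]; exact hqL)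
      have hrKb : r ∣ Nat.card (K.map (QuotientGroup.mk' L)) :=
        prime_dvd_card_map _ K hr hrK (by rw [hker]; exact hrL)
      obtain ⟨Mb, hMbK, hMbn, h | h⟩ :=
        sepD q r hq hr hqr _ (K.map (QuotientGroup.mk' L)) rfl hKbn hKbs hqKb hrKb
      · haveI : (Mb.comap (QuotientGroup.mk' L)).Normal := hMbn.comap _
        have hLM : L ≤ Mb.comap (QuotientGroup.mk' L) := by
          intro x hx
          show QuotientGroup.mk' L x ∈ Mb
          have : QuotientGroup.mk' L x = 1 := by rw [← MonoidHom.mem_ker, hker]; exact hx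
          rw [this]; exact Mb.one_mem
        rcases sep' L (Mb.comap (QuotientGroup.mk' L)) hLM p q r hp hq hr hpq hpr hqr hpL
          (prime_dvd_card_comap _ (QuotientGroup.mk'_surjective L) Mb hq h.1) hqL hrG
          (not_dvd_card_comap _ Mb hr (by rw [hker]; exact hrL) h.2) with
          ⟨x, hx⟩ | ⟨x, hx⟩ | ⟨x, hx⟩
        · exact ⟨p, q, Or.inl rfl, Or.inr (Or.inl rfl), hpq, x, hx⟩
        · exact ⟨p, r, Or.inl rfl, Or.inr (Or.inr rfl), hpr, x, hx⟩
        · exact ⟨q, r, Or.inr (Or.inl rfl), Or.inr (Or.inr rfl), hqr, x, hx⟩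
      · haveI : (Mb.comap (QuotientGroup.mk' L)).Normal := hMbn.comap _
        have hLM : L ≤ Mb.comap (QuotientGroup.mk' L) := by
          intro x hx
          show QuotientGroup.mk' L x ∈ Mb
          have : QuotientGroup.mk' L x = 1 := by rw [← MonoidHom.mem_ker, hker]; exact hx
          rw [this]; exact Mb.one_mem
        rcases sep' L (Mb.comap (QuotientGroup.mk' L)) hLM p r q hp hr hq hpr hpq hqr.symm hpL
          (prime_dvd_card_comap _ (QuotientGroup.mk'_surjective L) Mb hr h.1) hrL hqG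
          (not_dvd_card_comap _ Mb hq (by rw [hker]; exact hqL) h.2) with
          ⟨x, hx⟩ | ⟨x, hx⟩ | ⟨x, hx⟩
        · exact ⟨p, r, Or.inl rfl, Or.inr (Or.inr rfl), hpr, x, hx⟩
        · exact ⟨p, q, Or.inl rfl, Or.inr (Or.inl rfl), hpq, x, hx⟩
        · exact ⟨r, q, Or.inr (Or.inr rfl), Or.inr (Or.inl rfl), hqr.symm, x, hx⟩
  · rcases sep' L K hLK p q r hp hq hr hpq hpr hqr hpL hqK hqL hrG hrK with
      ⟨x, hx⟩ | ⟨x, hx⟩ | ⟨x, hx⟩
    · exact ⟨p, q, Or.inl rfl, Or.inr (Or.inl rfl), hpq, x, hx⟩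
    · exact ⟨p, r, Or.inl rfl, Or.inr (Or.inr rfl), hpr, x, hx⟩
    · exact ⟨q, r, Or.inr (Or.inl rfl), Or.inr (Or.inr rfl), hqr, x, hx⟩

theorem main {G : Type*} [Group G] [Finite G] (K : Subgroup G) [K.Normal]
    (hK : Group.IsSolvable ↥K) (p q r : ℕ) (hp : p.Prime) (hq : q.Prime)
    (hr : r.Prime) (hpq : p ≠ q) (hpr : p ≠ r) (hqr : q ≠ r)
    (hpK : p ∣ Nat.card K) (hqK : q ∣ Nat.card K) (hrG : r ∣ Nat.card G) : Good G p q r := by
  obtain ⟨L, hLK, hLn, h | h⟩ := sepD p q hp hq hpq _ K rfl inferInstance hK hpK hqK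
  · haveI := hLn
    exact sepF₀ K L hK hLK p q r hp hq hr hpq hpr hqr h.1 h.2 hqK hrG
  · haveI := hLn
    obtain ⟨a, b, ha, hb, hab, x, hx⟩ :=
      sepF₀ K L hK hLK q p r hq hp hr hpq.symm hqr hpr h.1 h.2 hpK hrG
    exact ⟨a, b, by tauto, by tauto, hab, x, hx⟩

/-- Let G be a finite group and ρ a set of at least three prime divisors of the order of G that are pairwise non-adjacent in the prime graph (no element of order rs for distinct r, s ∈ ρ). Then at most one prime of ρ divides the order of any given solvable normal subgroup of G; in particular G is not solvable. -/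
theorem result {G : Type*} [Group G] [Finite G] (ρ : Finset ℕ) (hρ : 3 ≤ ρ.card) (hc : ((∀ r ∈ ρ, r.Prime ∧ r ∣ Nat.card G) ∧ (∀ r ∈ ρ, ∀ s ∈ ρ, r ≠ s → ¬ ∃ x : G, orderOf x = r * s)))
    (K : Subgroup G) [K.Normal] (hK : Group.IsSolvable ↥K) :
    (∀ r ∈ ρ, ∀ s ∈ ρ, r ∣ Nat.card ↥K → s ∣ Nat.card ↥K → r = s) ∧ ¬ Group.IsSolvable G := by
  classical
  have key : ∀ r ∈ ρ, ∀ s ∈ ρ, r ≠ s → ∀ (K : Subgroup G), K.Normal → Group.IsSolvable ↥K →
      r ∣ Nat.card K → s ∣ Nat.card K → False := by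
    intro r hr s hs hrs K hKn hKs hrK hsK
    haveI := hKn
    obtain ⟨t, ht, htr, hts⟩ : ∃ t ∈ ρ, t ≠ r ∧ t ≠ s := by
      by_contra hne
      push Not at hne
      have h1 : ρ ⊆ {r, s} := by
        intro t ht
        by_cases h : t = r
        · simp [h]
        · simp [hne t ht h]
      have h2 := Finset.card_le_card h1
      have h3 := Finset.card_le_two (a := r) (b := s)
      omega
    obtain ⟨a, b, ha, hb, hab, x, hx⟩ := main K hKs r s t (hc.1 r hr).1 (hc.1 s hs).1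
      (hc.1 t ht).1 hrs htr.symm hts.symm hrK hsK (hc.1 t ht).2
    have haρ : a ∈ ρ := by rcases ha with rfl | rfl | rfl <;> assumption
    have hbρ : b ∈ ρ := by rcases hb with rfl | rfl | rfl <;> assumption
    exact hc.2 a haρ b hbρ hab ⟨x, hx⟩
  refine ⟨fun r hr s hs hrK hsK => ?_, ?_⟩
  · by_contra hne
    exact key r hr s hs hne K inferInstance hK hrK hsK
  · intro hG
    obtain ⟨r, hr, s, hs, hrs⟩ := Finset.one_lt_card.mp (by omega : 1 < ρ.card)
    have hts : Group.IsSolvable ↥(⊤ : Subgroup G) :=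
      Group.isSolvable_of_isSolvable_injective (f := (⊤ : Subgroup G).subtype) (Subgroup.subtype_injective _)
    exact key r hr s hs hrs ⊤ inferInstance hts (by rw [Subgroup.card_top]; exact (hc.1 r hr).2)
      (by rw [Subgroup.card_top]; exact (hc.1 s hs).2)

end Cfsg.Agent.S3633
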