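import Cfsg.Statements.S3684
import Mathlib
import Cfsg.Agent.S3867
import Cfsg.Agent.Lib.Lead.DihLift

set_option autoImplicit false
open Cfsg

namespace Cfsg.Agent.S3684


theorem card_rel {G : Type*} [Group G] [Finite G] (H K : Subgroup G) (h : H ≤ K) :
    Nat.card H * H.relIndex K = Nat.card K := by
  have h1 := (H.subgroupOf K).card_mul_index
  rw [Nat.card_congr (Subgroup.subgroupOfEquivOfLe h).toEquiv] at h1
  exact h1

theorem normal_stab_bot {G Ω : Type*} [Group G] [MulAction G Ω] [FaithfulSMul G Ω]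
    [MulAction.IsPretransitive G Ω] (a : Ω) (N : Subgroup G) (hN : N.Normal)
    (hle : N ≤ MulAction.stabilizer G a) : N = ⊥ := by
  rw [eq_bot_iff]
  intro u hu
  rw [Subgroup.mem_bot]
  apply FaithfulSMul.eq_of_smul_eq_smul (α := Ω)
  intro ω
  obtain ⟨g, rfl⟩ := MulAction.exists_smul_eq G a ω
  rw [one_smul]
  have h1 : g⁻¹ * u * g ∈ N := by
    have h0 := hN.conj_mem u hu g⁻¹
    rwa [inv_inv] at h0
  have h2 : (g⁻¹ * u * g) • a = a := MulAction.mem_stabilizer_iff.mp (hle h1)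
  calc u • g • a = g • (g⁻¹ * u * g) • a := by
        rw [smul_smul, smul_smul]; congr 1; group
    _ = g • a := by rw [h2]

theorem card_two {G : Type*} [Group G] [Finite G] (K : Subgroup G) (h : Nat.card K = 2) :
    ∃ t : G, orderOf t = 2 ∧ K = Subgroup.zpowers t := by
  have hne : K ≠ ⊥ := by
    intro hb
    rw [hb, Subgroup.card_bot] at h
    omega
  obtain ⟨⟨t, ht⟩, ht1⟩ := (Subgroup.ne_bot_iff_exists_ne_one).mp hne
  have ht1' : t ≠ 1 := fun h0 => ht1 (Subtype.ext h0)
  have h1 : orderOf t ∣ 2 := by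
    have h0 : orderOf (⟨t, ht⟩ : ↥K) ∣ Nat.card K := orderOf_dvd_natCard _
    rw [h, ← Subgroup.orderOf_coe] at h0
    exact h0
  have h2 : orderOf t = 2 := by
    rcases (Nat.dvd_prime Nat.prime_two).mp h1 with h0 | h0
    · exact absurd (orderOf_eq_one_iff.mp h0) ht1'
    · exact h0
  refine ⟨t, h2, ?_⟩
  symm
  apply Subgroup.eq_of_le_of_card_ge (Subgroup.zpowers_le.mpr ht)
  rw [h, Nat.card_zpowers, h2]
theorem result {G Ω : Type*} [Group G] [Finite G] [MulAction G Ω] [FaithfulSMul G Ω] [Finite Ω]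
    (hprim : MulAction.IsPreprimitive G Ω) (a b : Ω) (h2 : Nat.card (MulAction.orbit (MulAction.stabilizer G a) b) = 2) :
    Nat.card (MulAction.stabilizer G a) = 2 ∧ ∃ p : ℕ, p.Prime ∧ Nonempty (G ≃* DihedralGroup p) := by
  classical
  haveI := hprim
  haveI : MulAction.IsPretransitive G Ω := hprim.toIsPretransitive
  have h1 : ((MulAction.stabilizer G b).subgroupOf (MulAction.stabilizer G a)).index = 2 := by
    have e := MulAction.orbitEquivQuotientStabilizer (↥(MulAction.stabilizer G a)) b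
    have h0 : Nat.card (MulAction.orbit (↥(MulAction.stabilizer G a)) b) = (MulAction.stabilizer (↥(MulAction.stabilizer G a)) b).index :=
      Nat.card_congr e
    have h3 : MulAction.stabilizer (↥(MulAction.stabilizer G a)) b = (MulAction.stabilizer G b).subgroupOf (MulAction.stabilizer G a) := by
      ext g
      rw [Subgroup.mem_subgroupOf, MulAction.mem_stabilizer_iff, MulAction.mem_stabilizer_iff]
      rfl
    rw [← h3, ← h0]
    exact h2
  have hNont : Nontrivial Ω := by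
    have h1lt : 1 < Nat.card (MulAction.orbit (↥(MulAction.stabilizer G a)) b) := by rw [h2]; omega
    haveI := (Finite.one_lt_card_iff_nontrivial.mp h1lt)
    obtain ⟨u, v, huv⟩ := exists_pair_ne (MulAction.orbit (↥(MulAction.stabilizer G a)) b)
    exact nontrivial_of_ne (u : Ω) v (fun h => huv (Subtype.ext h))
  have hST : ¬ (MulAction.stabilizer G a) ≤ (MulAction.stabilizer G b) := by
    intro h
    have h0 : (MulAction.stabilizer G b).subgroupOf (MulAction.stabilizer G a) = ⊤ := Subgroup.subgroupOf_eq_top.mpr h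
    rw [h0, Subgroup.index_top] at h1
    omega
  have hUS : (MulAction.stabilizer G b) ⊓ (MulAction.stabilizer G a) ≤ (MulAction.stabilizer G a) := inf_le_right
  have hUT : (MulAction.stabilizer G b) ⊓ (MulAction.stabilizer G a) ≤ (MulAction.stabilizer G b) := inf_le_left
  have hrelS : ((MulAction.stabilizer G b) ⊓ (MulAction.stabilizer G a)).relIndex (MulAction.stabilizer G a) = 2 := by
    rw [Subgroup.inf_relIndex_right]
    exact h1
  have hcS : Nat.card ↥((MulAction.stabilizer G b) ⊓ (MulAction.stabilizer G a)) * 2 = Nat.card (MulAction.stabilizer G a) := by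
    rw [← hrelS]
    exact card_rel ((MulAction.stabilizer G b) ⊓ (MulAction.stabilizer G a)) (MulAction.stabilizer G a) hUS
  obtain ⟨g, hg⟩ := MulAction.exists_smul_eq G a b
  have hcST : Nat.card (MulAction.stabilizer G b) = Nat.card (MulAction.stabilizer G a) := by
    have h0 : (MulAction.stabilizer G b) = (MulAction.stabilizer G a).map (MulAut.conj g).toMonoidHom := by
      rw [← hg]
      exact MulAction.stabilizer_smul_eq_stabilizer_map_conj g a
    rw [h0]
    exact Subgroup.card_map_of_injective (MulAut.conj g).injective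
  have hrelT : ((MulAction.stabilizer G b) ⊓ (MulAction.stabilizer G a)).relIndex (MulAction.stabilizer G b) = 2 := by
    have h3 := card_rel ((MulAction.stabilizer G b) ⊓ (MulAction.stabilizer G a)) (MulAction.stabilizer G b) hUT
    rw [hcST, ← hcS] at h3
    exact Nat.eq_of_mul_eq_mul_left Nat.card_pos h3
  have hnS : (MulAction.stabilizer G a) ≤ Subgroup.normalizer (((MulAction.stabilizer G b) ⊓ (MulAction.stabilizer G a) : Subgroup G) : Set G) := by
    rw [← Subgroup.normal_subgroupOf_iff_le_normalizer hUS]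
    exact Subgroup.normal_of_index_eq_two hrelS
  have hnT : (MulAction.stabilizer G b) ≤ Subgroup.normalizer (((MulAction.stabilizer G b) ⊓ (MulAction.stabilizer G a) : Subgroup G) : Set G) := by
    rw [← Subgroup.normal_subgroupOf_iff_le_normalizer hUT]
    exact Subgroup.normal_of_index_eq_two hrelT
  have hco : IsCoatom (MulAction.stabilizer G a) := (MulAction.isCoatom_stabilizer_iff_preprimitive G a).mpr hprim
  have hsup : (MulAction.stabilizer G a) ⊔ (MulAction.stabilizer G b) = ⊤ := by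
    apply hco.2
    apply lt_of_le_of_ne le_sup_left
    intro h
    have hTS : (MulAction.stabilizer G b) ≤ (MulAction.stabilizer G a) := le_sup_right.trans h.symm.le
    have h0 : (MulAction.stabilizer G b) = (MulAction.stabilizer G a) := Subgroup.eq_of_le_of_card_ge hTS hcST.symm.le
    exact hST h0.symm.le
  have hUn : ((MulAction.stabilizer G b) ⊓ (MulAction.stabilizer G a)).Normal := by
    rw [← Subgroup.normalizer_eq_top_iff, eq_top_iff, ← hsup]
    exact sup_le hnS hnT
  have hUbot : (MulAction.stabilizer G b) ⊓ (MulAction.stabilizer G a) = ⊥ := normal_stab_bot a ((MulAction.stabilizer G b) ⊓ (MulAction.stabilizer G a)) hUn hUS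
  have hS2 : Nat.card (MulAction.stabilizer G a) = 2 := by rw [← hcS, hUbot, Subgroup.card_bot]
  have hT2 : Nat.card (MulAction.stabilizer G b) = 2 := by rw [hcST, hS2]
  refine ⟨hS2, ?_⟩
  obtain ⟨τ, hτ, hSτ⟩ := card_two (MulAction.stabilizer G a) hS2
  obtain ⟨σ, hσ, hTσ⟩ := card_two (MulAction.stabilizer G b) hT2
  have hτ2 : τ * τ = 1 := by rw [← pow_two, ← hτ]; exact pow_orderOf_eq_one τ
  have hσ2 : σ * σ = 1 := by rw [← pow_two, ← hσ]; exact pow_orderOf_eq_one σ
  have hτinv : τ⁻¹ = τ := inv_eq_of_mul_eq_one_right hτ2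
  have hσinv : σ⁻¹ = σ := inv_eq_of_mul_eq_one_right hσ2
  have htop : Subgroup.zpowers τ ⊔ Subgroup.zpowers σ = ⊤ := by
    rw [← hSτ, ← hTσ]; exact hsup
  have hxy : (σ * τ) * τ * (σ * τ) = τ := by
    calc σ * τ * τ * (σ * τ) = σ * (τ * τ) * σ * τ := by group
      _ = τ := by rw [hτ2, mul_one, hσ2, one_mul]
  have hconj : τ * (σ * τ) * τ⁻¹ = (σ * τ)⁻¹ := by
    rw [mul_inv_rev, hσinv, hτinv, mul_assoc, mul_assoc, hτ2, mul_one]
  have hτnorm : τ ∈ Subgroup.normalizer ((Subgroup.zpowers (σ * τ) : Subgroup G) : Set G) := by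
    apply Cfsg.Agent.S3867.norm_of_conj_le
    rintro u ⟨k, rfl⟩
    have h0 : τ * (σ * τ) ^ k * τ⁻¹ = ((σ * τ)⁻¹) ^ k := by rw [← conj_zpow, hconj]
    show τ * (σ * τ) ^ k * τ⁻¹ ∈ Subgroup.zpowers (σ * τ)
    rw [h0]
    exact Subgroup.zpow_mem _ (inv_mem (Subgroup.mem_zpowers (σ * τ))) k
  have hτel : ∀ h ∈ Subgroup.zpowers τ, h = 1 ∨ h = τ := by
    rintro h ⟨k, rfl⟩
    have h0 : τ ^ (k % (2 : ℤ)) = τ ^ k := by
      have h5 := zpow_mod_orderOf τ k
      rw [hτ] at h5
      exact_mod_cast h5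
    rcases Int.emod_two_eq_zero_or_one k with h1 | h1
    · left
      show τ ^ k = 1
      rw [← h0, h1, zpow_zero]
    · right
      show τ ^ k = τ
      rw [← h0, h1, zpow_one]
  have hτnot : τ ∉ Subgroup.zpowers (σ * τ) := by
    intro hmem
    obtain ⟨k, hk⟩ := hmem
    have hk' : (σ * τ) ^ k = τ := hk
    have hc : Commute ((σ * τ) ^ k) (σ * τ) := (Commute.refl (σ * τ)).zpow_left k
    rw [hk'] at hc
    have h3 : τ * σ = σ * τ := by
      have h4 : τ * (σ * τ) = σ * τ * τ := hc.eq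
      rw [mul_assoc σ τ τ, hτ2, mul_one] at h4
      calc τ * σ = τ * σ * (τ * τ) := by rw [hτ2, mul_one]
        _ = τ * (σ * τ) * τ := by group
        _ = σ * τ := by rw [h4]
    have hσn : σ ∈ Subgroup.normalizer ((Subgroup.zpowers τ : Subgroup G) : Set G) := by
      apply Cfsg.Agent.S3867.norm_of_conj_le
      rintro u ⟨j, rfl⟩
      have h5 : σ * τ * σ⁻¹ = τ := by rw [← h3, mul_assoc, mul_inv_cancel, mul_one]
      have h6 : σ * τ ^ j * σ⁻¹ = τ ^ j := by rw [← conj_zpow, h5]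
      show σ * τ ^ j * σ⁻¹ ∈ Subgroup.zpowers τ
      rw [h6]
      exact Subgroup.zpow_mem _ (Subgroup.mem_zpowers τ) j
    have hτn : Subgroup.zpowers τ ≤
        Subgroup.normalizer ((Subgroup.zpowers τ : Subgroup G) : Set G) := Subgroup.le_normalizer
    have hnorm : (Subgroup.zpowers τ).Normal := by
      rw [← Subgroup.normalizer_eq_top_iff, eq_top_iff, ← htop]
      exact sup_le hτn (Subgroup.zpowers_le.mpr hσn)
    have hbot := normal_stab_bot a (Subgroup.zpowers τ) hnorm hSτ.symm.le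
    rw [hSτ, hbot, Subgroup.card_bot] at hS2
    omega
  have htop2 : Subgroup.zpowers (σ * τ) ⊔ Subgroup.zpowers τ = ⊤ := by
    rw [eq_top_iff, ← htop]
    apply sup_le le_sup_right
    rw [Subgroup.zpowers_le]
    have h0 : (σ * τ) * τ ∈ Subgroup.zpowers (σ * τ) ⊔ Subgroup.zpowers τ := mul_mem
      ((le_sup_left : Subgroup.zpowers (σ * τ) ≤ Subgroup.zpowers (σ * τ) ⊔ Subgroup.zpowers τ)
        (Subgroup.mem_zpowers (σ * τ)))
      ((le_sup_right : Subgroup.zpowers τ ≤ Subgroup.zpowers (σ * τ) ⊔ Subgroup.zpowers τ)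
        (Subgroup.mem_zpowers τ))
    rwa [mul_assoc, hτ2, mul_one] at h0
  have hsurj : ∀ g : G, g ∈ Subgroup.zpowers (σ * τ) ∨
      ∃ h ∈ Subgroup.zpowers (σ * τ), g = τ * h := by
    intro g
    have hg : g ∈ Subgroup.zpowers (σ * τ) ⊔ Subgroup.zpowers τ := by
      rw [htop2]; exact Subgroup.mem_top g
    obtain ⟨n', hn', h, hh, rfl⟩ := Cfsg.Agent.Lib.Lead.mem_sup_of_le_normalizer
      (N := Subgroup.zpowers (σ * τ)) (H := Subgroup.zpowers τ)
      (Subgroup.zpowers_le.mpr hτnorm) hg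
    rcases hτel h hh with h5 | h5
    · left
      rw [h5, mul_one]
      exact hn'
    · right
      refine ⟨τ⁻¹ * n' * τ, ?_, by rw [h5]; group⟩
      have h6 : τ⁻¹ ∈ Subgroup.normalizer ((Subgroup.zpowers (σ * τ) : Subgroup G) : Set G) :=
        inv_mem hτnorm
      have h7 := (Subgroup.mem_normalizer_iff.mp h6 n').mp hn'
      rwa [inv_inv] at h7
  have hn : 0 < orderOf (σ * τ) := orderOf_pos (σ * τ)
  haveI : NeZero (orderOf (σ * τ)) := ⟨hn.ne'⟩
  have hbij := Cfsg.Agent.Lib.Lead.dihHom_bijective (orderOf (σ * τ)) (σ * τ) τ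
    (pow_orderOf_eq_one (σ * τ)) hτ2 hxy rfl hτnot hsurj
  have hcard : Nat.card G = 2 * orderOf (σ * τ) := by
    rw [← Nat.card_congr (MulEquiv.ofBijective _ hbij).toEquiv, DihedralGroup.nat_card]
  refine ⟨orderOf (σ * τ), ?_, ⟨(MulEquiv.ofBijective _ hbij).symm⟩⟩
  by_contra hnp
  have hn1 : orderOf (σ * τ) ≠ 1 := by
    intro h1'
    have h0 : Nat.card (⊤ : Subgroup G) = 2 := by rw [Subgroup.card_top, hcard, h1']
    have h5 : (MulAction.stabilizer G a) = ⊤ := Subgroup.eq_of_le_of_card_ge le_top (by rw [h0, hS2])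
    exact hco.1 h5
  have hn2 : 2 ≤ orderOf (σ * τ) := by omega
  obtain ⟨d, hd, hd2, hdn⟩ := Nat.exists_dvd_of_not_prime2 hn2 hnp
  obtain ⟨e', he'⟩ := hd
  have he'pos : 0 < e' := by
    rcases Nat.eq_zero_or_pos e' with h | h
    · rw [h, mul_zero] at he'
      omega
    · exact h
  have hwnotS : (σ * τ) ^ d ∉ (MulAction.stabilizer G a) := by
    intro hwS
    rw [hSτ] at hwS
    rcases hτel _ hwS with h | h
    · have h0 := Nat.le_of_dvd (by omega) (orderOf_dvd_of_pow_eq_one h)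
      omega
    · apply hτnot
      have h9 : (σ * τ) ^ d ∈ Subgroup.zpowers (σ * τ) := pow_mem (Subgroup.mem_zpowers (σ * τ)) d
      rw [h] at h9
      exact h9
  have hV : (MulAction.stabilizer G a) ⊔ Subgroup.zpowers ((σ * τ) ^ d) = ⊤ := by
    apply hco.2
    apply lt_of_le_of_ne le_sup_left
    intro h
    apply hwnotS
    exact h.symm.le ((le_sup_right : Subgroup.zpowers ((σ * τ) ^ d) ≤
      (MulAction.stabilizer G a) ⊔ Subgroup.zpowers ((σ * τ) ^ d)) (Subgroup.mem_zpowers _))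
  have hSw : (MulAction.stabilizer G a) ≤ Subgroup.normalizer ((Subgroup.zpowers ((σ * τ) ^ d) : Subgroup G) : Set G) := by
    rw [hSτ, Subgroup.zpowers_le]
    apply Cfsg.Agent.S3867.norm_of_conj_le
    rintro u ⟨k, rfl⟩
    have h5 : τ * (σ * τ) ^ d * τ⁻¹ = ((σ * τ) ^ d)⁻¹ := by rw [← conj_pow, hconj, inv_pow]
    have h6 : τ * ((σ * τ) ^ d) ^ k * τ⁻¹ = (((σ * τ) ^ d)⁻¹) ^ k := by rw [← conj_zpow, h5]
    show τ * ((σ * τ) ^ d) ^ k * τ⁻¹ ∈ Subgroup.zpowers ((σ * τ) ^ d)
    rw [h6]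
    exact Subgroup.zpow_mem _ (inv_mem (Subgroup.mem_zpowers _)) k
  have hcardV := Cfsg.Agent.Lib.Helper5.card_sup_mul_card_inf_of_le_normalizer (MulAction.stabilizer G a)
    (Subgroup.zpowers ((σ * τ) ^ d)) hSw
  have hwe : orderOf ((σ * τ) ^ d) ∣ e' := orderOf_dvd_of_pow_eq_one (by
    rw [← pow_mul, ← he']; exact pow_orderOf_eq_one (σ * τ))
  have hwle : orderOf ((σ * τ) ^ d) ≤ e' := Nat.le_of_dvd he'pos hwe
  have hinfpos : 0 < Nat.card ↥((MulAction.stabilizer G a) ⊓ Subgroup.zpowers ((σ * τ) ^ d)) := Nat.card_pos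
  have hle : Nat.card ↥((MulAction.stabilizer G a) ⊔ Subgroup.zpowers ((σ * τ) ^ d)) ≤ 2 * e' := by
    calc Nat.card ↥((MulAction.stabilizer G a) ⊔ Subgroup.zpowers ((σ * τ) ^ d))
        ≤ Nat.card ↥((MulAction.stabilizer G a) ⊔ Subgroup.zpowers ((σ * τ) ^ d)) *
          Nat.card ↥((MulAction.stabilizer G a) ⊓ Subgroup.zpowers ((σ * τ) ^ d)) := Nat.le_mul_of_pos_right _ hinfpos
      _ = Nat.card (MulAction.stabilizer G a) * Nat.card (Subgroup.zpowers ((σ * τ) ^ d)) := hcardV
      _ = 2 * orderOf ((σ * τ) ^ d) := by rw [hS2, Nat.card_zpowers]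
      _ ≤ 2 * e' := Nat.mul_le_mul_left 2 hwle
  rw [hV, Subgroup.card_top, hcard, he'] at hle
  nlinarith [Nat.mul_le_mul_right e' hd2]

end Cfsg.Agent.S3684
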