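import Cfsg.Statements.S3746
import Cfsg.Agent.Lib.Helper2.Comp23

set_option autoImplicit false
open Cfsg

namespace Cfsg.Agent.S3746

open Cfsg.Agent.Lib.Helper2.Comp in
theorem result {G : Type*} [Group G] [Finite G] (Z : Subgroup G) (hZ : Z ≤ Subgroup.center G) [Z.Normal] (E : Subgroup G) (hZE : Z ≤ E) (hE : Cfsg.IsComponent (E.map (QuotientGroup.mk' Z))) : Cfsg.IsComponent ⁅E, E⁆ := by
  obtain ⟨π, hπ⟩ : ∃ π : G →* G ⧸ Z, π = QuotientGroup.mk' Z := ⟨_, rfl⟩
  rw [← hπ] at hE
  have hker : π.ker = Z := by rw [hπ]; exact QuotientGroup.ker_mk' Z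
  obtain ⟨hEs, hEq⟩ := hE
  have hZc : ∀ Y : Subgroup G, Z ≤ Subgroup.centralizer (Y : Set G) :=
    fun Y => hZ.trans (Subgroup.center_le_centralizer _)
  have hcomm : ∀ M : Subgroup G, E ≤ M ⊔ Z → ⁅E, E⁆ ≤ ⁅M, M⁆ := by
    intro M hEM
    exact (Subgroup.commutator_mono hEM hEM).trans (commutator_sup_central (hZc _))
  obtain ⟨P, hP⟩ : ∃ P, P = ⁅E, E⁆ := ⟨_, rfl⟩
  rw [← hP]
  have hPE : P ≤ E := by rw [hP]; exact commutator_self_le E
  have hmapP : P.map π = E.map π := by
    rw [hP, Subgroup.map_commutator]; exact perfect_of_isQuasisimple hEq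
  have hEPZ : E ≤ P ⊔ Z := by
    have h0 : E ≤ (E.map π).comap π := Subgroup.le_comap_map π E
    rw [← hmapP, Subgroup.comap_map_eq, hker] at h0
    exact h0
  have hperf : ⁅P, P⁆ = P := by
    apply le_antisymm (commutator_self_le P)
    have h0 := hcomm P hEPZ
    rw [← hP] at h0
    exact h0
  have hne : P ≠ ⊥ := by
    intro h0
    rw [h0, Subgroup.map_bot] at hmapP
    exact ne_bot_of_isQuasisimple hEq hmapP.symm
  refine ⟨?_, isQuasisimple_of_internal hperf hne ?_⟩
  · have hEsub : E.IsSubnormal := by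
      have h0 := hEs.comap π
      rw [Subgroup.comap_map_eq, hker, sup_eq_left.mpr hZE] at h0
      exact h0
    have hPn : (P.subgroupOf E).Normal := by
      apply (Subgroup.normal_subgroupOf_iff_le_normalizer hPE).mpr
      rw [hP]; exact le_normalizer_commutator_self E
    exact Subgroup.IsSubnormal.trans hPE hPn.isSubnormal hEsub
  · intro M hMP hPM
    have hMbar : M.map π ≤ E.map π := Subgroup.map_mono (hMP.trans hPE)
    have hnorm : E.map π ≤ Subgroup.normalizer ((M.map π : Subgroup _) : Set _) := by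
      rw [← hmapP]
      exact (Subgroup.map_mono hPM).trans (Subgroup.le_normalizer_map π)
    rcases normal_sub hEq hMbar hnorm with h1 | h1
    · left
      apply le_antisymm hMP
      have hEM : E ≤ M ⊔ Z := by
        have h0 : E ≤ (E.map π).comap π := Subgroup.le_comap_map π E
        rw [← h1, Subgroup.comap_map_eq, hker] at h0
        exact h0
      rw [hP]
      exact (hcomm M hEM).trans (commutator_self_le M)
    · right
      have h2 : ⁅M, E⁆ ≤ Z := by
        rw [← hker, ← Subgroup.map_eq_bot_iff, Subgroup.map_commutator,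
          Subgroup.commutator_eq_bot_iff_le_centralizer]
        exact h1
      have h3 : ⁅⁅M, E⁆, E⁆ = ⊥ := by
        rw [Subgroup.commutator_eq_bot_iff_le_centralizer]
        exact h2.trans (hZc E)
      have h4 : ⁅⁅E, M⁆, E⁆ = ⊥ := by rw [Subgroup.commutator_comm E M]; exact h3
      have h5 : ⁅⁅E, E⁆, M⁆ = ⊥ := Subgroup.commutator_commutator_eq_bot_of_rotate h4 h3
      rw [← hP, Subgroup.commutator_comm, Subgroup.commutator_eq_bot_iff_le_centralizer] at h5
      exact h5

end Cfsg.Agent.S3746
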