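import Cfsg.Statements.S3747
import Mathlib
import Cfsg.Agent.S3867
import Cfsg.Agent.Lib.Helper2.Comp2
import Cfsg.Agent.Lib.Helper2.Comp11
import Cfsg.Agent.Lib.Helper2.Comp18
import Cfsg.Agent.Lib.Helper3.Quasi
import Cfsg.Agent.Lib.Helper4.Subn
import Cfsg.Agent.Lib.Lead.Coprime
set_option autoImplicit false
open Cfsg

namespace Cfsg.Agent.S3747


open Cfsg.Agent.Lib.Helper2.Comp
open scoped commutatorElement

universe u

theorem center_sSup {G : Type u} [Group G] (𝒮 : Finset (Subgroup G)) :
    (∀ L ∈ 𝒮, Cfsg.IsComponent L ∧ ∀ l ∈ L, (∀ y ∈ L, l * y = y * l) → l = 1) →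
    ∀ z ∈ sSup (𝒮 : Set (Subgroup G)), (∀ L ∈ 𝒮, ∀ y ∈ L, z * y = y * z) → z = 1 := by
  classical
  induction 𝒮 using Finset.induction_on with
  | empty =>
    intro _ z hz _
    simpa using hz
  | insert L 𝒮 hL ih =>
    intro h z hz hcomm
    rw [Finset.coe_insert, sSup_insert] at hz
    have hLc := h L (Finset.mem_insert_self L 𝒮)
    have hT : sSup (𝒮 : Set (Subgroup G)) ≤ Subgroup.centralizer (L : Set G) := by
      apply sSup_le
      intro M hM
      have hM' : M ∈ 𝒮 := hM
      have hMc := h M (Finset.mem_insert_of_mem hM')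
      have hne : M ≠ L := fun e => hL (e ▸ hM')
      exact components_commute hMc.1 hLc.1 hne
    have hTn : sSup (𝒮 : Set (Subgroup G)) ≤ Subgroup.normalizer (L : Set G) :=
      hT.trans (Subgroup.centralizer_le_normalizer _)
    obtain ⟨l, hl, t, ht, rfl⟩ := Cfsg.Agent.Lib.Lead.mem_sup_of_le_normalizer hTn hz
    have hl1 : l = 1 := by
      apply hLc.2 l hl
      intro y hy
      have h1 := hcomm L (Finset.mem_insert_self L 𝒮) y hy
      have h2 := hT ht
      rw [Subgroup.mem_centralizer_iff] at h2
      have h3 : y * t = t * y := h2 y hy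
      have h4 : l * y * t = y * l * t := by
        calc l * y * t = l * (y * t) := by group
          _ = l * (t * y) := by rw [h3]
          _ = l * t * y := by group
          _ = y * (l * t) := h1
          _ = y * l * t := by group
      exact mul_right_cancel h4
    rw [hl1, one_mul]
    apply ih (fun M hM => h M (Finset.mem_insert_of_mem hM)) t ht
    intro M hM y hy
    have h1 := hcomm M (Finset.mem_insert_of_mem hM) y hy
    rw [hl1, one_mul] at h1
    exact h1

theorem part_a {G : Type u} [Group G] [Finite G] (K : Subgroup G) (hK : Cfsg.IsComponent K)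
    (hZ : Subgroup.center ↥K = ⊥) :
    Subgroup.normalClosure (K : Set G) ≠ ⊥ ∧ ∀ N : Subgroup G, N.Normal →
      N ≤ Subgroup.normalClosure (K : Set G) → N = ⊥ ∨ N = Subgroup.normalClosure (K : Set G) := by
  classical
  have hKle : K ≤ Subgroup.normalClosure (K : Set G) := Subgroup.le_normalClosure
  constructor
  · intro h
    have h1 : K = ⊥ := le_bot_iff.mp (h ▸ hKle)
    exact ne_bot_of_isQuasisimple hK.2 h1
  · intro N hN hNle
    by_cases hKN : K ≤ N
    · right
      haveI := hN
      exact le_antisymm hNle (Subgroup.normalClosure_le_normal hKN)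
    · left
      have hZK : ∀ l ∈ K, (∀ y ∈ K, l * y = y * l) → l = 1 := by
        intro l hl hcomm
        have h1 : (⟨l, hl⟩ : ↥K) ∈ Subgroup.center ↥K := by
          rw [Subgroup.mem_center_iff]
          intro y
          apply Subtype.ext
          exact (hcomm y y.2).symm
        rw [hZ, Subgroup.mem_bot] at h1
        exact congrArg Subtype.val h1
      obtain ⟨𝒮, h𝒮⟩ : ∃ 𝒮 : Finset (Subgroup G),
          ∀ M, M ∈ 𝒮 ↔ ∃ g : G, M = K.map (MulAut.conj g).toMonoidHom := by
        refine ⟨(Set.toFinite (Set.range fun g : G => K.map (MulAut.conj g).toMonoidHom)).toFinset,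
          ?_⟩
        intro M
        rw [Set.Finite.mem_toFinset, Set.mem_range]
        constructor
        · rintro ⟨g, rfl⟩; exact ⟨g, rfl⟩
        · rintro ⟨g, rfl⟩; exact ⟨g, rfl⟩
      have hmem : ∀ L ∈ 𝒮, Cfsg.IsComponent L ∧ ∀ l ∈ L, (∀ y ∈ L, l * y = y * l) → l = 1 := by
        intro L hL
        obtain ⟨g, rfl⟩ := (h𝒮 L).mp hL
        refine ⟨isComponent_map_conj hK g, ?_⟩
        rintro _ ⟨k, hk, rfl⟩ hcomm
        have hk1 : k = 1 := by
          apply hZK k hk
          intro y hy
          have h1 : (g * k * g⁻¹) * (g * y * g⁻¹) = (g * y * g⁻¹) * (g * k * g⁻¹) :=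
            hcomm ((MulAut.conj g).toMonoidHom y) ⟨y, hy, rfl⟩
          have h2 : g * (k * y) * g⁻¹ = g * (y * k) * g⁻¹ := by
            calc g * (k * y) * g⁻¹ = (g * k * g⁻¹) * (g * y * g⁻¹) := by group
              _ = (g * y * g⁻¹) * (g * k * g⁻¹) := h1
              _ = g * (y * k) * g⁻¹ := by group
          exact mul_left_cancel (mul_right_cancel h2)
        rw [hk1, map_one]
      have hNS : N ≤ sSup (𝒮 : Set (Subgroup G)) := by
        refine hNle.trans ?_
        show Subgroup.closure (Group.conjugatesOfSet (K : Set G)) ≤ _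
        rw [Subgroup.closure_le]
        intro x hx
        obtain ⟨k, hk, hconj⟩ := Group.mem_conjugatesOfSet_iff.mp hx
        obtain ⟨c, hc⟩ := isConj_iff.mp hconj
        have h1 : K.map (MulAut.conj c).toMonoidHom ≤ sSup (𝒮 : Set (Subgroup G)) :=
          le_sSup ((h𝒮 _).mpr ⟨c, rfl⟩)
        apply h1
        exact ⟨k, hk, hc⟩
      have hNc : ∀ L ∈ 𝒮, N ≤ Subgroup.centralizer (L : Set G) := by
        intro L hL
        apply normal_le_centralizer (hmem L hL).1 hN
        intro hLN
        obtain ⟨g, rfl⟩ := (h𝒮 L).mp hL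
        apply hKN
        intro k hk
        have h1 : g * k * g⁻¹ ∈ N := hLN ⟨k, hk, rfl⟩
        have h2 := hN.conj_mem _ h1 g⁻¹
        have h3 : g⁻¹ * (g * k * g⁻¹) * g⁻¹⁻¹ = k := by group
        rwa [h3] at h2
      rw [eq_bot_iff]
      intro z hz
      rw [Subgroup.mem_bot]
      apply center_sSup 𝒮 hmem z (hNS hz)
      intro L hL y hy
      have h1 := hNc L hL hz
      rw [Subgroup.mem_centralizer_iff] at h1
      exact (h1 y hy).symm

theorem part_b {G : Type u} [Group G] [Finite G] (hF : Cfsg.fittingSubgroup G = ⊥) :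
    sSup {N : Subgroup G | N ≠ ⊥ ∧ N.Normal ∧
      ∀ N' : Subgroup G, N'.Normal → N' ≤ N → N' = ⊥ ∨ N' = N} = Cfsg.layer G := by
  classical
  have hnil : ∀ W : Subgroup G, W.Normal → Group.IsNilpotent ↥W → W = ⊥ := by
    intro W hW hn
    rw [eq_bot_iff, ← hF]
    exact le_sSup ⟨hW, hn⟩
  haveI hlayn : (Cfsg.layer G).Normal := Cfsg.Agent.Lib.Helper3.layer_normal G
  apply le_antisymm
  · apply sSup_le
    rintro N ⟨hN1, hNn, hNmin⟩
    haveI := hNn
    rcases hNmin (N ⊓ Cfsg.layer G) inferInstance inf_le_left with h | h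
    · exfalso
      obtain ⟨S, hSN, ⟨hS1, hSN', hSsub⟩, hSmin⟩ := exists_minimal_le_of_wellFoundedLT
        (fun S : Subgroup G => S ≠ ⊥ ∧ S ≤ N ∧ S.IsSubnormal) N ⟨hN1, le_rfl, hNn.isSubnormal⟩
      have hdich : ∀ M : Subgroup G, M ≤ S → S ≤ Subgroup.normalizer (M : Set G) →
          M = S ∨ M = ⊥ := by
        intro M hMS hSM
        by_cases hM1 : M = ⊥
        · right; exact hM1
        · left
          have hn : (M.subgroupOf S).Normal :=
            (Subgroup.normal_subgroupOf_iff_le_normalizer hMS).mpr hSM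
          have hMsub : M.IsSubnormal := Subgroup.IsSubnormal.trans hMS hn.isSubnormal hSsub
          exact le_antisymm hMS (hSmin ⟨hM1, hMS.trans hSN', hMsub⟩ hMS)
      have hCS : ⁅S, S⁆ ≤ S := by
        rw [Subgroup.commutator_le]
        intro a ha b hb
        rw [commutatorElement_def]
        exact S.mul_mem (S.mul_mem (S.mul_mem ha hb) (S.inv_mem ha)) (S.inv_mem hb)
      have hcomS : S ≤ Subgroup.normalizer ((⁅S, S⁆ : Subgroup G) : Set G) := by
        intro s hs
        apply Cfsg.Agent.S3867.norm_of_conj_le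
        have hle : ⁅S, S⁆ ≤ (⁅S, S⁆ : Subgroup G).comap (MulAut.conj s).toMonoidHom := by
          rw [Subgroup.commutator_le]
          intro a ha b hb
          rw [Subgroup.mem_comap, map_commutatorElement]
          exact Subgroup.commutator_mem_commutator
            (S.mul_mem (S.mul_mem hs ha) (S.inv_mem hs))
            (S.mul_mem (S.mul_mem hs hb) (S.inv_mem hs))
        intro u hu
        exact hle hu
      rcases hdich _ hCS hcomS with hperf | hab
      · have hq : Cfsg.IsQuasisimple ↥S := by
          apply isQuasisimple_of_internal hperf hS1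
          intro M hMS hSM
          rcases hdich M hMS hSM with h1 | h1
          · left; exact h1
          · right; rw [h1]; exact bot_le
        have hSc : Cfsg.IsComponent S := ⟨hSsub, hq⟩
        have h1 : S ≤ N ⊓ Cfsg.layer G := le_inf hSN' (le_layer hSc)
        rw [h] at h1
        exact hS1 (le_bot_iff.mp h1)
      · have hcent : S ≤ Subgroup.centralizer (S : Set G) :=
          Subgroup.commutator_eq_bot_iff_le_centralizer.mp hab
        have hcard : Nat.card S ≠ 1 := fun h1 => hS1 (Subgroup.card_eq_one.mp h1)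
        obtain ⟨p, hp, hpd⟩ := Nat.exists_prime_and_dvd hcard
        haveI : Fact p.Prime := ⟨hp⟩
        obtain ⟨x, hx⟩ := exists_prime_orderOf_dvd_card' (G := ↥S) p hpd
        have hx' : orderOf (x : G) = p := by rw [Subgroup.orderOf_coe]; exact hx
        obtain ⟨Y, hY⟩ : ∃ Y : Subgroup G, Y = Subgroup.zpowers (x : G) := ⟨_, rfl⟩
        have hYS : Y ≤ S := by rw [hY]; exact Subgroup.zpowers_le.mpr x.2
        have hSY : S ≤ Subgroup.normalizer (Y : Set G) :=
          (hcent.trans (Subgroup.centralizer_le (SetLike.coe_subset_coe.mpr hYS))).trans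
            (Subgroup.centralizer_le_normalizer _)
        have hn : (Y.subgroupOf S).Normal :=
          (Subgroup.normal_subgroupOf_iff_le_normalizer hYS).mpr hSY
        have hYsub : Y.IsSubnormal := Subgroup.IsSubnormal.trans hYS hn.isSubnormal hSsub
        have hYp : IsPGroup p ↥Y := by
          apply IsPGroup.of_card (n := 1)
          rw [hY, Nat.card_zpowers, hx', pow_one]
        have h1 := (Cfsg.Agent.Lib.Helper4.subnormal_pgroup_le_pCore hYsub hYp).trans
          (pCore_le_fitting p)
        rw [hF] at h1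
        have h2 : (x : G) ∈ Y := by rw [hY]; exact Subgroup.mem_zpowers _
        have h3 := h1 h2
        rw [Subgroup.mem_bot] at h3
        rw [h3, orderOf_one] at hx'
        exact hp.one_lt.ne hx'
    · rw [← h]; exact inf_le_right
  · apply sSup_le
    intro K hK
    have hKc : Cfsg.IsComponent K := hK
    have hZ : Subgroup.center ↥K = ⊥ := by
      obtain ⟨W, hW⟩ : ∃ W : Subgroup G,
        W = Cfsg.layer G ⊓ Subgroup.centralizer ((Cfsg.layer G : Subgroup G) : Set G) := ⟨_, rfl⟩
      have hWn : W.Normal := by rw [hW]; infer_instance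
      have hWc : IsMulCommutative ↥W := by
        refine ⟨⟨fun a b => ?_⟩⟩
        apply Subtype.ext
        have hWmem : ∀ w ∈ W, w ∈ Cfsg.layer G ∧
            w ∈ Subgroup.centralizer ((Cfsg.layer G : Subgroup G) : Set G) := by
          intro w hw
          rw [hW] at hw
          exact Subgroup.mem_inf.mp hw
        obtain ⟨ha1, -⟩ := hWmem a a.2
        obtain ⟨-, hb2⟩ := hWmem b b.2
        rw [Subgroup.mem_centralizer_iff] at hb2
        exact hb2 a ha1
      have hWnil : Group.IsNilpotent ↥W :=
        ⟨⟨1, Subgroup.upperCentralSeries_one_eq_top_iff.mpr hWc⟩⟩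
      have hW1 := hnil W hWn hWnil
      rw [eq_bot_iff]
      intro z hz
      rw [Subgroup.mem_bot]
      apply Subtype.ext
      show (z : G) = 1
      have hzW : (z : G) ∈ W := by
        rw [hW]
        refine Subgroup.mem_inf.mpr ⟨le_layer hKc z.2, ?_⟩
        have hle : Cfsg.layer G ≤ Subgroup.centralizer ({(z : G)} : Set G) := by
          apply sSup_le
          intro L hL
          have hLc : Cfsg.IsComponent L := hL
          by_cases hLK : L = K
          · intro y hy
            rw [Subgroup.mem_centralizer_iff]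
            intro w hw
            rw [Set.mem_singleton_iff] at hw
            rw [hw]
            rw [hLK] at hy
            have h1 := Subgroup.mem_center_iff.mp hz ⟨y, hy⟩
            exact (congrArg Subtype.val h1).symm
          · intro y hy
            rw [Subgroup.mem_centralizer_iff]
            intro w hw
            rw [Set.mem_singleton_iff] at hw
            rw [hw]
            have h1 := components_commute hLc hKc hLK hy
            rw [Subgroup.mem_centralizer_iff] at h1
            exact h1 z z.2
        rw [Subgroup.mem_centralizer_iff]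
        intro y hy
        have h1 := hle hy
        rw [Subgroup.mem_centralizer_iff] at h1
        exact (h1 _ rfl).symm
      rw [hW1, Subgroup.mem_bot] at hzW
      exact hzW
    obtain ⟨ha1, ha2⟩ := part_a K hKc hZ
    exact (Subgroup.le_normalClosure).trans
      (le_sSup ⟨ha1, Subgroup.normalClosure_normal, ha2⟩)
theorem result {G : Type*} [Group G] [Finite G] : (∀ K : Subgroup G, Cfsg.IsComponent K → Subgroup.center ↥K = ⊥ → (Subgroup.normalClosure (K : Set G) ≠ ⊥ ∧ ∀ N : Subgroup G, N.Normal → N ≤ Subgroup.normalClosure (K : Set G) → N = ⊥ ∨ N = Subgroup.normalClosure (K : Set G))) ∧ (Cfsg.fittingSubgroup G = ⊥ → sSup {N : Subgroup G | N ≠ ⊥ ∧ N.Normal ∧ ∀ N' : Subgroup G, N'.Normal → N' ≤ N → N' = ⊥ ∨ N' = N} = Cfsg.layer G) := by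

  exact ⟨fun K hK hZ => part_a K hK hZ, part_b⟩

end Cfsg.Agent.S3747
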