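import Cfsg.Statements.S3750
import Cfsg.Agent.Lib.Helper2.Comp23

set_option autoImplicit false
open Cfsg

namespace Cfsg.Agent.S3750

open Cfsg.Agent.Lib.Helper2.Comp in
theorem result {G : Type*} [Group G] [Finite G] (M : Subgroup G) (hM : M ≠ ⊤) (hprim : ∀ N : Subgroup G, N ≤ M → M ≤ Subgroup.normalizer (N : Set G) → N ≠ ⊥ → Subgroup.normalizer (N : Set G) = M) (N : Subgroup G) [N.Normal] (hMF : M ⊓ (Cfsg.generalizedFittingSubgroup ↥N).map N.subtype ≠ ⊥) : Cfsg.fittingSubgroup G = ⊥ ∧ (Cfsg.generalizedFittingSubgroup ↥N).map N.subtype = Cfsg.generalizedFittingSubgroup G ∧ Cfsg.generalizedFittingSubgroup G = Cfsg.layer G ∧ ∀ K : Subgroup G, K.Normal → K ≠ ⊥ → (∀ K' : Subgroup G, K'.Normal → K' ≤ K → K' = ⊥ ∨ K' = K) → K ≤ N := by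
  have hNn : N.Normal := inferInstance
  have hNs : N.IsSubnormal := hNn.isSubnormal
  have hFe := map_gfs_eq (G := G) hNs
  rw [hFe] at hMF ⊢
  obtain ⟨F, hF⟩ : ∃ F, F = generalizedFittingSubgroup G ⊓ N := ⟨_, rfl⟩
  rw [← hF] at hMF ⊢
  have hgn := Cfsg.Agent.Lib.Helper3.generalizedFittingSubgroup_normal G
  have hFn : F.Normal := by rw [hF]; exact Subgroup.normal_inf_normal _ _
  have key : ∀ A : Subgroup G, A.Normal → A ≤ M → A = ⊥ := by
    intro A hA hAM
    by_contra hne
    have h1 := hprim A hAM (by rw [Subgroup.normalizer_eq_top_iff.mpr hA]; exact le_top) hne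
    rw [Subgroup.normalizer_eq_top_iff.mpr hA] at h1
    exact hM h1.symm
  have hD : Subgroup.normalizer ((M ⊓ F : Subgroup G) : Set G) = M :=
    hprim (M ⊓ F) inf_le_left (le_normalizer_inf Subgroup.le_normalizer
      (by rw [Subgroup.normalizer_eq_top_iff.mpr hFn]; exact le_top)) hMF
  have hC : Subgroup.centralizer (F : Set G) = ⊥ := by
    apply key _ inferInstance
    rw [← hD]
    exact (Subgroup.centralizer_le (SetLike.coe_subset_coe.mpr (inf_le_right : M ⊓ F ≤ F))).trans
      (Subgroup.centralizer_le_normalizer _)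
  have hFle : F ≤ generalizedFittingSubgroup G := by rw [hF]; exact inf_le_left
  have hFN : F ≤ N := by rw [hF]; exact inf_le_right
  have hfit : fittingSubgroup G = ⊥ := by
    by_contra hne
    have hnt : Nontrivial ↥(fittingSubgroup G) := (Subgroup.nontrivial_iff_ne_bot _).mpr hne
    have hnil : Group.IsNilpotent ↥(fittingSubgroup G) := Cfsg.Agent.Lib.Lead.fitting_isNilpotent
    have hz := Group.IsNilpotent.center_ne_bot (G := ↥(fittingSubgroup G))
    apply hz
    rw [eq_bot_iff]
    intro z hz'
    have hle : generalizedFittingSubgroup G ≤ Subgroup.centralizer ({(z : G)} : Set G) := by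
      apply sup_le
      · exact layer_le_centralizer_fitting.trans
          (Subgroup.centralizer_le (Set.singleton_subset_iff.mpr z.2))
      · intro y hy
        rw [Subgroup.mem_centralizer_singleton_iff]
        have h0 := Subgroup.mem_center_iff.mp hz' ⟨y, hy⟩
        exact congrArg Subtype.val h0
    have hzc : (z : G) ∈ Subgroup.centralizer (F : Set G) := by
      rw [Subgroup.mem_centralizer_iff]
      intro f hf
      exact Subgroup.mem_centralizer_singleton_iff.mp (hle (hFle hf))
    rw [hC, Subgroup.mem_bot] at hzc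
    rw [Subgroup.mem_bot]
    exact Subtype.ext hzc
  have hgl : generalizedFittingSubgroup G = layer G := by
    unfold generalizedFittingSubgroup
    rw [hfit, sup_bot_eq]
  have hlN : layer G ≤ N := by
    apply sSup_le
    intro L hL
    rcases le_or_le_centralizer hL hNs with h1 | h1
    · exact h1
    · exfalso
      have h2 : L ≤ Subgroup.centralizer (F : Set G) :=
        Subgroup.le_centralizer_iff.mp (hFN.trans h1)
      rw [hC] at h2
      exact ne_bot_of_isQuasisimple hL.2 (le_bot_iff.mp h2)
  have hFeq : F = generalizedFittingSubgroup G := by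
    apply le_antisymm hFle
    rw [hF]
    exact le_inf le_rfl (hgl ▸ hlN)
  refine ⟨hfit, hFeq, hgl, ?_⟩
  intro K hKn hK1 hKmin
  have hin : (K ⊓ generalizedFittingSubgroup G).Normal := Subgroup.normal_inf_normal _ _
  rcases hKmin _ hin inf_le_left with h1 | h1
  · exfalso
    have h2 : ⁅K, generalizedFittingSubgroup G⁆ = ⊥ := by
      rw [eq_bot_iff, ← h1]
      exact Subgroup.commutator_le_inf K (generalizedFittingSubgroup G)
    rw [Subgroup.commutator_eq_bot_iff_le_centralizer] at h2
    have h3 : K ≤ K ⊓ generalizedFittingSubgroup G := le_inf le_rfl (h2.trans centralizer_gfs_le)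
    rw [h1] at h3
    exact hK1 (le_bot_iff.mp h3)
  · have h2 : K ≤ generalizedFittingSubgroup G := by
      rw [← h1]; exact inf_le_right
    rw [← hFeq] at h2
    exact h2.trans hFN

end Cfsg.Agent.S3750
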