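import Cfsg.Statements.S3800
import Cfsg.Agent.Lib.Helper6.Lift
import Cfsg.Agent.Lib.Helper6.Conj

set_option autoImplicit false
open Cfsg

namespace Cfsg.Agent.S3800

open Cfsg.Agent.Lib.Helper6 in
theorem norm_part {G : Type*} [Group G] [Finite G] {p : ℕ} [Fact p.Prime] (N : Subgroup G) [N.Normal] (hN : (Nat.card N).Coprime p) (P : Subgroup G) (hP : IsPGroup p P) (q : G ⧸ N)
    (hq : q ∈ Subgroup.normalizer ((P.map (QuotientGroup.mk' N)) : Set (G ⧸ N))) :
    ∃ g ∈ Subgroup.normalizer (P : Set G), (QuotientGroup.mk' N) g = q := by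
  obtain ⟨g, rfl⟩ := QuotientGroup.mk'_surjective N q
  rw [Subgroup.mem_normalizer_iff] at hq
  have hQ : IsPGroup p (P.map (MulAut.conj g).toMonoidHom) := hP.map _
  have hmap : P.map (QuotientGroup.mk' N) =
      (P.map (MulAut.conj g).toMonoidHom).map (QuotientGroup.mk' N) := by
    ext h
    constructor
    · intro hh
      have h1 := (hq ((QuotientGroup.mk' N g)⁻¹ * h * (QuotientGroup.mk' N g))).mpr
        (by
          have e : (QuotientGroup.mk' N) g * (((QuotientGroup.mk' N) g)⁻¹ * h * (QuotientGroup.mk' N) g)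
              * ((QuotientGroup.mk' N) g)⁻¹ = h := by group
          rw [e]; exact hh)
      obtain ⟨x, hx, hxh⟩ := h1
      refine ⟨g * x * g⁻¹, ⟨x, hx, by simp⟩, ?_⟩
      rw [map_mul, map_mul, hxh, map_inv]
      group
    · rintro ⟨y, ⟨x, hx, rfl⟩, rfl⟩
      have h1 := (hq ((QuotientGroup.mk' N) x)).mp (Subgroup.mem_map_of_mem _ hx)
      simpa using h1
  obtain ⟨m, hm, hmP⟩ := exists_conj_eq_of_map_eq N hN hP hQ hmap
  refine ⟨m⁻¹ * g, ?_, ?_⟩
  · have h1 : (m⁻¹ * g)⁻¹ ∈ Subgroup.normalizer (P : Set G) := by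
      rw [Subgroup.mem_normalizer_iff]
      intro x
      rw [hmP x, mem_cj]
      have e : (m⁻¹ * g)⁻¹ * x * (m⁻¹ * g)⁻¹⁻¹ = g⁻¹ * (m * x * m⁻¹) * g := by group
      rw [e]
    simpa using Subgroup.inv_mem _ h1
  · rw [map_mul, map_inv]
    have : (QuotientGroup.mk' N) m = 1 := by
      rw [QuotientGroup.mk'_apply, QuotientGroup.eq_one_iff]; exact hm
    rw [this]; simp

/-- Let G be a finite group, N a normal subgroup of G whose order is prime to p, and P a p-subgroup of G. Then in G/N the normalizer of the image of P is the image of N_G(P), and the centralizer of the image of P is the image of C_G(P). -/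
theorem result {G : Type*} [Group G] [Finite G] {p : ℕ} [Fact p.Prime] (N : Subgroup G) [N.Normal] (hN : (Nat.card N).Coprime p) (P : Subgroup G) (hP : IsPGroup p P) : Subgroup.normalizer ((P.map (QuotientGroup.mk' N)) : Set (G ⧸ N)) = (Subgroup.normalizer (P : Set G)).map (QuotientGroup.mk' N) ∧ Subgroup.centralizer ((P.map (QuotientGroup.mk' N)) : Set (G ⧸ N)) = (Subgroup.centralizer (P : Set G)).map (QuotientGroup.mk' N) := by
  constructor
  · apply le_antisymm
    · intro q hq
      obtain ⟨g, hg, hgq⟩ := norm_part N hN P hP q hq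
      exact ⟨g, hg, hgq⟩
    · rintro _ ⟨g, hg, rfl⟩
      have hg : g ∈ Subgroup.normalizer (P : Set G) := hg
      rw [Subgroup.mem_normalizer_iff] at hg ⊢
      intro h
      constructor
      · rintro ⟨x, hx, rfl⟩
        refine ⟨g * x * g⁻¹, (hg x).mp hx, by simp⟩
      · rintro ⟨y, hy, hyh⟩
        have hy : y ∈ P := hy
        refine ⟨g⁻¹ * y * g, ?_, ?_⟩
        · show g⁻¹ * y * g ∈ P
          rw [hg]
          have e : g * (g⁻¹ * y * g) * g⁻¹ = y := by group
          rw [e]; exact hy
        · rw [map_mul, map_mul, hyh, map_inv]; group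
  · apply le_antisymm
    · intro q hq
      have hq' : q ∈ Subgroup.normalizer ((P.map (QuotientGroup.mk' N)) : Set (G ⧸ N)) :=
        Subgroup.centralizer_le_normalizer _ hq
      obtain ⟨g, hg, rfl⟩ := norm_part N hN P hP q hq'
      refine ⟨g, ?_, rfl⟩
      show g ∈ Subgroup.centralizer (P : Set G)
      rw [Subgroup.mem_centralizer_iff]
      intro x hx
      have hx : x ∈ P := hx
      rw [Subgroup.mem_centralizer_iff] at hq
      have h1 := hq ((QuotientGroup.mk' N) x) (Subgroup.mem_map_of_mem _ hx)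
      rw [Subgroup.mem_normalizer_iff] at hg
      have h2 : g * x * g⁻¹ * x⁻¹ ∈ P := Subgroup.mul_mem _ ((hg x).mp hx) (Subgroup.inv_mem _ hx)
      have h3 : g * x * g⁻¹ * x⁻¹ ∈ N := by
        rw [← QuotientGroup.eq_one_iff, ← QuotientGroup.mk'_apply]
        rw [map_mul, map_mul, map_mul, ← h1, map_inv, map_inv]
        group
      have h4 := Cfsg.Agent.Lib.Helper6.eq_one_of_mem_pgroup_of_mem_coprime hP hN h2 h3
      have h5 : g * x = x * g := by
        have := congrArg (fun t => t * x * g) h4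
        simpa using this
      exact h5.symm
    · rintro _ ⟨g, hg, rfl⟩
      have hg : g ∈ Subgroup.centralizer (P : Set G) := hg
      rw [Subgroup.mem_centralizer_iff] at hg ⊢
      rintro _ ⟨x, hx, rfl⟩
      rw [← map_mul, ← map_mul, hg x hx]

end Cfsg.Agent.S3800
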