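import Cfsg.Statements.S3807
import Mathlib
import Cfsg.Agent.S3867

set_option autoImplicit false
open Cfsg

namespace Cfsg.Agent.S3807


open scoped commutatorElement
theorem max_of_index {S : Type*} [Group S] [Finite S] {p : ℕ} (hp : p.Prime) (B K : Subgroup S)
    (hB : B.index = p) (hBK : B ≤ K) (hne : ¬ K ≤ B) : K = ⊤ := by
  have h1 : K.index ∣ p := by rw [← hB]; exact Subgroup.index_dvd_of_le hBK
  rcases (Nat.dvd_prime hp).mp h1 with h | h
  · exact Subgroup.index_eq_one.mp h
  · exfalso
    apply hne
    have h2 : Nat.card K * K.index = Nat.card S := K.card_mul_index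
    have h3 : Nat.card B * B.index = Nat.card S := B.card_mul_index
    rw [h] at h2
    rw [hB] at h3
    have h4 : Nat.card K = Nat.card B := Nat.eq_of_mul_eq_mul_right hp.pos (h2.trans h3.symm)
    have h5 : B = K := Subgroup.eq_of_le_of_card_ge hBK h4.le
    rw [h5]

theorem central_of_sup {S : Type*} [Group S] (B C : Subgroup S) (hBC : B ⊔ C = ⊤) (z : S)
    (hB : ∀ b ∈ B, b * z = z * b) (hC : ∀ c ∈ C, c * z = z * c) : z ∈ Subgroup.center S := by
  have h1 : B ⊔ C ≤ Subgroup.centralizer {z} := by
    apply sup_le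
    · intro b hb
      rw [Subgroup.mem_centralizer_iff]
      intro h hh
      rw [Set.mem_singleton_iff] at hh
      rw [hh]
      exact (hB b hb).symm
    · intro b hb
      rw [Subgroup.mem_centralizer_iff]
      intro h hh
      rw [Set.mem_singleton_iff] at hh
      rw [hh]
      exact (hC b hb).symm
  rw [Subgroup.mem_center_iff]
  intro g
  have hg : g ∈ Subgroup.centralizer {z} := h1 (by rw [hBC]; exact Subgroup.mem_top g)
  rw [Subgroup.mem_centralizer_iff] at hg
  exact (hg z rfl).symm

theorem comm_of {S : Type*} [Group S] (A : Subgroup S) (hA : IsMulCommutative ↥A) :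
    ∀ a ∈ A, ∀ b ∈ A, a * b = b * a := by
  intro a ha b hb
  exact congrArg Subtype.val (hA.is_comm.comm ⟨a, ha⟩ ⟨b, hb⟩)

theorem center_le {S : Type*} [Group S] [Finite S] (p : ℕ) (hp : p.Prime)
    (hna : ¬ IsMulCommutative S) (B : Subgroup S) (hB : IsMulCommutative ↥B) (hBi : B.index = p) :
    Subgroup.center S ≤ B := by
  intro z hz
  by_contra hzB
  have hsup : B ⊔ Subgroup.zpowers z = ⊤ := max_of_index hp B _ hBi le_sup_left
    (fun h => hzB (h ((le_sup_right : Subgroup.zpowers z ≤ B ⊔ Subgroup.zpowers z)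
      (Subgroup.mem_zpowers z))))
  apply hna
  have hle : B ⊔ Subgroup.zpowers z ≤ Subgroup.center S := by
    apply sup_le
    · intro b hb
      apply central_of_sup B (Subgroup.zpowers z) hsup b
      · intro b' hb'
        exact comm_of B hB b' hb' b hb
      · intro c hc
        have hc' : c ∈ Subgroup.center S := (Subgroup.zpowers_le.mpr hz) hc
        exact (Subgroup.mem_center_iff.mp hc' b).symm
    · exact Subgroup.zpowers_le.mpr hz
  have hall : ∀ g : S, g ∈ Subgroup.center S := by
    intro g
    exact hle (by rw [hsup]; exact Subgroup.mem_top g)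
  exact ⟨⟨fun a b => (Subgroup.mem_center_iff.mp (hall b) a)⟩⟩

theorem card_diff {S : Type*} [Group S] [Finite S] (B Z : Subgroup S) (h : Z ≤ B) :
    Nat.card {g : S // g ∈ B ∧ g ∉ Z} = Nat.card B - Nat.card Z := by
  have h1 : Nat.card {g : S // g ∈ B ∧ g ∉ Z} = ((B : Set S) \ (Z : Set S)).ncard :=
    Nat.card_coe_set_eq ((B : Set S) \ (Z : Set S))
  have h2 : ((B : Set S) \ (Z : Set S)).ncard = (B : Set S).ncard - (Z : Set S).ncard :=
    Set.ncard_sdiff (by exact h)
  have h3 : (B : Set S).ncard = Nat.card B := (Nat.card_coe_set_eq (B : Set S)).symm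
  have h4 : (Z : Set S).ncard = Nat.card Z := (Nat.card_coe_set_eq (Z : Set S)).symm
  rw [h1, h2, h3, h4]

theorem idx {S : Type*} [Group S] [Finite S] (p : ℕ) [Fact p.Prime] (hS : IsPGroup p S)
    (hna : ¬ IsMulCommutative S)
    (A : Subgroup S) (hA : IsMulCommutative ↥A) (hAi : A.index = p) :
    (Subgroup.center S).index = p * Nat.card (commutator S) := by
  classical
  have hp : p.Prime := Fact.out
  have hAc := comm_of A hA
  have hZA := center_le p hp hna A hA hAi
  obtain ⟨n, hn⟩ := IsPGroup.iff_card.mp hS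
  have hn0 : n ≠ 0 := by
    rintro rfl
    have h1 : A.index ∣ Nat.card S := A.index_dvd_card
    rw [hn, pow_zero, hAi] at h1
    exact hp.one_lt.ne' (Nat.dvd_one.mp h1)
  have hAn : A.Normal :=
    Subgroup.normal_of_index_eq_minFac_card (by rw [hAi, hn, hp.pow_minFac hn0])
  have hAtop : A ≠ ⊤ := by
    intro h
    rw [h, Subgroup.index_top] at hAi
    exact hp.one_lt.ne hAi
  obtain ⟨x, hx⟩ : ∃ x : S, x ∉ A := by
    by_contra hcon
    push Not at hcon
    exact hAtop (eq_top_iff.mpr (fun g _ => hcon g))
  have hAx : A ⊔ Subgroup.zpowers x = ⊤ := max_of_index hp A _ hAi le_sup_left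
    (fun h => hx (h ((le_sup_right : Subgroup.zpowers x ≤ A ⊔ Subgroup.zpowers x)
      (Subgroup.mem_zpowers x))))
  have gen : ∀ K : Subgroup S, A ≤ K → x ∈ K → K = ⊤ := by
    intro K hAK hxK
    rw [eq_top_iff, ← hAx]
    exact sup_le hAK (Subgroup.zpowers_le.mpr hxK)
  have hmem : ∀ a ∈ A, a * x * a⁻¹ * x⁻¹ ∈ A := by
    intro a ha
    have h1 : x * a⁻¹ * x⁻¹ ∈ A := hAn.conj_mem a⁻¹ (inv_mem ha) x
    have h2 : a * x * a⁻¹ * x⁻¹ = a * (x * a⁻¹ * x⁻¹) := by group
    rw [h2]
    exact mul_mem ha h1
  let φ : ↥A →* ↥A := MonoidHom.mk' (fun a => ⟨(a : S) * x * (a : S)⁻¹ * x⁻¹, hmem a.1 a.2⟩) (by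
    intro a b
    apply Subtype.ext
    show ((a * b : ↥A) : S) * x * ((a * b : ↥A) : S)⁻¹ * x⁻¹ =
      ((a : S) * x * (a : S)⁻¹ * x⁻¹) * ((b : S) * x * (b : S)⁻¹ * x⁻¹)
    have hu : x * (a : S)⁻¹ * x⁻¹ ∈ A := hAn.conj_mem _ (inv_mem a.2) x
    have hv : x * (b : S)⁻¹ * x⁻¹ ∈ A := hAn.conj_mem _ (inv_mem b.2) x
    have hc := hAc ((b : S) * (x * (b : S)⁻¹ * x⁻¹)) (mul_mem b.2 hv) (x * (a : S)⁻¹ * x⁻¹) hu
    calc ((a * b : ↥A) : S) * x * ((a * b : ↥A) : S)⁻¹ * x⁻¹
        = (a : S) * (((b : S) * (x * (b : S)⁻¹ * x⁻¹)) * (x * (a : S)⁻¹ * x⁻¹)) := by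
          rw [Subgroup.coe_mul]; group
      _ = (a : S) * ((x * (a : S)⁻¹ * x⁻¹) * ((b : S) * (x * (b : S)⁻¹ * x⁻¹))) := by rw [hc]
      _ = _ := by group)
  have hφ : ∀ a : ↥A, ((φ a : ↥A) : S) = (a : S) * x * (a : S)⁻¹ * x⁻¹ := fun a => rfl
  have hker : φ.ker = (Subgroup.center S).subgroupOf A := by
    ext a
    rw [MonoidHom.mem_ker, Subgroup.mem_subgroupOf]
    constructor
    · intro h
      have h1 : (a : S) * x * (a : S)⁻¹ * x⁻¹ = 1 := by rw [← hφ a, h]; rfl
      have h2 : (a : S) * x = x * (a : S) := by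
        have h3 := mul_inv_eq_one.mp h1
        exact mul_inv_eq_iff_eq_mul.mp h3
      apply central_of_sup A (Subgroup.zpowers x) hAx
      · intro b hb
        exact hAc b hb a a.2
      · intro c hc
        have hzc : Subgroup.zpowers x ≤ Subgroup.centralizer {(a : S)} := by
          rw [Subgroup.zpowers_le, Subgroup.mem_centralizer_iff]
          intro h hh
          rw [Set.mem_singleton_iff] at hh
          rw [hh]
          exact h2
        have hc' := hzc hc
        rw [Subgroup.mem_centralizer_iff] at hc'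
        exact (hc' a rfl).symm
    · intro h
      apply Subtype.ext
      rw [hφ a, Subgroup.coe_one]
      have h2 : x * (a : S) = (a : S) * x := Subgroup.mem_center_iff.mp h x
      rw [← h2]
      group
  set R : Subgroup S := φ.range.map A.subtype with hR
  have hRmem : ∀ r : S, r ∈ R ↔ ∃ a ∈ A, r = a * x * a⁻¹ * x⁻¹ := by
    intro r
    constructor
    · rintro ⟨_, ⟨a, rfl⟩, rfl⟩
      exact ⟨a.1, a.2, rfl⟩
    · rintro ⟨a, ha, rfl⟩
      exact ⟨φ ⟨a, ha⟩, ⟨⟨a, ha⟩, rfl⟩, rfl⟩
  have hRA : R ≤ A := by
    intro r hr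
    obtain ⟨a, ha, rfl⟩ := (hRmem r).mp hr
    exact hmem a ha
  have hRn : R.Normal := by
    rw [← Subgroup.normalizer_eq_top_iff]
    apply gen
    · intro a ha
      apply Cfsg.Agent.S3867.norm_of_conj_le
      intro u hu
      have huA := hRA hu
      have h1 : a * u * a⁻¹ = u := by rw [hAc a ha u huA]; group
      rw [h1]
      exact hu
    · apply Cfsg.Agent.S3867.norm_of_conj_le
      intro u hu
      obtain ⟨a, ha, rfl⟩ := (hRmem u).mp hu
      rw [hRmem]
      refine ⟨x * a * x⁻¹, hAn.conj_mem a ha x, ?_⟩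
      group
  have hcomR : commutator S ≤ R := by
    haveI := hRn
    have c1 : ∀ a ∈ A, (QuotientGroup.mk' R) a * (QuotientGroup.mk' R) x =
        (QuotientGroup.mk' R) x * (QuotientGroup.mk' R) a := by
      intro a ha
      have h1 : a * x * a⁻¹ * x⁻¹ ∈ R := (hRmem _).mpr ⟨a, ha, rfl⟩
      have h2 : (QuotientGroup.mk' R) (a * x * a⁻¹ * x⁻¹) = 1 := (QuotientGroup.eq_one_iff _).mpr h1
      simp only [map_mul, map_inv] at h2
      have h3 := mul_inv_eq_one.mp h2
      exact mul_inv_eq_iff_eq_mul.mp h3
    have key : ∀ h : S, (∀ a ∈ A, (QuotientGroup.mk' R) a * (QuotientGroup.mk' R) h =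
          (QuotientGroup.mk' R) h * (QuotientGroup.mk' R) a) →
        (QuotientGroup.mk' R) x * (QuotientGroup.mk' R) h =
          (QuotientGroup.mk' R) h * (QuotientGroup.mk' R) x →
        ∀ g : S, (QuotientGroup.mk' R) g * (QuotientGroup.mk' R) h =
          (QuotientGroup.mk' R) h * (QuotientGroup.mk' R) g := by
      intro h hA' hx' g
      have htop : (Subgroup.centralizer {(QuotientGroup.mk' R) h}).comap (QuotientGroup.mk' R) = ⊤ := by
        apply gen
        · intro a ha
          rw [Subgroup.mem_comap, Subgroup.mem_centralizer_iff]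
          intro y hy
          rw [Set.mem_singleton_iff] at hy
          rw [hy]
          exact (hA' a ha).symm
        · rw [Subgroup.mem_comap, Subgroup.mem_centralizer_iff]
          intro y hy
          rw [Set.mem_singleton_iff] at hy
          rw [hy]
          exact hx'.symm
      have hg : g ∈ (Subgroup.centralizer {(QuotientGroup.mk' R) h}).comap (QuotientGroup.mk' R) := by
        rw [htop]; exact Subgroup.mem_top g
      rw [Subgroup.mem_comap, Subgroup.mem_centralizer_iff] at hg
      exact (hg _ rfl).symm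
    have hxc := key x (fun a ha => c1 a ha) rfl
    have hac : ∀ a ∈ A, ∀ g : S, (QuotientGroup.mk' R) g * (QuotientGroup.mk' R) a =
        (QuotientGroup.mk' R) a * (QuotientGroup.mk' R) g := by
      intro a ha
      apply key a
      · intro b hb
        rw [← map_mul, ← map_mul, hAc b hb a ha]
      · exact (c1 a ha).symm
    have hall : ∀ h g : S, (QuotientGroup.mk' R) g * (QuotientGroup.mk' R) h =
        (QuotientGroup.mk' R) h * (QuotientGroup.mk' R) g := by
      intro h
      apply key h
      · intro a ha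
        exact (hac a ha h).symm
      · exact (hxc h).symm
    rw [commutator_def, Subgroup.commutator_le]
    intro g₁ _ g₂ _
    rw [← QuotientGroup.eq_one_iff (N := R), commutatorElement_def]
    show (QuotientGroup.mk' R) (g₁ * g₂ * g₁⁻¹ * g₂⁻¹) = 1
    simp only [map_mul, map_inv]
    rw [hall g₂ g₁]
    group
  have hRcom : R ≤ commutator S := by
    intro r hr
    obtain ⟨a, ha, rfl⟩ := (hRmem r).mp hr
    rw [commutator_def, ← commutatorElement_def]
    exact Subgroup.commutator_mem_commutator (Subgroup.mem_top a) (Subgroup.mem_top x)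
  have hReq : R = commutator S := le_antisymm hRcom hcomR
  have hcardR : Nat.card R = Nat.card φ.range := Subgroup.card_map_of_injective A.subtype_injective
  have hcardK : Nat.card φ.ker = Nat.card (Subgroup.center S) := by
    rw [hker]
    exact Nat.card_congr (Subgroup.subgroupOfEquivOfLe hZA).toEquiv
  have hcardA : Nat.card A = Nat.card φ.range * Nat.card φ.ker := by
    rw [Subgroup.card_eq_card_quotient_mul_card_subgroup φ.ker]
    congr 1
    exact Nat.card_congr (QuotientGroup.quotientKerEquivRange φ).toEquiv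
  have h1 : Nat.card (Subgroup.center S) * (Subgroup.center S).index = Nat.card S :=
    (Subgroup.center S).card_mul_index
  have h2 : Nat.card A * A.index = Nat.card S := A.card_mul_index
  rw [hAi, hcardA, ← hcardR, hcardK, hReq] at h2
  have hZpos : 0 < Nat.card (Subgroup.center S) := Nat.card_pos
  have h3 : Nat.card (Subgroup.center S) * (Subgroup.center S).index =
      Nat.card (Subgroup.center S) * (p * Nat.card (commutator S)) := by
    rw [h1, ← h2]; ring
  exact Nat.eq_of_mul_eq_mul_left hZpos h3
theorem result {S : Type*} [Group S] [Finite S] (p : ℕ) [Fact p.Prime] (hS : IsPGroup p S) (hna : ¬ IsMulCommutative S)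
    (A : Subgroup S) (hA : IsMulCommutative ↥A) (hAi : A.index = p) :
    (Subgroup.center S).index = p * Nat.card (commutator S) ∧
      ((Nat.card (commutator S) = p ∧ Cfsg.IsElementaryAbelian p (⊤ : Subgroup (S ⧸ Subgroup.center S)) ∧
          Nat.card (S ⧸ Subgroup.center S) = p ^ 2 ∧
          Nat.card {B : Subgroup S // IsMulCommutative ↥B ∧ B.index = p} = p + 1) ∨
        (p ^ 2 ≤ Nat.card (commutator S) ∧ ∀ B : Subgroup S, IsMulCommutative ↥B → B.index = p → B = A)) := by
  classical
  have hp : p.Prime := Fact.out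
  have hidx := idx p hS hna A hA hAi
  refine ⟨hidx, ?_⟩
  have hZle := fun (B : Subgroup S) (hB : IsMulCommutative ↥B) (hBi : B.index = p) =>
    center_le p hp hna B hB hBi
  have hc1 : Nat.card (commutator S) ≠ 1 := by
    intro h
    have hbot : commutator S = ⊥ := Subgroup.eq_bot_of_card_eq _ h
    apply hna
    refine ⟨⟨fun a b => ?_⟩⟩
    have h1 : ⁅a, b⁆ ∈ commutator S := by
      rw [commutator_def]
      exact Subgroup.commutator_mem_commutator (Subgroup.mem_top a) (Subgroup.mem_top b)
    rw [hbot, Subgroup.mem_bot, commutatorElement_eq_one_iff_commute] at h1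
    exact h1.eq
  obtain ⟨k, hk⟩ := IsPGroup.iff_card.mp (hS.to_subgroup (commutator S))
  have hk0 : k ≠ 0 := by
    rintro rfl
    exact hc1 (by rw [hk, pow_zero])
  have hcards : ∀ B : Subgroup S, B.index = p → Nat.card B * p = Nat.card S := fun B hB => by
    rw [← hB]; exact B.card_mul_index
  by_cases hk1 : k = 1
  · left
    have hcp : Nat.card (commutator S) = p := by rw [hk, hk1, pow_one]
    have hZi : (Subgroup.center S).index = p * p := by rw [hidx, hcp]
    have hVcard : Nat.card (S ⧸ (Subgroup.center S)) = p ^ 2 := by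
      have h0 : (Subgroup.center S).index = Nat.card (S ⧸ (Subgroup.center S)) := rfl
      rw [← h0, hZi, sq]
    have hcomm : ∀ a b : S ⧸ (Subgroup.center S), a * b = b * a :=
      IsPGroup.commutative_of_card_eq_prime_sq hVcard
    have hexp : ∀ v : S ⧸ (Subgroup.center S), v ^ p = 1 := by
      intro v
      have h1 : orderOf v ∣ p ^ 2 := by rw [← hVcard]; exact orderOf_dvd_natCard v
      obtain ⟨j, hj, hjv⟩ := (Nat.dvd_prime_pow hp).mp h1
      have hj2 : j ≠ 2 := by
        rintro rfl
        haveI : IsCyclic (S ⧸ (Subgroup.center S)) := isCyclic_of_orderOf_eq_card v (by rw [hjv, hVcard])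
        apply hna
        exact ⟨⟨fun a b => commutative_of_cyclic_center_quotient (QuotientGroup.mk' (Subgroup.center S))
          (QuotientGroup.ker_mk' (Subgroup.center S)).le a b⟩⟩
      have hj1 : j ≤ 1 := by omega
      have h2 : orderOf v ∣ p := by
        rw [hjv]
        exact (pow_dvd_pow p hj1).trans (by rw [pow_one])
      exact orderOf_dvd_iff_pow_eq_one.mp h2
    refine ⟨hcp, ⟨⟨⟨fun a b => Subtype.ext (hcomm a.1 b.1)⟩⟩, fun a _ => hexp a⟩, hVcard, ?_⟩
    have hz_pos : 0 < Nat.card (Subgroup.center S) := Nat.card_pos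
    have hSZ : Nat.card S = p * p * Nat.card (Subgroup.center S) := by
      have h0 := (Subgroup.center S).card_mul_index
      rw [hZi] at h0
      rw [← h0]; ring
    have hBcard : ∀ B : Subgroup S, B.index = p → Nat.card B = p * Nat.card (Subgroup.center S) := by
      intro B hB
      have h1 := hcards B hB
      rw [hSZ] at h1
      have h2 : p * Nat.card B = p * (p * Nat.card (Subgroup.center S)) := by rw [mul_comm, h1]; ring
      exact Nat.eq_of_mul_eq_mul_left hp.pos h2
    have hgen : ∀ g : S, g ∉ (Subgroup.center S) → IsMulCommutative ↥((Subgroup.center S) ⊔ Subgroup.zpowers g) ∧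
        ((Subgroup.center S) ⊔ Subgroup.zpowers g).index = p := by
      intro g hg
      have hgB : g ∈ (Subgroup.center S) ⊔ Subgroup.zpowers g :=
        (le_sup_right : Subgroup.zpowers g ≤ (Subgroup.center S) ⊔ Subgroup.zpowers g) (Subgroup.mem_zpowers g)
      have hZB : (Subgroup.center S) ≤ (Subgroup.center S) ⊔ Subgroup.zpowers g := le_sup_left
      have hgc : (Subgroup.center S) ⊔ Subgroup.zpowers g ≤ Subgroup.centralizer {g} := by
        apply sup_le
        · intro z hz
          rw [Subgroup.mem_centralizer_iff]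
          intro y hy
          rw [Set.mem_singleton_iff] at hy
          rw [hy]
          exact (Subgroup.mem_center_iff.mp hz g)
        · rw [Subgroup.zpowers_le, Subgroup.mem_centralizer_iff]
          intro y hy
          rw [Set.mem_singleton_iff] at hy
          rw [hy]
      have hBc : ∀ b ∈ (Subgroup.center S) ⊔ Subgroup.zpowers g, ∀ b' ∈ (Subgroup.center S) ⊔ Subgroup.zpowers g, b * b' = b' * b := by
        intro b hb
        have hbc : (Subgroup.center S) ⊔ Subgroup.zpowers g ≤ Subgroup.centralizer {b} := by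
          apply sup_le
          · intro z hz
            rw [Subgroup.mem_centralizer_iff]
            intro y hy
            rw [Set.mem_singleton_iff] at hy
            rw [hy]
            exact (Subgroup.mem_center_iff.mp hz b)
          · rw [Subgroup.zpowers_le, Subgroup.mem_centralizer_iff]
            intro y hy
            rw [Set.mem_singleton_iff] at hy
            rw [hy]
            have h0 := hgc hb
            rw [Subgroup.mem_centralizer_iff] at h0
            exact (h0 g rfl).symm
        intro b' hb'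
        have h := hbc hb'
        rw [Subgroup.mem_centralizer_iff] at h
        exact h b rfl
      have hBcomm : IsMulCommutative ↥((Subgroup.center S) ⊔ Subgroup.zpowers g) :=
        ⟨⟨fun a b => Subtype.ext (hBc a.1 a.2 b.1 b.2)⟩⟩
      refine ⟨hBcomm, ?_⟩
      have hBtop : (Subgroup.center S) ⊔ Subgroup.zpowers g ≠ ⊤ := by
        intro h
        apply hna
        exact ⟨⟨fun a b => hBc a (by rw [h]; exact Subgroup.mem_top a) b
          (by rw [h]; exact Subgroup.mem_top b)⟩⟩
      have hd : ((Subgroup.center S) ⊔ Subgroup.zpowers g).index ∣ p ^ 2 := by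
        have h0 := Subgroup.index_dvd_of_le hZB
        rwa [hZi, ← sq] at h0
      obtain ⟨j, hj, hjB⟩ := (Nat.dvd_prime_pow hp).mp hd
      have hj0 : j ≠ 0 := by
        rintro rfl
        exact hBtop (Subgroup.index_eq_one.mp (by rw [hjB, pow_zero]))
      have hj2 : j ≠ 2 := by
        rintro rfl
        have h1 := ((Subgroup.center S) ⊔ Subgroup.zpowers g).card_mul_index
        rw [hjB, hSZ] at h1
        have h2 : Nat.card ↥((Subgroup.center S) ⊔ Subgroup.zpowers g) = Nat.card (Subgroup.center S) := by
          have h3 : p ^ 2 * Nat.card ↥((Subgroup.center S) ⊔ Subgroup.zpowers g) = p ^ 2 * Nat.card (Subgroup.center S) := by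
            rw [mul_comm, h1]; ring
          exact Nat.eq_of_mul_eq_mul_left (pow_pos hp.pos 2) h3
        have h3 : (Subgroup.center S) = (Subgroup.center S) ⊔ Subgroup.zpowers g := Subgroup.eq_of_le_of_card_ge hZB h2.le
        apply hg
        rw [h3]
        exact hgB
      have hj1 : j = 1 := by omega
      rw [hjB, hj1, pow_one]
    let T := {B : Subgroup S // IsMulCommutative ↥B ∧ B.index = p}
    let D := {g : S // g ∈ (⊤ : Subgroup S) ∧ g ∉ (Subgroup.center S)}
    let f : D → T := fun d => ⟨(Subgroup.center S) ⊔ Subgroup.zpowers d.1, hgen d.1 d.2.2⟩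
    haveI : Fintype T := Fintype.ofFinite T
    have hfib : ∀ t : T, Nat.card {d : D // f d = t} = p * Nat.card (Subgroup.center S) - Nat.card (Subgroup.center S) := by
      intro t
      have hZt : (Subgroup.center S) ≤ t.1 := hZle t.1 t.2.1 t.2.2
      have e : {d : D // f d = t} ≃ {g : S // g ∈ t.1 ∧ g ∉ (Subgroup.center S)} :=
        { toFun := fun d => ⟨d.1.1, by
              have h : (Subgroup.center S) ⊔ Subgroup.zpowers d.1.1 = t.1 := congrArg Subtype.val d.2
              have hmem : d.1.1 ∈ (Subgroup.center S) ⊔ Subgroup.zpowers d.1.1 :=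
                (le_sup_right : Subgroup.zpowers d.1.1 ≤ (Subgroup.center S) ⊔ Subgroup.zpowers d.1.1)
                  (Subgroup.mem_zpowers _)
              rw [h] at hmem
              exact hmem, d.1.2.2⟩
          invFun := fun g => ⟨⟨g.1, Subgroup.mem_top _, g.2.2⟩, by
              apply Subtype.ext
              show (Subgroup.center S) ⊔ Subgroup.zpowers g.1 = t.1
              have hle : (Subgroup.center S) ⊔ Subgroup.zpowers g.1 ≤ t.1 :=
                sup_le hZt (Subgroup.zpowers_le.mpr g.2.1)
              apply Subgroup.eq_of_le_of_card_ge hle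
              rw [hBcard _ (hgen g.1 g.2.2).2, hBcard _ t.2.2]⟩
          left_inv := fun d => rfl
          right_inv := fun g => rfl }
      rw [Nat.card_congr e, card_diff t.1 (Subgroup.center S) hZt, hBcard t.1 t.2.2]
    have hD : Nat.card D = Nat.card S - Nat.card (Subgroup.center S) := by
      show Nat.card {g : S // g ∈ (⊤ : Subgroup S) ∧ g ∉ (Subgroup.center S)} = _
      rw [card_diff ⊤ (Subgroup.center S) le_top, Subgroup.card_top]
    have hsum : Nat.card D = Nat.card T * (p * Nat.card (Subgroup.center S) - Nat.card (Subgroup.center S)) := by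
      rw [← Nat.card_congr (Equiv.sigmaFiberEquiv f), Nat.card_sigma]
      simp only [hfib]
      rw [Finset.sum_const, Finset.card_univ, smul_eq_mul, ← Nat.card_eq_fintype_card]
    show Nat.card T = p + 1
    obtain ⟨q, hq⟩ : ∃ q, p = q + 2 := ⟨p - 2, by have := hp.two_le; omega⟩
    have e1 : Nat.card S - Nat.card (Subgroup.center S) = (q + 1) * ((q + 3) * Nat.card (Subgroup.center S)) := by
      rw [hSZ, hq]
      apply Nat.sub_eq_of_eq_add
      ring
    have e2 : p * Nat.card (Subgroup.center S) - Nat.card (Subgroup.center S) = (q + 1) * Nat.card (Subgroup.center S) := by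
      rw [hq]
      apply Nat.sub_eq_of_eq_add
      ring
    rw [hD, e1, e2] at hsum
    have h9 : (q + 3) * ((q + 1) * Nat.card (Subgroup.center S)) = Nat.card T * ((q + 1) * Nat.card (Subgroup.center S)) := by
      rw [← hsum]; ring
    have h10 := Nat.eq_of_mul_eq_mul_right (Nat.mul_pos (Nat.succ_pos q) hz_pos) h9
    rw [← h10]
    omega
  · right
    have hk2 : 2 ≤ k := by omega
    have hpc : p ^ 2 ≤ Nat.card (commutator S) := by
      rw [hk]
      exact Nat.pow_le_pow_right hp.pos hk2
    refine ⟨hpc, ?_⟩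
    intro B hB hBi
    by_contra hne
    have hnle : ¬ B ≤ A := by
      intro hle
      apply hne
      have h1 := hcards A hAi
      have h2 := hcards B hBi
      have h3 : Nat.card A = Nat.card B := Nat.eq_of_mul_eq_mul_right hp.pos (h1.trans h2.symm)
      exact Subgroup.eq_of_le_of_card_ge hle h3.le
    have hsup : A ⊔ B = ⊤ := max_of_index hp A _ hAi le_sup_left
      (fun h => hnle (le_sup_right.trans h))
    have hinf : A ⊓ B ≤ (Subgroup.center S) := by
      intro z hz
      apply central_of_sup A B hsup z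
      · intro a ha
        exact comm_of A hA a ha z hz.1
      · intro b hb
        exact comm_of B hB b hb z hz.2
    have h1 : (Subgroup.center S).index ∣ (A ⊓ B).index := Subgroup.index_dvd_of_le hinf
    have h2 : (A ⊓ B).index ≤ A.index * B.index := Subgroup.index_inf_le
    have h3 : (A ⊓ B).index ≠ 0 := Subgroup.index_ne_zero_of_finite
    have h4 : (Subgroup.center S).index ≤ (A ⊓ B).index := Nat.le_of_dvd (Nat.pos_of_ne_zero h3) h1
    rw [hAi, hBi] at h2
    rw [hidx] at h4
    have h5 : p * Nat.card (commutator S) ≤ p * p := h4.trans h2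
    have h6 : Nat.card (commutator S) ≤ p := Nat.le_of_mul_le_mul_left h5 hp.pos
    have h7 : p ^ 2 ≤ p := hpc.trans h6
    have h8 : p * p ≤ p * 1 := by rw [mul_one, ← sq]; exact h7
    have h9 := Nat.le_of_mul_le_mul_left h8 hp.pos
    have h10 := hp.one_lt
    omega

end Cfsg.Agent.S3807
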