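import Cfsg.Statements.S3808
import Mathlib
import Cfsg.Agent.Lib.Lead.Nilpotent
import Cfsg.Agent.Lib.Helper7.PPrime

set_option autoImplicit false
open Cfsg

namespace Cfsg.Agent.S3808

/-- Let S be a finite p-group with an extraspecial subgroup Q of index p. Then either Z(S) = Z(Q), or S = Q·Z(S) and Z(S) has order p². -/
theorem result {S : Type*} [Group S] [Finite S] (p : ℕ) [Fact p.Prime] (hS : IsPGroup p S) (Q : Subgroup S) (hQ : Cfsg.IsExtraspecial p ↥Q) (hQi : Q.index = p) :
    Subgroup.center S = (Subgroup.center ↥Q).map Q.subtype ∨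
      (Q ⊔ Subgroup.center S = ⊤ ∧ Nat.card (Subgroup.center S) = p ^ 2) := by
  classical
  have hp : p.Prime := Fact.out
  obtain ⟨n, hn⟩ := IsPGroup.iff_card.mp hS
  have hn0 : n ≠ 0 := by
    rintro rfl
    have h1 : Q.index ∣ Nat.card S := Subgroup.index_dvd_card Q
    rw [hQi, hn, pow_zero] at h1
    exact hp.one_lt.ne' (Nat.dvd_one.mp h1)
  haveI hQn : Q.Normal := by
    apply Subgroup.normal_of_index_eq_minFac_card
    rw [hQi, hn, Nat.Prime.pow_minFac hp hn0]
  haveI : Group.IsNilpotent S := hS.isNilpotent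
  obtain ⟨ZQ, hZQ⟩ : ∃ ZQ : Subgroup S, ZQ = (Subgroup.center ↥Q).map Q.subtype := ⟨_, rfl⟩
  have hmem : ∀ z : S, z ∈ ZQ ↔ z ∈ Q ∧ ∀ q ∈ Q, q * z = z * q := by
    intro z
    rw [hZQ, Subgroup.mem_map]
    constructor
    · rintro ⟨⟨z', hz'⟩, hzc, rfl⟩
      refine ⟨hz', fun q hq => ?_⟩
      have := Subgroup.mem_center_iff.mp hzc ⟨q, hq⟩
      exact congrArg Subtype.val this
    · rintro ⟨hz, hc⟩
      refine ⟨⟨z, hz⟩, ?_, rfl⟩
      rw [Subgroup.mem_center_iff]
      rintro ⟨q, hq⟩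
      exact Subtype.ext (hc q hq)
  have hcardZQ : Nat.card ZQ = p := by
    rw [hZQ, Subgroup.card_map_of_injective (Subgroup.subtype_injective _)]
    exact hQ.2
  haveI hZQn : ZQ.Normal := by
    constructor
    intro z hz g
    rw [hmem] at hz ⊢
    refine ⟨hQn.conj_mem z hz.1 g, fun q hq => ?_⟩
    have h1 : g⁻¹ * q * g ∈ Q := by
      have := hQn.conj_mem q hq g⁻¹
      rwa [inv_inv] at this
    have h2 := hz.2 _ h1
    calc q * (g * z * g⁻¹) = g * ((g⁻¹ * q * g) * z) * g⁻¹ := by group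
      _ = g * (z * (g⁻¹ * q * g)) * g⁻¹ := by rw [h2]
      _ = g * z * g⁻¹ * q := by group
  have hZQne : ZQ ≠ ⊥ := by
    intro h
    rw [h, Subgroup.card_bot] at hcardZQ
    exact hp.one_lt.ne hcardZQ
  have hZQle : ZQ ≤ Subgroup.center S := by
    have h1 := Cfsg.Agent.Lib.Lead.normal_inf_center_ne_bot ZQ hZQne
    have h2 : Nat.card (ZQ ⊓ Subgroup.center S : Subgroup S) ∣ p := by
      rw [← hcardZQ]; exact Subgroup.card_dvd_of_le inf_le_left
    have h3 : Nat.card (ZQ ⊓ Subgroup.center S : Subgroup S) = p := by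
      rcases (Nat.dvd_prime hp).mp h2 with h | h
      · exact absurd (Subgroup.card_eq_one.mp h) h1
      · exact h
    have h4 : ZQ ⊓ Subgroup.center S = ZQ :=
      Subgroup.eq_of_le_of_card_ge inf_le_left (by rw [h3, hcardZQ])
    rw [← h4]; exact inf_le_right
  have hinf : Subgroup.center S ⊓ Q ≤ ZQ := by
    intro z hz
    rw [hmem]
    exact ⟨hz.2, fun q _ => (Subgroup.mem_center_iff.mp hz.1 q)⟩
  by_cases hle : Subgroup.center S ≤ Q
  · left
    rw [← hZQ]
    exact le_antisymm (fun z hz => hinf ⟨hz, hle hz⟩) hZQle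
  · right
    have htop : Q ⊔ Subgroup.center S = ⊤ := by
      have h1 : Q.relIndex (Q ⊔ Subgroup.center S) * (Q ⊔ Subgroup.center S).index = Q.index :=
        Subgroup.relIndex_mul_index le_sup_left
      rw [hQi] at h1
      have h2 : (Q ⊔ Subgroup.center S).index ∣ p := Dvd.intro_left _ h1
      rcases (Nat.dvd_prime hp).mp h2 with h | h
      · exact Subgroup.index_eq_one.mp h
      · exfalso
        rw [h] at h1
        have h3 : Q.relIndex (Q ⊔ Subgroup.center S) = 1 := by
          have hp0 : 0 < p := hp.pos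
          exact Nat.eq_of_mul_eq_mul_right hp0 (by rw [h1, one_mul])
        have h4 : Q ⊔ Subgroup.center S ≤ Q := Subgroup.relIndex_eq_one.mp h3
        exact hle (le_sup_right.trans h4)
    refine ⟨htop, ?_⟩
    have h1 := Cfsg.Agent.Lib.Helper7.card_sup_mul_card_inf Q (Subgroup.center S)
    rw [htop, Subgroup.card_top] at h1
    have h2 : Subgroup.center S ⊓ Q = ZQ := le_antisymm hinf (le_inf hZQle (fun z hz => ((hmem z).mp hz).1))
    rw [h2, hcardZQ] at h1
    have h3 : Nat.card Q * Q.index = Nat.card S := Subgroup.card_mul_index Q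
    rw [hQi] at h3
    rw [← h3] at h1
    have hQpos : 0 < Nat.card Q := Nat.card_pos
    have h4 : Nat.card Q * (p * p) = Nat.card Q * Nat.card (Subgroup.center S) := by
      rw [← h1]; ring
    have h5 := Nat.eq_of_mul_eq_mul_left hQpos h4
    rw [← h5]; ring

end Cfsg.Agent.S3808
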