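import Cfsg.Statements.S3809
import Mathlib
import Cfsg.Agent.S0095
import Cfsg.Agent.Lib.Lead.PFrat

set_option autoImplicit false
open Cfsg

namespace Cfsg.Agent.S3809

open scoped commutatorElement

/-- Let S be a finite p-group with an extraspecial subgroup of index p. Then S has order p^(2+2n) for some n ≥ 1, derived length at most 3, and exponent dividing p³. -/
theorem result {S : Type*} [Group S] [Finite S] (p : ℕ) [Fact p.Prime] (hS : IsPGroup p S) (Q : Subgroup S) (hQ : Cfsg.IsExtraspecial p ↥Q) (hQi : Q.index = p) :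
    (∃ n : ℕ, 1 ≤ n ∧ Nat.card S = p ^ (2 + 2 * n)) ∧ derivedSeries S 3 = ⊥ ∧ ∀ x : S, x ^ (p ^ 3) = 1 := by
  classical
  have hp : p.Prime := Fact.out
  obtain ⟨⟨hQp, hfr, hcomm⟩, hZ⟩ := hQ
  obtain ⟨n, hn1, hQcard⟩ := Cfsg.Agent.S0095.result (P := ↥Q) (p := p) ⟨⟨hQp, hfr, hcomm⟩, hZ⟩
  have hScard : Nat.card S = p ^ (2 + 2 * n) := by
    rw [← Subgroup.index_mul_card Q, hQi, hQcard, ← pow_succ']; congr 1; omega
  haveI hQn : Q.Normal := by
    apply Subgroup.normal_of_index_eq_minFac_card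
    rw [hQi, hScard, hp.pow_minFac (by omega)]
  have hquot : Nat.card (S ⧸ Q) = p := by rw [← Subgroup.index_eq_card]; exact hQi
  refine ⟨⟨n, hn1, hScard⟩, ?_, ?_⟩
  · haveI : IsCyclic (S ⧸ Q) := isCyclic_of_prime_card (p := p) hquot
    have hD1 : derivedSeries S 1 ≤ Q := by
      rw [derivedSeries_succ, derivedSeries_zero, Subgroup.commutator_le]
      intro a _ b _
      apply (QuotientGroup.eq_one_iff _).mp
      show QuotientGroup.mk' Q ⁅a, b⁆ = 1
      rw [commutatorElement_def, map_mul, map_mul, map_mul, map_inv, map_inv]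
      rw [mul_inv_eq_one, mul_inv_eq_iff_eq_mul]
      exact mul_comm' _ _
    have hD2 : derivedSeries S 2 ≤ (Subgroup.center Q).map Q.subtype := by
      rw [derivedSeries_succ, ← hcomm, Subgroup.map_subtype_commutator]
      exact Subgroup.commutator_mono hD1 hD1
    rw [derivedSeries_succ, eq_bot_iff]
    refine le_trans (Subgroup.commutator_mono hD2 hD2) ?_
    rw [Subgroup.commutator_le]
    rintro _ ⟨a, ha, rfl⟩ _ ⟨b, hb, rfl⟩
    rw [Subgroup.mem_bot, commutatorElement_eq_one_iff_mul_comm]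
    have h1 := Subgroup.mem_center_iff.mp ha b
    rw [← map_mul, ← map_mul, h1]
  · intro x
    have hxp : x ^ p ∈ Q := by
      apply (QuotientGroup.eq_one_iff _).mp
      show QuotientGroup.mk' Q (x ^ p) = 1
      have h0 : (QuotientGroup.mk' Q x) ^ Nat.card (S ⧸ Q) = 1 := pow_card_eq_one'
      rw [hquot] at h0
      rw [map_pow]; exact h0
    have h1 := (Cfsg.Agent.Lib.Lead.commutator_le_frattini_and_pow_mem hQp).2 ⟨x ^ p, hxp⟩
    rw [hfr] at h1
    have h2 : ((⟨(⟨x ^ p, hxp⟩ : Q) ^ p, h1⟩ : Subgroup.center Q)) ^ p = 1 := by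
      have h0 := pow_card_eq_one' (G := Subgroup.center Q) (x := ⟨(⟨x ^ p, hxp⟩ : Q) ^ p, h1⟩)
      rw [hZ] at h0; exact h0
    have h3 : ((x ^ p) ^ p) ^ p = 1 := by
      have h4 := congrArg (fun z : Subgroup.center Q => ((z : Q) : S)) h2
      simpa using h4
    rw [show p ^ 3 = p * p * p by ring, pow_mul, pow_mul]; exact h3

end Cfsg.Agent.S3809
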