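import Cfsg.Statements.S3810
import Mathlib
import Cfsg.Agent.S0095
import Cfsg.Agent.Lib.Helper1.ES1

set_option autoImplicit false
open Cfsg

namespace Cfsg.Agent.S3810

/-- Let S be a finite p-group with an extraspecial subgroup of index p. Then S has an abelian subgroup of index p if and only if S has order p⁴. -/
theorem result {S : Type*} [Group S] [Finite S] (p : ℕ) [Fact p.Prime] (hS : IsPGroup p S) (Q : Subgroup S) (hQ : Cfsg.IsExtraspecial p ↥Q) (hQi : Q.index = p) :
    (∃ A : Subgroup S, IsMulCommutative ↥A ∧ A.index = p) ↔ Nat.card S = p ^ 4 := by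
  classical
  have hp : p.Prime := Fact.out
  obtain ⟨⟨hQp, hfr, hcomm⟩, hZ⟩ := hQ
  obtain ⟨n, hn1, hQcard⟩ := Cfsg.Agent.S0095.result (P := ↥Q) (p := p) ⟨⟨hQp, hfr, hcomm⟩, hZ⟩
  have hScard : Nat.card S = p ^ (2 + 2 * n) := by
    rw [← Subgroup.index_mul_card Q, hQi, hQcard, ← pow_succ']; congr 1; omega
  haveI hQn : Q.Normal := by
    apply Subgroup.normal_of_index_eq_minFac_card
    rw [hQi, hScard, hp.pow_minFac (by omega)]
  constructor
  · rintro ⟨A, hA, hAi⟩
    have h1 := Cfsg.Agent.Lib.Helper1.es_abelian_index_imp p n Q hcomm hZ hQcard hn1 hScard A hA hAi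
    subst h1
    exact hScard
  · intro h4
    have hn : n = 1 := by
      rw [hScard] at h4
      have h5 := Nat.pow_right_injective hp.two_le h4
      omega
    subst hn
    exact Cfsg.Agent.Lib.Helper1.es_abelian_index_of p hS Q hZ hQcard h4

end Cfsg.Agent.S3810
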