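import Cfsg.Statements.S3824
import Cfsg.Agent.Lib.Lead.Char8
import Cfsg.Agent.Lib.Helper7.SylowCount

set_option autoImplicit false

namespace Cfsg.Agent.S3824

open Cfsg.Agent.Lib

universe u

theorem aux : ∀ (n : ℕ) (G : Type u) [Group G] [Finite G], Nat.card G = n →
    ∀ A : Subgroup G, (∀ a ∈ A, ∀ b ∈ A, a * b = b * a) → (∃ k : ℕ, A.index = 2 ^ k) →
      Group.IsSolvable G := by
  intro n
  induction n using Nat.strong_induction_on with
  | _ n ih =>
    intro G _ _ hn A hA ⟨k, hk⟩
    by_cases hnorm : ∃ N : Subgroup G, N.Normal ∧ N ≠ ⊥ ∧ N ≠ ⊤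
    · obtain ⟨N, hN, hNbot, hNtop⟩ := hnorm
      haveI := hN
      have hNlt : Nat.card N < n := by
        rw [← hn]
        apply lt_of_le_of_ne (Subgroup.card_le_card_group N)
        intro h
        exact hNtop (Subgroup.card_eq_iff_eq_top N |>.mp h)
      have hQlt : Nat.card (G ⧸ N) < n := by
        rw [← hn, ← Subgroup.index_eq_card]
        have h1 := Subgroup.card_mul_index N
        have h2 : 1 < Nat.card N := by
          rw [Subgroup.one_lt_card_iff_ne_bot]; exact hNbot
        have h3 : 0 < N.index := Nat.pos_of_ne_zero (Subgroup.index_ne_zero_of_finite)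
        nlinarith
      haveI : Group.IsSolvable N := by
        apply ih _ hNlt N rfl (A.subgroupOf N)
        · intro a ha b hb
          exact Subtype.ext (hA a ha b hb)
        · have h1 : (A.subgroupOf N).index ∣ 2 ^ k := by
            show A.relIndex N ∣ 2 ^ k
            rw [← hk, ← Helper7.relIndex_sup_of_normal A N]
            exact Subgroup.relIndex_dvd_index_of_le le_sup_left
          obtain ⟨j, -, hj⟩ := (Nat.dvd_prime_pow Nat.prime_two).mp h1
          exact ⟨j, hj⟩
      haveI : Group.IsSolvable (G ⧸ N) := by
        apply ih _ hQlt (G ⧸ N) rfl (A.map (QuotientGroup.mk' N))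
        · rintro _ ⟨a, ha, rfl⟩ _ ⟨b, hb, rfl⟩
          rw [← map_mul, ← map_mul, hA a ha b hb]
        · have h1 : (A.map (QuotientGroup.mk' N)).index ∣ 2 ^ k := by
            rw [← hk]
            exact Subgroup.index_map_dvd A (QuotientGroup.mk'_surjective N)
          obtain ⟨j, -, hj⟩ := (Nat.dvd_prime_pow Nat.prime_two).mp h1
          exact ⟨j, hj⟩
      exact Group.isSolvable_of_ker_le_range N.subtype (QuotientGroup.mk' N) (by
        rw [QuotientGroup.ker_mk', Subgroup.range_subtype])
    · push Not at hnorm
      by_cases hsub : Subsingleton G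
      · infer_instance
      · rw [not_subsingleton_iff_nontrivial] at hsub
        haveI : IsSimpleGroup G :=
          { toNontrivial := hsub
            eq_bot_or_eq_top_of_normal := fun N hN => by
              by_contra h
              push Not at h
              exact h.2 (hnorm N hN h.1) }
        by_cases hAbot : A = ⊥
        · rw [hAbot, Subgroup.index_bot] at hk
          haveI : Fact (Nat.Prime 2) := ⟨Nat.prime_two⟩
          have hpg : IsPGroup 2 G := IsPGroup.of_card hk
          haveI : Group.IsNilpotent G := hpg.isNilpotent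
          infer_instance
        · obtain ⟨x, hx⟩ := (Subgroup.ne_bot_iff_exists_ne_one (H := A)).mp hAbot
          obtain ⟨g, hgA, hg1⟩ : ∃ g : G, g ∈ A ∧ g ≠ 1 :=
            ⟨(x : G), x.2, fun h => hx (Subtype.ext h)⟩
          have hAle : A ≤ Subgroup.centralizer ({g} : Set G) := by
            intro x hx
            rw [Subgroup.mem_centralizer_singleton_iff]
            exact hA x hx g hgA
          have hidx : (Subgroup.centralizer ({g} : Set G)).index ∣ 2 ^ k :=
            hk ▸ Subgroup.index_dvd_of_le hAle
          obtain ⟨j, -, hj⟩ := (Nat.dvd_prime_pow Nat.prime_two).mp hidx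
          have hprime := Lead.simple_class_prime_power 2 j Nat.prime_two g hg1 hj
          haveI : Fact (Nat.card G).Prime := ⟨hprime⟩
          haveI : IsCyclic G := isCyclic_of_prime_card rfl
          letI : CommGroup G := IsCyclic.commGroup
          infer_instance

/-- Every finite group having an abelian subgroup whose index is a power of 2 is solvable. -/
theorem result {G : Type*} [Group G] [Finite G]
    (A : Subgroup G) (hA : IsMulCommutative A) (hidx : ∃ k : ℕ, A.index = 2 ^ k) : Group.IsSolvable G := by
  apply aux _ G rfl A _ hidx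
  intro a ha b hb
  have := hA.is_comm.comm ⟨a, ha⟩ ⟨b, hb⟩
  exact congrArg Subtype.val this

end Cfsg.Agent.S3824
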