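import Cfsg.Statements.S3859
import Mathlib
import Cfsg.Agent.Lib.Lead.CoprimeSylow
import Cfsg.Agent.Lib.Helper6.SylowInf

set_option autoImplicit false
open Cfsg

namespace Cfsg.Agent.S3859

/-- Let G be a finite group with a normal non-abelian simple subgroup T whose centralizer is trivial (G almost simple with socle T), r a prime and R a Sylow r-subgroup of G meeting T nontrivially. If R lies in exactly one maximal subgroup of G, then G/T is an r-group. -/
theorem result {G : Type*} [Group G] [Finite G] (T : Subgroup G) [T.Normal] (hT : IsSimpleGroup T) (hna : ¬ IsMulCommutative T)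
    (hC : Subgroup.centralizer (T : Set G) = ⊥) {r : ℕ} [Fact r.Prime] (R : Sylow r G) (hR0 : (R : Subgroup G) ⊓ T ≠ ⊥)
    (huniq : ∃! M : Subgroup G, IsCoatom M ∧ (R : Subgroup G) ≤ M) : IsPGroup r (G ⧸ T) := by
  classical
  obtain ⟨M, ⟨hMco, hRM⟩, hMuniq⟩ := huniq
  have hTn : T.Normal := inferInstance
  haveI : IsSimpleGroup ↥T := hT
  have hQp : IsPGroup r ↥((R : Subgroup G) ⊓ T) := IsPGroup.to_le R.isPGroup' inf_le_left
  have hRN : (R : Subgroup G) ≤ Subgroup.normalizer (((R : Subgroup G) ⊓ T : Subgroup G) : Set G) := by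
    intro x hx
    rw [Subgroup.mem_normalizer_iff]
    intro y
    have hxi : x⁻¹ ∈ (R : Subgroup G) := inv_mem hx
    constructor
    · intro hy
      have hy' : y ∈ (R : Subgroup G) ⊓ T := hy
      have h3 : x * y * x⁻¹ ∈ (R : Subgroup G) ⊓ T :=
        ⟨mul_mem (mul_mem hx hy'.1) hxi, hTn.conj_mem y hy'.2 x⟩
      exact h3
    · intro hy
      have hy' : x * y * x⁻¹ ∈ (R : Subgroup G) ⊓ T := hy
      have e : y = x⁻¹ * (x * y * x⁻¹) * x := by group
      have h4 : x⁻¹ * (x * y * x⁻¹) * x⁻¹⁻¹ ∈ T := hTn.conj_mem _ hy'.2 x⁻¹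
      rw [inv_inv] at h4
      have h3 : y ∈ (R : Subgroup G) ⊓ T := by
        rw [e]
        exact ⟨mul_mem (mul_mem hxi hy'.1) hx, h4⟩
      exact h3
  have hNtop : Subgroup.normalizer (((R : Subgroup G) ⊓ T : Subgroup G) : Set G) ≠ ⊤ := by
    intro htop
    have hQn : ((R : Subgroup G) ⊓ T).Normal := Subgroup.normalizer_eq_top_iff.mp htop
    have hQT : (((R : Subgroup G) ⊓ T).subgroupOf T).Normal := hQn.subgroupOf T
    rcases hQT.eq_bot_or_eq_top with h | h
    · rw [Subgroup.subgroupOf_eq_bot] at h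
      apply hR0
      have h5 := h.eq_bot
      rwa [inf_assoc, inf_idem] at h5
    · rw [Subgroup.subgroupOf_eq_top] at h
      have hTp : IsPGroup r ↥T := IsPGroup.to_le hQp h
      haveI : Nontrivial ↥T := hT.toNontrivial
      have hc : Subgroup.center ↥T ≠ ⊥ := by
        have h6 := hTp.center_nontrivial
        exact (Subgroup.nontrivial_iff_ne_bot _).mp h6
      rcases (inferInstance : (Subgroup.center ↥T).Normal).eq_bot_or_eq_top with h2 | h2
      · exact hc h2
      · apply hna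
        refine ⟨⟨fun a b => ?_⟩⟩
        have hb : b ∈ Subgroup.center ↥T := by rw [h2]; exact Subgroup.mem_top b
        exact (Subgroup.mem_center_iff.mp hb a)
  obtain ⟨P, hP⟩ := Cfsg.Agent.Lib.Lead.exists_sylow_map_eq T ((R : Subgroup G) ⊓ T) inf_le_right
    (Cfsg.Agent.Lib.Helper6.card_sylow_inf_normal R T)
  have hfr := Sylow.normalizer_sup_eq_top P
  rw [hP] at hfr
  have hRT : (R : Subgroup G) ⊔ T = ⊤ := by
    by_contra hne
    obtain ⟨M2, hM2co, hM2⟩ := (eq_top_or_exists_le_coatom ((R : Subgroup G) ⊔ T)).resolve_left hne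
    have e2 : M2 = M := hMuniq M2 ⟨hM2co, le_sup_left.trans hM2⟩
    have hTM : T ≤ M := by rw [← e2]; exact le_sup_right.trans hM2
    obtain ⟨M1, hM1co, hM1⟩ := (eq_top_or_exists_le_coatom _).resolve_left hNtop
    have e1 : M1 = M := hMuniq M1 ⟨hM1co, hRN.trans hM1⟩
    have hNM : Subgroup.normalizer (((R : Subgroup G) ⊓ T : Subgroup G) : Set G) ≤ M := by
      rw [← e1]; exact hM1
    have h7 : (⊤ : Subgroup G) ≤ M := by
      rw [← hfr]
      exact sup_le hNM hTM
    exact hMco.1 (top_le_iff.mp h7)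
  intro g
  obtain ⟨x, rfl⟩ := QuotientGroup.mk_surjective g
  have hx : x ∈ ((↑((R : Subgroup G) ⊔ T) : Set G)) := by
    rw [hRT]; exact Subgroup.mem_top x
  rw [Subgroup.mul_normal, Set.mem_mul] at hx
  obtain ⟨a, ha, t, ht, rfl⟩ := hx
  obtain ⟨k, hk⟩ := R.isPGroup' ⟨a, ha⟩
  refine ⟨k, ?_⟩
  have e : ((a * t : G) : G ⧸ T) = (a : G ⧸ T) := by
    rw [QuotientGroup.mk_mul, (QuotientGroup.eq_one_iff t).mpr ht, mul_one]
  have hk' : a ^ r ^ k = 1 := by
    have h8 := congrArg Subtype.val hk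
    simpa using h8
  rw [e, ← QuotientGroup.mk_pow, hk']
  rfl

end Cfsg.Agent.S3859
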