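import Cfsg.Statements.S3861
import Cfsg.Agent.S3800
import Cfsg.Agent.Lib.Helper6.TISylow
import Cfsg.Agent.Lib.Helper6.Lift2
import Cfsg.Agent.Lib.Helper6.RealElt
import Cfsg.Agent.Lib.Helper6.Comm

set_option autoImplicit false
open Cfsg

universe u

namespace Cfsg.Agent.S3861

open Cfsg.Agent.Lib.Helper6

theorem noReal_subgroup {G : Type*} [Group G]
    (hR : ∀ x : G, x ≠ 1 → Odd (orderOf x) → ¬ IsConj x x⁻¹) (H : Subgroup G) :
    ∀ x : ↥H, x ≠ 1 → Odd (orderOf x) → ¬ IsConj x x⁻¹ := by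
  intro x hx1 hodd hconj
  apply hR (x : G) (fun h => hx1 (Subtype.ext h)) (by rwa [Subgroup.orderOf_coe])
  obtain ⟨c, hc⟩ := isConj_iff.mp hconj
  exact isConj_iff.mpr ⟨(c : G), by have := congrArg Subtype.val hc; simpa using this⟩

theorem noReal_quotient {G : Type*} [Group G] [Finite G]
    (hR : ∀ x : G, x ≠ 1 → Odd (orderOf x) → ¬ IsConj x x⁻¹) (N : Subgroup G) [N.Normal]
    (hN : IsPGroup 2 N) :
    ∀ x : G ⧸ N, x ≠ 1 → Odd (orderOf x) → ¬ IsConj x x⁻¹ := by
  intro x hx1 hodd hconj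
  obtain ⟨gb, hgb⟩ := isConj_iff.mp hconj
  have hne1 : orderOf x ≠ 1 := by rw [Ne, orderOf_eq_one_iff]; exact hx1
  obtain ⟨q, hq, hqx⟩ := Nat.exists_prime_and_dvd hne1
  have hq2 : q ≠ 2 := by
    rintro rfl
    exact (Nat.not_even_iff_odd.mpr hodd) (even_iff_two_dvd.mpr hqx)
  have : Fact q.Prime := ⟨hq⟩
  have : Fact (Nat.Prime 2) := ⟨Nat.prime_two⟩
  obtain ⟨m, hm⟩ := hqx
  have hm0 : m ≠ 0 := by
    rintro rfl
    rw [mul_zero] at hm
    exact (orderOf_pos x).ne' hm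
  have hy : orderOf (x ^ m) = q ^ 1 := by
    rw [orderOf_pow_of_dvd hm0 (Dvd.intro_left _ hm.symm), hm, pow_one]
    exact Nat.mul_div_cancel _ (Nat.pos_of_ne_zero hm0)
  have hyconj : gb * (x ^ m) * gb⁻¹ = (x ^ m)⁻¹ := by
    rw [← conj_pow, hgb, inv_pow]
  obtain ⟨y, a, hya, hyx⟩ := exists_pelt_lift N (x ^ m) 1 hy
  have hNq : (Nat.card N).Coprime q := by
    obtain ⟨k, hk⟩ := IsPGroup.iff_card.mp hN
    rw [hk]
    exact Nat.Coprime.pow_left k ((Nat.coprime_primes Nat.prime_two hq).mpr (Ne.symm hq2))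
  have hQ : IsPGroup q (Subgroup.zpowers y) :=
    IsPGroup.of_card (n := a) (by rw [Nat.card_zpowers, hya])
  have h3800 := (Cfsg.Agent.S3800.result N hNq (Subgroup.zpowers y) hQ).1
  have hnz : gb ∈ Subgroup.normalizer
      ((Subgroup.zpowers (x ^ m) : Subgroup (G ⧸ N)) : Set (G ⧸ N)) := by
    apply mem_normalizer_of_conj_mem
    intro d hd
    obtain ⟨j, rfl⟩ := Subgroup.mem_zpowers_iff.mp hd
    rw [← conj_zpow, hyconj, inv_zpow]
    exact Subgroup.inv_mem _ (Subgroup.zpow_mem_zpowers _ _)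
  have hzmap : Subgroup.zpowers (x ^ m) = (Subgroup.zpowers y).map (QuotientGroup.mk' N) := by
    rw [MonoidHom.map_zpowers, hyx]
  rw [hzmap, h3800] at hnz
  obtain ⟨g, hg, hgg⟩ := hnz
  have hg' : g ∈ Subgroup.normalizer ((Subgroup.zpowers y : Subgroup G) : Set G) := hg
  have h1 : g * y * g⁻¹ ∈ Subgroup.zpowers y :=
    (Subgroup.mem_normalizer_iff.mp hg' y).mp (Subgroup.mem_zpowers y)
  have h2 : g * y * g⁻¹ * y ∈ Subgroup.zpowers y := Subgroup.mul_mem _ h1 (Subgroup.mem_zpowers y)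
  have h3 : g * y * g⁻¹ * y ∈ N := by
    rw [← QuotientGroup.eq_one_iff, ← QuotientGroup.mk'_apply, map_mul, map_mul, map_mul, map_inv,
      hgg, hyx, hyconj]
    exact inv_mul_cancel _
  have h4 := eq_one_of_mem_pgroup_of_mem_coprime hQ hNq h2 h3
  have h5 : g * y * g⁻¹ = y⁻¹ := eq_inv_of_mul_eq_one_left h4
  have hy1 : y ≠ 1 := by
    rintro rfl
    rw [map_one] at hyx
    rw [← hyx, orderOf_one, pow_one] at hy
    exact hq.one_lt.ne hy
  apply hR y hy1 _ (isConj_iff.mpr ⟨g, h5⟩)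
  rw [hya]
  exact (hq.odd_of_ne_two hq2).pow

theorem two_elt_of_invol_mul {G : Type*} [Group G] [Finite G]
    (hR : ∀ x : G, x ≠ 1 → Odd (orderOf x) → ¬ IsConj x x⁻¹) (u v : G)
    (hu : orderOf u = 2) (hv : orderOf v = 2) : ∃ a : ℕ, orderOf (u * v) = 2 ^ a := by
  have hu2 : u * u = 1 := by have := pow_orderOf_eq_one u; rwa [hu, pow_two] at this
  have hv2 : v * v = 1 := by have := pow_orderOf_eq_one v; rwa [hv, pow_two] at this
  have huinv : u⁻¹ = u := inv_eq_of_mul_eq_one_left hu2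
  have hvinv : v⁻¹ = v := inv_eq_of_mul_eq_one_left hv2
  have hconj : u * (u * v) * u⁻¹ = (u * v)⁻¹ := by
    rw [mul_inv_rev, hvinv, huinv, ← mul_assoc, hu2, one_mul]
  obtain ⟨a, m, hm, hn⟩ := Nat.exists_eq_two_pow_mul_odd (orderOf_pos (u * v)).ne'
  have h2a : (2 : ℕ) ^ a ≠ 0 := pow_ne_zero _ two_ne_zero
  have hw' : orderOf ((u * v) ^ (2 ^ a)) = m := by
    rw [orderOf_pow_of_dvd h2a (Dvd.intro _ hn.symm), hn]
    exact Nat.mul_div_cancel_left m (Nat.pos_of_ne_zero h2a)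
  have hconj' : u * ((u * v) ^ (2 ^ a)) * u⁻¹ = ((u * v) ^ (2 ^ a))⁻¹ := by
    rw [← conj_pow, hconj, inv_pow]
  by_cases h1 : (u * v) ^ (2 ^ a) = 1
  · refine ⟨a, ?_⟩
    rw [h1, orderOf_one] at hw'
    rw [hn, ← hw', mul_one]
  · exfalso
    exact hR _ h1 (by rw [hw']; exact hm) (isConj_iff.mpr ⟨u, hconj'⟩)

theorem main : ∀ (n : ℕ) (G : Type u) [Group G] [Finite G], Nat.card G = n →
    (∀ x : G, x ≠ 1 → Odd (orderOf x) → ¬ IsConj x x⁻¹) →
    ∀ P : Sylow 2 G, (P : Subgroup G).Normal := by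
  intro n
  induction n using Nat.strong_induction_on with
  | _ n ih =>
  intro G _ _ hcard hR P
  have : Fact (Nat.Prime 2) := ⟨Nat.prime_two⟩
  by_contra hPn
  by_cases hcase : ∃ N : Subgroup G, N.Normal ∧ IsPGroup 2 N ∧ N ≠ ⊥
  · obtain ⟨N, hNn, hN2, hNne⟩ := hcase
    have hlt : Nat.card (G ⧸ N) < n := by
      have h1 := Subgroup.card_eq_card_quotient_mul_card_subgroup N
      have h2 : 1 < Nat.card N := (Subgroup.one_lt_card_iff_ne_bot N).mpr hNne
      have h3 : 0 < Nat.card (G ⧸ N) := Nat.card_pos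
      rw [← hcard, h1]
      nlinarith
    have hRq := noReal_quotient hR N hN2
    obtain ⟨Pb⟩ : Nonempty (Sylow 2 (G ⧸ N)) := inferInstance
    have hPbn : (Pb : Subgroup (G ⧸ N)).Normal := ih _ hlt (G ⧸ N) rfl hRq Pb
    have hSn : ((Pb : Subgroup (G ⧸ N)).comap (QuotientGroup.mk' N)).Normal := hPbn.comap _
    have hS2 : IsPGroup 2 ((Pb : Subgroup (G ⧸ N)).comap (QuotientGroup.mk' N)) :=
      Pb.isPGroup'.comap_of_ker_isPGroup (QuotientGroup.mk' N)
        (by rw [QuotientGroup.ker_mk']; exact hN2)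
    have hSP : (Pb : Subgroup (G ⧸ N)).comap (QuotientGroup.mk' N) ≤ P :=
      le_sylow_of_normalizes P _ hS2
        (by rw [Subgroup.normalizer_eq_top_iff.mpr hSn]; exact le_top)
    have hPS : (P : Subgroup G) ≤ (Pb : Subgroup (G ⧸ N)).comap (QuotientGroup.mk' N) := by
      intro x hx
      rw [Subgroup.mem_comap]
      obtain ⟨k, hk⟩ := orderOf_mem_sylow P hx
      have hdvd : orderOf (QuotientGroup.mk' N x) ∣ 2 ^ k := by
        rw [← hk]; exact orderOf_map_dvd _ x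
      obtain ⟨j, -, hj⟩ := (Nat.dvd_prime_pow Nat.prime_two).mp hdvd
      exact mem_sylow_of_normal_of_orderOf Pb hPbn _ j hj
    apply hPn
    rw [le_antisymm hPS hSP]
    exact hSn
  · push Not at hcase
    have hsub : ∀ H : Subgroup G, H ≠ ⊤ → ∀ S : Sylow 2 ↥H, (S : Subgroup ↥H).Normal := by
      intro H hH S
      have hlt : Nat.card ↥H < n := by
        rw [← hcard, ← Subgroup.card_top (G := G)]
        exact card_lt_card_of_lt (lt_top_iff_ne_top.mpr hH)
      exact ih _ hlt ↥H rfl (noReal_subgroup hR H) S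
    have uniq := unique_sylow_of_le_of_core_trivial hsub hcase
    have hex : ∃ g : G, g • P ≠ P := by
      by_contra hall
      push Not at hall
      apply hPn
      rw [← Subgroup.normalizer_eq_top_iff, eq_top_iff]
      intro g _
      exact Sylow.smul_eq_iff_mem_normalizer.mp (hall g)
    obtain ⟨g, hg⟩ := hex
    have hPne : (P : Subgroup G) ≠ ⊥ := by
      intro hbot
      apply hPn
      rw [hbot]
      infer_instance
    have h2dvd : 2 ∣ Nat.card ↥(P : Subgroup G) := by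
      obtain ⟨k, hk⟩ := IsPGroup.iff_card.mp P.isPGroup'
      have hk0 : k ≠ 0 := by
        rintro rfl
        rw [pow_zero] at hk
        exact hPne (Subgroup.card_eq_one.mp hk)
      rw [hk]
      exact dvd_pow_self 2 hk0
    obtain ⟨u', hu'⟩ := exists_prime_orderOf_dvd_card' 2 h2dvd
    have hu : orderOf (u' : G) = 2 := by rw [Subgroup.orderOf_coe]; exact hu'
    have huP : (u' : G) ∈ (P : Subgroup G) := u'.2
    generalize (u' : G) = u at hu huP
    have hv : orderOf (g * u * g⁻¹) = 2 := by rw [orderOf_conj_eq]; exact hu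
    have hvQ : g * u * g⁻¹ ∈ ((g • P : Sylow 2 G) : Subgroup G) := by
      rw [sylow_smul_mem_iff]
      have e : g⁻¹ * (g * u * g⁻¹) * g = u := by group
      rw [e]
      exact huP
    obtain ⟨a, ha⟩ := two_elt_of_invol_mul hR u (g * u * g⁻¹) hu hv
    have hwp : IsPGroup 2 (Subgroup.zpowers (u * (g * u * g⁻¹))) :=
      IsPGroup.of_card (n := a) (by rw [Nat.card_zpowers, ha])
    have hup : IsPGroup 2 (Subgroup.zpowers u) :=
      IsPGroup.of_card (n := 1) (by rw [Nat.card_zpowers, hu, pow_one])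
    have hu2 : u * u = 1 := by have := pow_orderOf_eq_one u; rwa [hu, pow_two] at this
    have hv2 : (g * u * g⁻¹) * (g * u * g⁻¹) = 1 := by
      have e : (g * u * g⁻¹) * (g * u * g⁻¹) = g * (u * u) * g⁻¹ := by group
      rw [e, hu2]
      group
    have hnorm : Subgroup.zpowers u ≤ Subgroup.normalizer
        ((Subgroup.zpowers (u * (g * u * g⁻¹)) : Subgroup G) : Set G) := by
      rw [Subgroup.zpowers_le]
      apply mem_normalizer_of_conj_mem
      intro d hd
      obtain ⟨j, rfl⟩ := Subgroup.mem_zpowers_iff.mp hd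
      have hc : u * (u * (g * u * g⁻¹)) * u⁻¹ = (u * (g * u * g⁻¹))⁻¹ := by
        have huinv : u⁻¹ = u := inv_eq_of_mul_eq_one_left hu2
        have hvinv : (g * u * g⁻¹)⁻¹ = g * u * g⁻¹ := inv_eq_of_mul_eq_one_left hv2
        rw [mul_inv_rev, hvinv, huinv, ← mul_assoc, hu2, one_mul]
      rw [← conj_zpow, hc, inv_zpow]
      exact Subgroup.inv_mem _ (Subgroup.zpow_mem_zpowers _ _)
    have hRg : IsPGroup 2
        ((Subgroup.zpowers (u * (g * u * g⁻¹)) ⊔ Subgroup.zpowers u : Subgroup G)) :=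
      IsPGroup.to_sup_of_normal_left' hwp hup hnorm
    obtain ⟨S, hS⟩ := hRg.exists_le_sylow
    have hu1 : Subgroup.zpowers u ≠ ⊥ := by
      intro h
      have hu1' : u = 1 := Subgroup.zpowers_eq_bot.mp h
      rw [hu1', orderOf_one] at hu
      omega
    have huS : Subgroup.zpowers u ≤ S := le_sup_right.trans hS
    have hPS : P = S :=
      uniq _ (Subgroup.zpowers u) rfl hu1 P S (Subgroup.zpowers_le.mpr huP) huS
    have hvS : g * u * g⁻¹ ∈ (S : Subgroup G) := by
      apply hS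
      have h' : u⁻¹ * (u * (g * u * g⁻¹))
          ∈ (Subgroup.zpowers (u * (g * u * g⁻¹)) ⊔ Subgroup.zpowers u : Subgroup G) :=
        Subgroup.mul_mem _
          (Subgroup.inv_mem _ (Subgroup.mem_sup_right (Subgroup.mem_zpowers u)))
          (Subgroup.mem_sup_left (Subgroup.mem_zpowers _))
      rw [inv_mul_cancel_left] at h'
      exact h'
    have hv1 : Subgroup.zpowers (g * u * g⁻¹) ≠ ⊥ := by
      intro h
      have hv1' : g * u * g⁻¹ = 1 := Subgroup.zpowers_eq_bot.mp h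
      rw [hv1', orderOf_one] at hv
      omega
    have hQS : g • P = S :=
      uniq _ (Subgroup.zpowers (g * u * g⁻¹)) rfl hv1 (g • P) S
        (Subgroup.zpowers_le.mpr hvQ) (Subgroup.zpowers_le.mpr hvS)
    exact hg (hQS.trans hPS.symm)

/-- A finite group G has no non-identity element of odd order that is conjugate to its inverse if and only if the Sylow 2-subgroups of G are normal. -/
theorem result {G : Type*} [Group G] [Finite G] (P : Sylow 2 G) : (∀ x : G, x ≠ 1 → Odd (orderOf x) → ¬ IsConj x x⁻¹) ↔ (P : Subgroup G).Normal := by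
  constructor
  · intro hR
    exact main _ G rfl hR P
  · intro hPn x hx1 hodd hconj
    have : Fact (Nat.Prime 2) := ⟨Nat.prime_two⟩
    obtain ⟨t, ⟨j, hj⟩, ht⟩ := exists_two_elt_inverting hconj
    have htP : t ∈ (P : Subgroup G) := mem_sylow_of_normal_of_orderOf P hPn t j hj
    have h1 : x⁻¹ * x⁻¹ ∈ (P : Subgroup G) := by
      have h2 : x⁻¹ * x⁻¹ = t * (x * t⁻¹ * x⁻¹) := by
        nth_rewrite 1 [← ht]
        group
      rw [h2]
      exact Subgroup.mul_mem _ htP (hPn.conj_mem _ (Subgroup.inv_mem _ htP) x)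
    obtain ⟨k, hk⟩ := orderOf_mem_sylow P h1
    have hdvd : orderOf (x⁻¹ * x⁻¹) ∣ orderOf x := by
      apply orderOf_dvd_of_pow_eq_one
      rw [← pow_two, ← pow_mul, inv_pow, mul_comm, pow_mul, pow_orderOf_eq_one, one_pow, inv_one]
    rw [hk] at hdvd
    have hk0 : k = 0 := by
      by_contra hk0
      have h2 : 2 ∣ orderOf x := (dvd_pow_self 2 hk0).trans hdvd
      exact (Nat.not_even_iff_odd.mpr hodd) (even_iff_two_dvd.mpr h2)
    rw [hk0, pow_zero, orderOf_eq_one_iff] at hk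
    have hx2 : x ^ 2 = 1 := by
      have h3 : (x ^ 2)⁻¹ = 1 := by rw [pow_two, mul_inv_rev]; exact hk
      exact inv_eq_one.mp h3
    have hd2 : orderOf x ∣ 2 := orderOf_dvd_of_pow_eq_one hx2
    rcases (Nat.dvd_prime Nat.prime_two).mp hd2 with h | h
    · exact hx1 (orderOf_eq_one_iff.mp h)
    · rw [h] at hodd
      exact absurd hodd (by decide)

end Cfsg.Agent.S3861
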