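import Cfsg.Statements.S3869
import Mathlib

set_option autoImplicit false
open Cfsg

namespace Cfsg.Agent.S3869

theorem irr_card_le {q : ℕ} [hq : Fact q.Prime] {M : Type*} [AddCommGroup M] [Finite M]
    [Nontrivial M] (hqM : ∀ m : M, q • m = 0) (σ : AddMonoid.End M) (e : ℕ) (he : 1 ≤ e)
    (hσ : σ ^ (q ^ e) = σ)
    (hirr : ∀ W : AddSubgroup M, (∀ w ∈ W, σ w ∈ W) → W = ⊥ ∨ W = ⊤) : Nat.card M ≤ q ^ e := by
  classical
  obtain ⟨N, hNdef⟩ : ∃ N, N = q ^ e := ⟨_, rfl⟩
  rw [← hNdef] at hσ ⊢
  have hN1 : 1 < N := by rw [hNdef]; exact Nat.one_lt_pow (by omega) hq.out.one_lt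
  haveI : Finite (AddMonoid.End M) :=
    Finite.of_injective (fun g : AddMonoid.End M => (g : M → M)) DFunLike.coe_injective
  let f : Polynomial ℤ →+* AddMonoid.End M :=
    (Polynomial.aeval σ : Polynomial ℤ →ₐ[ℤ] AddMonoid.End M).toRingHom
  have hfX : f Polynomial.X = σ := Polynomial.aeval_X σ
  obtain ⟨m₀, hm₀⟩ := exists_ne (0 : M)
  have hcomm : ∀ P : Polynomial ℤ, ∀ m, σ (f P m) = f P (σ m) := by
    intro P m
    have h1 : f (Polynomial.X * P) = f (P * Polynomial.X) := by rw [mul_comm]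
    rw [map_mul, map_mul, hfX] at h1
    exact congrArg (fun g : AddMonoid.End M => g m) h1
  have hsurj : ∀ P : Polynomial ℤ, f P ≠ 0 → ∀ m, ∃ m', f P m' = m := by
    intro P hP m
    have h1 := hirr (AddMonoidHom.range (f P)) (by
      rintro w ⟨m', rfl⟩
      exact ⟨σ m', (hcomm P m').symm⟩)
    rcases h1 with h1 | h1
    · exfalso
      apply hP
      apply AddMonoidHom.ext
      intro m'
      have h2 : f P m' ∈ AddMonoidHom.range (f P) := ⟨m', rfl⟩
      rw [h1, AddSubgroup.mem_bot] at h2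
      exact h2
    · have h2 : m ∈ AddMonoidHom.range (f P) := by rw [h1]; exact AddSubgroup.mem_top m
      exact h2
  have hprime : (RingHom.ker f).IsPrime := by
    refine ⟨?_, ?_⟩
    · intro htop
      have h1 : (1 : Polynomial ℤ) ∈ RingHom.ker f := by rw [htop]; exact Submodule.mem_top
      rw [RingHom.mem_ker, map_one] at h1
      have h2 : (1 : AddMonoid.End M) m₀ = (0 : AddMonoid.End M) m₀ := by rw [h1]
      exact hm₀ h2
    · intro P Q hPQ
      rw [RingHom.mem_ker, map_mul] at hPQ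
      by_contra hcon
      push_neg at hcon
      obtain ⟨hP, hQ⟩ := hcon
      rw [RingHom.mem_ker] at hP hQ
      apply hP
      apply AddMonoidHom.ext
      intro m
      obtain ⟨m', rfl⟩ := hsurj Q hQ m
      exact congrArg (fun g : AddMonoid.End M => g m') hPQ
  haveI := hprime
  haveI : IsDomain (Polynomial ℤ ⧸ RingHom.ker f) := Ideal.Quotient.isDomain (RingHom.ker f)
  haveI : Finite (Polynomial ℤ ⧸ RingHom.ker f) :=
    Finite.of_injective _ (RingHom.kerLift_injective f)
  haveI : Fintype (Polynomial ℤ ⧸ RingHom.ker f) := Fintype.ofFinite _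
  have hq0 : ((q : ℕ) : Polynomial ℤ ⧸ RingHom.ker f) = 0 := by
    have h1 : ((q : ℕ) : Polynomial ℤ) ∈ RingHom.ker f := by
      rw [RingHom.mem_ker, map_natCast]
      refine DFunLike.ext _ _ (fun m => ?_)
      show ((q : ℕ) : AddMonoid.End M) m = 0
      rw [AddMonoid.End.natCast_apply]
      exact hqM m
    have h2 : Ideal.Quotient.mk (RingHom.ker f) ((q : ℕ) : Polynomial ℤ) = 0 :=
      Ideal.Quotient.eq_zero_iff_mem.2 h1
    rwa [map_natCast] at h2
  haveI : CharP (Polynomial ℤ ⧸ RingHom.ker f) q :=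
    (CharP.charP_iff_prime_eq_zero hq.out).2 hq0
  have hfrob : ∀ k : Polynomial ℤ ⧸ RingHom.ker f, k ^ N = k := by
    let S : Subring (Polynomial ℤ ⧸ RingHom.ker f) :=
      { carrier := {k | k ^ N = k}
        mul_mem' := by
          intro a b ha hb
          have ha' : a ^ N = a := ha
          have hb' : b ^ N = b := hb
          show (a * b) ^ N = a * b
          rw [mul_pow, ha', hb']
        one_mem' := one_pow N
        add_mem' := by
          intro a b ha hb
          have ha' : a ^ N = a := ha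
          have hb' : b ^ N = b := hb
          show (a + b) ^ N = a + b
          rw [hNdef, add_pow_char_pow, ← hNdef, ha', hb']
        zero_mem' := zero_pow (by omega)
        neg_mem' := by
          intro a ha
          have ha' : a ^ N = a := ha
          show (-a) ^ N = -a
          have h := sub_pow_char_pow (0 : Polynomial ℤ ⧸ RingHom.ker f) a e (p := q)
          rw [zero_sub, zero_pow (pow_ne_zero e hq.out.ne_zero), zero_sub, ← hNdef] at h
          rw [h, ha'] }
    have hX : Ideal.Quotient.mk (RingHom.ker f) Polynomial.X ∈ S := by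
      show (Ideal.Quotient.mk (RingHom.ker f) Polynomial.X) ^ N
        = Ideal.Quotient.mk (RingHom.ker f) Polynomial.X
      rw [← map_pow, Ideal.Quotient.eq, RingHom.mem_ker, map_sub, map_pow, hfX, hσ, sub_self]
    have hall : ∀ P : Polynomial ℤ, Ideal.Quotient.mk (RingHom.ker f) P ∈ S := by
      intro P
      refine Polynomial.induction_on P ?_ ?_ ?_
      · intro a
        rw [eq_intCast Polynomial.C a, map_intCast]
        exact intCast_mem S a
      · intro P Q hP hQ
        rw [map_add]; exact S.add_mem hP hQ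
      · intro n a h
        rw [pow_succ, ← mul_assoc, map_mul]
        exact S.mul_mem h hX
    intro k
    obtain ⟨P, rfl⟩ := Ideal.Quotient.mk_surjective k
    exact hall P
  have hW : ∀ m : M, ∃ P : Polynomial ℤ, f P m₀ = m := by
    let W : AddSubgroup M :=
      { carrier := {m | ∃ P : Polynomial ℤ, f P m₀ = m}
        add_mem' := by
          rintro _ _ ⟨P, rfl⟩ ⟨Q, rfl⟩
          exact ⟨P + Q, by rw [map_add]; rfl⟩
        zero_mem' := ⟨0, by rw [map_zero]; rfl⟩
        neg_mem' := by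
          rintro _ ⟨P, rfl⟩
          exact ⟨-P, by rw [map_neg]; rfl⟩ }
    have hWinv : ∀ w ∈ W, σ w ∈ W := by
      rintro _ ⟨P, rfl⟩
      refine ⟨Polynomial.X * P, ?_⟩
      rw [map_mul, hfX]; rfl
    have hm₀W : m₀ ∈ W := ⟨1, by rw [map_one]; rfl⟩
    rcases hirr W hWinv with h | h
    · exfalso
      rw [h, AddSubgroup.mem_bot] at hm₀W
      exact hm₀ hm₀W
    · intro m
      have h2 : m ∈ W := by rw [h]; exact AddSubgroup.mem_top m
      exact h2
  have hcardMK : Nat.card M ≤ Nat.card (Polynomial ℤ ⧸ RingHom.ker f) := by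
    let Ψ : (Polynomial ℤ ⧸ RingHom.ker f) → M := fun k => (RingHom.kerLift f k) m₀
    have hΨ : Function.Surjective Ψ := by
      intro m
      obtain ⟨P, hP⟩ := hW m
      refine ⟨Ideal.Quotient.mk _ P, ?_⟩
      show (RingHom.kerLift f (Ideal.Quotient.mk _ P)) m₀ = m
      rw [RingHom.kerLift_mk]; exact hP
    exact Nat.card_le_card_of_surjective Ψ hΨ
  have hcardK : Nat.card (Polynomial ℤ ⧸ RingHom.ker f) ≤ N := by
    rw [Nat.card_eq_fintype_card]
    obtain ⟨T, hTdef⟩ : ∃ T : Polynomial (Polynomial ℤ ⧸ RingHom.ker f),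
        T = Polynomial.X ^ N - Polynomial.X := ⟨_, rfl⟩
    have hT0 : T ≠ 0 := by
      intro h
      have h1 := congrArg (fun P : Polynomial (Polynomial ℤ ⧸ RingHom.ker f) => P.coeff N) h
      have hN' : ¬ (1 = N) := by omega
      simp [hTdef, Polynomial.coeff_X_pow, Polynomial.coeff_X, hN'] at h1
    have hsub : (Finset.univ : Finset (Polynomial ℤ ⧸ RingHom.ker f)) ⊆ T.roots.toFinset := by
      intro k _
      rw [Multiset.mem_toFinset, Polynomial.mem_roots hT0]
      simp [hTdef, Polynomial.IsRoot, hfrob k]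
    calc Fintype.card (Polynomial ℤ ⧸ RingHom.ker f)
        = (Finset.univ : Finset (Polynomial ℤ ⧸ RingHom.ker f)).card := Finset.card_univ.symm
      _ ≤ T.roots.toFinset.card := Finset.card_le_card hsub
      _ ≤ Multiset.card T.roots := Multiset.toFinset_card_le _
      _ ≤ T.natDegree := Polynomial.card_roots' T
      _ ≤ N := by
          rw [hTdef]
          exact (Polynomial.natDegree_sub_le _ _).trans
            (max_le (Polynomial.natDegree_X_pow_le N) (Polynomial.natDegree_X_le.trans hN1.le))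
  exact hcardMK.trans hcardK

/-- Let p and q be distinct primes and G a finite non-abelian group with a normal elementary abelian q-subgroup A that is a minimal normal subgroup of G and has index p. Then A has order q^e with e the multiplicative order of q modulo p, and G is minimal non-p-closed: its Sylow p-subgroups are not normal, while in every proper subgroup and in every proper quotient of G the Sylow p-subgroups are normal. -/
theorem result {G : Type*} [Group G] [Finite G] {p q : ℕ} [Fact p.Prime] (hq : q.Prime) (hpq : q ≠ p)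
    (hna : ¬ IsMulCommutative G) (A : Subgroup G) [A.Normal] (hA : Cfsg.IsElementaryAbelian q A) (hidx : A.index = p)
    (hmin : ∀ B : Subgroup G, B.Normal → B ≤ A → B = ⊥ ∨ B = A) :
    Nat.card ↥A = q ^ orderOf (q : ZMod p) ∧ ¬ Cfsg.IsPClosed p G ∧ (∀ H : Subgroup G, H ≠ ⊤ → Cfsg.IsPClosed p ↥H) ∧
      ∀ (N : Subgroup G) [N.Normal], N ≠ ⊥ → Cfsg.IsPClosed p (G ⧸ N) := by
  classical
  have hpp : p.Prime := Fact.out
  haveI : Fact q.Prime := ⟨hq⟩
  obtain ⟨hAcomm, hAexp⟩ := hA
  have hAn : A.Normal := inferInstance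
  have hAc : ∀ a ∈ A, ∀ b ∈ A, a * b = b * a := by
    intro a ha b hb
    have h1 := hAcomm.is_comm.comm (⟨a, ha⟩ : A) ⟨b, hb⟩
    exact congrArg Subtype.val h1
  have hGnc : ¬ ∀ g h : G, g * h = h * g := fun h => hna ⟨⟨h⟩⟩
  have hcardQ : Nat.card (G ⧸ A) = p := by rw [← Subgroup.index_eq_card]; exact hidx
  have hcardG : Nat.card G = Nat.card A * p := by
    rw [← hidx]; exact (Subgroup.card_mul_index A).symm
  have hcop : ∀ c ∈ A, (∃ k : ℕ, c ^ (p ^ k) = 1) → c = 1 := by
    rintro c hc ⟨k, hk⟩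
    have h1 : orderOf c ∣ q := orderOf_dvd_of_pow_eq_one (hAexp c hc)
    have h2 : orderOf c ∣ p ^ k := orderOf_dvd_of_pow_eq_one hk
    have hcp : Nat.Coprime q (p ^ k) := Nat.Coprime.pow_right _ ((Nat.coprime_primes hq hpp).2 hpq)
    have h3 := Nat.dvd_gcd h1 h2
    rw [Nat.Coprime.gcd_eq_one hcp] at h3
    exact orderOf_eq_one_iff.1 (Nat.dvd_one.1 h3)
  have hdecomp : ∀ y : G, y ∉ A → ∀ g : G, ∃ i : ℕ, ∃ a : G, a ∈ A ∧ g = y ^ i * a := by
    intro y hyA g
    have hy1 : (QuotientGroup.mk y : G ⧸ A) ≠ 1 := by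
      intro h; exact hyA ((QuotientGroup.eq_one_iff y).1 h)
    have htop := zpowers_eq_top_of_prime_card (G := G ⧸ A) hcardQ hy1
    have hg : (QuotientGroup.mk g : G ⧸ A) ∈ Subgroup.zpowers (QuotientGroup.mk y : G ⧸ A) := by
      rw [htop]; exact Subgroup.mem_top _
    have hg' := (isOfFinOrder_of_finite (QuotientGroup.mk y : G ⧸ A)).mem_powers_iff_mem_zpowers.2 hg
    obtain ⟨i, hi⟩ := (Submonoid.mem_powers_iff _ _).1 hg'
    refine ⟨i, (y ^ i)⁻¹ * g, ?_, by group⟩
    apply QuotientGroup.eq.1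
    rw [QuotientGroup.mk_pow]; exact hi
  have hcommfalse : ∀ y : G, y ∉ A → (∀ a ∈ A, y * a = a * y) → False := by
    intro y hyA hya
    apply hGnc
    intro g h
    obtain ⟨i, a, ha, rfl⟩ := hdecomp y hyA g
    obtain ⟨j, b, hb, rfl⟩ := hdecomp y hyA h
    have c1 : a * y ^ j = y ^ j * a := ((show Commute y a from hya a ha).pow_left j).eq.symm
    have c2 : b * y ^ i = y ^ i * b := ((show Commute y b from hya b hb).pow_left i).eq.symm
    have c3 : a * b = b * a := hAc a ha b hb
    have c4 : y ^ i * y ^ j = y ^ j * y ^ i := by rw [← pow_add, ← pow_add, add_comm]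
    calc y ^ i * a * (y ^ j * b) = y ^ i * (a * y ^ j) * b := by simp only [mul_assoc]
      _ = y ^ i * (y ^ j * a) * b := by rw [c1]
      _ = (y ^ i * y ^ j) * (a * b) := by simp only [mul_assoc]
      _ = (y ^ j * y ^ i) * (b * a) := by rw [c4, c3]
      _ = y ^ j * (y ^ i * b) * a := by simp only [mul_assoc]
      _ = y ^ j * (b * y ^ i) * a := by rw [c2]
      _ = y ^ j * b * (y ^ i * a) := by simp only [mul_assoc]
  have hnormal : ∀ y : G, y ∉ A → ∀ B : Subgroup G, B ≤ A → (∀ b ∈ B, y * b * y⁻¹ ∈ B) →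
      B.Normal := by
    intro y hyA B hBA hBy
    have hpow : ∀ i : ℕ, ∀ b ∈ B, y ^ i * b * (y ^ i)⁻¹ ∈ B := by
      intro i
      induction i with
      | zero => intro b hb; simpa using hb
      | succ i ih =>
        intro b hb
        have e1 : y ^ (i + 1) * b * (y ^ (i + 1))⁻¹ = y * (y ^ i * b * (y ^ i)⁻¹) * y⁻¹ := by
          rw [pow_succ']; group
        rw [e1]; exact hBy _ (ih b hb)
    constructor
    intro b hb g
    obtain ⟨i, a, ha, rfl⟩ := hdecomp y hyA g
    have e1 : y ^ i * a * b * (y ^ i * a)⁻¹ = y ^ i * (a * b * a⁻¹) * (y ^ i)⁻¹ := by group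
    have e2 : a * b * a⁻¹ = b := by rw [hAc a ha b (hBA hb)]; group
    rw [e1, e2]; exact hpow i b hb
  obtain ⟨x, hxA⟩ : ∃ x, x ∉ A := by
    by_contra h
    push_neg at h
    have h1 : A = ⊤ := (Subgroup.eq_top_iff' A).2 h
    rw [h1, Subgroup.index_top] at hidx
    exact hpp.one_lt.ne hidx
  have hfact1 : ∀ a ∈ A, x * a = a * x → a = 1 := by
    intro a ha hxa
    have hCn : (A ⊓ Subgroup.centralizer {x}).Normal := hnormal x hxA _ inf_le_left (by
      intro b hb
      have hbx : x * b = b * x := by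
        have h1 : b ∈ Subgroup.centralizer {x} := hb.2
        rw [Subgroup.mem_centralizer_iff] at h1
        exact h1 x rfl
      have e1 : x * b * x⁻¹ = b := by rw [hbx]; group
      rw [e1]; exact hb)
    rcases hmin _ hCn inf_le_left with h | h
    · have h0 : a ∈ Subgroup.centralizer {x} := by
        rw [Subgroup.mem_centralizer_iff]
        intro z hz
        rw [Set.mem_singleton_iff] at hz
        rw [hz]; exact hxa
      have h1 : a ∈ A ⊓ Subgroup.centralizer {x} := Subgroup.mem_inf.2 ⟨ha, h0⟩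
      rw [h, Subgroup.mem_bot] at h1
      exact h1
    · exfalso
      apply hcommfalse x hxA
      intro b hb
      have hb' : b ∈ A ⊓ Subgroup.centralizer {x} := by rw [h]; exact hb
      have h1 : b ∈ Subgroup.centralizer {x} := hb'.2
      rw [Subgroup.mem_centralizer_iff] at h1
      exact h1 x rfl
  have hS1 : ¬ Cfsg.IsPClosed p G := by
    intro hcl
    have hpdvd : p ∣ Nat.card G := by rw [hcardG]; exact dvd_mul_left p _
    obtain ⟨y, hy⟩ := exists_prime_orderOf_dvd_card' (G := G) p hpdvd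
    have hyp : y ^ p = 1 := by rw [← hy]; exact pow_orderOf_eq_one y
    have hy1 : y ≠ 1 := by
      intro h
      rw [h, orderOf_one] at hy
      exact hpp.one_lt.ne hy
    have hyA : y ∉ A := by
      intro hyA
      exact hy1 (hcop y hyA ⟨1, by rw [pow_one]; exact hyp⟩)
    have hyP : IsPGroup p (Subgroup.zpowers y) :=
      IsPGroup.of_card (n := 1) (by rw [Nat.card_zpowers, hy, pow_one])
    obtain ⟨P, hP⟩ := hyP.exists_le_sylow
    have hPn := hcl P
    have hyPm : y ∈ (P : Subgroup G) := hP (Subgroup.mem_zpowers y)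
    apply hcommfalse y hyA
    intro a ha
    have hc : y * a * y⁻¹ * a⁻¹ ∈ A := A.mul_mem (hAn.conj_mem a ha y) (A.inv_mem ha)
    have hcP : y * a * y⁻¹ * a⁻¹ ∈ (P : Subgroup G) := by
      have e1 : y * a * y⁻¹ * a⁻¹ = y * (a * y⁻¹ * a⁻¹) := by group
      rw [e1]
      exact (P : Subgroup G).mul_mem hyPm (hPn.conj_mem _ ((P : Subgroup G).inv_mem hyPm) a)
    obtain ⟨k, hk⟩ := P.isPGroup' ⟨_, hcP⟩
    have hk' : (y * a * y⁻¹ * a⁻¹) ^ (p ^ k) = 1 := by
      have h1 := congrArg Subtype.val hk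
      simpa using h1
    have h1 := hcop _ hc ⟨k, hk'⟩
    calc y * a = y * a * y⁻¹ * a⁻¹ * (a * y) := by group
      _ = a * y := by rw [h1, one_mul]
  have hS2 : ∀ H : Subgroup G, H ≠ ⊤ → Cfsg.IsPClosed p ↥H := by
    intro H hH P
    by_cases hHA : H ≤ A
    · have hP : (P : Subgroup ↥H) = ⊥ := by
        rw [Subgroup.eq_bot_iff_forall]
        intro h hh
        obtain ⟨k, hk⟩ := P.isPGroup' ⟨h, hh⟩
        have hk' : (h : G) ^ (p ^ k) = 1 := by
          have h1 := congrArg (fun z : ↥(P : Subgroup ↥H) => ((z : ↥H) : G)) hk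
          simpa using h1
        exact Subtype.ext (hcop h.1 (hHA h.2) ⟨k, hk'⟩)
      rw [hP]; infer_instance
    · obtain ⟨y, hyH, hyA⟩ := SetLike.not_le_iff_exists.1 hHA
      have hBn : (H ⊓ A).Normal := hnormal y hyA (H ⊓ A) inf_le_right (by
        intro b hb
        exact ⟨H.mul_mem (H.mul_mem hyH hb.1) (H.inv_mem hyH), hAn.conj_mem b hb.2 y⟩)
      have hHA' : H ⊓ A = ⊥ := by
        rcases hmin (H ⊓ A) hBn inf_le_right with h | h
        · exact h
        · exfalso
          apply hH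
          rw [Subgroup.eq_top_iff']
          intro g
          obtain ⟨i, a, ha, rfl⟩ := hdecomp y hyA g
          have haH : a ∈ H := (show a ∈ H ⊓ A by rw [h]; exact ha).1
          exact H.mul_mem (H.pow_mem hyH i) haH
      let f : ↥H →* G ⧸ A := (QuotientGroup.mk' A).comp H.subtype
      have hf : Function.Injective f := by
        rw [injective_iff_map_eq_one]
        intro h hh
        have h1 : (h : G) ∈ A := (QuotientGroup.eq_one_iff _).1 hh
        have h2 : (h : G) ∈ H ⊓ A := ⟨h.2, h1⟩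
        rw [hHA', Subgroup.mem_bot] at h2
        exact Subtype.ext h2
      have hdvd : Nat.card ↥H ∣ p := by
        have h1 := Subgroup.card_dvd_of_injective f hf
        rwa [hcardQ] at h1
      have hHp : IsPGroup p ↥H := by
        rcases (Nat.dvd_prime hpp).1 hdvd with h | h
        · exact IsPGroup.of_card (n := 0) (by rw [pow_zero]; exact h)
        · exact IsPGroup.of_card (n := 1) (by rw [pow_one]; exact h)
      have hPtop : (P : Subgroup ↥H) = ⊤ := (P.is_maximal' (hHp.to_subgroup ⊤) le_top).symm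
      rw [hPtop]; infer_instance
  have hS3 : ∀ (N : Subgroup G) [N.Normal], N ≠ ⊥ → Cfsg.IsPClosed p (G ⧸ N) := by
    intro N hN hNbot P
    have hNA : (N ⊓ A).Normal := inferInstance
    rcases hmin (N ⊓ A) hNA inf_le_right with h | h
    · exfalso
      obtain ⟨⟨y, hyN⟩, hy1⟩ := (Subgroup.ne_bot_iff_exists_ne_one).1 hNbot
      have hy1' : y ≠ 1 := fun h0 => hy1 (Subtype.ext h0)
      have hyA : y ∉ A := by
        intro hyA
        have h1 : y ∈ N ⊓ A := ⟨hyN, hyA⟩
        rw [h, Subgroup.mem_bot] at h1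
        exact hy1' h1
      apply hcommfalse y hyA
      intro a ha
      have hc : y * a * y⁻¹ * a⁻¹ ∈ N ⊓ A := by
        refine ⟨?_, ?_⟩
        · have e1 : y * a * y⁻¹ * a⁻¹ = y * (a * y⁻¹ * a⁻¹) := by group
          rw [e1]; exact N.mul_mem hyN (hN.conj_mem _ (N.inv_mem hyN) a)
        · exact A.mul_mem (hAn.conj_mem a ha y) (A.inv_mem ha)
      rw [h, Subgroup.mem_bot] at hc
      calc y * a = y * a * y⁻¹ * a⁻¹ * (a * y) := by group
        _ = a * y := by rw [hc, one_mul]
    · have hAN : A ≤ N := fun a ha => (show a ∈ N ⊓ A by rw [h]; exact ha).1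
      have hdvd : Nat.card (G ⧸ N) ∣ p := by
        rw [← Subgroup.index_eq_card, ← hidx]
        exact Subgroup.index_dvd_of_le hAN
      have hQp : IsPGroup p (G ⧸ N) := by
        rcases (Nat.dvd_prime hpp).1 hdvd with h | h
        · exact IsPGroup.of_card (n := 0) (by rw [pow_zero]; exact h)
        · exact IsPGroup.of_card (n := 1) (by rw [pow_one]; exact h)
      have hPtop : (P : Subgroup (G ⧸ N)) = ⊤ := (P.is_maximal' (hQp.to_subgroup ⊤) le_top).symm
      rw [hPtop]; infer_instance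
  have hAbot : A ≠ ⊥ := by
    intro hbot
    apply hcommfalse x hxA
    intro a ha
    rw [hbot, Subgroup.mem_bot] at ha
    rw [ha, mul_one, one_mul]
  have hAq : IsPGroup q ↥A := fun a => ⟨1, by
    rw [pow_one]; exact Subtype.ext (by simpa using hAexp a.1 a.2)⟩
  obtain ⟨d, hd⟩ := IsPGroup.iff_card.1 hAq
  have hxp : x ^ p ∈ A := by
    have h1 : (QuotientGroup.mk x : G ⧸ A) ^ Nat.card (G ⧸ A) = 1 := pow_card_eq_one'
    rw [hcardQ, ← QuotientGroup.mk_pow] at h1
    exact (QuotientGroup.eq_one_iff _).1 h1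
  obtain ⟨e, hedef⟩ : ∃ e, e = orderOf ((q : ℕ) : ZMod p) := ⟨_, rfl⟩
  have hq0 : ((q : ℕ) : ZMod p) ≠ 0 := by
    intro h0
    rw [ZMod.natCast_eq_zero_iff] at h0
    exact hpq ((Nat.prime_dvd_prime_iff_eq hpp hq).1 h0).symm
  have he1 : 1 ≤ e := by
    rw [hedef]
    apply orderOf_pos_iff.2
    rw [isOfFinOrder_iff_pow_eq_one]
    exact ⟨p - 1, by have := hpp.two_le; omega, ZMod.pow_card_sub_one_eq_one hq0⟩
  have hqe : p ∣ q ^ e - 1 := by
    have h1 : ((q : ℕ) : ZMod p) ^ e = 1 := by rw [hedef]; exact pow_orderOf_eq_one _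
    have h2 : ((q ^ e - 1 : ℕ) : ZMod p) = 0 := by
      rw [Nat.cast_sub (Nat.one_le_pow _ _ hq.pos), Nat.cast_pow, h1, Nat.cast_one, sub_self]
    exact (ZMod.natCast_eq_zero_iff _ _).1 h2
  obtain ⟨t, ht⟩ := hqe
  have hN : q ^ e = p * t + 1 := by
    have h1 := Nat.one_le_pow e q hq.pos
    omega
  have hed : e ∣ d := by
    haveI : Fintype ↥A := Fintype.ofFinite _
    let σp : Equiv.Perm ↥A := MulAut.toPerm ↥A (MulAut.conjNormal x)
    have hσapp : ∀ a : ↥A, ((σp a : ↥A) : G) = x * a * x⁻¹ :=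
      fun a => MulAut.conjNormal_apply x a
    have hσp : σp ^ p ^ 1 = 1 := by
      apply Equiv.ext
      intro a
      apply Subtype.ext
      rw [pow_one]
      have key : ∀ n : ℕ, (((σp ^ n) a : ↥A) : G) = x ^ n * a * (x ^ n)⁻¹ := by
        intro n
        induction n with
        | zero => simp
        | succ n ih =>
          rw [pow_succ', Equiv.Perm.mul_apply, hσapp, ih, pow_succ']; group
      rw [key, Equiv.Perm.one_apply, hAc _ hxp _ a.2]; group
    have hmod := Equiv.Perm.card_compl_support_modEq hσp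
    have hfix : σp.supportᶜ = {1} := by
      ext a
      rw [Finset.mem_compl, Equiv.Perm.mem_support, not_not, Finset.mem_singleton]
      constructor
      · intro h
        have h1 : x * (a : G) * x⁻¹ = a := by rw [← hσapp, h]
        have h2 : x * (a : G) = a * x := by
          calc x * (a : G) = x * a * x⁻¹ * x := by group
            _ = a * x := by rw [h1]
        exact Subtype.ext (hfact1 a.1 a.2 h2)
      · intro h
        rw [h]
        apply Subtype.ext
        rw [hσapp]; simp
    rw [hfix, Finset.card_singleton, ← Nat.card_eq_fintype_card, hd] at hmod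
    rw [hedef]
    apply orderOf_dvd_of_pow_eq_one
    have h3 := (ZMod.natCast_eq_natCast_iff 1 (q ^ d) p).2 hmod
    rw [Nat.cast_one, Nat.cast_pow] at h3
    exact h3.symm
  have hle : Nat.card ↥A ≤ q ^ e := by
    haveI : Nontrivial ↥A := (Subgroup.nontrivial_iff_ne_bot A).2 hAbot
    letI cg : CommGroup ↥A :=
      { (inferInstance : Group ↥A) with mul_comm := fun a b => hAcomm.is_comm.comm a b }
    haveI : Nontrivial (Additive ↥A) := ‹Nontrivial ↥A›
    haveI : Finite (Additive ↥A) := (inferInstance : Finite ↥A)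
    let c : ↥A →* ↥A := (MulAut.conjNormal x : MulAut ↥A).toMonoidHom
    have hc : ∀ a : ↥A, ((c a : ↥A) : G) = x * a * x⁻¹ := fun a => MulAut.conjNormal_apply x a
    let σ : AddMonoid.End (Additive ↥A) := MonoidHom.toAdditive c
    have hσ : ∀ a : ↥A, σ (Additive.ofMul a) = Additive.ofMul (c a) := fun a => rfl
    have hiter : ∀ n : ℕ, ∀ a : ↥A, ∀ hm : x ^ n * (a : G) * (x ^ n)⁻¹ ∈ A,
        (σ ^ n) (Additive.ofMul a) = Additive.ofMul (⟨x ^ n * (a : G) * (x ^ n)⁻¹, hm⟩ : ↥A) := by
      intro n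
      induction n with
      | zero =>
        intro a hm
        show Additive.ofMul a = _
        exact congrArg Additive.ofMul (Subtype.ext (by simp))
      | succ n ih =>
        intro a hm
        have hm' : x ^ n * (a : G) * (x ^ n)⁻¹ ∈ A := hAn.conj_mem a.1 a.2 (x ^ n)
        have h1 : (σ ^ (n + 1)) (Additive.ofMul a) = σ ((σ ^ n) (Additive.ofMul a)) := by
          rw [pow_succ']; rfl
        rw [h1, ih a hm', hσ]
        apply congrArg Additive.ofMul
        apply Subtype.ext
        rw [hc]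
        show x * (x ^ n * (a : G) * (x ^ n)⁻¹) * x⁻¹ = x ^ (n + 1) * (a : G) * (x ^ (n + 1))⁻¹
        rw [pow_succ']; group
    have hqM : ∀ m : Additive ↥A, q • m = 0 := by
      intro m
      have h1 : (Additive.toMul m : ↥A) ^ q = 1 :=
        Subtype.ext (by simpa using hAexp _ (Additive.toMul m).2)
      exact congrArg Additive.ofMul h1
    have hσN : σ ^ (q ^ e) = σ := by
      refine DFunLike.ext _ _ (fun m => ?_)
      have hm : x ^ (q ^ e) * ((Additive.toMul m : ↥A) : G) * (x ^ (q ^ e))⁻¹ ∈ A :=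
        hAn.conj_mem _ (Additive.toMul m).2 _
      have h1 := hiter (q ^ e) (Additive.toMul m) hm
      have h2 : (σ ^ (q ^ e)) m = (σ ^ (q ^ e)) (Additive.ofMul (Additive.toMul m)) := rfl
      have h3 : σ m = Additive.ofMul (c (Additive.toMul m)) := hσ (Additive.toMul m)
      refine h2.trans (h1.trans (Eq.trans ?_ h3.symm))
      apply congrArg Additive.ofMul
      apply Subtype.ext
      rw [hc]
      show x ^ (q ^ e) * ((Additive.toMul m : ↥A) : G) * (x ^ (q ^ e))⁻¹
        = x * ((Additive.toMul m : ↥A) : G) * x⁻¹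
      have hu : (x ^ p) ^ t ∈ A := A.pow_mem hxp t
      have e1 : x ^ (q ^ e) = (x ^ p) ^ t * x := by rw [hN, pow_succ, pow_mul]
      rw [e1]
      have hv : x * ((Additive.toMul m : ↥A) : G) * x⁻¹ ∈ A :=
        hAn.conj_mem _ (Additive.toMul m).2 x
      have e2 : (x ^ p) ^ t * x * ((Additive.toMul m : ↥A) : G) * ((x ^ p) ^ t * x)⁻¹
          = (x ^ p) ^ t * (x * ((Additive.toMul m : ↥A) : G) * x⁻¹) * ((x ^ p) ^ t)⁻¹ := by
        group
      rw [e2, hAc _ hu _ hv]; group
    have hirr' : ∀ W : AddSubgroup (Additive ↥A), (∀ w ∈ W, σ w ∈ W) → W = ⊥ ∨ W = ⊤ := by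
      intro W hW
      let B : Subgroup G :=
        { carrier := {g | ∃ h : g ∈ A, Additive.ofMul (⟨g, h⟩ : ↥A) ∈ W}
          one_mem' := ⟨A.one_mem, W.zero_mem⟩
          mul_mem' := by
            rintro a b ⟨ha, hwa⟩ ⟨hb, hwb⟩
            exact ⟨A.mul_mem ha hb, W.add_mem hwa hwb⟩
          inv_mem' := by
            rintro a ⟨ha, hwa⟩
            exact ⟨A.inv_mem ha, W.neg_mem hwa⟩ }
      have hBmem : ∀ g, g ∈ B ↔ ∃ h : g ∈ A, Additive.ofMul (⟨g, h⟩ : ↥A) ∈ W :=
        fun g => Iff.rfl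
      have hBA : B ≤ A := fun g hg => ((hBmem g).1 hg).1
      have hBx : ∀ b ∈ B, x * b * x⁻¹ ∈ B := by
        intro b hb
        obtain ⟨hbA, hbW⟩ := (hBmem b).1 hb
        refine (hBmem _).2 ⟨hAn.conj_mem b hbA x, ?_⟩
        have h1 : Additive.ofMul (⟨x * b * x⁻¹, hAn.conj_mem b hbA x⟩ : ↥A)
            = σ (Additive.ofMul ⟨b, hbA⟩) := by
          rw [hσ]
          exact congrArg Additive.ofMul (Subtype.ext (hc ⟨b, hbA⟩).symm)
        rw [h1]; exact hW _ hbW
      have hBn := hnormal x hxA B hBA hBx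
      rcases hmin B hBn hBA with h | h
      · left
        rw [AddSubgroup.eq_bot_iff_forall]
        intro w hw
        have hb : ((Additive.toMul w : ↥A) : G) ∈ B := (hBmem _).2 ⟨(Additive.toMul w).2, hw⟩
        rw [h, Subgroup.mem_bot] at hb
        have h2 : (Additive.toMul w : ↥A) = 1 := Subtype.ext hb
        exact h2
      · right
        rw [AddSubgroup.eq_top_iff']
        intro w
        have hb : ((Additive.toMul w : ↥A) : G) ∈ B := by rw [h]; exact (Additive.toMul w).2
        obtain ⟨_, hw⟩ := (hBmem _).1 hb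
        exact hw
    exact irr_card_le (q := q) (M := Additive ↥A) hqM σ e he1 hσN hirr'
  refine ⟨?_, hS1, hS2, hS3⟩
  rw [← hedef, hd]
  have hde : d ≤ e := by
    rw [hd] at hle
    exact (Nat.pow_le_pow_iff_right hq.one_lt).1 hle
  have hd1 : d ≠ 0 := by
    intro h0
    rw [h0, pow_zero] at hd
    exact hAbot ((Subgroup.card_eq_one).1 hd)
  have hed' : e ≤ d := Nat.le_of_dvd (Nat.pos_of_ne_zero hd1) hed
  rw [le_antisymm hde hed']

end Cfsg.Agent.S3869
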