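import Cfsg.Statements.S3870
import Cfsg.Agent.Lib.Helper6.NormGrow
import Cfsg.Agent.Lib.Helper6.PSub

set_option autoImplicit false
open Cfsg

namespace Cfsg.Agent.S3870

open Cfsg.Agent.Lib.Helper6 in
theorem unique_sylow_of_le {G : Type*} [Group G] [Finite G] [IsSimpleGroup G] {p : ℕ} [Fact p.Prime]
    (hsub : ∀ H : Subgroup G, H ≠ ⊤ → Cfsg.IsPClosed p ↥H) :
    ∀ (n : ℕ) (R : Subgroup G), Nat.card G - Nat.card R = n → R ≠ ⊥ →
      ∀ P Q : Sylow p G, R ≤ P → R ≤ Q → P = Q := by
  intro n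
  induction n using Nat.strong_induction_on with
  | _ n ih =>
  intro R hn hR P Q hRP hRQ
  by_cases hRPeq : R = (P : Subgroup G)
  · have h1 : (P : Subgroup G) ≤ Q := hRPeq ▸ hRQ
    exact Sylow.ext (P.is_maximal' Q.isPGroup' h1).symm
  by_cases hRQeq : R = (Q : Subgroup G)
  · have h1 : (Q : Subgroup G) ≤ P := hRQeq ▸ hRP
    exact Sylow.ext (Q.is_maximal' P.isPGroup' h1)
  have hRltP : R < P := lt_of_le_of_ne hRP hRPeq
  have hRltQ : R < Q := lt_of_le_of_ne hRQ hRQeq
  have hN : Subgroup.normalizer (R : Set G) ≠ ⊤ := by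
    intro htop
    have hRn : R.Normal := Subgroup.normalizer_eq_top_iff.mp htop
    rcases hRn.eq_bot_or_eq_top with h | h
    · exact hR h
    · exact hRPeq (le_antisymm hRP (h ▸ le_top))
  have hcl := hsub _ hN
  obtain ⟨S⟩ : Nonempty (Sylow p ↥(Subgroup.normalizer (R : Set G))) := inferInstance
  have hSn : (S : Subgroup ↥(Subgroup.normalizer (R : Set G))).Normal := hcl S
  obtain ⟨T, hT⟩ := (S.isPGroup'.map (Subgroup.normalizer (R : Set G)).subtype).exists_le_sylow
  have hUT : ∀ U : Subgroup G, IsPGroup p U → U ≤ Subgroup.normalizer (R : Set G) →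
      U ≤ T := by
    intro U hU hUN x hx
    have hU' : IsPGroup p (U.subgroupOf (Subgroup.normalizer (R : Set G))) := hU.comap_subtype
    obtain ⟨S', hS'⟩ := hU'.exists_le_sylow
    obtain ⟨c, hc⟩ := MulAction.exists_smul_eq ↥(Subgroup.normalizer (R : Set G)) S S'
    rw [Sylow.smul_eq_of_normal] at hc
    apply hT
    refine ⟨⟨x, hUN hx⟩, ?_, rfl⟩
    rw [hc]
    exact hS' (Subgroup.mem_subgroupOf.mpr hx)
  have key : ∀ P' : Sylow p G, R < (P' : Subgroup G) → P' = T := by
    intro P' hlt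
    obtain ⟨x, hxP, hxN, hxR⟩ := exists_mem_normalizer_not_mem P'.isPGroup' hlt
    have hRR₁ : R < (P' : Subgroup G) ⊓ Subgroup.normalizer (R : Set G) := by
      refine lt_of_le_of_ne (le_inf hlt.le Subgroup.le_normalizer) ?_
      intro h
      apply hxR
      rw [h]
      exact ⟨hxP, hxN⟩
    have hR₁T : (P' : Subgroup G) ⊓ Subgroup.normalizer (R : Set G) ≤ T :=
      hUT _ (P'.isPGroup'.to_le inf_le_left) inf_le_right
    have hcard := card_lt_card_of_lt hRR₁
    have hle : Nat.card ↥((P' : Subgroup G) ⊓ Subgroup.normalizer (R : Set G)) ≤ Nat.card G :=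
      Subgroup.card_le_card_group _
    refine ih (Nat.card G - Nat.card ↥((P' : Subgroup G) ⊓ Subgroup.normalizer (R : Set G)))
      (by omega) _ rfl ?_ P' T inf_le_left hR₁T
    intro h
    rw [h] at hRR₁
    exact not_lt_bot hRR₁
  rw [key P hRltP, key Q hRltQ]

open Cfsg.Agent.Lib.Helper6 in
/-- Let G be a finite simple group whose Sylow p-subgroups are not normal but such that every proper subgroup of G has a normal Sylow p-subgroup. Then any two distinct Sylow p-subgroups of G intersect trivially, and for every Sylow p-subgroup P the normalizer of every non-identity subgroup of P lies in the normalizer of P. -/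
theorem result {G : Type*} [Group G] [Finite G] [IsSimpleGroup G] {p : ℕ} [Fact p.Prime]
    (hnc : ¬ Cfsg.IsPClosed p G) (hsub : ∀ H : Subgroup G, H ≠ ⊤ → Cfsg.IsPClosed p ↥H) :
    (∀ P Q : Sylow p G, P ≠ Q → (P : Subgroup G) ⊓ (Q : Subgroup G) = ⊥) ∧
      ∀ (P : Sylow p G) (R : Subgroup G), R ≤ P → R ≠ ⊥ →
        Subgroup.normalizer (R : Set G) ≤ Subgroup.normalizer ((P : Subgroup G) : Set G) := by
  have hA : ∀ (R : Subgroup G), R ≠ ⊥ → ∀ P Q : Sylow p G, R ≤ P → R ≤ Q → P = Q :=
    fun R hR P Q => unique_sylow_of_le hsub _ R rfl hR P Q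
  constructor
  · intro P Q hPQ
    by_contra h
    exact hPQ (hA _ h P Q inf_le_left inf_le_right)
  · intro P R hRP hR g hg
    have h1 : R ≤ ((g • P : Sylow p G) : Subgroup G) := by
      intro r hr
      rw [sylow_smul_mem_iff]
      apply hRP
      have hg' := Subgroup.inv_mem _ hg
      have := (Subgroup.mem_normalizer_iff.mp hg' r).mp hr
      simpa using this
    have h2 : g • P = P := hA R hR (g • P) P h1 hRP
    exact Sylow.smul_eq_iff_mem_normalizer.mp h2

end Cfsg.Agent.S3870
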