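import Cfsg.Statements.S3889
import Mathlib

set_option autoImplicit false
open Cfsg

namespace Cfsg.Agent.S3889

/-- A finite abelian group that is the union of a family of proper subgroups any two of which intersect trivially is elementary abelian: its exponent is a prime. -/
theorem result {G : Type*} [CommGroup G] [Finite G] (𝓑 : Set (Subgroup G)) (hprop : ∀ B ∈ 𝓑, B ≠ ⊤)
    (hcov : ∀ g : G, ∃ B ∈ 𝓑, g ∈ B) (hdisj : ∀ B ∈ 𝓑, ∀ C ∈ 𝓑, B ≠ C → B ⊓ C = ⊥) :
    (Monoid.exponent G).Prime := by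
  -- key lemma
  have L : ∀ (A : Subgroup G), A ∈ 𝓑 → ∀ g ∈ A, ∀ h : G, h ∉ A → orderOf g ∣ orderOf h := by
    intro A hA g hg h hh
    obtain ⟨C, hC, hghC⟩ := hcov (g * h)
    have hne : A ≠ C := by
      rintro rfl
      apply hh
      have : g⁻¹ * (g * h) ∈ A := A.mul_mem (A.inv_mem hg) hghC
      simpa using this
    have hbot := hdisj A hA C hC hne
    have h1 : g ^ orderOf h ∈ A := A.pow_mem hg _
    have h2 : g ^ orderOf h ∈ C := by
      have : (g * h) ^ orderOf h ∈ C := C.pow_mem hghC _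
      rwa [mul_pow, pow_orderOf_eq_one, mul_one] at this
    have h3 : g ^ orderOf h ∈ A ⊓ C := ⟨h1, h2⟩
    rw [hbot, Subgroup.mem_bot] at h3
    exact orderOf_dvd_of_pow_eq_one h3
  have D : ∀ g h : G, g ≠ 1 → h ≠ 1 → orderOf g ∣ orderOf h := by
    intro g h hg1 hh1
    obtain ⟨A, hA, hgA⟩ := hcov g
    by_cases hhA : h ∈ A
    · have hAtop := hprop A hA
      obtain ⟨k, hk⟩ : ∃ k : G, k ∉ A := by
        by_contra hcon
        push Not at hcon
        exact hAtop (by ext y; simp [hcon y])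
      obtain ⟨B, hB, hkB⟩ := hcov k
      have hAB : A ≠ B := by
        rintro rfl
        exact hk hkB
      have hhB : h ∉ B := by
        intro hhB
        have : h ∈ A ⊓ B := ⟨hhA, hhB⟩
        rw [hdisj A hA B hB hAB, Subgroup.mem_bot] at this
        exact hh1 this
      exact (L A hA g hgA k hk).trans (L B hB k hkB h hhB)
    · exact L A hA g hgA h hhA
  have hnt : Nontrivial G := by
    by_contra hcon
    rw [not_nontrivial_iff_subsingleton] at hcon
    obtain ⟨B, hB, -⟩ := hcov 1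
    exact hprop B hB (Subsingleton.elim _ _)
  obtain ⟨g, hg⟩ := exists_ne (1 : G)
  have hn1 : orderOf g ≠ 1 := by
    rw [Ne, orderOf_eq_one_iff]; exact hg
  obtain ⟨p, hp, hpn⟩ := Nat.exists_prime_and_dvd hn1
  have hgp : orderOf (g ^ (orderOf g / p)) = p := by
    exact orderOf_pow_orderOf_div (orderOf_pos g).ne' hpn
  have hne : g ^ (orderOf g / p) ≠ 1 := by
    intro h1
    rw [h1, orderOf_one] at hgp
    exact hp.one_lt.ne hgp
  have hall : ∀ h : G, h ≠ 1 → orderOf h = p := by
    intro h hh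
    rw [← hgp]
    exact Nat.dvd_antisymm (D _ _ hh hne) (D _ _ hne hh)
  rw [(Monoid.exponent_eq_prime_iff hp).mpr hall]
  exact hp

end Cfsg.Agent.S3889
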