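import Cfsg.Statements.S3941
import Cfsg.Agent.S2828

set_option autoImplicit false
open Cfsg

namespace Cfsg.Agent.S3941


theorem small_support_pelt {n p : ℕ} [hp : Fact p.Prime] (z : Equiv.Perm (Fin n)) (k : ℕ)
    (hz : z ^ p ^ k = 1) (hs : z.support.card < p) : z = 1 := by
  by_contra hne
  obtain ⟨j, hjk, hj⟩ := (Nat.dvd_prime_pow hp.out).mp (orderOf_dvd_of_pow_eq_one hz)
  have hj0 : j ≠ 0 := by
    intro h0
    rw [h0, pow_zero] at hj
    exact hne (orderOf_eq_one_iff.mp hj)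
  obtain ⟨i, rfl⟩ : ∃ i, j = i + 1 := ⟨j - 1, by omega⟩
  have ho : orderOf (z ^ p ^ i) = p := by
    rw [orderOf_pow_of_dvd (pow_ne_zero _ hp.out.ne_zero) (by rw [hj]; exact pow_dvd_pow p (Nat.le_succ i)), hj,
      pow_succ, Nat.mul_div_cancel_left _ (pow_pos hp.out.pos i)]
  obtain ⟨m, hm⟩ := Equiv.Perm.cycleType_prime_order (σ := z ^ p ^ i) (by rw [ho]; exact hp.out)
  have h1 := Equiv.Perm.sum_cycleType (z ^ p ^ i)
  rw [hm, Multiset.sum_replicate, ho, smul_eq_mul] at h1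
  have h2 : (z ^ p ^ i).support.card ≤ z.support.card := Finset.card_le_card (Equiv.Perm.support_pow_le z _)
  have h3 : p ≤ (m + 1) * p := Nat.le_mul_of_pos_left p (Nat.succ_pos m)
  omega
theorem result (n p : ℕ) (hn : 5 ≤ n) [Fact p.Prime] (hp : p ≠ 2) (hpn : p ≤ n)
    (h : ∀ H : Subgroup ↥(alternatingGroup (Fin n)), H ≠ ⊤ → p ∣ Nat.card ↥H → Cfsg.IsPClosed p ↥H) : n = p := by
  by_contra hne
  have hlt : p < n := lt_of_le_of_ne hpn (Ne.symm hne)
  have hp' := (Fact.out : p.Prime)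
  obtain ⟨pt, hpt⟩ : ∃ pt : Fin n, pt = ⟨4, by omega⟩ := ⟨_, rfl⟩
  obtain ⟨a0, ha0⟩ : ∃ a0 : Fin n, a0 = ⟨0, by omega⟩ := ⟨_, rfl⟩
  obtain ⟨a1, ha1⟩ : ∃ a1 : Fin n, a1 = ⟨1, by omega⟩ := ⟨_, rfl⟩
  obtain ⟨a2, ha2⟩ : ∃ a2 : Fin n, a2 = ⟨2, by omega⟩ := ⟨_, rfl⟩
  obtain ⟨a3, ha3⟩ : ∃ a3 : Fin n, a3 = ⟨3, by omega⟩ := ⟨_, rfl⟩
  have h01 : a0 ≠ a1 := by rw [ha0, ha1]; exact Fin.ne_of_val_ne (by simp)
  have h02 : a0 ≠ a2 := by rw [ha0, ha2]; exact Fin.ne_of_val_ne (by simp)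
  have h03 : a0 ≠ a3 := by rw [ha0, ha3]; exact Fin.ne_of_val_ne (by simp)
  have h12 : a1 ≠ a2 := by rw [ha1, ha2]; exact Fin.ne_of_val_ne (by simp)
  have h13 : a1 ≠ a3 := by rw [ha1, ha3]; exact Fin.ne_of_val_ne (by simp)
  have h23 : a2 ≠ a3 := by rw [ha2, ha3]; exact Fin.ne_of_val_ne (by simp)
  have hp0 : pt ≠ a0 := by rw [hpt, ha0]; exact Fin.ne_of_val_ne (by simp)
  have hp1 : pt ≠ a1 := by rw [hpt, ha1]; exact Fin.ne_of_val_ne (by simp)
  have hp2 : pt ≠ a2 := by rw [hpt, ha2]; exact Fin.ne_of_val_ne (by simp)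
  have hp3 : pt ≠ a3 := by rw [hpt, ha3]; exact Fin.ne_of_val_ne (by simp)
  obtain ⟨H, hH⟩ : ∃ H : Subgroup ↥(alternatingGroup (Fin n)),
      H = (MulAction.stabilizer (Equiv.Perm (Fin n)) pt).subgroupOf (alternatingGroup (Fin n)) := ⟨_, rfl⟩
  have hHmem : ∀ g : ↥(alternatingGroup (Fin n)), g ∈ H ↔ (g : Equiv.Perm (Fin n)) pt = pt := by
    intro g
    rw [hH, Subgroup.mem_subgroupOf, MulAction.mem_stabilizer_iff, Equiv.Perm.smul_def]
  have hHne : H ≠ ⊤ := by
    intro htop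
    have h3 : Equiv.Perm.IsThreeCycle (Equiv.swap pt a0 * Equiv.swap pt a1) :=
      Equiv.Perm.isThreeCycle_swap_mul_swap_same hp0 hp1 h01
    have hmem : (⟨_, Equiv.Perm.mem_alternatingGroup.mpr h3.sign⟩ : ↥(alternatingGroup (Fin n))) ∈ H := by
      rw [htop]; exact Subgroup.mem_top _
    rw [hHmem] at hmem
    have e : (Equiv.swap pt a0 * Equiv.swap pt a1) pt = a1 := by
      rw [Equiv.Perm.mul_apply, Equiv.swap_apply_left, Equiv.swap_apply_of_ne_of_ne hp1.symm h01.symm]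
    exact hp1 (hmem.symm.trans e)
  have hp35 : p = 3 ∨ 5 ≤ p := by
    have h2 := hp'.two_le
    by_contra hcon
    have h4 : p = 4 := by omega
    rw [h4] at hp'
    exact absurd hp' (by norm_num)
  rcases hp35 with hp3' | hp5
  · -- p = 3
    have hs3 : Equiv.Perm.IsThreeCycle (Equiv.swap a0 a1 * Equiv.swap a0 a2) :=
      Equiv.Perm.isThreeCycle_swap_mul_swap_same h01 h02 h12
    have ht3 : Equiv.Perm.IsThreeCycle (Equiv.swap a2 a0 * Equiv.swap a2 a3) :=
      Equiv.Perm.isThreeCycle_swap_mul_swap_same h02.symm h23 h03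
    obtain ⟨s, hs⟩ : ∃ s : ↥(alternatingGroup (Fin n)), (s : Equiv.Perm (Fin n)) = Equiv.swap a0 a1 * Equiv.swap a0 a2 :=
      ⟨⟨_, Equiv.Perm.mem_alternatingGroup.mpr hs3.sign⟩, rfl⟩
    obtain ⟨t, ht⟩ : ∃ t : ↥(alternatingGroup (Fin n)), (t : Equiv.Perm (Fin n)) = Equiv.swap a2 a0 * Equiv.swap a2 a3 :=
      ⟨⟨_, Equiv.Perm.mem_alternatingGroup.mpr ht3.sign⟩, rfl⟩
    have hsH : s ∈ H := by
      rw [hHmem, hs, Equiv.Perm.mul_apply, Equiv.swap_apply_of_ne_of_ne hp0 hp2,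
        Equiv.swap_apply_of_ne_of_ne hp0 hp1]
    have htH : t ∈ H := by
      rw [hHmem, ht, Equiv.Perm.mul_apply, Equiv.swap_apply_of_ne_of_ne hp2 hp3,
        Equiv.swap_apply_of_ne_of_ne hp2 hp0]
    have hs_pow : s ^ p ^ 1 = 1 := by
      apply Subtype.ext
      rw [Subgroup.coe_pow, hs, pow_one, hp3', ← hs3.orderOf, pow_orderOf_eq_one]; rfl
    have ht_pow : t ^ p ^ 1 = 1 := by
      apply Subtype.ext
      rw [Subgroup.coe_pow, ht, pow_one, hp3', ← ht3.orderOf, pow_orderOf_eq_one]; rfl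
    have hs1 : s ≠ 1 := by
      intro h1
      have h2 : (s : Equiv.Perm (Fin n)) = 1 := by rw [h1]; rfl
      rw [hs] at h2
      have h3 := hs3.orderOf
      rw [h2, orderOf_one] at h3
      omega
    have hdiv : p ∣ Nat.card ↥H := by
      have h1 : orderOf (⟨s, hsH⟩ : ↥H) = p := by
        rw [pow_one] at hs_pow
        exact orderOf_eq_prime (Subtype.ext hs_pow) (fun h1 => hs1 (congrArg Subtype.val h1))
      rw [← h1]; exact orderOf_dvd_natCard _
    have hcl := h H hHne hdiv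
    rw [Cfsg.Agent.S2828.closed_sub_iff] at hcl
    obtain ⟨k, hk⟩ := hcl s hsH t htH ⟨1, hs_pow⟩ ⟨1, ht_pow⟩
    have hk' : ((s : Equiv.Perm (Fin n)) * (t : Equiv.Perm (Fin n))) ^ p ^ k = 1 := by
      have h1 := congrArg Subtype.val hk
      simpa using h1
    have hst : (s : Equiv.Perm (Fin n)) * (t : Equiv.Perm (Fin n)) = Equiv.swap a0 a1 * Equiv.swap a2 a3 := by
      rw [hs, ht, Equiv.swap_comm a2 a0, mul_assoc, ← mul_assoc (Equiv.swap a0 a2), Equiv.swap_mul_self, one_mul]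
    rw [hst] at hk'
    have hdj : Equiv.Perm.Disjoint (Equiv.swap a0 a1) (Equiv.swap a2 a3) := by
      intro w
      by_cases h1 : w = a0
      · right; rw [h1]; exact Equiv.swap_apply_of_ne_of_ne h02 h03
      · by_cases h2 : w = a1
        · right; rw [h2]; exact Equiv.swap_apply_of_ne_of_ne h12 h13
        · left; exact Equiv.swap_apply_of_ne_of_ne h1 h2
    have hzz : (Equiv.swap a0 a1 * Equiv.swap a2 a3) * (Equiv.swap a0 a1 * Equiv.swap a2 a3) = 1 := by
      have e1 : (Equiv.swap a0 a1 * Equiv.swap a2 a3) * (Equiv.swap a0 a1 * Equiv.swap a2 a3) =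
          (Equiv.swap a0 a1 * Equiv.swap a2 a3) * (Equiv.swap a2 a3 * Equiv.swap a0 a1) :=
        congrArg (fun u => (Equiv.swap a0 a1 * Equiv.swap a2 a3) * u) hdj.commute.eq
      rw [e1, mul_assoc, ← mul_assoc (Equiv.swap a2 a3) (Equiv.swap a2 a3), Equiv.swap_mul_self, one_mul,
        Equiv.swap_mul_self]
    have ho2 : orderOf (Equiv.swap a0 a1 * Equiv.swap a2 a3) ∣ 2 :=
      orderOf_dvd_of_pow_eq_one (by rw [pow_two]; exact hzz)
    have ho3 : orderOf (Equiv.swap a0 a1 * Equiv.swap a2 a3) ∣ p ^ k := orderOf_dvd_of_pow_eq_one hk'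
    have hcop : Nat.Coprime 2 (p ^ k) := by
      rw [hp3']; exact Nat.Coprime.pow_right k (by norm_num)
    have ho1 : orderOf (Equiv.swap a0 a1 * Equiv.swap a2 a3) = 1 :=
      Nat.eq_one_of_dvd_coprimes hcop ho2 ho3
    rw [orderOf_eq_one_iff] at ho1
    have e : (Equiv.swap a0 a1 * Equiv.swap a2 a3) a0 = a1 := by
      rw [Equiv.Perm.mul_apply, Equiv.swap_apply_of_ne_of_ne h02 h03, Equiv.swap_apply_left]
    rw [ho1, Equiv.Perm.one_apply] at e
    exact h01 e
  · -- p ≥ 5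
    have hc : Fintype.card {i : Fin n // i ≠ pt} = n - 1 := by
      have h1 := Fintype.card_subtype_compl (fun i : Fin n => i = pt)
      rw [Fintype.card_fin, Fintype.card_subtype_eq] at h1
      exact h1
    have hdvd : p ∣ Fintype.card (Equiv.Perm {i : Fin n // i ≠ pt}) := by
      rw [Fintype.card_perm, hc]
      exact hp'.dvd_factorial.mpr (by omega)
    obtain ⟨x₀, hx₀⟩ := exists_prime_orderOf_dvd_card p hdvd
    obtain ⟨x, hx⟩ : ∃ x : Equiv.Perm (Fin n), x = Equiv.Perm.ofSubtype x₀ := ⟨_, rfl⟩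
    have hxo : orderOf x = p := by
      rw [hx, ← hx₀]
      exact orderOf_injective (Equiv.Perm.ofSubtype) Equiv.Perm.ofSubtype_injective x₀
    have hxpt : x pt = pt := by
      rw [hx]; exact Equiv.Perm.ofSubtype_apply_of_not_mem x₀ (by simp)
    have hodd : Odd p := hp'.odd_of_ne_two hp
    have hsign : Equiv.Perm.sign x = 1 := by
      have h1 : (Equiv.Perm.sign x) ^ p = 1 := by rw [← map_pow, ← hxo, pow_orderOf_eq_one, map_one]
      rcases Int.units_eq_one_or (Equiv.Perm.sign x) with h' | h'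
      · exact h'
      · rw [h', Odd.neg_one_pow hodd] at h1
        exact absurd h1 (by decide)
    obtain ⟨x', hx'⟩ : ∃ x' : ↥(alternatingGroup (Fin n)), (x' : Equiv.Perm (Fin n)) = x :=
      ⟨⟨x, Equiv.Perm.mem_alternatingGroup.mpr hsign⟩, rfl⟩
    have hx'H : x' ∈ H := by rw [hHmem, hx']; exact hxpt
    have hx'pow : x' ^ p ^ 1 = 1 := by
      apply Subtype.ext
      rw [Subgroup.coe_pow, hx', pow_one, ← hxo, pow_orderOf_eq_one]; rfl
    have hx1 : x ≠ 1 := by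
      intro h1; rw [h1, orderOf_one] at hxo; exact hp'.one_lt.ne hxo
    have hdiv : p ∣ Nat.card ↥H := by
      have h1 : orderOf (⟨x', hx'H⟩ : ↥H) = p := by
        rw [pow_one] at hx'pow
        refine orderOf_eq_prime (Subtype.ext hx'pow) (fun h1 => hx1 ?_)
        have h2 : x' = 1 := congrArg Subtype.val h1
        rw [← hx', h2]; rfl
      rw [← h1]; exact orderOf_dvd_natCard _
    have hcl := h H hHne hdiv
    rw [Cfsg.Agent.S2828.closed_sub_iff] at hcl
    obtain ⟨a, ha⟩ : ∃ a, x a ≠ a := by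
      by_contra hcon
      push Not at hcon
      exact hx1 (Equiv.ext hcon)
    have hpow : ∀ k, 0 < k → k < p → (x ^ k) a ≠ a := by
      intro k hk0 hkp hfix
      have hcop : Nat.Coprime k (orderOf x) := by
        rw [hxo]; exact ((Nat.Prime.coprime_iff_not_dvd hp').mpr (Nat.not_dvd_of_pos_of_lt hk0 hkp)).symm
      obtain ⟨m, hm⟩ := exists_pow_eq_self_of_coprime hcop
      apply ha
      have h1 := Equiv.Perm.pow_apply_eq_self_of_apply_eq_self hfix m
      rw [hm] at h1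
      exact h1
    have hab : x a ≠ a := ha
    have hac : x (x a) ≠ a := by
      have h1 := hpow 2 (by norm_num) (by omega)
      rwa [pow_two, Equiv.Perm.mul_apply] at h1
    have had : x (x (x a)) ≠ a := by
      have h1 := hpow 3 (by norm_num) (by omega)
      rwa [pow_succ, pow_two, Equiv.Perm.mul_apply, Equiv.Perm.mul_apply] at h1
    obtain ⟨b, hb⟩ : ∃ b, b = x a := ⟨_, rfl⟩
    obtain ⟨c, hc'⟩ : ∃ c, c = x b := ⟨_, rfl⟩
    obtain ⟨d, hd⟩ : ∃ d, d = x c := ⟨_, rfl⟩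
    have nab : a ≠ b := by rw [hb]; exact hab.symm
    have nac : a ≠ c := by rw [hc', hb]; exact hac.symm
    have nad : a ≠ d := by rw [hd, hc', hb]; exact had.symm
    have nbc : b ≠ c := by
      rw [hc', hb]; intro h1; exact hab (x.injective h1).symm
    have nbd : b ≠ d := by
      rw [hd, hc', hb]; intro h1; exact hac (x.injective h1).symm
    have ncd : c ≠ d := by
      rw [hd]; intro h1
      have h2 : x b = x c := by rw [← hc']; exact h1
      exact nbc (x.injective h2)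
    have napt : a ≠ pt := by
      intro h1; apply hab; rw [h1]; exact hxpt
    have nbpt : b ≠ pt := by
      intro h1; apply napt; rw [hb, ← hxpt] at h1; exact x.injective h1
    have ncpt : c ≠ pt := by
      intro h1; apply nbpt; rw [hc', ← hxpt] at h1; exact x.injective h1
    have hg3 : Equiv.Perm.IsThreeCycle (Equiv.swap a b * Equiv.swap a c) :=
      Equiv.Perm.isThreeCycle_swap_mul_swap_same nab nac nbc
    obtain ⟨g, hg⟩ : ∃ g : ↥(alternatingGroup (Fin n)), (g : Equiv.Perm (Fin n)) = Equiv.swap a b * Equiv.swap a c :=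
      ⟨⟨_, Equiv.Perm.mem_alternatingGroup.mpr hg3.sign⟩, rfl⟩
    have hgfix : ∀ w, w ≠ a → w ≠ b → w ≠ c → (Equiv.swap a b * Equiv.swap a c) w = w := by
      intro w h1 h2 h3
      rw [Equiv.Perm.mul_apply, Equiv.swap_apply_of_ne_of_ne h1 h3, Equiv.swap_apply_of_ne_of_ne h1 h2]
    have hgH : g ∈ H := by
      rw [hHmem, hg]; exact hgfix pt napt.symm nbpt.symm ncpt.symm
    have hyH : g * x'⁻¹ * g⁻¹ ∈ H := H.mul_mem (H.mul_mem hgH (H.inv_mem hx'H)) (H.inv_mem hgH)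
    have hypow : (g * x'⁻¹ * g⁻¹) ^ p ^ 1 = 1 := by
      rw [pow_one] at hx'pow ⊢
      rw [conj_pow, inv_pow, hx'pow, inv_one, mul_one, mul_inv_cancel]
    obtain ⟨k, hk⟩ := hcl x' hx'H (g * x'⁻¹ * g⁻¹) hyH ⟨1, hx'pow⟩ ⟨1, hypow⟩
    have hk' : (x * ((Equiv.swap a b * Equiv.swap a c) * x⁻¹ * (Equiv.swap a b * Equiv.swap a c)⁻¹)) ^ p ^ k = 1 := by
      have h1 := congrArg Subtype.val hk
      simp only [Subgroup.coe_pow, Subgroup.coe_mul, Subgroup.coe_inv, Subgroup.coe_one, hx', hg] at h1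
      exact h1
    have hgcb : (Equiv.swap a b * Equiv.swap a c) c = b := by
      rw [Equiv.Perm.mul_apply, Equiv.swap_apply_right, Equiv.swap_apply_left]
    have hginv : ∀ w, w ≠ a → w ≠ b → w ≠ c → (Equiv.swap a b * Equiv.swap a c)⁻¹ w = w := by
      intro w h1 h2 h3
      rw [Equiv.Perm.inv_eq_iff_eq]; exact (hgfix w h1 h2 h3).symm
    have hsupp : (x * ((Equiv.swap a b * Equiv.swap a c) * x⁻¹ * (Equiv.swap a b * Equiv.swap a c)⁻¹)).support ⊆
        ({a, b, c, d} : Finset (Fin n)) := by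
      intro w hw
      by_contra hnot
      simp only [Finset.mem_insert, Finset.mem_singleton, not_or] at hnot
      obtain ⟨h1, h2, h3, h4⟩ := hnot
      rw [Equiv.Perm.mem_support] at hw
      apply hw
      rw [Equiv.Perm.mul_apply, Equiv.Perm.mul_apply, Equiv.Perm.mul_apply, hginv w h1 h2 h3]
      have e1 : x⁻¹ w ≠ a := by
        intro h5; rw [Equiv.Perm.inv_eq_iff_eq] at h5; exact h2 (by rw [hb, h5])
      have e2 : x⁻¹ w ≠ b := by
        intro h5; rw [Equiv.Perm.inv_eq_iff_eq] at h5; exact h3 (by rw [hc', h5])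
      have e3 : x⁻¹ w ≠ c := by
        intro h5; rw [Equiv.Perm.inv_eq_iff_eq] at h5; exact h4 (by rw [hd, h5])
      rw [hgfix _ e1 e2 e3, ← Equiv.Perm.mul_apply, mul_inv_cancel, Equiv.Perm.one_apply]
    have hcard : (x * ((Equiv.swap a b * Equiv.swap a c) * x⁻¹ * (Equiv.swap a b * Equiv.swap a c)⁻¹)).support.card < p :=
      lt_of_le_of_lt ((Finset.card_le_card hsupp).trans Finset.card_le_four) (by omega)
    have hz1 := small_support_pelt _ k hk' hcard
    have e : (x * ((Equiv.swap a b * Equiv.swap a c) * x⁻¹ * (Equiv.swap a b * Equiv.swap a c)⁻¹)) d = c := by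
      rw [Equiv.Perm.mul_apply, Equiv.Perm.mul_apply, Equiv.Perm.mul_apply, hginv d nad.symm nbd.symm ncd.symm]
      have e1 : x⁻¹ d = c := by rw [Equiv.Perm.inv_eq_iff_eq]; exact hd
      rw [e1, hgcb, ← hc']
    rw [hz1, Equiv.Perm.one_apply] at e
    exact ncd e.symm

end Cfsg.Agent.S3941
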