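import Cfsg.Statements.S3946
import Cfsg.Agent.Lib.Helper2.Kegel2
set_option autoImplicit false
open Cfsg

namespace Cfsg.Agent.S3946

theorem result {G : Type*} [Group G] [Finite G] (α : MulAut G) (hp : (orderOf α).Prime)
    (hsplit : ∀ x : G, (((List.range (orderOf α)).map (fun i : ℕ => (α ^ i) x)).prod = 1)) : Group.IsNilpotent G := by
  obtain ⟨p, hpdef⟩ : ∃ p, p = orderOf α := ⟨_, rfl⟩
  rw [← hpdef] at hp hsplit
  have h2 : ∀ (k : ℕ) (g : G), ((α ^ k : MulAut G) g) = (α.toMonoidHom : G →* G)^[k] g := by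
    intro k
    induction k with
    | zero => intro g; rfl
    | succ k ih => intro g; rw [pow_succ', Function.iterate_succ_apply', ← ih]; rfl
  have hφ : Cfsg.Agent.Lib.Helper2.Fpf.Split (α.toMonoidHom : G →* G) p := by
    refine ⟨fun g => ?_, fun x => ?_⟩
    · have h1 : α ^ p = 1 := by rw [hpdef]; exact pow_orderOf_eq_one α
      rw [← h2, h1]; rfl
    · rw [← Cfsg.Agent.Lib.Helper2.Fpf.Nk_eq_list]
      have h3 := hsplit x
      simp only [h2] at h3
      exact h3
  exact Cfsg.Agent.Lib.Helper2.Fpf.nilpotent_of_split p hp _ G le_rfl _ hφ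
end Cfsg.Agent.S3946
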