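import Cfsg.Statements.S4027
import Cfsg.Agent.S3861

set_option autoImplicit false
open Cfsg

namespace Cfsg.Agent.S4027

open Cfsg.Agent.Lib.Helper6 in
/-- Let G be a finite group in which every element x of odd order satisfies N_G(⟨x⟩) = C_G(x). Then the Sylow 2-subgroups of G are normal. -/
theorem result {G : Type*} [Group G] [Finite G]
    (hirr : ∀ x : G, (∀ r : ℕ, r.Prime → r ∣ orderOf x → r ≠ 2) →
      Subgroup.normalizer ((Subgroup.zpowers x : Subgroup G) : Set G) ≤ Subgroup.centralizer {x}) (P : Sylow 2 G) :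
    (P : Subgroup G).Normal := by
  apply (Cfsg.Agent.S3861.result P).mp
  intro x hx1 hodd hconj
  obtain ⟨g, hg⟩ := isConj_iff.mp hconj
  have hx : ∀ r : ℕ, r.Prime → r ∣ orderOf x → r ≠ 2 := by
    rintro r hr hrx rfl
    exact (Nat.not_even_iff_odd.mpr hodd) (even_iff_two_dvd.mpr hrx)
  have hgN : g ∈ Subgroup.normalizer ((Subgroup.zpowers x : Subgroup G) : Set G) := by
    apply mem_normalizer_of_conj_mem
    intro d hd
    obtain ⟨j, rfl⟩ := Subgroup.mem_zpowers_iff.mp hd
    rw [← conj_zpow, hg, inv_zpow]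
    exact Subgroup.inv_mem _ (Subgroup.zpow_mem_zpowers _ _)
  have hgC := hirr x hx hgN
  rw [Subgroup.mem_centralizer_iff] at hgC
  have h1 := hgC x (Set.mem_singleton x)
  have h2 : x⁻¹ = x := by
    rw [← hg, ← h1]
    group
  have hx2 : x ^ 2 = 1 := by
    rw [pow_two]
    nth_rewrite 1 [← h2]
    exact inv_mul_cancel x
  have hd2 : orderOf x ∣ 2 := orderOf_dvd_of_pow_eq_one hx2
  rcases (Nat.dvd_prime Nat.prime_two).mp hd2 with h | h
  · exact hx1 (orderOf_eq_one_iff.mp h)
  · rw [h] at hodd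
    exact absurd hodd (by decide)

end Cfsg.Agent.S4027
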