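import Cfsg.Statements.S4035
import Cfsg.Agent.Lib.Helper6.RealElt
import Cfsg.Agent.Lib.Helper6.PSub

set_option autoImplicit false
open Cfsg

namespace Cfsg.Agent.S4035

open Cfsg.Agent.Lib.Helper6

theorem eq_top_of_forall_conj_mem {G : Type*} [Group G] [Finite G] (M : Subgroup G)
    (h : ∀ g : G, ∃ c : G, c⁻¹ * g * c ∈ M) : M = ⊤ := by
  classical
  let f : (G ⧸ M) × M → G := fun qx => qx.1.out * (qx.2 : G) * qx.1.out⁻¹
  have hsurj : Function.Surjective f := by
    intro g
    obtain ⟨c, hc⟩ := h g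
    obtain ⟨m, hm⟩ := QuotientGroup.mk_out_eq_mul M c
    refine ⟨(QuotientGroup.mk c, ⟨(c * m)⁻¹ * g * (c * m), ?_⟩), ?_⟩
    · have : (c * (m : G))⁻¹ * g * (c * m) = (m : G)⁻¹ * (c⁻¹ * g * c) * m := by group
      rw [this]
      exact M.mul_mem (M.mul_mem (M.inv_mem m.2) hc) m.2
    · show (QuotientGroup.mk c : G ⧸ M).out * ((c * m)⁻¹ * g * (c * m)) *
        (QuotientGroup.mk c : G ⧸ M).out⁻¹ = g
      rw [hm]; group
  have hcard : Nat.card ((G ⧸ M) × M) ≤ Nat.card G := by
    rw [Nat.card_prod, ← Subgroup.index_eq_card, Subgroup.index_mul_card]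
  have hbij := hsurj.bijective_of_nat_card_le hcard
  have hss : Subsingleton (G ⧸ M) := by
    constructor
    intro a b
    have : f (a, 1) = f (b, 1) := by simp [f]
    exact (Prod.ext_iff.mp (hbij.1 this)).1
  rw [← Subgroup.index_eq_one, Subgroup.index_eq_card]
  exact Nat.card_unique
  
theorem exists_sylow_le_centralizer {G : Type*} [Group G] [Finite G] {p : ℕ} [Fact p.Prime]
    (x : G) (hidx : ¬ p ∣ (Subgroup.centralizer ({x} : Set G)).index)
    (y : G) (a : ℕ) (hy : orderOf y = p ^ a) (hxy : Commute x y) :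
    ∃ Q : Sylow p G, y ∈ Q ∧ (Q : Subgroup G) ≤ Subgroup.centralizer ({x} : Set G) := by
  classical
  have hyC : y ∈ Subgroup.centralizer ({x} : Set G) := by
    rw [Subgroup.mem_centralizer_iff]
    intro z hz
    rw [Set.mem_singleton_iff] at hz
    subst hz
    exact hxy.eq
  have hyp : IsPGroup p (Subgroup.zpowers (⟨y, hyC⟩ : ↥(Subgroup.centralizer ({x} : Set G)))) := by
    apply IsPGroup.of_card (n := a)
    rw [Nat.card_zpowers, ← hy]
    exact (orderOf_injective (Subgroup.centralizer ({x} : Set G)).subtype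
      Subtype.val_injective ⟨y, hyC⟩).symm
  obtain ⟨Q', hQ'⟩ := hyp.exists_le_sylow
  have hcard : Nat.card ((Q' : Subgroup ↥(Subgroup.centralizer ({x} : Set G))).map
      (Subgroup.centralizer ({x} : Set G)).subtype) = p ^ (Nat.card G).factorization p := by
    rw [Subgroup.card_map_of_injective Subtype.val_injective, Sylow.card_eq_multiplicity]
    congr 1
    rw [← Subgroup.card_mul_index (Subgroup.centralizer ({x} : Set G)),
      Nat.factorization_mul Nat.card_pos.ne' (Subgroup.index_ne_zero_of_finite),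
      Finsupp.add_apply, Nat.factorization_eq_zero_of_not_dvd hidx, add_zero]
  refine ⟨Sylow.ofCard _ hcard, ?_, ?_⟩
  · show y ∈ ((Sylow.ofCard _ hcard : Sylow p G) : Subgroup G)
    rw [Sylow.coe_ofCard]
    refine ⟨⟨y, hyC⟩, hQ' (Subgroup.mem_zpowers _), rfl⟩
  · rw [Sylow.coe_ofCard]
    exact Subgroup.map_subtype_le _

/-- Let G be a finite group and p a prime such that p divides the size of no conjugacy class of p-regular elements (elements of order prime to p). Then G is the internal direct product of a Sylow p-subgroup P and a normal subgroup H of order prime to p: P is normal, P ⊓ H = 1 and PH = G. -/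
theorem result {G : Type*} [Group G] [Finite G] {p : ℕ} [Fact p.Prime]
    (h : ∀ x : G, (orderOf x).Coprime p → ¬ p ∣ (ConjClasses.mk x).carrier.ncard) (P : Sylow p G) :
    (P : Subgroup G).Normal ∧ ∃ H : Subgroup G, H.Normal ∧ ¬ p ∣ Nat.card H ∧
      (P : Subgroup G) ⊓ H = ⊥ ∧ (P : Subgroup G) ⊔ H = ⊤ := by
  classical
  have hp : p.Prime := Fact.out
  have hidx : ∀ x : G, (orderOf x).Coprime p →
      ¬ p ∣ (Subgroup.centralizer ({x} : Set G)).index := by
    intro x hx
    rw [index_centralizer_eq_ncard_orbit, ConjAct.orbit_eq_carrier_conjClasses]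
    exact h x hx
  -- every element is conjugate into P ⊔ C(P)
  have hstep2 : ∀ g : G, ∃ c : G, c⁻¹ * g * c ∈ (P : Subgroup G) ⊔ Subgroup.centralizer (P : Set G) := by
    intro g
    have hn : orderOf g ≠ 0 := (orderOf_pos g).ne'
    set a := (orderOf g).factorization p with ha
    set m := orderOf g / p ^ a with hm
    have hnm : p ^ a * m = orderOf g := Nat.ordProj_mul_ordCompl_eq_self (orderOf g) p
    have hcop : (p ^ a).Coprime m := (Nat.coprime_ordCompl hp hn).pow_left _
    -- x := g ^ (p^a) is p', y := g ^ m is a p-element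
    have hox : (orderOf (g ^ (p ^ a))).Coprime p := by
      have h1 : orderOf (g ^ (p ^ a)) = m := by
        rw [orderOf_pow' g (pow_ne_zero _ hp.ne_zero), ← hnm, Nat.gcd_mul_right_left,
          Nat.mul_div_cancel_left _ (pow_pos hp.pos _)]
      rw [h1]
      exact (Nat.coprime_ordCompl hp hn).symm
    have hoy : orderOf (g ^ m) = p ^ a := by
      have hm0 : m ≠ 0 := by
        intro h0; rw [h0, mul_zero] at hnm; exact hn hnm.symm
      rw [orderOf_pow' g hm0, ← hnm, Nat.gcd_mul_left_left,
          Nat.mul_div_cancel _ (Nat.pos_of_ne_zero hm0)]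
    obtain ⟨Q, hyQ, hQ⟩ := exists_sylow_le_centralizer (g ^ (p ^ a)) (hidx _ hox) (g ^ m) a hoy
      ((Commute.refl g).pow_pow _ _)
    obtain ⟨c, rfl⟩ := MulAction.exists_smul_eq G P Q
    refine ⟨c, ?_⟩
    apply mem_of_pow_mem_of_coprime hcop
    · -- (c⁻¹ g c)^(p^a) ∈ C(P)
      apply Subgroup.mem_sup_right
      rw [Subgroup.mem_centralizer_iff]
      intro z hz
      have hz' : c * z * c⁻¹ ∈ ((c • P : Sylow p G) : Subgroup G) := by
        apply (sylow_smul_mem_iff c P _).mpr
        have : c⁻¹ * (c * z * c⁻¹) * c = z := by group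
        rw [this]; exact hz
      have h1 := hQ hz'
      rw [Subgroup.mem_centralizer_iff] at h1
      have h2 := h1 _ (Set.mem_singleton _)
      have e : (c⁻¹ * g * c) ^ (p ^ a) = c⁻¹ * g ^ (p ^ a) * c := by
        have := conj_pow (a := c⁻¹) (b := g) (i := p ^ a)
        rw [inv_inv] at this
        exact this
      rw [e]
      calc z * (c⁻¹ * g ^ p ^ a * c) = c⁻¹ * ((c * z * c⁻¹) * g ^ p ^ a) * c := by group
        _ = c⁻¹ * (g ^ p ^ a * (c * z * c⁻¹)) * c := by rw [h2]
        _ = c⁻¹ * g ^ p ^ a * c * z := by group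
    · apply Subgroup.mem_sup_left
      have e : (c⁻¹ * g * c) ^ m = c⁻¹ * g ^ m * c := by
        have := conj_pow (a := c⁻¹) (b := g) (i := m)
        rw [inv_inv] at this
        exact this
      rw [e]
      exact (sylow_smul_mem_iff c P _).mp hyQ
  have hM := eq_top_of_forall_conj_mem _ hstep2
  have hPn : (P : Subgroup G).Normal := by
    rw [← Subgroup.normalizer_eq_top_iff, eq_top_iff, ← hM]
    exact sup_le Subgroup.le_normalizer (Subgroup.centralizer_le_normalizer _)
  refine ⟨hPn, ?_⟩
  have hcop : Nat.Coprime (Nat.card (P : Subgroup G)) (P : Subgroup G).index := by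
    obtain ⟨k, hk⟩ := (P.isPGroup').exists_card_eq
    rw [hk]
    exact ((Nat.Prime.coprime_iff_not_dvd hp).mpr P.not_dvd_index).pow_left _
  obtain ⟨H, hH⟩ := Subgroup.exists_right_complement'_of_coprime hcop
  have hHcard : ¬ p ∣ Nat.card H := by
    rw [← hH.symm.index_eq_card]
    exact P.not_dvd_index
  have hHcent : H ≤ Subgroup.centralizer (P : Set G) := by
    intro x hx
    have hox : (orderOf x).Coprime p := by
      have h1 : orderOf x ∣ Nat.card H := by
        have := orderOf_dvd_natCard (⟨x, hx⟩ : H)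
        rwa [← orderOf_injective H.subtype Subtype.val_injective ⟨x, hx⟩] at this
      exact (((Nat.Prime.coprime_iff_not_dvd hp).mpr hHcard).symm.coprime_dvd_left h1)
    obtain ⟨Q, -, hQ⟩ := exists_sylow_le_centralizer x (hidx _ hox) 1 0 (by simp) (Commute.one_right x)
    have hQP : Q = P := by
      obtain ⟨c, rfl⟩ := MulAction.exists_smul_eq G P Q
      exact Sylow.smul_eq_of_normal
    rw [hQP] at hQ
    rw [Subgroup.mem_centralizer_iff]
    intro z hz
    have h1 := hQ hz
    rw [Subgroup.mem_centralizer_iff] at h1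
    exact (h1 x (Set.mem_singleton _)).symm
  have hHn : H.Normal := by
    rw [← Subgroup.normalizer_eq_top_iff, eq_top_iff, ← hH.sup_eq_top]
    refine sup_le ?_ Subgroup.le_normalizer
    intro z hz
    rw [Subgroup.mem_normalizer_iff]
    intro y
    have key : ∀ z ∈ (P : Subgroup G), ∀ w ∈ H, z * w * z⁻¹ = w := by
      intro z hz w hw
      have := hHcent hw
      rw [Subgroup.mem_centralizer_iff] at this
      rw [this z hz]; group
    constructor
    · intro hy
      rw [key z hz y hy]; exact hy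
    · intro hy
      have h2 := key z⁻¹ (inv_mem hz) _ hy
      have h3 : z⁻¹ * (z * y * z⁻¹) * z⁻¹⁻¹ = y := by group
      rw [h3] at h2
      rw [h2]; exact hy
  exact ⟨H, hHn, hHcard, hH.disjoint.eq_bot, hH.sup_eq_top⟩

end Cfsg.Agent.S4035
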