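import Cfsg.Statements.S4043
import Cfsg.Agent.Lib.Lead.SZ4
import Cfsg.Agent.Lib.Helper6.Conj
import Cfsg.Agent.Lib.Helper6.Comm
import Cfsg.Agent.Lib.Helper6.RealElt
import Cfsg.Agent.Lib.Helper7.CoprimeCount
import Cfsg.Agent.Lib.Helper7.PPrime
import Cfsg.Agent.Lib.Helper6.PSub

set_option autoImplicit false
open Pointwise

namespace Cfsg.Agent.S4043

open Cfsg.Agent.Lib Cfsg.Agent.Lib.Helper6

/-- data extracted from a normal p-complement of a subgroup `A` -/
theorem exists_K {G : Type*} [Group G] [Finite G] {p : ℕ} [Fact p.Prime] (A : Subgroup G)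
    (h : Cfsg.HasNormalPComplement p A) :
    ∃ K P : Subgroup G, K ≤ A ∧ P ≤ A ∧ IsPGroup p P ∧ (Nat.card K).Coprime p ∧
      A ≤ Subgroup.normalizer (K : Set G) ∧ (∀ a ∈ A, ∃ k ∈ K, ∃ u ∈ P, a = k * u) ∧
      (∀ a ∈ A, (orderOf a).Coprime p → a ∈ K) ∧
      Nat.card K = Nat.card A / p ^ (Nat.card A).factorization p := by
  have hp : p.Prime := Fact.out
  obtain ⟨P₀, K₀, hK₀n, hcomp⟩ := h
  have hcK : Nat.card (K₀.map A.subtype) = Nat.card K₀ :=
    Subgroup.card_map_of_injective A.subtype_injective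
  have hmul := hcomp.card_mul_card
  have hP₀ := P₀.card_eq_multiplicity
  have hK₀ : Nat.card K₀ = Nat.card A / p ^ (Nat.card A).factorization p := by
    rw [← hP₀, ← hmul]
    exact (Nat.mul_div_cancel _ Nat.card_pos).symm
  have hcop : (Nat.card K₀).Coprime p := by
    rw [hK₀]
    exact (Nat.coprime_ordCompl hp Nat.card_pos.ne').symm
  refine ⟨K₀.map A.subtype, (P₀ : Subgroup A).map A.subtype, Subgroup.map_subtype_le _,
    Subgroup.map_subtype_le _, P₀.isPGroup'.map A.subtype, ?_, ?_, ?_, ?_, ?_⟩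
  · rw [hcK]; exact hcop
  · intro a ha
    apply mem_normalizer_of_conj_mem
    intro d hd
    obtain ⟨k, hk, rfl⟩ := Subgroup.mem_map.mp hd
    exact Subgroup.mem_map.mpr ⟨⟨a, ha⟩ * k * ⟨a, ha⟩⁻¹, hK₀n.conj_mem k hk ⟨a, ha⟩, rfl⟩
  · intro a ha
    obtain ⟨⟨k, u⟩, hku⟩ := hcomp.2 ⟨a, ha⟩
    refine ⟨(k : A), Subgroup.mem_map.mpr ⟨k, k.2, rfl⟩, ((u : A) : G),
      Subgroup.mem_map.mpr ⟨u, u.2, rfl⟩, ?_⟩
    have := congrArg Subtype.val hku
    simpa using this.symm
  · intro a ha hco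
    have h1 : (⟨a, ha⟩ : A) ∈ K₀ := by
      have := hK₀n
      apply mem_of_pow_mem_of_coprime (a := orderOf a) (b := K₀.index)
      · rw [hcomp.symm.index_eq_card, hP₀]
        exact Nat.Coprime.pow_right _ hco
      · have : (⟨a, ha⟩ : A) ^ orderOf a = 1 := by
          apply Subtype.ext
          simp [pow_orderOf_eq_one]
        rw [this]; exact K₀.one_mem
      · exact Subgroup.pow_index_mem K₀ _
    exact Subgroup.mem_map.mpr ⟨⟨a, ha⟩, h1, rfl⟩
  · rw [hcK, hK₀]

/-- the normaliser of the normal p-complement of `A` is `A` -/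
theorem normalizer_le {G : Type*} [Group G] [Finite G] {p : ℕ} [Fact p.Prime]
    (N : Subgroup G) [N.Normal] (hN : IsPGroup p N) (A K P : Subgroup G)
    (hA : A.IsComplement' N) (hKA : K ≤ A) (hPA : P ≤ A) (hP : IsPGroup p P)
    (hAK : A ≤ Subgroup.normalizer (K : Set G))
    (hdec : ∀ a ∈ A, ∃ k ∈ K, ∃ u ∈ P, a = k * u)
    (hC : ∀ n : G, n ∈ N → (∀ a : G, a ∈ A → a * n * a⁻¹ = n) → n = 1)
    (g : G) (hg : g ∈ Subgroup.normalizer (K : Set G)) : g ∈ A := by
  have hp : p.Prime := Fact.out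
  obtain ⟨⟨a, n⟩, han⟩ := hA.2 g
  have han' : (a : G) * (n : G) = g := han
  have hnN : (n : G) ∈ Subgroup.normalizer (K : Set G) := by
    have : (n : G) = (a : G)⁻¹ * g := by rw [← han']; group
    rw [this]
    exact Subgroup.mul_mem _ (Subgroup.inv_mem _ (hAK a.2)) hg
  have hdisj : ∀ x : G, x ∈ A → x ∈ N → x = 1 := by
    intro x hxA hxN
    have := hA.disjoint
    rw [disjoint_iff] at this
    have h2 : x ∈ A ⊓ N := ⟨hxA, hxN⟩
    rw [this] at h2
    exact Subgroup.mem_bot.mp h2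
  -- n centralizes K
  have hnC : (n : G) ∈ N ⊓ Subgroup.centralizer (K : Set G) := by
    refine ⟨n.2, ?_⟩
    show (n : G) ∈ Subgroup.centralizer (K : Set G)
    rw [Subgroup.mem_centralizer_iff]
    intro k hk
    have h1 : (n : G) * k * (n : G)⁻¹ ∈ K := (Subgroup.mem_normalizer_iff.mp hnN k).mp hk
    have h2 : (n : G) * k * (n : G)⁻¹ * k⁻¹ ∈ K := K.mul_mem h1 (K.inv_mem hk)
    have h3 : (n : G) * k * (n : G)⁻¹ * k⁻¹ ∈ N := by
      have : (n : G) * k * (n : G)⁻¹ * k⁻¹ = (n : G) * (k * (n : G)⁻¹ * k⁻¹) := by group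
      rw [this]
      exact N.mul_mem n.2 (Subgroup.Normal.conj_mem inferInstance _ (N.inv_mem n.2) k)
    have h4 := hdisj _ (hKA h2) h3
    calc k * (n : G) = ((n : G) * k * (n : G)⁻¹ * k⁻¹)⁻¹ * ((n : G) * k) := by group
      _ = (n : G) * k := by rw [h4]; simp
  -- D = C_N(K) is trivial
  have hD : N ⊓ Subgroup.centralizer (K : Set G) = ⊥ := by
    by_contra hne
    set D := N ⊓ Subgroup.centralizer (K : Set G) with hDdef
    have hPD : P ≤ Subgroup.normalizer (D : Set G) := by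
      intro u hu
      apply mem_normalizer_of_conj_mem
      intro d hd
      refine ⟨Subgroup.Normal.conj_mem inferInstance _ hd.1 u, ?_⟩
      show u * d * u⁻¹ ∈ Subgroup.centralizer (K : Set G)
      rw [Subgroup.mem_centralizer_iff]
      intro k hk
      have huN := hAK (hPA hu)
      have hk' : u⁻¹ * k * u ∈ K := by
        have := (Subgroup.mem_normalizer_iff.mp (Subgroup.inv_mem _ huN) k).mp hk
        simpa using this
      have h5 := Subgroup.mem_centralizer_iff.mp hd.2 _ hk'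
      calc k * (u * d * u⁻¹) = u * ((u⁻¹ * k * u) * d) * u⁻¹ := by group
        _ = u * (d * (u⁻¹ * k * u)) * u⁻¹ := by rw [h5]
        _ = u * d * u⁻¹ * k := by group
    have hmod := Helper7.card_modEq_card_inf_centralizer p P D hP hPD
    have hDp : IsPGroup p D := hN.to_le inf_le_left
    have hDcard : p ∣ Nat.card D := by
      obtain ⟨j, hj⟩ := hDp.exists_card_eq
      have h1 : 1 < Nat.card D := (Subgroup.one_lt_card_iff_ne_bot _).mpr hne
      rw [hj] at h1 ⊢
      have : j ≠ 0 := by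
        rintro rfl
        simp at h1
      exact dvd_pow_self p this
    have hDcard2 : p ∣ Nat.card ↥(D ⊓ Subgroup.centralizer (P : Set G)) :=
      (Nat.modEq_zero_iff_dvd.mp ((hmod.symm).trans (Nat.modEq_zero_iff_dvd.mpr hDcard)))
    have hne2 : D ⊓ Subgroup.centralizer (P : Set G) ≠ ⊥ := by
      intro hbot
      rw [hbot, Subgroup.card_bot] at hDcard2
      exact hp.one_lt.ne' (Nat.dvd_one.mp hDcard2)
    obtain ⟨n₀, hn₀1⟩ := (Subgroup.ne_bot_iff_exists_ne_one).mp hne2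
    have hn₀' : (n₀ : G) ∈ D ⊓ Subgroup.centralizer (P : Set G) := n₀.2
    have h6 : (n₀ : G) = 1 := by
      apply hC _ hn₀'.1.1
      intro a ha
      obtain ⟨k, hk, u, hu, rfl⟩ := hdec a ha
      have hk' := Subgroup.mem_centralizer_iff.mp hn₀'.1.2 k hk
      have hu' := Subgroup.mem_centralizer_iff.mp hn₀'.2 u hu
      calc k * u * (n₀ : G) * (k * u)⁻¹ = k * (u * (n₀ : G)) * u⁻¹ * k⁻¹ := by group
        _ = k * ((n₀ : G) * u) * u⁻¹ * k⁻¹ := by rw [hu']
        _ = (k * (n₀ : G)) * k⁻¹ := by group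
        _ = ((n₀ : G) * k) * k⁻¹ := by rw [hk']
        _ = (n₀ : G) := by group
    exact hn₀1 (Subtype.ext h6)
  have hn1 : (n : G) = 1 := by
    rw [hD] at hnC
    exact Subgroup.mem_bot.mp hnC
  rw [← han', hn1, mul_one]
  exact a.2

/-- Let G be a finite group that is the semidirect product of a normal p-subgroup N by a subgroup A, and also of N by a subgroup A₁, where p is a prime and A and A₁ both have normal p-complements. If C_N(A) = C_N(A₁) = 1, then A₁ is conjugate to A by an element of N. -/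
theorem result {G : Type*} [Group G] [Finite G] {p : ℕ}
    [Fact p.Prime] (N : Subgroup G) [N.Normal] (hN : IsPGroup p N) (A A₁ : Subgroup G)
    (hA : A.IsComplement' N) (hA₁ : A₁.IsComplement' N)
    (hAp : Cfsg.HasNormalPComplement p A) (hA₁p : Cfsg.HasNormalPComplement p A₁)
    (hC : ∀ n : G, n ∈ N → (∀ a : G, a ∈ A → a * n * a⁻¹ = n) → n = 1)
    (hC₁ : ∀ n : G, n ∈ N → (∀ a : G, a ∈ A₁ → a * n * a⁻¹ = n) → n = 1) :
    ∃ n : G, n ∈ N ∧ A₁ = A.map (MulAut.conj n).toMonoidHom := by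
  have hp : p.Prime := Fact.out
  obtain ⟨K, P, hKA, hPA, hP, hKcop, hAK, hdec, hpK, hcK⟩ := exists_K A hAp
  obtain ⟨K₁, P₁, hKA₁, hPA₁, hP₁, hKcop₁, hAK₁, hdec₁, hpK₁, hcK₁⟩ := exists_K A₁ hA₁p
  have hcA : Nat.card A = Nat.card A₁ := by
    have h1 := hA.card_mul_card
    have h2 := hA₁.card_mul_card
    have : 0 < Nat.card N := Nat.card_pos
    exact Nat.eq_of_mul_eq_mul_right this (h1.trans h2.symm)
  have hKK : Nat.card K₁ = Nat.card K := by rw [hcK, hcK₁, hcA]
  have hdisj : ∀ x : G, x ∈ A → x ∈ N → x = 1 := by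
    intro x hxA hxN
    have := hA.disjoint
    rw [disjoint_iff] at this
    have h2 : x ∈ A ⊓ N := ⟨hxA, hxN⟩
    rw [this] at h2
    exact Subgroup.mem_bot.mp h2
  -- K₁ ≤ N ⊔ K
  have hK₁L : K₁ ≤ N ⊔ K := by
    intro k₁ hk₁
    obtain ⟨⟨a, n⟩, han⟩ := hA.2 k₁
    have han' : (a : G) * (n : G) = k₁ := han
    have hco : (orderOf k₁).Coprime p :=
      Nat.Coprime.coprime_dvd_left (Subgroup.orderOf_dvd_natCard K₁ hk₁) hKcop₁
    have ha1 : (a : G) ^ orderOf k₁ = 1 := by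
      apply hdisj _ (A.pow_mem a.2 _)
      have h1 : (QuotientGroup.mk' N) ((a : G) ^ orderOf k₁) = 1 := by
        have h2 : (QuotientGroup.mk' N) (a : G) = (QuotientGroup.mk' N) k₁ := by
          rw [← han', map_mul]
          have : (QuotientGroup.mk' N) (n : G) = 1 := by
            rw [← MonoidHom.mem_ker, QuotientGroup.ker_mk']; exact n.2
          rw [this, mul_one]
        rw [map_pow, h2, ← map_pow, pow_orderOf_eq_one, map_one]
      rwa [← MonoidHom.mem_ker, QuotientGroup.ker_mk'] at h1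
    have haK : (a : G) ∈ K :=
      hpK a a.2 (Nat.Coprime.coprime_dvd_left (orderOf_dvd_of_pow_eq_one ha1) hco)
    rw [← han']
    have hc : (a : G) * (n : G) = ((a : G) * (n : G) * (a : G)⁻¹) * (a : G) := by group
    rw [hc]
    exact Subgroup.mul_mem _
      (Subgroup.mem_sup_left (Subgroup.Normal.conj_mem inferInstance _ n.2 _))
      (Subgroup.mem_sup_right haK)
  have hNK : N ⊓ K = ⊥ := by
    rw [eq_bot_iff]
    intro x hx
    exact Subgroup.mem_bot.mpr (hdisj x (hKA hx.2) hx.1)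
  have hcardL : Nat.card N * Nat.card K = Nat.card ↥(N ⊔ K) := by
    have h1 := Helper7.card_sup_mul_card_inf K N
    rw [hNK, Subgroup.card_bot, mul_one, sup_comm] at h1
    rw [h1, mul_comm]
  have hcop : (Nat.card N).Coprime (Nat.card K) := by
    obtain ⟨j, hj⟩ := hN.exists_card_eq
    rw [hj]
    exact Nat.Coprime.pow_left _ hKcop.symm
  haveI : Group.IsSolvable N := by
    haveI : Group.IsNilpotent N := hN.isNilpotent
    infer_instance
  obtain ⟨g, hgL, hgK⟩ := Lead.sz_conj_internal (N ⊔ K) N K K₁ le_sup_left le_sup_right hK₁L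
    (by rw [Subgroup.normalizer_eq_top]; exact le_top) hcardL hKK hcop (Or.inl inferInstance)
  -- write g = n * k
  have hgL' : g ∈ ((N ⊔ K : Subgroup G) : Set G) := hgL
  rw [Subgroup.normal_mul] at hgL'
  obtain ⟨n, hn, k, hk, hnk⟩ := Set.mem_mul.mp hgL'
  have hnK : ∀ x : G, x ∈ K₁ ↔ n⁻¹ * x * n ∈ K := by
    intro x
    rw [← hgK, mem_conj_smul_iff]
    rw [← hnk]
    constructor
    · intro h
      have h1 := K.mul_mem (K.mul_mem hk h) (K.inv_mem hk)
      have : k * ((n * k)⁻¹ * x * (n * k)) * k⁻¹ = n⁻¹ * x * n := by group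
      rwa [this] at h1
    · intro h
      have h1 := K.mul_mem (K.mul_mem (K.inv_mem hk) h) hk
      have : k⁻¹ * (n⁻¹ * x * n) * k = (n * k)⁻¹ * x * (n * k) := by group
      rwa [this] at h1
  refine ⟨n, hn, ?_⟩
  apply Subgroup.eq_of_le_of_card_ge
  · intro a₁ ha₁
    rw [mem_cj]
    apply normalizer_le N hN A K P hA hKA hPA hP hAK hdec hC
    apply mem_normalizer_of_conj_mem
    intro d hd
    have h1 : n * d * n⁻¹ ∈ K₁ := by
      rw [hnK]
      have : n⁻¹ * (n * d * n⁻¹) * n = d := by group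
      rwa [this]
    have h2 : a₁ * (n * d * n⁻¹) * a₁⁻¹ ∈ K₁ :=
      (Subgroup.mem_normalizer_iff.mp (hAK₁ ha₁) _).mp h1
    have h3 := (hnK _).mp h2
    have : n⁻¹ * (a₁ * (n * d * n⁻¹) * a₁⁻¹) * n = n⁻¹ * a₁ * n * d * (n⁻¹ * a₁ * n)⁻¹ := by
      group
    rwa [this] at h3
  · rw [Subgroup.card_map_of_injective (MulAut.conj n).injective, hcA]

end Cfsg.Agent.S4043
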