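import Cfsg.Statements.S4049
import Cfsg.Agent.S3861

set_option autoImplicit false
open Cfsg

namespace Cfsg.Agent.S4049

open Cfsg.Agent.Lib.Helper6 in
/-- Let G be a finite group such that N_G(H)/C_G(H) has odd order for every nontrivial subgroup H of odd order. Then the Sylow 2-subgroups of G are normal. -/
theorem result {G : Type*} [Group G] [Finite G]
    (hhom : ∀ H : Subgroup G, H ≠ ⊥ → ¬ 2 ∣ Nat.card ↥H →
        ¬ 2 ∣ (Subgroup.centralizer (H : Set G)).relIndex (Subgroup.normalizer (H : Set G))) (P : Sylow 2 G) :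
    (P : Subgroup G).Normal := by
  apply (Cfsg.Agent.S3861.result P).mp
  intro x hx1 hodd hconj
  obtain ⟨t, ⟨j, hj⟩, ht⟩ := exists_two_elt_inverting hconj
  have hH1 : Subgroup.zpowers x ≠ ⊥ := fun h => hx1 (Subgroup.zpowers_eq_bot.mp h)
  have hH2 : ¬ 2 ∣ Nat.card ↥(Subgroup.zpowers x) := by
    rw [Nat.card_zpowers]
    intro h
    exact (Nat.not_even_iff_odd.mpr hodd) (even_iff_two_dvd.mpr h)
  have hrel := hhom _ hH1 hH2
  have htN : t ∈ Subgroup.normalizer ((Subgroup.zpowers x : Subgroup G) : Set G) := by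
    apply mem_normalizer_of_conj_mem
    intro d hd
    obtain ⟨i, rfl⟩ := Subgroup.mem_zpowers_iff.mp hd
    rw [← conj_zpow, ht, inv_zpow]
    exact Subgroup.inv_mem _ (Subgroup.zpow_mem_zpowers _ _)
  have hKn : ((Subgroup.centralizer ((Subgroup.zpowers x : Subgroup G) : Set G)).subgroupOf
      (Subgroup.normalizer ((Subgroup.zpowers x : Subgroup G) : Set G))).Normal := by
    rw [← Subgroup.normalizerMonoidHom_ker]
    infer_instance
  have h1 := Subgroup.pow_index_mem
    ((Subgroup.centralizer ((Subgroup.zpowers x : Subgroup G) : Set G)).subgroupOf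
      (Subgroup.normalizer ((Subgroup.zpowers x : Subgroup G) : Set G)))
    (⟨t, htN⟩ : ↥(Subgroup.normalizer ((Subgroup.zpowers x : Subgroup G) : Set G)))
  rw [Subgroup.mem_subgroupOf] at h1
  have h1' : t ^ (Subgroup.centralizer ((Subgroup.zpowers x : Subgroup G) : Set G)).relIndex
      (Subgroup.normalizer ((Subgroup.zpowers x : Subgroup G) : Set G))
      ∈ Subgroup.centralizer ((Subgroup.zpowers x : Subgroup G) : Set G) := h1
  have h2 : t ^ (2 ^ j) ∈ Subgroup.centralizer ((Subgroup.zpowers x : Subgroup G) : Set G) := by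
    rw [← hj, pow_orderOf_eq_one]
    exact Subgroup.one_mem _
  have hcop : ((Subgroup.centralizer ((Subgroup.zpowers x : Subgroup G) : Set G)).relIndex
      (Subgroup.normalizer ((Subgroup.zpowers x : Subgroup G) : Set G))).Coprime (2 ^ j) := by
    apply Nat.Coprime.pow_right
    exact ((Nat.Prime.coprime_iff_not_dvd Nat.prime_two).mpr hrel).symm
  have htC := mem_of_pow_mem_of_coprime hcop h1' h2
  rw [Subgroup.mem_centralizer_iff] at htC
  have h3 := htC x (Subgroup.mem_zpowers x)
  have h4 : x⁻¹ = x := by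
    rw [← ht, ← h3]
    group
  have hx2 : x ^ 2 = 1 := by
    rw [pow_two]
    nth_rewrite 1 [← h4]
    exact inv_mul_cancel x
  have hd2 : orderOf x ∣ 2 := orderOf_dvd_of_pow_eq_one hx2
  rcases (Nat.dvd_prime Nat.prime_two).mp hd2 with h | h
  · exact hx1 (orderOf_eq_one_iff.mp h)
  · rw [h] at hodd
    exact absurd hodd (by decide)

end Cfsg.Agent.S4049
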