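import Cfsg.Statements.S4089
import Mathlib
import Cfsg.Agent.S3867
import Cfsg.Agent.Lib.Lead.Basic
import Cfsg.Agent.Lib.Helper4.Basic
import Cfsg.Agent.Lib.Helper4.Subn
import Cfsg.Agent.Lib.Helper1.Subnormal2
import Cfsg.Agent.Lib.Helper1.Conj2
set_option autoImplicit false
open Cfsg

namespace Cfsg.Agent.S4089


universe u

open Pointwise

theorem le_pCoreImage {G : Type u} [Group G] [Finite G] (p : ℕ) (M X : Subgroup G)
    (hXM : X ≤ M) (hX : IsPGroup p X) (hMX : M ≤ Subgroup.normalizer (X : Set G)) :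
    X ≤ (Cfsg.pCore p ↥M).map M.subtype := by
  have hn : (X.subgroupOf M).Normal :=
    (Subgroup.normal_subgroupOf_iff_le_normalizer hXM).mpr hMX
  have hp : IsPGroup p ↥(X.subgroupOf M) :=
    hX.comap_of_injective M.subtype (Subgroup.subtype_injective M)
  have h1 := Cfsg.Agent.Lib.Helper4.le_pCore hn hp
  intro x hx
  exact ⟨⟨x, hXM hx⟩, h1 (Subgroup.mem_subgroupOf.mpr hx), rfl⟩

theorem pCoreImage_props {G : Type u} [Group G] [Finite G] (p : ℕ) (M : Subgroup G) :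
    IsPGroup p ↥((Cfsg.pCore p ↥M).map M.subtype) ∧ (Cfsg.pCore p ↥M).map M.subtype ≤ M ∧
      M ≤ Subgroup.normalizer (((Cfsg.pCore p ↥M).map M.subtype : Subgroup G) : Set G) := by
  refine ⟨(Cfsg.Agent.Lib.Helper4.pCore_isPGroup p ↥M).map _, Subgroup.map_subtype_le _, ?_⟩
  intro m hm
  apply Cfsg.Agent.S3867.norm_of_conj_le
  rintro _ ⟨u', hu', rfl⟩
  exact ⟨⟨m, hm⟩ * u' * ⟨m, hm⟩⁻¹,
    (Cfsg.Agent.Lib.Helper4.pCore_normal p ↥M).conj_mem u' hu' ⟨m, hm⟩, rfl⟩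

theorem subnormal_iff {G : Type u} [Group G] [Finite G] (p : ℕ) [Fact p.Prime]
    (H K : Subgroup G) (hH : IsPGroup p H) (hHK : H ≤ K) :
    (H.subgroupOf K).IsSubnormal ↔ ∃ N : Subgroup G, H ≤ N ∧ N ≤ K ∧ IsPGroup p N ∧
      K ≤ Subgroup.normalizer (N : Set G) := by
  constructor
  · intro hsub
    have hp : IsPGroup p ↥(H.subgroupOf K) :=
      hH.comap_of_injective K.subtype (Subgroup.subtype_injective K)
    have h1 := Cfsg.Agent.Lib.Helper4.subnormal_pgroup_le_pCore hsub hp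
    obtain ⟨h2, h3, h4⟩ := pCoreImage_props p K
    refine ⟨(Cfsg.pCore p ↥K).map K.subtype, ?_, h3, h2, h4⟩
    intro x hx
    exact ⟨⟨x, hHK hx⟩, h1 (Subgroup.mem_subgroupOf.mpr hx), rfl⟩
  · rintro ⟨N, hHN, hNK, hNp, hKN⟩
    have hn : (N.subgroupOf K).Normal :=
      (Subgroup.normal_subgroupOf_iff_le_normalizer hNK).mpr hKN
    have hle : H.subgroupOf K ≤ N.subgroupOf K := fun x hx => hHN hx
    have hNp' : IsPGroup p ↥(N.subgroupOf K) :=
      hNp.comap_of_injective K.subtype (Subgroup.subtype_injective K)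
    haveI : Group.IsNilpotent ↥(N.subgroupOf K) := hNp'.isNilpotent
    exact Subgroup.IsSubnormal.trans hle
      (Cfsg.Agent.Lib.Helper1.isSubnormal_of_isNilpotent' _) hn.isSubnormal

theorem exists_radical {G : Type u} [Group G] [Finite G] (p : ℕ) [Fact p.Prime]
    (N₀ : Subgroup G) (hN₀ : IsPGroup p N₀) (g : G)
    (hg : g ∈ Subgroup.normalizer (N₀ : Set G)) :
    ∃ R : Subgroup G, N₀ ≤ R ∧
      (Cfsg.pCore p ↥(Subgroup.normalizer (R : Set G))).map
        (Subgroup.normalizer (R : Set G)).subtype = R ∧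
      g ∈ Subgroup.normalizer (R : Set G) := by
  obtain ⟨R, hN₀R, hRmax⟩ := Finite.exists_le_maximal
    (p := fun R : Subgroup G => IsPGroup p R ∧ g ∈ Subgroup.normalizer (R : Set G))
    (a := N₀) ⟨hN₀, hg⟩
  obtain ⟨⟨hRp, hgR⟩, hmax⟩ := hRmax
  obtain ⟨h2, h3, h4⟩ := pCoreImage_props p (Subgroup.normalizer (R : Set G))
  have hle : R ≤ (Cfsg.pCore p ↥(Subgroup.normalizer (R : Set G))).map
      (Subgroup.normalizer (R : Set G)).subtype :=
    le_pCoreImage p _ R Subgroup.le_normalizer hRp le_rfl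
  have hge := hmax ⟨h2, h4 hgR⟩ hle
  exact ⟨R, hN₀R, le_antisymm hge hle, hgR⟩

theorem subnormal_of_le_radical {G : Type u} [Group G] [Finite G] (p : ℕ) [Fact p.Prime]
    (H K R : Subgroup G) (hH : IsPGroup p H) (hHK : H ≤ K) (hR : IsPGroup p R) (hHR : H ≤ R)
    (hKR : K ≤ Subgroup.normalizer (R : Set G)) : (H.subgroupOf K).IsSubnormal := by
  rw [subnormal_iff p H K hH hHK]
  refine ⟨R ⊓ K, le_inf hHR hHK, inf_le_right, hR.to_le inf_le_left, ?_⟩
  intro k hk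
  apply Cfsg.Agent.S3867.norm_of_conj_le
  intro u hu
  obtain ⟨huR, huK⟩ := Subgroup.mem_inf.mp hu
  exact Subgroup.mem_inf.mpr ⟨(Subgroup.mem_normalizer_iff.mp (hKR hk) u).mp huR,
    K.mul_mem (K.mul_mem hk huK) (K.inv_mem hk)⟩

theorem to_radical {G : Type u} [Group G] [Finite G] (p : ℕ) [Fact p.Prime]
    (H : Subgroup G) (hH : IsPGroup p H) (g : G)
    (hsub : (H.subgroupOf (H ⊔ Subgroup.zpowers g)).IsSubnormal) :
    ∃ R : Subgroup G, H ≤ R ∧
      (Cfsg.pCore p ↥(Subgroup.normalizer (R : Set G))).map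
        (Subgroup.normalizer (R : Set G)).subtype = R ∧
      g ∈ Subgroup.normalizer (R : Set G) := by
  obtain ⟨N, hHN, hNK, hNp, hKN⟩ := (subnormal_iff p H _ hH le_sup_left).mp hsub
  have hgN : g ∈ Subgroup.normalizer (N : Set G) :=
    hKN ((le_sup_right : Subgroup.zpowers g ≤ H ⊔ Subgroup.zpowers g) (Subgroup.mem_zpowers g))
  obtain ⟨R, hNR, hReq, hgR⟩ := exists_radical p N hNp g hgN
  exact ⟨R, hHN.trans hNR, hReq, hgR⟩

theorem sInf_sylow_le_radical {G : Type u} [Group G] [Finite G] (p : ℕ) [Fact p.Prime]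
    (R : Subgroup G) (hRp : IsPGroup p R)
    (hReq : (Cfsg.pCore p ↥(Subgroup.normalizer (R : Set G))).map
        (Subgroup.normalizer (R : Set G)).subtype = R) :
    sInf {K : Subgroup G | ∃ Q : Sylow p G, R ≤ (Q : Subgroup G) ∧ K = (Q : Subgroup G)} ≤ R := by
  obtain ⟨Rs, hRs⟩ : ∃ Rs : Subgroup G,
    Rs = sInf {K : Subgroup G | ∃ Q : Sylow p G, R ≤ (Q : Subgroup G) ∧ K = (Q : Subgroup G)} :=
    ⟨_, rfl⟩
  rw [← hRs]
  have hRRs : R ≤ Rs := by
    rw [hRs]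
    apply le_sInf
    rintro K ⟨Q, hQ, rfl⟩
    exact hQ
  have hRsp : IsPGroup p Rs := by
    obtain ⟨Q, hQ⟩ := hRp.exists_le_sylow
    have : Rs ≤ (Q : Subgroup G) := by rw [hRs]; exact sInf_le ⟨Q, hQ, rfl⟩
    exact Q.isPGroup'.to_le this
  obtain ⟨M, hM⟩ : ∃ M : Subgroup G, M = Subgroup.normalizer (R : Set G) := ⟨_, rfl⟩
  rw [← hM] at hReq
  have hMRs : M ≤ Subgroup.normalizer (Rs : Set G) := by
    intro m hm
    apply Cfsg.Agent.S3867.norm_of_conj_le
    intro x hx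
    rw [hRs, Subgroup.mem_sInf]
    rintro K ⟨Q, hQ, rfl⟩
    have hQ' : ((m⁻¹ • Q : Sylow p G) : Subgroup G) = MulAut.conj m⁻¹ • (Q : Subgroup G) := rfl
    have hRQ' : R ≤ ((m⁻¹ • Q : Sylow p G) : Subgroup G) := by
      intro r hr
      rw [hQ', Cfsg.Agent.Lib.Lead.mem_conj_smul, inv_inv]
      apply hQ
      rw [hM] at hm
      exact (Subgroup.mem_normalizer_iff.mp hm r).mp hr
    have hx' : x ∈ ((m⁻¹ • Q : Sylow p G) : Subgroup G) := by
      have h1 : Rs ≤ ((m⁻¹ • Q : Sylow p G) : Subgroup G) := by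
        rw [hRs]; exact sInf_le ⟨m⁻¹ • Q, hRQ', rfl⟩
      exact h1 hx
    rw [hQ', Cfsg.Agent.Lib.Lead.mem_conj_smul, inv_inv] at hx'
    exact hx'
  have hX : Rs ⊓ M ≤ R := by
    have h1 : Rs ⊓ M ≤ (Cfsg.pCore p ↥M).map M.subtype := by
      apply le_pCoreImage p M (Rs ⊓ M) inf_le_right (hRsp.to_le inf_le_left)
      intro m hm
      apply Cfsg.Agent.S3867.norm_of_conj_le
      intro u hu
      obtain ⟨hu1, hu2⟩ := Subgroup.mem_inf.mp hu
      exact Subgroup.mem_inf.mpr ⟨(Subgroup.mem_normalizer_iff.mp (hMRs hm) u).mp hu1,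
        M.mul_mem (M.mul_mem hm hu2) (M.inv_mem hm)⟩
    rw [hReq] at h1
    exact h1
  by_contra hnot
  have hlt : R < Rs := lt_of_le_of_ne hRRs (fun h => hnot (h ▸ le_rfl))
  obtain ⟨z, hzRs, hzR, hzN⟩ := Cfsg.Agent.Lib.Helper1.exists_normalizing_of_lt hRsp hlt
  rw [← hM] at hzN
  exact hzR (hX (Subgroup.mem_inf.mpr ⟨hzRs, hzN⟩))
theorem result {G : Type*} [Group G] [Finite G] (p : ℕ) [Fact p.Prime]
    (H : Subgroup G) (hH : IsPGroup p H) :
    {g : G | ((H).subgroupOf (H ⊔ Subgroup.zpowers g)).IsSubnormal} =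
      {g : G | ∃ R : Subgroup G, H ≤ R ∧ (Cfsg.pCore p (Subgroup.normalizer (R : Set G))).map (Subgroup.normalizer (R : Set G)).subtype = R ∧ g ∈ Subgroup.normalizer (R : Set G)} ∧
    ∀ g : G, (((H).subgroupOf (H ⊔ Subgroup.zpowers g)).IsSubnormal ↔
      (((sInf {K : Subgroup G | ∃ Q : Sylow p G, H ≤ (Q : Subgroup G) ∧ K = (Q : Subgroup G)})).subgroupOf ((sInf {K : Subgroup G | ∃ Q : Sylow p G, H ≤ (Q : Subgroup G) ∧ K = (Q : Subgroup G)}) ⊔ Subgroup.zpowers g)).IsSubnormal) := by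

  classical
  constructor
  · ext g
    simp only [Set.mem_setOf_eq]
    constructor
    · intro hsub
      exact to_radical p H hH g hsub
    · rintro ⟨R, hHR, hReq, hgR⟩
      have hRp : IsPGroup p R := by
        rw [← hReq]; exact (pCoreImage_props p _).1
      exact subnormal_of_le_radical p H _ R hH le_sup_left hRp hHR
        (sup_le (hHR.trans Subgroup.le_normalizer) (Subgroup.zpowers_le.mpr hgR))
  · intro g
    obtain ⟨Hs, hHs⟩ : ∃ Hs : Subgroup G,
      Hs = sInf {K : Subgroup G | ∃ Q : Sylow p G, H ≤ (Q : Subgroup G) ∧ K = (Q : Subgroup G)} :=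
      ⟨_, rfl⟩
    rw [← hHs]
    have hHHs : H ≤ Hs := by
      rw [hHs]
      apply le_sInf
      rintro K ⟨Q, hQ, rfl⟩
      exact hQ
    have hHsp : IsPGroup p Hs := by
      obtain ⟨Q, hQ⟩ := hH.exists_le_sylow
      have : Hs ≤ (Q : Subgroup G) := by rw [hHs]; exact sInf_le ⟨Q, hQ, rfl⟩
      exact Q.isPGroup'.to_le this
    constructor
    · intro hsub
      obtain ⟨R, hHR, hReq, hgR⟩ := to_radical p H hH g hsub
      have hRp : IsPGroup p R := by
        rw [← hReq]; exact (pCoreImage_props p _).1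
      have hHsR : Hs ≤ R := by
        refine le_trans ?_ (sInf_sylow_le_radical p R hRp hReq)
        apply le_sInf
        rintro K ⟨Q, hQ, rfl⟩
        rw [hHs]
        exact sInf_le ⟨Q, hHR.trans hQ, rfl⟩
      exact subnormal_of_le_radical p Hs _ R hHsp le_sup_left hRp hHsR
        (sup_le (hHsR.trans Subgroup.le_normalizer) (Subgroup.zpowers_le.mpr hgR))
    · intro hsub
      obtain ⟨N, hHsN, hNK, hNp, hKN⟩ := (subnormal_iff p Hs _ hHsp le_sup_left).mp hsub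
      exact subnormal_of_le_radical p H _ N hH le_sup_left hNp (hHHs.trans hHsN)
        ((sup_le_sup_right hHHs _).trans hKN)

end Cfsg.Agent.S4089
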