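import Cfsg.Statements.S4113
import Cfsg.Agent.Lib.Helper6.Conj

set_option autoImplicit false
open Cfsg

namespace Cfsg.Agent.S4113

open Cfsg.Agent.Lib.Helper6

/-- Let G be a finite group, M ≤ N non-trivial proper normal subgroups, and H a subgroup with HM = G and H ∩ M = 1. Then every element of G outside N acts fixed-point-freely on M (C_G(x) ≤ N for every x ∈ M, x ≠ 1) if and only if H ∩ gHg⁻¹ ≤ H ∩ N for every g outside H, with H proper and non-trivial and H ∩ N proper in H. -/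
theorem result {G : Type*} [Group G] [Finite G] (N M : Subgroup G) [N.Normal] [M.Normal] (hMN : M ≤ N) (hM1 : M ≠ ⊥) (hN2 : N ≠ ⊤)
    (H : Subgroup G) (hHM : H ⊔ M = ⊤) (hHM' : H ⊓ M = ⊥) :
    (∀ x ∈ M, x ≠ 1 → Subgroup.centralizer ({x} : Set G) ≤ N) ↔
      (H ≠ ⊥ ∧ H ≠ ⊤ ∧ H ⊓ N < H ∧ ∀ g : G, g ∉ H → H ⊓ H.map (MulAut.conj g).toMonoidHom ≤ N) := by
  have hMn : M.Normal := inferInstance
  have hNn : N.Normal := inferInstance
  have hdecomp : ∀ g : G, ∃ h ∈ H, ∃ m ∈ M, g = h * m := by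
    intro g
    have hg : g ∈ H ⊔ M := by rw [hHM]; exact Subgroup.mem_top g
    rw [← SetLike.mem_coe, Subgroup.mul_normal] at hg
    obtain ⟨h, hh, m, hm, rfl⟩ := Set.mem_mul.mp hg
    exact ⟨h, hh, m, hm, rfl⟩
  constructor
  · intro hF
    refine ⟨?_, ?_, ?_, ?_⟩
    · intro h
      apply hN2
      rw [h, bot_sup_eq] at hHM
      rw [hHM] at hMN
      exact top_le_iff.mp hMN
    · intro h
      apply hM1
      rw [h, top_inf_eq] at hHM'
      exact hHM'
    · refine lt_of_le_of_ne inf_le_left ?_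
      intro h
      apply hN2
      have hHN : H ≤ N := inf_eq_left.mp h
      exact top_le_iff.mp (hHM ▸ sup_le hHN hMN)
    · intro g hg x hx
      obtain ⟨hxH, hxg⟩ := Subgroup.mem_inf.mp hx
      rw [mem_cj] at hxg
      obtain ⟨h, hh, m, hm, rfl⟩ := hdecomp g
      have hm1 : m ≠ 1 := by
        rintro rfl
        apply hg; simpa using hh
      have hy : h⁻¹ * x * h ∈ H := H.mul_mem (H.mul_mem (H.inv_mem hh) hxH) hh
      have hmy : m⁻¹ * (h⁻¹ * x * h) * m ∈ H := by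
        convert hxg using 1; group
      have hc : (h⁻¹ * x * h)⁻¹ * (m⁻¹ * (h⁻¹ * x * h) * m) ∈ H ⊓ M := by
        refine Subgroup.mem_inf.mpr ⟨H.mul_mem (H.inv_mem hy) hmy, ?_⟩
        have : (h⁻¹ * x * h)⁻¹ * (m⁻¹ * (h⁻¹ * x * h) * m)
            = ((h⁻¹ * x * h)⁻¹ * m⁻¹ * (h⁻¹ * x * h)⁻¹⁻¹) * m := by group
        rw [this]
        exact M.mul_mem (hMn.conj_mem _ (M.inv_mem hm) _) hm
      rw [hHM', Subgroup.mem_bot] at hc
      have hcent : h⁻¹ * x * h ∈ Subgroup.centralizer ({m} : Set G) := by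
        rw [Subgroup.mem_centralizer_singleton_iff]
        have h1 : m⁻¹ * (h⁻¹ * x * h) * m = h⁻¹ * x * h := inv_mul_eq_one.mp hc |>.symm
        calc h⁻¹ * x * h * m = m * (m⁻¹ * (h⁻¹ * x * h) * m) := by group
          _ = m * (h⁻¹ * x * h) := by rw [h1]
      have h2 := hF m hm hm1 hcent
      have h3 : h * (h⁻¹ * x * h) * h⁻¹ ∈ N := hNn.conj_mem _ h2 h
      convert h3 using 1; group
  · rintro ⟨hH1, hH2, hlt, hW⟩ x hxM hx1 c hc
    by_contra hcN
    obtain ⟨h, hh, m₀, hm₀, rfl⟩ := hdecomp c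
    have hhN : h ∉ N := by
      intro hN
      exact hcN (N.mul_mem hN (hMN hm₀))
    let φ : M → M := fun m => ⟨h⁻¹ * (m : G) * h * (m : G)⁻¹, by
      have : h⁻¹ * (m : G) * h * (m : G)⁻¹ = (h⁻¹ * (m : G) * h⁻¹⁻¹) * (m : G)⁻¹ := by group
      rw [this]
      exact M.mul_mem (hMn.conj_mem _ m.2 _) (M.inv_mem m.2)⟩
    have hinj : Function.Injective φ := by
      intro m m' hmm
      have h1 : h⁻¹ * (m : G) * h * (m : G)⁻¹ = h⁻¹ * (m' : G) * h * (m' : G)⁻¹ :=
        congrArg Subtype.val hmm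
      have h3 : (m : G) * h * (m : G)⁻¹ = (m' : G) * h * (m' : G)⁻¹ := by
        have := congrArg (fun z => h * z) h1
        simpa [mul_assoc] using this
      have h2 : ((m' : G)⁻¹ * (m : G))⁻¹ * h * ((m' : G)⁻¹ * (m : G)) = h := by
        calc ((m' : G)⁻¹ * (m : G))⁻¹ * h * ((m' : G)⁻¹ * (m : G))
            = (m : G)⁻¹ * ((m' : G) * h * (m' : G)⁻¹) * (m : G) := by group
          _ = (m : G)⁻¹ * ((m : G) * h * (m : G)⁻¹) * (m : G) := by rw [h3]
          _ = h := by group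
      have hu : (m' : G)⁻¹ * (m : G) ∈ H := by
        by_contra hu
        apply hhN
        apply hW _ hu
        refine Subgroup.mem_inf.mpr ⟨hh, ?_⟩
        rw [mem_cj, h2]; exact hh
      have hu' : (m' : G)⁻¹ * (m : G) ∈ H ⊓ M :=
        Subgroup.mem_inf.mpr ⟨hu, M.mul_mem (M.inv_mem m'.2) m.2⟩
      rw [hHM', Subgroup.mem_bot] at hu'
      apply Subtype.ext
      exact (inv_mul_eq_one.mp hu').symm
    have hsurj : Function.Surjective φ := Finite.surjective_of_injective hinj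
    obtain ⟨m, hm⟩ := hsurj ⟨m₀, hm₀⟩
    have hm' : h⁻¹ * (m : G) * h * (m : G)⁻¹ = m₀ := congrArg Subtype.val hm
    have hconj : h * m₀ = (m : G) * h * (m : G)⁻¹ := by rw [← hm']; group
    have hx' : (m : G)⁻¹ * x * (m : G) ∈ M := by
      have := hMn.conj_mem _ hxM (m : G)⁻¹
      simpa using this
    have hx'1 : (m : G)⁻¹ * x * (m : G) ≠ 1 := by
      intro h0
      apply hx1
      have := congrArg (fun z => (m : G) * z * (m : G)⁻¹) h0
      simpa [mul_assoc] using this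
    have hx'H : (m : G)⁻¹ * x * (m : G) ∉ H := by
      intro hin
      have : (m : G)⁻¹ * x * (m : G) ∈ H ⊓ M := Subgroup.mem_inf.mpr ⟨hin, hx'⟩
      rw [hHM', Subgroup.mem_bot] at this
      exact hx'1 this
    apply hhN
    apply hW _ hx'H
    refine Subgroup.mem_inf.mpr ⟨hh, ?_⟩
    rw [mem_cj]
    rw [Subgroup.mem_centralizer_singleton_iff, hconj] at hc
    have : ((m : G)⁻¹ * x * (m : G))⁻¹ * h * ((m : G)⁻¹ * x * (m : G)) = h := by
      calc ((m : G)⁻¹ * x * (m : G))⁻¹ * h * ((m : G)⁻¹ * x * (m : G))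
          = (m : G)⁻¹ * (x⁻¹ * (((m : G) * h * (m : G)⁻¹) * x)) * (m : G) := by group
        _ = (m : G)⁻¹ * (x⁻¹ * (x * ((m : G) * h * (m : G)⁻¹))) * (m : G) := by rw [hc]
        _ = h := by group
    rw [this]; exact hh

end Cfsg.Agent.S4113
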