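import Cfsg.Statements.S4116
import Cfsg.Agent.Lib.Helper6.Malnormal
import Cfsg.Agent.Lib.Helper6.Conj
import Cfsg.Agent.Lib.Helper6.RealElt
import Cfsg.Agent.S4035

set_option autoImplicit false
open Cfsg

namespace Cfsg.Agent.S4116

open Cfsg.Agent.Lib.Helper6

/-- Let G be a finite group with a subgroup H whose order is coprime to its index (a Hall subgroup) and which meets each of its conjugates by elements outside N_G(H) trivially. Then every subgroup of G whose order is divisible only by primes dividing the order of H lies in a conjugate of H. -/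
theorem result {G : Type*} [Group G] [Finite G] (H : Subgroup G)
    (hHall : (Nat.card H).Coprime H.index) (hTI : Cfsg.IsTISubset (H : Set G))
    (K : Subgroup G) (hK : ∀ q : ℕ, q.Prime → q ∣ Nat.card K → q ∣ Nat.card H) :
    ∃ g : G, K ≤ H.map (MulAut.conj g).toMonoidHom := by
  classical
  -- (1) elements of the normalizer whose order only involves primes of |H| lie in H
  have h1 : ∀ x : G, x ∈ Subgroup.normalizer (H : Set G) →
      (∀ q : ℕ, q.Prime → q ∣ orderOf x → q ∣ Nat.card H) → x ∈ H := by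
    intro x hx hq
    have hnorm : (H.subgroupOf (Subgroup.normalizer (H : Set G))).Normal :=
      Subgroup.normal_in_normalizer
    have hpow : (⟨x, hx⟩ : Subgroup.normalizer (H : Set G)) ^
        (H.subgroupOf (Subgroup.normalizer (H : Set G))).index
        ∈ H.subgroupOf (Subgroup.normalizer (H : Set G)) := Subgroup.pow_index_mem _ _
    have hpow' : x ^ (H.relIndex (Subgroup.normalizer (H : Set G))) ∈ H := by
      have := Subgroup.mem_subgroupOf.mp hpow
      simpa [Subgroup.relIndex] using this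
    have hord : x ^ orderOf x ∈ H := by rw [pow_orderOf_eq_one]; exact H.one_mem
    have hcop : (H.relIndex (Subgroup.normalizer (H : Set G))).Coprime (orderOf x) := by
      by_contra hne
      obtain ⟨q, hqp, hq1, hq2⟩ := Nat.Prime.not_coprime_iff_dvd.mp hne
      have hq3 := hq q hqp hq2
      have hq4 : q ∣ H.index := hq1.trans (Subgroup.relIndex_dvd_index_of_le Subgroup.le_normalizer)
      have : q ∣ Nat.gcd (Nat.card H) H.index := Nat.dvd_gcd hq3 hq4
      rw [hHall] at this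
      exact hqp.one_lt.ne' (Nat.dvd_one.mp this)
    exact mem_of_pow_mem_of_coprime hcop hpow' hord
  -- (2) elements of prime order q | |H| are conjugate into H
  have h2 : ∀ (q : ℕ) (y : G), q.Prime → q ∣ Nat.card H → orderOf y = q →
      ∃ g : G, g⁻¹ * y * g ∈ H := by
    intro q y hq hqH hy
    have : Fact q.Prime := ⟨hq⟩
    have hP : IsPGroup q (Subgroup.zpowers y) :=
      IsPGroup.of_card (n := 1) (by rw [Nat.card_zpowers, hy, pow_one])
    have hnd : ¬ q ∣ Nat.card (G ⧸ H) := by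
      intro hd
      have : q ∣ Nat.gcd (Nat.card H) H.index := Nat.dvd_gcd hqH hd
      rw [hHall] at this
      exact hq.one_lt.ne' (Nat.dvd_one.mp this)
    obtain ⟨a, ha⟩ := hP.nonempty_fixed_point_of_prime_not_dvd_card (G ⧸ H) hnd
    obtain ⟨g, rfl⟩ := QuotientGroup.mk_surjective a
    refine ⟨g, ?_⟩
    have h3 : ((y * g : G) : G ⧸ H) = (g : G ⧸ H) := ha ⟨y, Subgroup.mem_zpowers y⟩
    rw [QuotientGroup.eq] at h3
    have := H.inv_mem h3
    convert this using 1; group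
  have hKord : ∀ x ∈ K, ∀ q : ℕ, q.Prime → q ∣ orderOf x → q ∣ Nat.card H := by
    intro x hx q hq hqx
    apply hK q hq
    have : orderOf x ∣ Nat.card K := by
      have := orderOf_dvd_natCard (⟨x, hx⟩ : K)
      rwa [Subgroup.orderOf_mk] at this
    exact hqx.trans this
  -- (3) every element of K lies in a conjugate of H
  have hcov : ∀ x ∈ K, ∃ g : G, g⁻¹ * x * g ∈ H := by
    intro x hx
    by_cases hx1 : x = 1
    · exact ⟨1, by simp [hx1, H.one_mem]⟩
    · obtain ⟨q, hq, hqx⟩ := Nat.exists_prime_and_dvd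
        (show orderOf x ≠ 1 from fun h => hx1 (orderOf_eq_one_iff.mp h))
      have hyo : orderOf (x ^ (orderOf x / q)) = q :=
        orderOf_pow_orderOf_div (orderOf_pos x).ne' hqx
      obtain ⟨g, hg⟩ := h2 q _ hq (hKord x hx q hq hqx) hyo
      refine ⟨g, ?_⟩
      have hy1 : g⁻¹ * x ^ (orderOf x / q) * g ≠ 1 := by
        intro h
        have h' : x ^ (orderOf x / q) = 1 := by
          have := congrArg (fun z => g * z * g⁻¹) h
          simpa [mul_assoc] using this
        rw [← orderOf_eq_one_iff, hyo] at h'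
        exact hq.one_lt.ne' h'
      have hcomm : (g⁻¹ * x * g) * (g⁻¹ * x ^ (orderOf x / q) * g) * (g⁻¹ * x * g)⁻¹
          = g⁻¹ * x ^ (orderOf x / q) * g := by
        have hc : x * x ^ (orderOf x / q) = x ^ (orderOf x / q) * x :=
          (Commute.pow_right (Commute.refl x) _).eq
        calc _ = g⁻¹ * (x * x ^ (orderOf x / q) * x⁻¹) * g := by group
          _ = _ := by rw [hc]; group
      have hxN : g⁻¹ * x * g ∈ Subgroup.normalizer (H : Set G) := by
        by_contra hn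
        exact hy1 (hTI _ hn _ hg (by rw [hcomm]; exact hg))
      apply h1 _ hxN
      intro r hr hrx
      apply hKord x hx r hr
      rwa [show g⁻¹ * x * g = g⁻¹ * x * g⁻¹⁻¹ by group, orderOf_conj_eq] at hrx
  -- parts
  have hpart : ∀ x : G, x ≠ 1 → ∀ g g' : G, g⁻¹ * x * g ∈ H → g'⁻¹ * x * g' ∈ H →
      ∀ z : G, g⁻¹ * z * g ∈ H → g'⁻¹ * z * g' ∈ H := by
    intro x hx1 g g' hg hg' z hz
    have hn : g'⁻¹ * g ∈ Subgroup.normalizer (H : Set G) := by
      by_contra hn
      have := hTI _ hn _ hg (by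
        have : (g'⁻¹ * g) * (g⁻¹ * x * g) * (g'⁻¹ * g)⁻¹ = g'⁻¹ * x * g' := by group
        rw [this]; exact hg')
      apply hx1
      have := congrArg (fun w => g * w * g⁻¹) this
      simpa [mul_assoc] using this
    have := (Subgroup.mem_normalizer_iff.mp hn (g⁻¹ * z * g)).mp hz
    convert this using 1; group
  -- malnormality of parts
  have hmal : ∀ g : G, ∀ k ∈ K, k ∉ K ⊓ H.map (MulAut.conj g).toMonoidHom →
      ∀ m ∈ K ⊓ H.map (MulAut.conj g).toMonoidHom,
      k * m * k⁻¹ ∈ K ⊓ H.map (MulAut.conj g).toMonoidHom → m = 1 := by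
    intro g k hk hkM m hm hkm
    by_contra hm1
    apply hkM
    refine Subgroup.mem_inf.mpr ⟨hk, ?_⟩
    rw [mem_cj]
    have hm' := mem_cj.mp hm.2
    have hkm' := mem_cj.mp hkm.2
    have hn : g⁻¹ * k * g ∈ Subgroup.normalizer (H : Set G) := by
      by_contra hn
      have := hTI _ hn _ hm' (by
        have : (g⁻¹ * k * g) * (g⁻¹ * m * g) * (g⁻¹ * k * g)⁻¹ = g⁻¹ * (k * m * k⁻¹) * g := by
          group
        rw [this]; exact hkm')
      apply hm1
      have := congrArg (fun w => g * w * g⁻¹) this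
      simpa [mul_assoc] using this
    apply h1 _ hn
    intro r hr hrx
    apply hKord k hk r hr
    rwa [show g⁻¹ * k * g = g⁻¹ * k * g⁻¹⁻¹ by group, orderOf_conj_eq] at hrx
  by_cases hKbot : K = ⊥
  · exact ⟨1, by rw [hKbot]; exact bot_le⟩
  obtain ⟨x₀, hx₀K, hx₀1⟩ : ∃ x ∈ K, x ≠ 1 := by
    by_contra hcon
    push Not at hcon
    exact hKbot ((Subgroup.eq_bot_iff_forall K).mpr hcon)
  obtain ⟨g₀, hg₀⟩ := hcov x₀ hx₀K
  refine ⟨g₀, ?_⟩
  have hall : ∀ y ∈ K, ∃ k ∈ K, k⁻¹ * y * k ∈ K ⊓ H.map (MulAut.conj g₀).toMonoidHom := by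
    by_contra hcon
    push Not at hcon
    obtain ⟨y₀, hy₀K, hy₀⟩ := hcon
    have hy₀1 : y₀ ≠ 1 := by
      intro h
      apply hy₀ 1 K.one_mem
      rw [h]
      simp
    obtain ⟨g₁, hg₁⟩ := hcov y₀ hy₀K
    have hc1 := malnormal_count K (K ⊓ H.map (MulAut.conj g₀).toMonoidHom) (hmal g₀)
    have hc2 := malnormal_count K (K ⊓ H.map (MulAut.conj g₁).toMonoidHom) (hmal g₁)
    have hdisj : Disjoint {y : G | y ≠ 1 ∧ ∃ k ∈ K, k⁻¹ * y * k ∈
          K ⊓ H.map (MulAut.conj g₀).toMonoidHom}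
        {y : G | y ≠ 1 ∧ ∃ k ∈ K, k⁻¹ * y * k ∈ K ⊓ H.map (MulAut.conj g₁).toMonoidHom} := by
      rw [Set.disjoint_left]
      rintro y ⟨hy1, k₁, hk₁, hk₁M⟩ ⟨-, k₂, hk₂, hk₂M⟩
      have e1 : (k₁ * g₀)⁻¹ * y * (k₁ * g₀) ∈ H := by
        have := mem_cj.mp hk₁M.2
        convert this using 1; group
      have e2 : (k₂ * g₁)⁻¹ * y * (k₂ * g₁) ∈ H := by
        have := mem_cj.mp hk₂M.2
        convert this using 1; group
      have e3 : (k₂ * g₁)⁻¹ * (k₂ * y₀ * k₂⁻¹) * (k₂ * g₁) ∈ H := by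
        convert hg₁ using 1; group
      have e4 := hpart y hy1 (k₂ * g₁) (k₁ * g₀) e2 e1 _ e3
      apply hy₀ (k₂⁻¹ * k₁) (K.mul_mem (K.inv_mem hk₂) hk₁)
      refine Subgroup.mem_inf.mpr ⟨?_, ?_⟩
      · exact K.mul_mem (K.mul_mem (K.inv_mem (K.mul_mem (K.inv_mem hk₂) hk₁)) hy₀K)
          (K.mul_mem (K.inv_mem hk₂) hk₁)
      · rw [mem_cj]; convert e4 using 1; group
    have hsub : {y : G | y ≠ 1 ∧ ∃ k ∈ K, k⁻¹ * y * k ∈
          K ⊓ H.map (MulAut.conj g₀).toMonoidHom} ∪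
        {y : G | y ≠ 1 ∧ ∃ k ∈ K, k⁻¹ * y * k ∈ K ⊓ H.map (MulAut.conj g₁).toMonoidHom}
        ⊆ ((K : Set G) \ {1}) := by
      rintro y (⟨hy1, k, hk, hkM⟩ | ⟨hy1, k, hk, hkM⟩)
      · refine ⟨?_, hy1⟩
        have : y = k * (k⁻¹ * y * k) * k⁻¹ := by group
        rw [this]; exact K.mul_mem (K.mul_mem hk hkM.1) (K.inv_mem hk)
      · refine ⟨?_, hy1⟩
        have : y = k * (k⁻¹ * y * k) * k⁻¹ := by group
        rw [this]; exact K.mul_mem (K.mul_mem hk hkM.1) (K.inv_mem hk)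
    have hcardU := Set.ncard_union_eq hdisj (Set.toFinite _) (Set.toFinite _)
    have hle := Set.ncard_le_ncard hsub (Set.toFinite _)
    have hK1 : ((K : Set G) \ {1}).ncard = Nat.card K - 1 := by
      rw [Set.ncard_sdiff (by simp), Set.ncard_singleton]
      rfl
    have hM₁2 : 2 ≤ Nat.card (K ⊓ H.map (MulAut.conj g₀).toMonoidHom : Subgroup G) := by
      have : (K ⊓ H.map (MulAut.conj g₀).toMonoidHom) ≠ ⊥ := by
        intro h
        have : x₀ ∈ K ⊓ H.map (MulAut.conj g₀).toMonoidHom := ⟨hx₀K, mem_cj.mpr hg₀⟩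
        rw [h] at this
        exact hx₀1 (Subgroup.mem_bot.mp this)
      exact (Subgroup.one_lt_card_iff_ne_bot _).mpr this
    have hM₂2 : 2 ≤ Nat.card (K ⊓ H.map (MulAut.conj g₁).toMonoidHom : Subgroup G) := by
      have : (K ⊓ H.map (MulAut.conj g₁).toMonoidHom) ≠ ⊥ := by
        intro h
        have : y₀ ∈ K ⊓ H.map (MulAut.conj g₁).toMonoidHom := ⟨hy₀K, mem_cj.mpr hg₁⟩
        rw [h] at this
        exact hy₀1 (Subgroup.mem_bot.mp this)
      exact (Subgroup.one_lt_card_iff_ne_bot _).mpr this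
    have hKpos : 0 < Nat.card K := Nat.card_pos
    obtain ⟨m₁, hm₁⟩ : ∃ m, Nat.card (K ⊓ H.map (MulAut.conj g₀).toMonoidHom : Subgroup G)
        = m + 2 := ⟨_, (Nat.sub_add_cancel hM₁2).symm⟩
    obtain ⟨m₂, hm₂⟩ : ∃ m, Nat.card (K ⊓ H.map (MulAut.conj g₁).toMonoidHom : Subgroup G)
        = m + 2 := ⟨_, (Nat.sub_add_cancel hM₂2).symm⟩
    rw [hm₁] at hc1
    rw [hm₂] at hc2
    rw [hcardU, hK1] at hle
    generalize Set.ncard {y : G | y ≠ 1 ∧ ∃ k ∈ K, k⁻¹ * y * k ∈
          K ⊓ H.map (MulAut.conj g₀).toMonoidHom} = u₁ at hc1 hle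
    generalize Set.ncard {y : G | y ≠ 1 ∧ ∃ k ∈ K, k⁻¹ * y * k ∈
          K ⊓ H.map (MulAut.conj g₁).toMonoidHom} = u₂ at hc2 hle
    generalize Nat.card K = a at hc1 hc2 hle hKpos
    have e1 : m₁ + 2 - 1 = m₁ + 1 := by omega
    have e2 : m₂ + 2 - 1 = m₂ + 1 := by omega
    rw [e1] at hc1
    rw [e2] at hc2
    have ha1 : a ≤ 2 * u₁ := by
      by_contra hlt
      push Not at hlt
      nlinarith
    have ha2 : a ≤ 2 * u₂ := by
      by_contra hlt
      push Not at hlt
      nlinarith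
    omega
  have htop : (K ⊓ H.map (MulAut.conj g₀).toMonoidHom).subgroupOf K = ⊤ := by
    apply Cfsg.Agent.S4035.eq_top_of_forall_conj_mem
    intro y
    obtain ⟨k, hk, hkM⟩ := hall y y.2
    exact ⟨⟨k, hk⟩, by rw [Subgroup.mem_subgroupOf]; simpa using hkM⟩
  have hle : K ≤ K ⊓ H.map (MulAut.conj g₀).toMonoidHom := by
    rw [Subgroup.subgroupOf_eq_top] at htop; exact htop
  exact hle.trans inf_le_right

end Cfsg.Agent.S4116
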