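import Cfsg.Statements.S4153
import Cfsg.Agent.Lib.Helper6.SylowInf
import Cfsg.Agent.Lib.Helper6.CycSylow

set_option autoImplicit false
open Cfsg

namespace Cfsg.Agent.S4153

open Cfsg.Agent.Lib.Helper6

/-- Let G be a finite group, p a prime, N a normal subgroup, P a Sylow p-subgroup of G and P̄ a Sylow p-subgroup of G/N. Count the elements of p-power order, the identity included. Then (number of such elements of G/N)/#P̄ ≤ (number of such elements of G)/#P, stated as a cross-multiplied inequality, with equality when N is central. -/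
theorem result {G : Type*} [Group G] [Finite G] (p : ℕ) [Fact p.Prime] (N : Subgroup G) [N.Normal]
    (P : Sylow p G) (Pbar : Sylow p (G ⧸ N)) :
    Nat.card {g : (G ⧸ N) // ∃ k : ℕ, orderOf g = p ^ k} * Nat.card (P : Subgroup G) ≤ Nat.card {g : G // ∃ k : ℕ, orderOf g = p ^ k} * Nat.card (Pbar : Subgroup (G ⧸ N)) ∧
    (N ≤ Subgroup.center G → Nat.card {g : (G ⧸ N) // ∃ k : ℕ, orderOf g = p ^ k} * Nat.card (P : Subgroup G) = Nat.card {g : G // ∃ k : ℕ, orderOf g = p ^ k} * Nat.card (Pbar : Subgroup (G ⧸ N))) := by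
  classical
  have hp : p.Prime := Fact.out
  have hA : Nat.card (P : Subgroup G)
      = p ^ (Nat.card N).factorization p * Nat.card (Pbar : Subgroup (G ⧸ N)) := by
    rw [P.card_eq_multiplicity, Pbar.card_eq_multiplicity,
      Subgroup.card_eq_card_quotient_mul_card_subgroup N,
      Nat.factorization_mul Nat.card_pos.ne' Nat.card_pos.ne', Finsupp.add_apply, pow_add,
      mul_comm]
  let f : {g : G // ∃ k : ℕ, orderOf g = p ^ k} → {g : G ⧸ N // ∃ k : ℕ, orderOf g = p ^ k} :=
    fun g => ⟨(g.1 : G ⧸ N), by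
      obtain ⟨k, hk⟩ := g.2
      have hd : orderOf ((g.1 : G ⧸ N)) ∣ p ^ k :=
        hk ▸ orderOf_map_dvd (QuotientGroup.mk' N) g.1
      exact ((Nat.dvd_prime_pow hp).mp hd).imp (fun j hj => hj.2)⟩
  have hfib : ∀ ybar : {g : G ⧸ N // ∃ k : ℕ, orderOf g = p ^ k},
      p ^ (Nat.card N).factorization p
        ≤ Nat.card {x : {g : G // ∃ k : ℕ, orderOf g = p ^ k} // f x = ybar} ∧
      (N ≤ Subgroup.center G →
        Nat.card {x : {g : G // ∃ k : ℕ, orderOf g = p ^ k} // f x = ybar}
          = p ^ (Nat.card N).factorization p) := by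
    rintro ⟨ybar, k, hk⟩
    obtain ⟨g, rfl⟩ := QuotientGroup.mk_surjective ybar
    obtain ⟨a, b, hab, ha, hb, ⟨ka, hka⟩, hbcop⟩ := exists_p_decomp' p hp g
    have hb1 : ((b : G) : G ⧸ N) = 1 := by
      obtain ⟨z, hz⟩ := Subgroup.mem_zpowers_iff.mp hb
      have h1 : orderOf ((b : G) : G ⧸ N) ∣ orderOf b :=
        orderOf_map_dvd (QuotientGroup.mk' N) b
      have hmem : ((b : G) : G ⧸ N) ∈ Subgroup.zpowers ((g : G) : G ⧸ N) := by
        refine Subgroup.mem_zpowers_iff.mpr ⟨z, ?_⟩
        rw [← hz]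
        exact (map_zpow (QuotientGroup.mk' N) g z).symm
      have h2 : orderOf ((b : G) : G ⧸ N) ∣ p ^ k := hk ▸ orderOf_dvd_of_mem_zpowers hmem
      have hcop : (orderOf b).Coprime (p ^ k) := Nat.Coprime.pow_right k hbcop
      have h3 : orderOf ((b : G) : G ⧸ N) = 1 :=
        Nat.Coprime.eq_one_of_dvd (Nat.Coprime.coprime_dvd_left h1 hcop) h2
      exact orderOf_eq_one_iff.mp h3
    have hamk : ((a : G) : G ⧸ N) = (g : G ⧸ N) := by
      have : ((a * b : G) : G ⧸ N) = (a : G ⧸ N) * (b : G ⧸ N) := rfl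
      rw [← hab, this, hb1, mul_one]
    have hpg : IsPGroup p (Subgroup.zpowers a) :=
      IsPGroup.of_card (n := ka) (by rw [Nat.card_zpowers, hka])
    obtain ⟨R, hR⟩ := hpg.exists_le_sylow
    have haR : a ∈ (R : Subgroup G) := hR (Subgroup.mem_zpowers a)
    have hcard := card_sylow_inf_normal R N
    let ι : ((R : Subgroup G) ⊓ N : Subgroup G) →
        {x : {g : G // ∃ k : ℕ, orderOf g = p ^ k} // f x = ⟨(g : G ⧸ N), k, hk⟩} :=
      fun s => ⟨⟨a * (s : G), orderOf_mem_sylow R ((R : Subgroup G).mul_mem haR s.2.1)⟩, by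
        apply Subtype.ext
        show ((a * (s : G) : G) : G ⧸ N) = (g : G ⧸ N)
        rw [← hamk]
        refine QuotientGroup.eq.mpr ?_
        have : (a * (s : G))⁻¹ * a = (s : G)⁻¹ := by group
        rw [this]
        exact N.inv_mem s.2.2⟩
    have hι : Function.Injective ι := by
      intro s t hst
      have : a * (s : G) = a * (t : G) := congrArg (fun x => (x.1.1 : G)) hst
      exact Subtype.ext (mul_left_cancel this)
    refine ⟨?_, ?_⟩
    · rw [← hcard]
      exact Nat.card_le_card_of_injective ι hι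
    · intro hcen
      rw [← hcard]
      symm
      apply Nat.card_congr
      refine Equiv.ofBijective ι ⟨hι, ?_⟩
      rintro ⟨⟨x, kx, hkx⟩, hx⟩
      have hxmk : ((x : G) : G ⧸ N) = (g : G ⧸ N) := congrArg Subtype.val hx
      have hsN : a⁻¹ * x ∈ N := by
        rw [← hamk] at hxmk
        exact QuotientGroup.eq.mp hxmk.symm
      have hscen : a⁻¹ * x ∈ Subgroup.center G := hcen hsN
      have hax : a * x = x * a := by
        have h1 := (Subgroup.mem_center_iff.mp hscen) a
        have := congrArg (fun z => a * z) h1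
        simpa [mul_assoc] using this
      have hcomm : Commute a⁻¹ x := Commute.inv_left (show Commute a x from hax)
      have hpow : (a⁻¹ * x) ^ (p ^ (ka + kx)) = 1 := by
        rw [hcomm.mul_pow, inv_pow, pow_add, pow_mul, ← hka, pow_orderOf_eq_one, one_pow,
          inv_one, one_mul, mul_comm (orderOf a), pow_mul, ← hkx, pow_orderOf_eq_one, one_pow]
      obtain ⟨e, -, he⟩ := (Nat.dvd_prime_pow hp).mp (orderOf_dvd_of_pow_eq_one hpow)
      have hsR : a⁻¹ * x ∈ (R : Subgroup G) := by
        apply mem_sylow_of_mem_normalizer R he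
        rw [Subgroup.mem_normalizer_iff]
        intro y
        have : a⁻¹ * x * y * (a⁻¹ * x)⁻¹ = y := by
          have h1 := (Subgroup.mem_center_iff.mp hscen) y
          rw [← h1]; group
        rw [this]
      refine ⟨⟨a⁻¹ * x, hsR, hsN⟩, ?_⟩
      apply Subtype.ext; apply Subtype.ext
      show a * (a⁻¹ * x) = x
      group
  have : Fintype {g : G ⧸ N // ∃ k : ℕ, orderOf g = p ^ k} := Fintype.ofFinite _
  have hsum : Nat.card {g : G // ∃ k : ℕ, orderOf g = p ^ k}
      = ∑ ybar : {g : G ⧸ N // ∃ k : ℕ, orderOf g = p ^ k},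
        Nat.card {x : {g : G // ∃ k : ℕ, orderOf g = p ^ k} // f x = ybar} := by
    rw [← Nat.card_sigma]
    exact Nat.card_congr (Equiv.sigmaFiberEquiv f).symm
  constructor
  · have h1 : Nat.card {g : G ⧸ N // ∃ k : ℕ, orderOf g = p ^ k} *
        p ^ (Nat.card N).factorization p ≤ Nat.card {g : G // ∃ k : ℕ, orderOf g = p ^ k} := by
      rw [hsum, Nat.card_eq_fintype_card, ← Finset.card_univ, ← smul_eq_mul, ← Finset.sum_const]
      exact Finset.sum_le_sum (fun y _ => (hfib y).1)
    rw [hA, ← mul_assoc]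
    exact Nat.mul_le_mul_right _ h1
  · intro hcen
    have h1 : Nat.card {g : G ⧸ N // ∃ k : ℕ, orderOf g = p ^ k} *
        p ^ (Nat.card N).factorization p = Nat.card {g : G // ∃ k : ℕ, orderOf g = p ^ k} := by
      rw [hsum, Nat.card_eq_fintype_card, ← Finset.card_univ, ← smul_eq_mul, ← Finset.sum_const]
      exact Finset.sum_congr rfl (fun y _ => ((hfib y).2 hcen).symm)
    rw [hA, ← mul_assoc, h1]

end Cfsg.Agent.S4153
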