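import Mathlib
import Cfsg.Statements.S4207
import Cfsg.Agent.S0014
import Cfsg.Agent.Lib.Helper7.FreeAct

set_option autoImplicit false
open Cfsg

namespace Cfsg.Agent.S4207



open Cfsg.Agent.Lib.Helper7

/-- Let `P` be a group of order `p^n` whose Frattini subgroup has index `p^r`. Then any group of automorphisms of `P` each of which induces the identity on the Frattini quotient has order dividing `p^(r(n-r))`; in particular it is a `p`-group. -/
theorem result {P : Type*} [Group P] [Finite P] {p n r : ℕ} [Fact p.Prime] (hP : Nat.card P = p ^ n) (hr : (frattini P).index = p ^ r) (A : Subgroup (MulAut P)) (hA : ∀ α ∈ A, ∀ x : P, α x * x⁻¹ ∈ frattini P) : Nat.card A ∣ p ^ (r * (n - r)) := by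
  classical
  have hp := (Fact.out : p.Prime)
  have hPG : IsPGroup p P := IsPGroup.of_card hP
  haveI : Fintype P := Fintype.ofFinite P
  obtain ⟨h1, -⟩ := Cfsg.Agent.S0014.result p r hPG hr
  obtain ⟨T, -, hTcard, hT⟩ := h1 Finset.univ (by simp)
  have hΦ : Nat.card (frattini P) = p ^ (n - r) := by
    have h2 := Subgroup.card_mul_index (frattini P)
    rw [hr, hP] at h2
    have hrn : r ≤ n := by
      have h3 : p ^ r ∣ p ^ n := ⟨_, by rw [← h2, mul_comm]⟩
      exact (Nat.pow_dvd_pow_iff_le_right hp.one_lt).mp h3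
    have h3 : p ^ n = p ^ (n - r) * p ^ r := by rw [← pow_add, Nat.sub_add_cancel hrn]
    rw [h3] at h2
    exact Nat.eq_of_mul_eq_mul_right (pow_pos hp.pos r) h2
  let S : SubMulAction A (T → P) :=
    { carrier := {t | ∀ i : T, t i * (i : P)⁻¹ ∈ frattini P}
      smul_mem' := by
        intro a t ht i
        have h2 : (a • t) i = (a : MulAut P) (t i) := rfl
        rw [h2]
        have h3 := hA a a.2 (t i)
        have e : (a : MulAut P) (t i) * (i : P)⁻¹
            = ((a : MulAut P) (t i) * (t i)⁻¹) * (t i * (i : P)⁻¹) := by group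
        rw [e]
        exact (frattini P).mul_mem h3 (ht i) }
  have hScard : Nat.card S = p ^ (r * (n - r)) := by
    have e : S ≃ (T → frattini P) :=
      { toFun := fun t i => ⟨t.1 i * (i : P)⁻¹, t.2 i⟩
        invFun := fun f => ⟨fun i => (f i : P) * (i : P), fun i => by
          show (f i : P) * (i : P) * (i : P)⁻¹ ∈ frattini P
          rw [mul_inv_cancel_right]; exact (f i).2⟩
        left_inv := fun t => by
          apply Subtype.ext; funext i
          show t.1 i * (i : P)⁻¹ * (i : P) = t.1 i
          rw [inv_mul_cancel_right]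
        right_inv := fun f => by
          funext i; apply Subtype.ext
          show (f i : P) * (i : P) * (i : P)⁻¹ = f i
          rw [mul_inv_cancel_right] }
    rw [Nat.card_congr e, Nat.card_fun, hΦ, Nat.card_eq_fintype_card (α := T), Fintype.card_coe,
      hTcard, ← pow_mul, mul_comm]
  rw [← hScard]
  apply card_dvd_of_free
  intro a t hat
  have hfix : ∀ i : T, (a : MulAut P) (t.1 i) = t.1 i := by
    intro i
    exact congrArg (fun s : S => s.1 i) hat
  have hgen : Subgroup.closure (Set.range t.1) = ⊤ := by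
    apply frattini_nongenerating
    rw [eq_top_iff, ← hT, Subgroup.closure_le]
    intro x hx
    have hxT : x ∈ T := hx
    have h2 := t.2 ⟨x, hxT⟩
    have h3 : t.1 ⟨x, hxT⟩ ∈ Subgroup.closure (Set.range t.1) :=
      Subgroup.subset_closure ⟨_, rfl⟩
    have e : x = (t.1 ⟨x, hxT⟩ * x⁻¹)⁻¹ * t.1 ⟨x, hxT⟩ := by group
    rw [e]
    exact Subgroup.mul_mem _ (Subgroup.mem_sup_right ((frattini P).inv_mem h2))
      (Subgroup.mem_sup_left h3)
  have hmon : MulEquiv.toMonoidHom (a : MulAut P) = MonoidHom.id P := by
    apply MonoidHom.eq_of_eqOn_dense hgen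
    rintro _ ⟨i, rfl⟩
    exact hfix i
  apply Subtype.ext
  ext x
  exact DFunLike.congr_fun hmon x

end Cfsg.Agent.S4207
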