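import Mathlib
import Cfsg.Statements.S4218
import Mathlib
import Cfsg.Agent.S4207
import Cfsg.Agent.Lib.Lead.PFrat
import Cfsg.Agent.Lib.Lead.PCore2
import Cfsg.Agent.Lib.Lead.Fitting2
import Cfsg.Agent.Lib.Helper3.HallHigman
import Cfsg.Agent.Lib.Helper3.PSolv
import Cfsg.Agent.Lib.Helper3.Cores
import Cfsg.Agent.Lib.Helper3.PPrimeP

set_option autoImplicit false
open Cfsg

namespace Cfsg.Agent.S4218



open scoped commutatorElement

section aux

/-- automorphisms acting trivially on the Frattini quotient -/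
def fratKer (R : Type*) [Group R] : Subgroup (MulAut R) where
  carrier := {α | ∀ r : R, α r * r⁻¹ ∈ frattini R}
  one_mem' := by intro r; simp
  mul_mem' := by
    intro α β hα hβ r
    have : (α * β) r * r⁻¹ = (α (β r) * (β r)⁻¹) * (β r * r⁻¹) := by
      rw [MulAut.mul_apply]; group
    rw [this]
    exact Subgroup.mul_mem _ (hα _) (hβ _)
  inv_mem' := by
    intro α hα r
    have h := hα (α⁻¹ r)
    have e : α (α⁻¹ r) = r := by simp
    rw [e] at h
    have : α⁻¹ r * r⁻¹ = (r * (α⁻¹ r)⁻¹)⁻¹ := by group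
    rw [this]
    exact Subgroup.inv_mem _ h

theorem mem_fratKer {R : Type*} [Group R] (α : MulAut R) :
    α ∈ fratKer R ↔ ∀ r : R, α r * r⁻¹ ∈ frattini R := Iff.rfl

instance fratKer_normal (R : Type*) [Group R] : (fratKer R).Normal := by
  constructor
  intro α hα β r
  have e : (β * α * β⁻¹) r * r⁻¹ = β (α (β⁻¹ r) * (β⁻¹ r)⁻¹) := by
    rw [MulAut.mul_apply, MulAut.mul_apply, map_mul, map_inv]; simp
  rw [e]
  have hchar : (frattini R).Characteristic := frattini_characteristic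
  have h1 : α (β⁻¹ r) * (β⁻¹ r)⁻¹ ∈ (frattini R).comap β.toMonoidHom := by
    rw [hchar.fixed β]
    exact hα _
  exact h1

theorem fratKer_isPGroup {R : Type*} [Group R] [Finite R] {p : ℕ} [Fact p.Prime]
    (hR : IsPGroup p R) : IsPGroup p (fratKer R) := by
  obtain ⟨n, hn⟩ := IsPGroup.iff_card.mp hR
  have h1 : (frattini R).index ∣ p ^ n := hn ▸ Subgroup.index_dvd_card _
  obtain ⟨r, -, hr⟩ := (Nat.dvd_prime_pow Fact.out).mp h1
  have h2 := Cfsg.Agent.S4207.result hn hr (fratKer R) (fun α hα x => hα x)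
  obtain ⟨j, -, hj⟩ := (Nat.dvd_prime_pow Fact.out).mp h2
  exact IsPGroup.of_card hj

end aux

section general

variable {G : Type*} [Group G] (N₀ P₁ : Subgroup G) [hN₀ : N₀.Normal] [hP₁ : P₁.Normal]

theorem map_conjNormal (g : G) :
    (N₀.subgroupOf P₁).map ((MulAut.conjNormal g : ↥P₁ ≃* ↥P₁) : ↥P₁ →* ↥P₁) = N₀.subgroupOf P₁ := by
  ext y
  rw [Subgroup.mem_map, Subgroup.mem_subgroupOf]
  constructor
  · rintro ⟨z, hz, rfl⟩
    rw [Subgroup.mem_subgroupOf] at hz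
    show ((MulAut.conjNormal g z : ↥P₁) : G) ∈ N₀
    rw [MulAut.conjNormal_apply]
    exact hN₀.conj_mem _ hz g
  · intro hy
    refine ⟨(MulAut.conjNormal g : ↥P₁ ≃* ↥P₁).symm y, ?_, ?_⟩
    · rw [Subgroup.mem_subgroupOf, MulAut.conjNormal_symm_apply]
      have := hN₀.conj_mem _ hy g⁻¹
      simpa using this
    · exact MulEquiv.apply_symm_apply _ y

/-- the conjugation action of `G` on `P₁ / (N₀ ∩ P₁)` -/
def Phi : G →* MulAut (↥P₁ ⧸ N₀.subgroupOf P₁) where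
  toFun g := QuotientGroup.congr (N₀.subgroupOf P₁) (N₀.subgroupOf P₁) (MulAut.conjNormal g)
    (map_conjNormal N₀ P₁ g)
  map_one' := by
    ext r
    induction r using QuotientGroup.induction_on with
    | H x =>
      rw [QuotientGroup.congr_mk, map_one]
      rfl
  map_mul' g h := by
    ext r
    induction r using QuotientGroup.induction_on with
    | H x =>
      rw [MulAut.mul_apply, QuotientGroup.congr_mk, QuotientGroup.congr_mk,
        QuotientGroup.congr_mk, map_mul, MulAut.mul_apply]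

theorem Phi_mk (g : G) (x : ↥P₁) :
    Phi N₀ P₁ g (x : ↥P₁ ⧸ N₀.subgroupOf P₁) =
      ((MulAut.conjNormal g x : ↥P₁) : ↥P₁ ⧸ N₀.subgroupOf P₁) := rfl

theorem general [Finite G] {p : ℕ} [Fact p.Prime]
    (h1 : ∀ x ∈ P₁, ∃ k : ℕ, x ^ p ^ k ∈ N₀)
    (h2 : ∀ g : G, (∀ x ∈ P₁, g * x * g⁻¹ * x⁻¹ ∈ N₀) → g ∈ P₁)
    (h3 : ∀ C : Subgroup G, C.Normal → (∀ c ∈ C, ∃ k : ℕ, c ^ p ^ k ∈ N₀) → C ≤ P₁) (g : G) :
    (∀ x ∈ P₁, g * x * g⁻¹ * x⁻¹ ∈ ((frattini (↥P₁ ⧸ N₀.subgroupOf P₁)).comap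
        (QuotientGroup.mk' (N₀.subgroupOf P₁))).map P₁.subtype) ↔ g ∈ P₁ := by
  set K := N₀.subgroupOf P₁ with hK
  have hR : IsPGroup p (↥P₁ ⧸ K) := by
    intro r
    induction r using QuotientGroup.induction_on with
    | H x =>
      obtain ⟨k, hk⟩ := h1 x x.2
      refine ⟨k, ?_⟩
      rw [← QuotientGroup.mk_pow, QuotientGroup.eq_one_iff, hK, Subgroup.mem_subgroupOf]
      simpa using hk
  have hT : IsPGroup p (fratKer (↥P₁ ⧸ K)) := fratKer_isPGroup hR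
  have hF : ∀ (y : G) (hy : y ∈ P₁),
      y ∈ ((frattini (↥P₁ ⧸ K)).comap (QuotientGroup.mk' K)).map P₁.subtype ↔
      ((⟨y, hy⟩ : ↥P₁) : ↥P₁ ⧸ K) ∈ frattini (↥P₁ ⧸ K) := by
    intro y hy
    constructor
    · rintro ⟨z, hz, hzy⟩
      have : z = ⟨y, hy⟩ := Subtype.ext hzy
      rw [← this]
      exact hz
    · intro h
      exact ⟨⟨y, hy⟩, h, rfl⟩
  have hmem : ∀ (g : G) (x : G), x ∈ P₁ → g * x * g⁻¹ * x⁻¹ ∈ P₁ := fun g x hx =>
    P₁.mul_mem (hP₁.conj_mem _ hx g) (P₁.inv_mem hx)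
  have he : ∀ (g : G) (x : ↥P₁),
      Phi N₀ P₁ g (x : ↥P₁ ⧸ K) * (x : ↥P₁ ⧸ K)⁻¹ =
        ((⟨g * x * g⁻¹ * (x : G)⁻¹, hmem g x x.2⟩ : ↥P₁) : ↥P₁ ⧸ K) := by
    intro g x
    rw [Phi_mk, ← QuotientGroup.mk_inv, ← QuotientGroup.mk_mul]
    congr 1
  have hcond : ∀ g : G, (∀ x ∈ P₁, g * x * g⁻¹ * x⁻¹ ∈
      ((frattini (↥P₁ ⧸ K)).comap (QuotientGroup.mk' K)).map P₁.subtype) ↔
      Phi N₀ P₁ g ∈ fratKer (↥P₁ ⧸ K) := by
    intro g
    constructor
    · intro h r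
      induction r using QuotientGroup.induction_on with
      | H x =>
        have hx := h x x.2
        rw [hF _ (hmem g x x.2)] at hx
        rw [he g x]
        exact hx
    · intro h x hx
      rw [hF _ (hmem g x hx)]
      have h' := h ((⟨x, hx⟩ : ↥P₁) : ↥P₁ ⧸ K)
      rw [he g ⟨x, hx⟩] at h'
      exact h'
  rw [hcond]
  constructor
  · intro hg
    set C := (fratKer (↥P₁ ⧸ K)).comap (Phi N₀ P₁) with hC
    have hCn : C.Normal := Subgroup.Normal.comap inferInstance _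
    have hgC : g ∈ C := hg
    refine h3 C hCn ?_ hgC
    intro c hc
    obtain ⟨a, ha⟩ := hT ⟨Phi N₀ P₁ c, hc⟩
    have ha' : Phi N₀ P₁ (c ^ p ^ a) = 1 := by
      rw [map_pow]
      have := congrArg Subtype.val ha
      simpa using this
    have hcP : c ^ p ^ a ∈ P₁ := by
      apply h2
      intro x hx
      have h4 := he (c ^ p ^ a) ⟨x, hx⟩
      rw [ha'] at h4
      have h5 : ((⟨c ^ p ^ a * x * (c ^ p ^ a)⁻¹ * x⁻¹, hmem _ x hx⟩ : ↥P₁) : ↥P₁ ⧸ K) = 1 := by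
        rw [← h4]; simp
      rw [QuotientGroup.eq_one_iff, hK, Subgroup.mem_subgroupOf] at h5
      exact h5
    obtain ⟨b, hb⟩ := h1 _ hcP
    exact ⟨a + b, by rw [pow_add, pow_mul]; exact hb⟩
  · intro hg r
    induction r using QuotientGroup.induction_on with
    | H x =>
      rw [he g x]
      have hcomm := (Cfsg.Agent.Lib.Lead.commutator_le_frattini_and_pow_mem hR).1
      apply hcomm
      have : ((⟨g * x * g⁻¹ * (x : G)⁻¹, hmem g x x.2⟩ : ↥P₁) : ↥P₁ ⧸ K) =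
          ⁅((⟨g, hg⟩ : ↥P₁) : ↥P₁ ⧸ K), (x : ↥P₁ ⧸ K)⁆ := by
        rw [commutatorElement_def, ← QuotientGroup.mk_mul, ← QuotientGroup.mk_inv,
          ← QuotientGroup.mk_mul, ← QuotientGroup.mk_inv, ← QuotientGroup.mk_mul]
        congr 1
      rw [this]
      exact Subgroup.commutator_mem_commutator (Subgroup.mem_top _) (Subgroup.mem_top _)

end general

/-- Let `G` be a finite `p`-solvable group, `N₀ = O_{p'}(G)`, `P₁ = O_{p',p}(G)`, and let `F ≤ P₁` be the preimage of the Frattini subgroup of `P₁/N₀`. Then an element `g` of `G` induces the identity on `P₁/F` by conjugation (that is, `g x g⁻¹ x⁻¹ ∈ F` for all `x ∈ P₁`) if and only if `g ∈ P₁`: the group `G/P₁` acts faithfully on `P₁/F`. -/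
theorem result {G : Type*} [Group G] [Finite G] {p : ℕ} [Fact p.Prime] (hG : Cfsg.IsPSolvable p G) (g : G) : (∀ x ∈ Cfsg.pPrimePCore p G, g * x * g⁻¹ * x⁻¹ ∈ ((frattini (↥(Cfsg.pPrimePCore p G) ⧸ (Cfsg.pPrimeCore p G).subgroupOf (Cfsg.pPrimePCore p G))).comap (QuotientGroup.mk' ((Cfsg.pPrimeCore p G).subgroupOf (Cfsg.pPrimePCore p G)))).map (Cfsg.pPrimePCore p G).subtype) ↔ g ∈ Cfsg.pPrimePCore p G := by
  haveI : (Cfsg.pPrimePCore p G).Normal := Cfsg.Agent.Lib.Helper3.pPrimePCore_normal' p G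
  apply general (p := p) (Cfsg.pPrimeCore p G) (Cfsg.pPrimePCore p G)
  · intro x hx
    have hx' : (QuotientGroup.mk' (Cfsg.pPrimeCore p G)) x ∈
        Cfsg.pCore p (G ⧸ Cfsg.pPrimeCore p G) := hx
    obtain ⟨k, hk⟩ := (Cfsg.Agent.Lib.Lead.pCore_isPGroup' (G := G ⧸ Cfsg.pPrimeCore p G) p)
      ⟨_, hx'⟩
    refine ⟨k, ?_⟩
    rw [← QuotientGroup.eq_one_iff]
    have := congrArg Subtype.val hk
    simpa using this
  · intro g hg
    show (QuotientGroup.mk' (Cfsg.pPrimeCore p G)) g ∈ Cfsg.pCore p (G ⧸ Cfsg.pPrimeCore p G)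
    apply Cfsg.Agent.Lib.Helper3.centralizer_pCore_le_of_isPSolvable
      (Cfsg.Agent.Lib.Helper3.isPSolvable_quotient p _ hG)
      (Cfsg.Agent.Lib.Lead.pPrimeCore_quotient p)
    rw [Subgroup.mem_centralizer_iff]
    intro q hq
    obtain ⟨x, rfl⟩ := QuotientGroup.mk'_surjective _ q
    have hx : x ∈ Cfsg.pPrimePCore p G := hq
    have h := hg x hx
    rw [← QuotientGroup.eq_one_iff] at h
    have h' : (QuotientGroup.mk' (Cfsg.pPrimeCore p G)) g * (QuotientGroup.mk' (Cfsg.pPrimeCore p G)) x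
        * ((QuotientGroup.mk' (Cfsg.pPrimeCore p G)) g)⁻¹ *
          ((QuotientGroup.mk' (Cfsg.pPrimeCore p G)) x)⁻¹ = 1 := h
    have h'' := mul_inv_eq_one.mp h'
    rw [mul_inv_eq_iff_eq_mul] at h''
    exact h''.symm
  · intro C hCn hC
    have hle : C.map (QuotientGroup.mk' (Cfsg.pPrimeCore p G)) ≤
        Cfsg.pCore p (G ⧸ Cfsg.pPrimeCore p G) := by
      haveI := hCn.map (QuotientGroup.mk' (Cfsg.pPrimeCore p G)) (QuotientGroup.mk'_surjective _)
      apply Cfsg.Agent.Lib.Helper3.le_pCore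
      rintro ⟨_, c, hc, rfl⟩
      obtain ⟨k, hk⟩ := hC c hc
      refine ⟨k, ?_⟩
      apply Subtype.ext
      have : ((QuotientGroup.mk' (Cfsg.pPrimeCore p G)) c) ^ p ^ k = 1 := by
        rw [← map_pow]
        exact (QuotientGroup.eq_one_iff _).mpr hk
      simpa using this
    intro c hc
    exact hle ⟨c, hc, rfl⟩

end Cfsg.Agent.S4218
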