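import Cfsg.Statements.S4227
import Cfsg.Agent.Lib.Helper2.Exp6b

set_option autoImplicit false
open Cfsg

namespace Cfsg.Agent.S4227

theorem result {G : Type*} [Group G] [Finite G] (h : ∀ x : G, x ^ 6 = 1) : Cfsg.PLengthLE 2 1 G ∧ Cfsg.PLengthLE 3 1 G := by
  haveI : Fact (Nat.Prime 3) := ⟨Nat.prime_three⟩
  haveI : Fact (Nat.Prime 2) := ⟨Nat.prime_two⟩
  have hsolv := Cfsg.Agent.Lib.Helper2.Exp6.solvable_of_exp6 h
  constructor
  · obtain ⟨S⟩ : Nonempty (Sylow 2 G) := inferInstance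
    apply Cfsg.Agent.Lib.Helper2.Comp.pLengthLE_of_nilpotencyClass_le 1 G
      (Cfsg.Agent.Lib.Helper7.PDeg.isPSolvable_of_isSolvable 2 _ G rfl hsolv) S
    haveI : Group.IsNilpotent ↥(S : Subgroup G) := S.isPGroup'.isNilpotent
    apply Group.IsNilpotent.nilpotencyClass_le_one_iff.mpr
    refine ⟨⟨fun x y => ?_⟩⟩
    have hsq : ∀ z : ↥(S : Subgroup G), z ^ 2 = 1 := by
      intro z
      obtain ⟨k, hk⟩ := S.isPGroup' z
      apply Subtype.ext
      exact Cfsg.Agent.Lib.Helper2.Exp6.sq_eq_one_of_two_pow (z : G) k (congrArg Subtype.val hk) (h _)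
    exact Cfsg.Agent.Lib.Helper2.Exp6.comm_of_sq x y (hsq x) (hsq y) (hsq _)
  · show (Cfsg.upperPSeries 3 G (2 * 1 + 1)).1 = ⊤
    have e3 : (Cfsg.upperPSeries 3 G 3).1 =
        (Cfsg.pPrimeCore 3 (G ⧸ (Cfsg.upperPSeries 3 G 2).1)).comap (QuotientGroup.mk' _) :=
      Cfsg.Agent.Lib.Helper2.Comp.upperPSeries_succ_even 3 2 (by decide)
    rw [show 2 * 1 + 1 = 3 from rfl, e3]
    have hidx : ((Cfsg.upperPSeries 3 G 2).1).index.Coprime 3 := by
      rw [Cfsg.Agent.Lib.Helper2.Comp.upperPSeries_two 3]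
      show ((Cfsg.pCore 3 (G ⧸ Cfsg.pPrimeCore 3 G)).comap
        (QuotientGroup.mk' (Cfsg.pPrimeCore 3 G))).index.Coprime 3
      rw [Subgroup.index_comap_of_surjective _ (QuotientGroup.mk'_surjective _)]
      apply Cfsg.Agent.Lib.Helper2.Exp6.index_pCore_coprime
      · intro y
        obtain ⟨g, rfl⟩ := QuotientGroup.mk_surjective y
        rw [← QuotientGroup.mk_pow, h]; rfl
      · exact Cfsg.Agent.Lib.Helper2.Comp.pPrimeCore_quotient_comap 3 ⊥ (Cfsg.pPrimeCore 3 G)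
          (Cfsg.Agent.Lib.Helper2.Comp.comap_mk_bot_pPrimeCore 3 ⊥ rfl).symm
    have htop : Cfsg.pPrimeCore 3 (G ⧸ (Cfsg.upperPSeries 3 G 2).1) = ⊤ := by
      rw [eq_top_iff]
      apply Cfsg.Agent.Lib.Helper2.Comp.le_pPrimeCore inferInstance
      rw [Subgroup.card_top, ← Subgroup.index_eq_card]; exact hidx
    rw [htop, Subgroup.comap_top]

end Cfsg.Agent.S4227
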