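import Mathlib
import Cfsg.Statements.S4314

set_option autoImplicit false
open Cfsg

namespace Cfsg.Agent.S4314

open scoped commutatorElement

section aux

variable {G : Type*} [Group G]

theorem comm_mem_of_prime_index (N : Subgroup G) [N.Normal] (hN : N.index.Prime) (a b : G) :
    a * b * a⁻¹ * b⁻¹ ∈ N := by
  haveI : Fact N.index.Prime := ⟨hN⟩
  have hcard : Nat.card (G ⧸ N) = N.index := (Subgroup.index_eq_card N).symm
  haveI : IsCyclic (G ⧸ N) := isCyclic_of_prime_card hcard
  have hc := (IsCyclic.isMulCommutative (α := G ⧸ N)).is_comm.comm (a : G ⧸ N) (b : G ⧸ N)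
  rw [← QuotientGroup.eq_one_iff]
  have h1 : ((a * b * a⁻¹ * b⁻¹ : G) : G ⧸ N) = (a : G ⧸ N) * b * (a : G ⧸ N)⁻¹ * (b : G ⧸ N)⁻¹ :=
    rfl
  rw [h1, hc]
  group

theorem centralizer_eq_top_iff (x : G) :
    Subgroup.centralizer ({x} : Set G) = ⊤ ↔ x ∈ Subgroup.center G := by
  constructor
  · intro h
    rw [Subgroup.mem_center_iff]
    intro g
    have h1 : g ∈ Subgroup.centralizer ({x} : Set G) := by rw [h]; trivial
    rw [Subgroup.mem_centralizer_iff] at h1
    exact (h1 x rfl).symm
  · intro h
    rw [eq_top_iff]
    intro g _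
    rw [Subgroup.mem_centralizer_iff]
    intro y hy
    rw [Set.mem_singleton_iff] at hy
    rw [hy]
    exact (Subgroup.mem_center_iff.mp h g).symm

/-- a `p`-subgroup not inside a subgroup of index `p` acts transitively on its cosets -/
theorem exists_mul_of_index_prime [Finite G] {p : ℕ} (hp : p.Prime) (H U : Subgroup G)
    (hH : H.index = p) (hU : IsPGroup p U) (hUH : ¬ U ≤ H) :
    H.relIndex U = p ∧ ∀ g : G, ∃ w ∈ U, w⁻¹ * g ∈ H := by
  haveI : Fact p.Prime := ⟨hp⟩
  have h1 : H.relIndex U = p := by
    have hd : H.relIndex U ∣ Nat.card U := Subgroup.relIndex_dvd_card H U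
    obtain ⟨n, hn⟩ := IsPGroup.iff_card.mp hU
    rw [hn] at hd
    obtain ⟨j, -, hj⟩ := (Nat.dvd_prime_pow hp).mp hd
    have hne : H.relIndex U ≠ 1 := fun h => hUH (Subgroup.relIndex_eq_one.mp h)
    have hle : H.relIndex U ≤ p := by
      have h2 := Subgroup.relIndex_le_of_le_right (H := H) (le_top : U ≤ ⊤)
        (by rw [Subgroup.relIndex_top_right, hH]; exact hp.ne_zero)
      rwa [Subgroup.relIndex_top_right, hH] at h2
    rw [hj] at hne hle ⊢
    have hj0 : j ≠ 0 := by
      intro h; apply hne; rw [h, pow_zero]
    have hj1 : j ≤ 1 := by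
      by_contra hcon
      push Not at hcon
      have h3 : p ^ 2 ≤ p ^ j := Nat.pow_le_pow_right hp.pos hcon
      have h4 : p < p ^ 2 := by
        have := hp.one_lt
        nlinarith
      omega
    have hj' : j = 1 := by omega
    rw [hj', pow_one]
  refine ⟨h1, ?_⟩
  have hstab : MulAction.stabilizer U ((1 : G) : G ⧸ H) = H.subgroupOf U := by
    ext u
    rw [MulAction.mem_stabilizer_iff, Subgroup.mem_subgroupOf]
    have h0 : u • ((1 : G) : G ⧸ H) = (((u : G) * 1 : G) : G ⧸ H) := rfl
    rw [h0, QuotientGroup.eq]
    constructor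
    · intro h
      have h2 := H.inv_mem h
      simpa using h2
    · intro h
      have h2 := H.inv_mem h
      simpa using h2
  have horb : (MulAction.orbit U ((1 : G) : G ⧸ H)).ncard = p := by
    rw [← MulAction.index_stabilizer, hstab]
    exact h1
  have huniv : MulAction.orbit U ((1 : G) : G ⧸ H) = Set.univ := by
    rw [Set.eq_univ_iff_ncard, horb, ← Subgroup.index_eq_card, hH]
  intro g
  have hg : (g : G ⧸ H) ∈ MulAction.orbit U ((1 : G) : G ⧸ H) := by rw [huniv]; trivial
  obtain ⟨u, hu0⟩ := hg
  have hu : u • ((1 : G) : G ⧸ H) = (g : G ⧸ H) := hu0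
  have h0 : u • ((1 : G) : G ⧸ H) = (((u : G) * 1 : G) : G ⧸ H) := rfl
  rw [h0, mul_one] at hu
  exact ⟨u, u.2, QuotientGroup.eq.mp hu⟩

end aux

/-- Let `G` be a finite group every conjugacy class of which has size 1 or a prime. Then either `G` is nilpotent of class at most 2, or `G/Z(G)` is a non-abelian group of order `pq` for distinct primes `p, q` (a Frobenius group of order `pq`). -/
theorem result {G : Type*} [Group G] [Finite G]
    (h : ∀ x : G, (Subgroup.centralizer ({x} : Set G)).index = 1 ∨ ((Subgroup.centralizer ({x} : Set G)).index).Prime) :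
    Subgroup.upperCentralSeries G 2 = ⊤ ∨
      ∃ p q : ℕ, p.Prime ∧ q.Prime ∧ p ≠ q ∧ Nat.card (G ⧸ Subgroup.center G) = p * q ∧ ¬ IsMulCommutative (G ⧸ Subgroup.center G) := by
  classical
  by_cases hall : ∀ x : G, (Subgroup.centralizer ({x} : Set G)).Normal
  · left
    rw [eq_top_iff]
    intro y _
    rw [Subgroup.mem_upperCentralSeries_succ_iff]
    intro x
    rw [Subgroup.upperCentralSeries_one, Subgroup.mem_center_iff]
    intro z
    have hz : ⁅y, x⁆ ∈ Subgroup.centralizer ({z} : Set G) := by
      haveI := hall z
      rcases h z with h1 | h1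
      · rw [Subgroup.index_eq_one.mp h1]; trivial
      · rw [commutatorElement_def]
        exact comm_mem_of_prime_index _ h1 y x
    rw [Subgroup.mem_centralizer_iff] at hz
    exact hz z rfl
  · right
    push Not at hall
    obtain ⟨x₀, hx₀⟩ := hall
    set H := Subgroup.centralizer ({x₀} : Set G) with hH
    have hHidx : H.index.Prime := by
      rcases h x₀ with h1 | h1
      · exfalso
        apply hx₀
        have h2 : H = ⊤ := Subgroup.index_eq_one.mp h1
        rw [h2]
        infer_instance
      · exact h1
    set p := H.index with hp_def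
    haveI : Fact p.Prime := ⟨hHidx⟩
    have hp : p.Prime := hHidx
    set K := H.normalCore with hK
    have hKH : K ≤ H := H.normalCore_le
    have hZH : Subgroup.center G ≤ H := by
      intro z hz
      rw [hH, Subgroup.mem_centralizer_iff]
      intro y hy
      rw [Set.mem_singleton_iff] at hy
      rw [hy]
      exact Subgroup.mem_center_iff.mp hz x₀
    have hZK : Subgroup.center G ≤ K := Subgroup.normal_le_normalCore.mpr hZH
    have hKmem : ∀ a : G, a ∈ K ↔ ∀ b : G, b * a * b⁻¹ ∈ H := fun a => Iff.rfl
    have hKn : K.Normal := H.normalCore_normal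
    have hKneH : K ≠ H := by
      intro h
      apply hx₀
      rw [← h]
      exact hKn
    -- maximality of H
    have hmax : ∀ C : Subgroup G, H ≤ C → C ≤ H ∨ C = ⊤ := by
      intro C hC
      have h1 : C.index ∣ p := Subgroup.index_dvd_of_le hC
      rcases (Nat.dvd_prime hp).mp h1 with h2 | h2
      · right; exact Subgroup.index_eq_one.mp h2
      · left
        have h3 := Subgroup.relIndex_mul_index hC
        rw [h2] at h3
        have h4 : H.relIndex C = 1 := by
          have h5 : H.relIndex C * p = 1 * p := by rw [one_mul]; exact h3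
          exact Nat.eq_of_mul_eq_mul_right hp.pos h5
        exact Subgroup.relIndex_eq_one.mp h4
    -- a p-element outside H
    obtain ⟨P⟩ : Nonempty (Sylow p G) := inferInstance
    have hPH : ¬ (P : Subgroup G) ≤ H := by
      intro hle
      have h1 : H.index ∣ (P : Subgroup G).index := Subgroup.index_dvd_of_le hle
      exact P.not_dvd_index h1
    obtain ⟨u, huP, huH⟩ := Set.not_subset.mp hPH
    set U := Subgroup.zpowers u with hU
    have hUp : IsPGroup p U := P.2.to_le (by rw [hU, Subgroup.zpowers_le]; exact huP)
    have hUH : ¬ U ≤ H := fun hle => huH (hle (Subgroup.mem_zpowers u))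
    obtain ⟨hrel, hprod⟩ := exists_mul_of_index_prime hp H U rfl hUp hUH
    have hUcomm : ∀ a ∈ U, ∀ b ∈ U, a * b = b * a := by
      intro a ha b hb
      obtain ⟨i, rfl⟩ := Subgroup.mem_zpowers_iff.mp ha
      obtain ⟨j, rfl⟩ := Subgroup.mem_zpowers_iff.mp hb
      rw [← zpow_add, ← zpow_add, add_comm]
    -- elements of H commuting with U lie in K
    have hHK : ∀ d ∈ H, (∀ w ∈ U, w * d = d * w) → d ∈ K := by
      intro d hd hdw
      rw [hKmem]
      intro g
      obtain ⟨w, hw, hwg⟩ := hprod g⁻¹
      have h1 : w * d = d * w := hdw w hw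
      have h1' : w⁻¹ * d * w = d := by
        calc w⁻¹ * d * w = w⁻¹ * (d * w) := by group
          _ = w⁻¹ * (w * d) := by rw [h1]
          _ = d := by group
      have e : g * d * g⁻¹ = (w⁻¹ * g⁻¹)⁻¹ * (w⁻¹ * d * w) * (w⁻¹ * g⁻¹) := by group
      rw [e, h1']
      exact H.mul_mem (H.mul_mem (H.inv_mem hwg) hd) hwg
    have hUHK : U ⊓ H ≤ K := by
      intro d hd
      exact hHK d hd.2 (fun w hw => hUcomm w hw d hd.1)
    -- the subgroup L
    set L := K ⊔ U with hL
    have hcentL : Subgroup.centralizer ({u} : Set G) ≤ L := by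
      intro c hc
      rw [Subgroup.mem_centralizer_iff] at hc
      have hcu : u * c = c * u := hc u rfl
      obtain ⟨w, hw, hwc⟩ := hprod c
      have hcw : ∀ w' ∈ U, w' * c = c * w' := by
        intro w' hw'
        obtain ⟨i, rfl⟩ := Subgroup.mem_zpowers_iff.mp hw'
        exact ((show Commute u c from hcu).zpow_left i).eq
      have hd : w⁻¹ * c ∈ K := by
        apply hHK _ hwc
        intro w' hw'
        have h1 := hUcomm w' hw' w⁻¹ (U.inv_mem hw)
        calc w' * (w⁻¹ * c) = (w' * w⁻¹) * c := by group
          _ = (w⁻¹ * w') * c := by rw [h1]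
          _ = w⁻¹ * (w' * c) := by group
          _ = w⁻¹ * (c * w') := by rw [hcw w' hw']
          _ = w⁻¹ * c * w' := by group
      have e : c = (w⁻¹ * c) * ((w⁻¹ * c)⁻¹ * w * (w⁻¹ * c)) := by group
      have h2 : (w⁻¹ * c)⁻¹ * w * (w⁻¹ * c) = w := by
        have h3 := hcw w hw
        calc (w⁻¹ * c)⁻¹ * w * (w⁻¹ * c) = c⁻¹ * (w * c) := by group
          _ = c⁻¹ * (c * w) := by rw [h3]
          _ = w := by group
      rw [e, h2]
      exact Subgroup.mul_mem _ (Subgroup.mem_sup_left hd) (Subgroup.mem_sup_right hw)
    have huZ : u ∉ Subgroup.center G := fun hz => huH (hZH hz)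
    have hq' : ((Subgroup.centralizer ({u} : Set G)).index).Prime := by
      rcases h u with h1 | h1
      · exfalso
        exact huZ ((centralizer_eq_top_iff u).mp (Subgroup.index_eq_one.mp h1))
      · exact h1
    have hKL : K ≤ L := le_sup_left
    have hrelKL : K.relIndex L = p := by
      rw [hL, Subgroup.relIndex_sup_left, ← Subgroup.inf_relIndex_right]
      have h1 : K ⊓ U = H ⊓ U := by
        apply le_antisymm
        · exact inf_le_inf_right U hKH
        · intro d hd
          exact ⟨hUHK ⟨hd.2, hd.1⟩, hd.2⟩
      rw [h1, Subgroup.inf_relIndex_right]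
      exact hrel
    have hKidx : K.index = p * L.index := by
      rw [← Subgroup.relIndex_mul_index hKL, hrelKL]
    have hLidx : L.index.Prime := by
      have h1 : L.index ∣ (Subgroup.centralizer ({u} : Set G)).index :=
        Subgroup.index_dvd_of_le hcentL
      rcases (Nat.dvd_prime hq').mp h1 with h2 | h2
      · exfalso
        apply hKneH
        rw [h2, mul_one] at hKidx
        have h3 := Subgroup.relIndex_mul_index hKH
        rw [hKidx] at h3
        have h4 : K.relIndex H = 1 := by
          have h5 : K.relIndex H * p = 1 * p := by rw [one_mul]; exact h3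
          exact Nat.eq_of_mul_eq_mul_right hp.pos h5
        exact le_antisymm hKH (Subgroup.relIndex_eq_one.mp h4)
      · rw [h2]; exact hq'
    set q := L.index with hq_def
    have hq : q.Prime := hLidx
    have hrelKH : K.relIndex H = q := by
      have h3 := Subgroup.relIndex_mul_index hKH
      rw [hKidx] at h3
      have h5 : K.relIndex H * p = q * p := by rw [h3, mul_comm]
      exact Nat.eq_of_mul_eq_mul_right hp.pos h5
    -- commutators of H lie in K
    have hcommHK : ∀ a ∈ H, ∀ b ∈ H, a * b * a⁻¹ * b⁻¹ ∈ K := by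
      intro a ha b hb
      haveI : (K.subgroupOf H).Normal := Subgroup.Normal.subgroupOf hKn H
      have h1 : (K.subgroupOf H).index.Prime := by
        show (K.relIndex H).Prime
        rw [hrelKH]; exact hq
      have h2 := comm_mem_of_prime_index (K.subgroupOf H) h1 ⟨a, ha⟩ ⟨b, hb⟩
      rw [Subgroup.mem_subgroupOf] at h2
      exact h2
    -- centralizers of elements of H outside K
    have hcentH : ∀ g ∈ H, g ∉ K → ∀ a ∈ H, a * g = g * a := by
      intro g hgH hgK
      let Cs : Subgroup G :=
        { carrier := {c | c * g * c⁻¹ * g⁻¹ ∈ K}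
          mul_mem' := by
            intro c c' hc hc'
            have e : (c * c') * g * (c * c')⁻¹ * g⁻¹
                = (c * (c' * g * c'⁻¹ * g⁻¹) * c⁻¹) * (c * g * c⁻¹ * g⁻¹) := by group
            show (c * c') * g * (c * c')⁻¹ * g⁻¹ ∈ K
            rw [e]
            exact K.mul_mem (hKn.conj_mem _ hc' c) hc
          one_mem' := by
            show (1 : G) * g * 1⁻¹ * g⁻¹ ∈ K
            have e : (1 : G) * g * 1⁻¹ * g⁻¹ = 1 := by group
            rw [e]; exact K.one_mem
          inv_mem' := by
            intro c hc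
            have e : c⁻¹ * g * c⁻¹⁻¹ * g⁻¹ = c⁻¹ * (c * g * c⁻¹ * g⁻¹)⁻¹ * c⁻¹⁻¹ := by group
            show c⁻¹ * g * c⁻¹⁻¹ * g⁻¹ ∈ K
            rw [e]
            exact hKn.conj_mem _ (K.inv_mem hc) c⁻¹ }
      have hCsmem : ∀ c : G, c ∈ Cs ↔ c * g * c⁻¹ * g⁻¹ ∈ K := fun c => Iff.rfl
      have hHCs : H ≤ Cs := fun a ha => (hCsmem a).mpr (hcommHK a ha g hgH)
      have hCsH : Cs ≤ H := by
        rcases hmax Cs hHCs with h1 | h1
        · exact h1
        · exfalso
          apply hx₀
          have hall : ∀ c : G, c * g * c⁻¹ * g⁻¹ ∈ K := by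
            intro c
            rw [← hCsmem, h1]; trivial
          set H₀ := Subgroup.zpowers g ⊔ K with hH₀
          have hKH₀ : K ≤ H₀ := le_sup_right
          have hH₀H : H₀ ≤ H := sup_le (by rw [Subgroup.zpowers_le]; exact hgH) hKH
          have h2 := Subgroup.relIndex_mul_relIndex K H₀ H hKH₀ hH₀H
          rw [hrelKH] at h2
          have h3 : K.relIndex H₀ ≠ 1 := by
            intro h4
            apply hgK
            exact (Subgroup.relIndex_eq_one.mp h4) (Subgroup.mem_sup_left (Subgroup.mem_zpowers g))
          have h4 : K.relIndex H₀ = q := by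
            rcases (Nat.dvd_prime hq).mp (Dvd.intro _ h2) with h5 | h5
            · exact absurd h5 h3
            · exact h5
          have h5 : H₀.relIndex H = 1 := by
            rw [h4] at h2
            have h6 : q * H₀.relIndex H = q * 1 := by rw [mul_one]; exact h2
            exact Nat.eq_of_mul_eq_mul_left hq.pos h6
          have hHH₀ : H ≤ H₀ := Subgroup.relIndex_eq_one.mp h5
          constructor
          intro a ha c
          have h7 : H₀ ≤ H.comap (MulAut.conj c).toMonoidHom := by
            apply sup_le
            · rw [Subgroup.zpowers_le, Subgroup.mem_comap]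
              show c * g * c⁻¹ ∈ H
              have e : c * g * c⁻¹ = (c * g * c⁻¹ * g⁻¹) * g := by group
              rw [e]
              exact H.mul_mem (hKH (hall c)) hgH
            · intro k hk
              rw [Subgroup.mem_comap]
              show c * k * c⁻¹ ∈ H
              exact hKH (hKn.conj_mem k hk c)
          have h8 := h7 (hHH₀ ha)
          rw [Subgroup.mem_comap] at h8
          exact h8
      have hcg : Subgroup.centralizer ({g} : Set G) ≤ H := by
        intro c hc
        apply hCsH
        rw [hCsmem]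
        rw [Subgroup.mem_centralizer_iff] at hc
        have h1 : g * c = c * g := hc g rfl
        have e : c * g * c⁻¹ * g⁻¹ = 1 := by
          rw [← h1]; group
        rw [e]; exact K.one_mem
      have hgZ : g ∉ Subgroup.center G := fun hz => hgK (hZK hz)
      have hr : ((Subgroup.centralizer ({g} : Set G)).index).Prime := by
        rcases h g with h1 | h1
        · exfalso
          exact hgZ ((centralizer_eq_top_iff g).mp (Subgroup.index_eq_one.mp h1))
        · exact h1
      have h2 := Subgroup.relIndex_mul_index hcg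
      have h3 : p = (Subgroup.centralizer ({g} : Set G)).index := by
        have h4 : p ∣ (Subgroup.centralizer ({g} : Set G)).index := Dvd.intro_left _ h2
        exact (Nat.prime_dvd_prime_iff_eq hp hr).mp h4
      rw [← h3] at h2
      have h4 : (Subgroup.centralizer ({g} : Set G)).relIndex H = 1 := by
        have h5 : (Subgroup.centralizer ({g} : Set G)).relIndex H * p = 1 * p := by
          rw [one_mul]; exact h2
        exact Nat.eq_of_mul_eq_mul_right hp.pos h5
      have h5 : H ≤ Subgroup.centralizer ({g} : Set G) := Subgroup.relIndex_eq_one.mp h4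
      intro a ha
      have h6 := h5 ha
      rw [Subgroup.mem_centralizer_iff] at h6
      exact (h6 g rfl).symm
    -- H is abelian
    obtain ⟨g₀, hg₀H, hg₀K⟩ := Set.not_subset.mp (fun hle : H ≤ K => hKneH (le_antisymm hKH hle))
    have hHab : ∀ a ∈ H, ∀ b ∈ H, a * b = b * a := by
      intro a ha b hb
      by_cases haK : a ∈ K
      · by_cases hbK : b ∈ K
        · have h1 : a * g₀ ∉ K := by
            intro h2
            apply hg₀K
            have h3 := K.mul_mem (K.inv_mem haK) h2
            rwa [inv_mul_cancel_left] at h3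
          have h2 := hcentH (a * g₀) (H.mul_mem ha hg₀H) h1 b hb
          have h3 := hcentH g₀ hg₀H hg₀K b hb
          have h4 : b * a * g₀ = a * b * g₀ := by
            calc b * a * g₀ = b * (a * g₀) := by group
              _ = a * g₀ * b := h2
              _ = a * (g₀ * b) := by group
              _ = a * (b * g₀) := by rw [h3]
              _ = a * b * g₀ := by group
          exact (mul_right_cancel h4).symm
        · exact hcentH b hb hbK a ha
      · exact (hcentH a ha haK b hb).symm
    -- K is central
    have hKZ : K ≤ Subgroup.center G := by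
      intro k hk
      by_contra hkZ
      have hHC : H ≤ Subgroup.centralizer ({k} : Set G) := by
        intro a ha
        rw [Subgroup.mem_centralizer_iff]
        intro y hy
        rw [Set.mem_singleton_iff] at hy
        rw [hy]
        exact hHab k (hKH hk) a ha
      rcases hmax _ hHC with h1 | h1
      · apply hx₀
        constructor
        intro a ha c
        apply h1
        rw [Subgroup.mem_centralizer_iff]
        intro y hy
        rw [Set.mem_singleton_iff] at hy
        rw [hy]
        have h2 : c⁻¹ * k * c ∈ K := by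
          have h3 := hKn.conj_mem k hk c⁻¹
          rwa [inv_inv] at h3
        have h3 := hHab (c⁻¹ * k * c) (hKH h2) a ha
        calc k * (c * a * c⁻¹) = c * ((c⁻¹ * k * c) * a) * c⁻¹ := by group
          _ = c * (a * (c⁻¹ * k * c)) * c⁻¹ := by rw [h3]
          _ = c * a * c⁻¹ * k := by group
      · exact hkZ ((centralizer_eq_top_iff k).mp h1)
    have hKeq : Subgroup.center G = K := le_antisymm hZK hKZ
    have hnc : ¬ IsMulCommutative (G ⧸ Subgroup.center G) := by
      intro hc
      apply hx₀
      constructor
      intro a ha c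
      have h1 := hc.is_comm.comm (c : G ⧸ Subgroup.center G) (a : G ⧸ Subgroup.center G)
      have h2 : c * a * c⁻¹ * a⁻¹ ∈ Subgroup.center G := by
        rw [← QuotientGroup.eq_one_iff]
        have h3 : ((c * a * c⁻¹ * a⁻¹ : G) : G ⧸ Subgroup.center G)
            = (c : G ⧸ Subgroup.center G) * a * (c : G ⧸ Subgroup.center G)⁻¹
              * (a : G ⧸ Subgroup.center G)⁻¹ := rfl
        rw [h3, h1]
        group
      have e : c * a * c⁻¹ = (c * a * c⁻¹ * a⁻¹) * a := by group
      rw [e]
      exact H.mul_mem (hZH h2) ha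
    have hcard : Nat.card (G ⧸ Subgroup.center G) = p * q := by
      rw [← Subgroup.index_eq_card, hKeq, hKidx]
    refine ⟨p, q, hp, hq, ?_, hcard, hnc⟩
    intro hpq
    apply hnc
    have h1 : Nat.card (G ⧸ Subgroup.center G) = p ^ 2 := by rw [hcard, ← hpq, sq]
    exact ⟨⟨IsPGroup.commutative_of_card_eq_prime_sq h1⟩⟩

end Cfsg.Agent.S4314
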