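import Mathlib
import Cfsg.Statements.S4584
import Mathlib
import Cfsg.Agent.S4314
import Cfsg.Agent.Lib.Lead.Char7

set_option autoImplicit false
open Cfsg

namespace Cfsg.Agent.S4584



open scoped commutatorElement

section aux

variable {P : Type*} [Group P]

/-- commutator with fixed left entry, as a hom, when commutators are central -/
def commL (hc : ∀ x y : P, ⁅x, y⁆ ∈ Subgroup.center P) (a : P) : P →* P where
  toFun x := ⁅a, x⁆
  map_one' := commutatorElement_one_right a
  map_mul' x y := by
    have h := Subgroup.mem_center_iff.mp (hc a y) x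
    simp only [commutatorElement_def] at h ⊢
    calc a * (x * y) * a⁻¹ * (x * y)⁻¹
        = a * x * a⁻¹ * x⁻¹ * (x * (a * y * a⁻¹ * y⁻¹)) * x⁻¹ := by group
      _ = a * x * a⁻¹ * x⁻¹ * ((a * y * a⁻¹ * y⁻¹) * x) * x⁻¹ := by rw [h]
      _ = _ := by group

theorem commL_apply (hc : ∀ x y : P, ⁅x, y⁆ ∈ Subgroup.center P) (a x : P) :
    commL hc a x = ⁅a, x⁆ := rfl

theorem card_lt_of_mem [Finite P] {H K : Subgroup P} (h : H ≤ K) {x : P} (hx : x ∈ K)
    (hx' : x ∉ H) : Nat.card H < Nat.card K := by
  have h1 := Subgroup.card_le_of_le h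
  rcases h1.lt_or_eq with h2 | h2
  · exact h2
  · exact absurd (Subgroup.eq_of_le_of_card_ge h h2.ge ▸ hx) hx'

theorem card_pow {p : ℕ} (hp : p.Prime) [Finite P] (hP : Nat.card P = p ^ 4) (H : Subgroup P) :
    ∃ j, j ≤ 4 ∧ Nat.card H = p ^ j := by
  have h := Subgroup.card_subgroup_dvd_card H
  rw [hP] at h
  exact (Nat.dvd_prime_pow hp).mp h

theorem self_mem_centralizer (a : P) : a ∈ Subgroup.centralizer ({a} : Set P) := by
  rw [Subgroup.mem_centralizer_iff]
  intro y hy
  rw [Set.mem_singleton_iff.mp hy]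

theorem mem_centralizer_singleton {a x : P} :
    x ∈ Subgroup.centralizer ({a} : Set P) ↔ a * x = x * a := by
  rw [Subgroup.mem_centralizer_iff]
  constructor
  · intro h; exact h a rfl
  · intro h y hy; rw [Set.mem_singleton_iff.mp hy]; exact h

theorem index_centralizer_le [Finite P] (a : P) :
    (Subgroup.centralizer ({a} : Set P)).index ≤ Nat.card (commutator P) := by
  rw [Cfsg.Agent.Lib.Lead.index_centralizer_eq]
  have hmem : ∀ x : {x : P // IsConj a x}, x.1 * a⁻¹ ∈ commutator P := by
    intro x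
    obtain ⟨g, hg⟩ := isConj_iff.mp x.2
    rw [← hg]
    exact Subgroup.commutator_mem_commutator (Subgroup.mem_top g) (Subgroup.mem_top a)
  apply Nat.card_le_card_of_injective
    (fun x : {x : P // IsConj a x} => (⟨x.1 * a⁻¹, hmem x⟩ : commutator P))
  intro x y hxy
  have h := congrArg Subtype.val hxy
  simp only [mul_left_inj] at h
  exact Subtype.ext h

theorem dir1 [Finite P] {p : ℕ} (hp : p.Prime) (hP : Nat.card P = p ^ 4)
    (hc : Nat.card (commutator P) = p) : (Subgroup.center P).index = p ^ 2 := by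
  haveI : Fact p.Prime := ⟨hp⟩
  -- every centralizer has index 1 or p
  have hidx : ∀ a : P, (Subgroup.centralizer ({a} : Set P)).index = 1 ∨
      (Subgroup.centralizer ({a} : Set P)).index = p := by
    intro a
    have h1 := index_centralizer_le a
    rw [hc] at h1
    have h2 := Subgroup.index_dvd_card (Subgroup.centralizer ({a} : Set P))
    rw [hP] at h2
    obtain ⟨j, -, hj⟩ := (Nat.dvd_prime_pow hp).mp h2
    rw [hj] at h1 ⊢
    rcases Nat.lt_or_ge j 2 with h3 | h3
    · interval_cases j
      · left; simp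
      · right; simp
    · exfalso
      have : p ^ 2 ≤ p ^ j := Nat.pow_le_pow_right hp.pos h3
      nlinarith [hp.one_lt]
  have hcardidx : ∀ a : P, (Subgroup.centralizer ({a} : Set P)).index = p →
      Nat.card (Subgroup.centralizer ({a} : Set P)) = p ^ 3 := by
    intro a h
    have h1 := Subgroup.card_mul_index (Subgroup.centralizer ({a} : Set P))
    rw [h, hP] at h1
    have : p ^ 4 = p ^ 3 * p := by ring
    rw [this] at h1
    exact Nat.eq_of_mul_eq_mul_right hp.pos h1
  -- noncommuting pair
  have hnc : ∃ a b : P, a * b ≠ b * a := by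
    by_contra hcon
    push Not at hcon
    have : commutator P = ⊥ := by
      rw [commutator_def, Subgroup.commutator_eq_bot_iff_le_centralizer]
      intro x _
      rw [Subgroup.mem_centralizer_iff]
      intro y _
      exact hcon y x
    rw [this, Subgroup.card_bot] at hc
    exact hp.one_lt.ne hc
  obtain ⟨a, b, hab⟩ := hnc
  set A := Subgroup.centralizer ({a} : Set P) with hA
  set B := Subgroup.centralizer ({b} : Set P) with hB
  have haA : a ∈ A := self_mem_centralizer a
  have hbB : b ∈ B := self_mem_centralizer b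
  have hbA : b ∉ A := fun h => hab (mem_centralizer_singleton.mp h)
  have haB : a ∉ B := fun h => hab (mem_centralizer_singleton.mp h).symm
  have hAi : A.index = p := by
    rcases hidx a with h | h
    · exfalso; apply hbA
      have h' : A = ⊤ := Subgroup.index_eq_one.mp h
      rw [h']; trivial
    · exact h
  have hBi : B.index = p := by
    rcases hidx b with h | h
    · exfalso; apply haB
      have h' : B = ⊤ := Subgroup.index_eq_one.mp h
      rw [h']; trivial
    · exact h
  have hAc : Nat.card A = p ^ 3 := hcardidx a hAi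
  have hBc : Nat.card B = p ^ 3 := hcardidx b hBi
  set D := A ⊓ B with hD
  have hDA : D ≤ A := inf_le_left
  have haD : a ∉ D := fun h => haB h.2
  have hDc : Nat.card D = p ^ 2 := by
    obtain ⟨j, hj4, hj⟩ := card_pow hp hP D
    have h1 := card_lt_of_mem hDA haA haD
    rw [hAc, hj] at h1
    have h2 : j < 3 := (Nat.pow_lt_pow_iff_right hp.one_lt).mp h1
    have h3 : D.index ≤ p * p := by
      have := Subgroup.index_inf_le (H := A) (K := B)
      rwa [hAi, hBi] at this
    have h4 := Subgroup.card_mul_index D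
    rw [hj, hP] at h4
    have h5 : p ^ 4 ≤ p ^ j * (p * p) := by
      rw [← h4]; exact Nat.mul_le_mul_left _ h3
    have h6 : p ^ j * (p * p) = p ^ (j + 2) := by ring
    rw [h6] at h5
    have h7 : 4 ≤ j + 2 := (Nat.pow_le_pow_iff_right hp.one_lt).mp h5
    have : j = 2 := by omega
    rw [hj, this]
  have hDcomm : ∀ x y : D, x * y = y * x := (IsPGroup.isMulCommutative_of_card_eq_prime_sq hDc).is_comm.comm
  -- D is central
  have hDZ : D ≤ Subgroup.center P := by
    intro d hd
    rw [← Cfsg.Agent.S4314.centralizer_eq_top_iff]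
    set K := Subgroup.centralizer ({d} : Set P) with hK
    have hDK : D ≤ K := by
      intro x hx
      rw [hK, mem_centralizer_singleton]
      have := hDcomm ⟨d, hd⟩ ⟨x, hx⟩
      exact congrArg Subtype.val this
    have haK : a ∈ K := by
      rw [hK, mem_centralizer_singleton]
      exact (mem_centralizer_singleton.mp hd.1).symm
    have hbK : b ∈ K := by
      rw [hK, mem_centralizer_singleton]
      exact (mem_centralizer_singleton.mp hd.2).symm
    rcases hidx d with h | h
    · exact Subgroup.index_eq_one.mp h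
    · exfalso
      have hKc : Nat.card K = p ^ 3 := hcardidx d h
      -- A ≤ K
      have h1 : D ≤ K ⊓ A := le_inf hDK hDA
      have h2 := card_lt_of_mem h1 (⟨haK, haA⟩ : a ∈ K ⊓ A) haD
      have h3 : K ⊓ A ≤ A := inf_le_right
      obtain ⟨j, hj4, hj⟩ := card_pow hp hP (K ⊓ A)
      rw [hDc, hj] at h2
      have h4 : 2 < j := (Nat.pow_lt_pow_iff_right hp.one_lt).mp h2
      have h5 := Subgroup.card_le_of_le h3
      rw [hj, hAc] at h5
      have h6 : j ≤ 3 := (Nat.pow_le_pow_iff_right hp.one_lt).mp h5
      have h7 : j = 3 := by omega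
      have h8 : K ⊓ A = A := Subgroup.eq_of_le_of_card_ge h3 (by rw [hj, h7, hAc])
      have h9 : A ≤ K := by rw [← h8]; exact inf_le_left
      have h10 := card_lt_of_mem h9 hbK hbA
      rw [hAc, hKc] at h10
      exact lt_irrefl _ h10
  have hZD : Subgroup.center P ≤ D := le_inf (Subgroup.center_le_centralizer _)
    (Subgroup.center_le_centralizer _)
  have hZeq : Subgroup.center P = D := le_antisymm hZD hDZ
  have h1 := Subgroup.card_mul_index (Subgroup.center P)
  rw [hZeq, hDc, hP] at h1
  have : p ^ 4 = p ^ 2 * p ^ 2 := by ring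
  rw [this] at h1
  rw [hZeq]
  exact Nat.eq_of_mul_eq_mul_left (pow_pos hp.pos 2) h1

theorem dir2 [Finite P] {p : ℕ} (hp : p.Prime) (hP : Nat.card P = p ^ 4)
    (hZ : (Subgroup.center P).index = p ^ 2) : Nat.card (commutator P) = p := by
  haveI : Fact p.Prime := ⟨hp⟩
  have hPG : IsPGroup p P := IsPGroup.of_card hP
  have hZc : Nat.card (Subgroup.center P) = p ^ 2 := by
    have h := Subgroup.card_mul_index (Subgroup.center P)
    rw [hZ, hP] at h
    have : p ^ 4 = p ^ 2 * p ^ 2 := by ring
    rw [this] at h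
    exact Nat.eq_of_mul_eq_mul_right (pow_pos hp.pos 2) h
  -- commutators central
  have hc : ∀ x y : P, ⁅x, y⁆ ∈ Subgroup.center P := by
    intro x y
    have hq : Nat.card (P ⧸ Subgroup.center P) = p ^ 2 := by
      rw [← Subgroup.index_eq_card]; exact hZ
    have hcomm := (IsPGroup.isMulCommutative_of_card_eq_prime_sq hq).is_comm.comm
    rw [← QuotientGroup.eq_one_iff]
    have h1 : ((⁅x, y⁆ : P) : P ⧸ Subgroup.center P) = (x : P ⧸ Subgroup.center P) * y *
        (x : P ⧸ Subgroup.center P)⁻¹ * (y : P ⧸ Subgroup.center P)⁻¹ := rfl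
    rw [h1, hcomm (x : P ⧸ Subgroup.center P) (y : P ⧸ Subgroup.center P)]
    group
  have hZtop : Subgroup.center P ≠ ⊤ := by
    intro h
    rw [h, Subgroup.index_top] at hZ
    have := Nat.one_lt_pow (n := 2) (by norm_num) hp.one_lt
    omega
  -- centralizers of noncentral elements
  have hcent : ∀ a : P, a ∉ Subgroup.center P →
      Nat.card (Subgroup.centralizer ({a} : Set P)) = p ^ 3 := by
    intro a ha
    have hZA : Subgroup.center P ≤ Subgroup.centralizer ({a} : Set P) :=
      Subgroup.center_le_centralizer _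
    have hAtop : Subgroup.centralizer ({a} : Set P) ≠ ⊤ :=
      fun h => ha ((Cfsg.Agent.S4314.centralizer_eq_top_iff a).mp h)
    obtain ⟨j, hj4, hj⟩ := card_pow hp hP (Subgroup.centralizer ({a} : Set P))
    have h1 := card_lt_of_mem hZA (self_mem_centralizer a) ha
    rw [hZc, hj] at h1
    have h2 : 2 < j := (Nat.pow_lt_pow_iff_right hp.one_lt).mp h1
    have h3 : j ≠ 4 := by
      intro h4
      apply hAtop
      rw [← Subgroup.card_eq_iff_eq_top, hj, h4, hP]
    have : j = 3 := by omega
    rw [hj, this]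
  have hidx : ∀ a : P, a ∉ Subgroup.center P →
      (Subgroup.centralizer ({a} : Set P)).index = p := by
    intro a ha
    have h1 := Subgroup.card_mul_index (Subgroup.centralizer ({a} : Set P))
    rw [hcent a ha, hP] at h1
    have : p ^ 4 = p ^ 3 * p := by ring
    rw [this] at h1
    exact Nat.eq_of_mul_eq_mul_left (pow_pos hp.pos 3) h1
  obtain ⟨a, ha⟩ : ∃ a, a ∉ Subgroup.center P := by
    by_contra hcon
    push Not at hcon
    exact hZtop (eq_top_iff.mpr fun x _ => hcon x)
  set A := Subgroup.centralizer ({a} : Set P) with hA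
  have hZA : Subgroup.center P ≤ A := Subgroup.center_le_centralizer _
  have haA : a ∈ A := self_mem_centralizer a
  have hAtop : A ≠ ⊤ := fun h => ha ((Cfsg.Agent.S4314.centralizer_eq_top_iff a).mp h)
  obtain ⟨b, hbA⟩ : ∃ b, b ∉ A := by
    by_contra hcon
    push Not at hcon
    exact hAtop (eq_top_iff.mpr fun x _ => hcon x)
  have hb : b ∉ Subgroup.center P := fun h => hbA (hZA h)
  set B := Subgroup.centralizer ({b} : Set P) with hB
  have hbB : b ∈ B := self_mem_centralizer b
  have hab : a * b ≠ b * a := fun h => hbA (mem_centralizer_singleton.mpr h)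
  have haB : a ∉ B := fun h => hab (mem_centralizer_singleton.mp h).symm
  have hAi : A.index = p := hidx a ha
  have hBi : B.index = p := hidx b hb
  have hAc : Nat.card A = p ^ 3 := hcent a ha
  set c : P := ⁅a, b⁆ with hcdef
  have hc1 : c ≠ 1 := by
    rw [hcdef, Ne, commutatorElement_eq_one_iff_mul_comm]
    exact hab
  set C := Subgroup.zpowers c with hC
  -- ⁅a, y⁆ ∈ C
  have h1 : ∀ y : P, ⁅a, y⁆ ∈ C := by
    intro y
    obtain ⟨-, h⟩ := Cfsg.Agent.S4314.exists_mul_of_index_prime hp A (Subgroup.zpowers b) hAi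
      (hPG.to_subgroup _) (fun h => hbA (h (Subgroup.mem_zpowers b)))
    obtain ⟨w, hw, hwy⟩ := h y
    obtain ⟨k, rfl⟩ := Subgroup.mem_zpowers_iff.mp hw
    have e1 : y = b ^ k * ((b ^ k)⁻¹ * y) := by group
    have e2 : commL hc a ((b ^ k)⁻¹ * y) = 1 := by
      rw [commL_apply, commutatorElement_eq_one_iff_mul_comm]
      exact mem_centralizer_singleton.mp hwy
    have e3 : ⁅a, y⁆ = c ^ k := by
      rw [← commL_apply hc, e1, map_mul, e2, mul_one, map_zpow, commL_apply]
    rw [e3]
    exact Subgroup.zpow_mem_zpowers c k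
  have h2 : ∀ y : P, ⁅b, y⁆ ∈ C := by
    intro y
    obtain ⟨-, h⟩ := Cfsg.Agent.S4314.exists_mul_of_index_prime hp B (Subgroup.zpowers a) hBi
      (hPG.to_subgroup _) (fun h => haB (h (Subgroup.mem_zpowers a)))
    obtain ⟨w, hw, hwy⟩ := h y
    obtain ⟨k, rfl⟩ := Subgroup.mem_zpowers_iff.mp hw
    have e1 : y = a ^ k * ((a ^ k)⁻¹ * y) := by group
    have e2 : commL hc b ((a ^ k)⁻¹ * y) = 1 := by
      rw [commL_apply, commutatorElement_eq_one_iff_mul_comm]
      exact mem_centralizer_singleton.mp hwy
    have e4 : ⁅b, a⁆ = c⁻¹ := by rw [hcdef, commutatorElement_inv]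
    have e3 : ⁅b, y⁆ = (c⁻¹) ^ k := by
      rw [← commL_apply hc, e1, map_mul, e2, mul_one, map_zpow, commL_apply, e4]
    rw [e3]
    exact Subgroup.zpow_mem _ (Subgroup.inv_mem _ (Subgroup.mem_zpowers c)) k
  -- the subgroup M
  set M : Subgroup P := ⨅ y : P, C.comap (commL hc y) with hM
  have hMmem : ∀ x : P, x ∈ M ↔ ∀ y : P, ⁅y, x⁆ ∈ C := by
    intro x
    rw [hM, Subgroup.mem_iInf]
    rfl
  have hinvC : ∀ x y : P, ⁅x, y⁆ ∈ C → ⁅y, x⁆ ∈ C := by
    intro x y h
    rw [← commutatorElement_inv]
    exact Subgroup.inv_mem _ h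
  have haM : a ∈ M := (hMmem a).mpr fun y => hinvC _ _ (h1 y)
  have hbM : b ∈ M := (hMmem b).mpr fun y => hinvC _ _ (h2 y)
  have hZM : Subgroup.center P ≤ M := by
    intro z hz
    rw [hMmem]
    intro y
    have : ⁅y, z⁆ = 1 := by
      rw [commutatorElement_eq_one_iff_mul_comm]
      exact Subgroup.mem_center_iff.mp hz y
    rw [this]
    exact Subgroup.one_mem _
  have hMtop : M = ⊤ := by
    have e1 : Subgroup.center P ≤ M ⊓ A := le_inf hZM hZA
    have e2 := card_lt_of_mem e1 (⟨haM, haA⟩ : a ∈ M ⊓ A) ha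
    have e3 : M ⊓ A ≤ A := inf_le_right
    obtain ⟨j, hj4, hj⟩ := card_pow hp hP (M ⊓ A)
    rw [hZc, hj] at e2
    have e4 : 2 < j := (Nat.pow_lt_pow_iff_right hp.one_lt).mp e2
    have e5 := Subgroup.card_le_of_le e3
    rw [hj, hAc] at e5
    have e6 : j ≤ 3 := (Nat.pow_le_pow_iff_right hp.one_lt).mp e5
    have e7 : j = 3 := by omega
    have e8 : M ⊓ A = A := Subgroup.eq_of_le_of_card_ge e3 (by rw [hj, e7, hAc])
    have e9 : A ≤ M := by rw [← e8]; exact inf_le_left
    have e10 := card_lt_of_mem e9 hbM hbA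
    obtain ⟨i, hi4, hi⟩ := card_pow hp hP M
    rw [hAc, hi] at e10
    have e11 : 3 < i := (Nat.pow_lt_pow_iff_right hp.one_lt).mp e10
    have e12 : i = 4 := by omega
    rw [← Subgroup.card_eq_iff_eq_top, hi, e12, hP]
  have hall : ∀ x y : P, ⁅x, y⁆ ∈ C := by
    intro x y
    have : y ∈ M := by rw [hMtop]; trivial
    exact (hMmem y).mp this x
  have hle : commutator P ≤ C := by
    rw [commutator_def, Subgroup.commutator_le]
    intro x _ y _
    exact hall x y
  -- c has order p
  have hcp : c ^ p = 1 := by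
    have e1 : b ^ p ∈ A := by
      haveI : A.Normal := by
        constructor
        intro n hn g
        have : g * n * g⁻¹ = ⁅g, n⁆ * n := by rw [commutatorElement_def]; group
        rw [this]
        exact Subgroup.mul_mem _ (hZA (hc g n)) hn
      have := Subgroup.pow_index_mem A b
      rwa [hAi] at this
    have e2 : commL hc a (b ^ p) = 1 := by
      rw [commL_apply, commutatorElement_eq_one_iff_mul_comm]
      exact mem_centralizer_singleton.mp e1
    rw [map_pow, commL_apply] at e2
    exact e2
  have hord : orderOf c = p := by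
    have := orderOf_dvd_of_pow_eq_one hcp
    rcases (Nat.dvd_prime hp).mp this with h | h
    · exact absurd (orderOf_eq_one_iff.mp h) hc1
    · exact h
  have hCc : Nat.card C = p := by rw [hC, Nat.card_zpowers, hord]
  have hdvd := Subgroup.card_dvd_of_le hle
  rw [hCc] at hdvd
  rcases (Nat.dvd_prime hp).mp hdvd with h | h
  · exfalso
    have hbot : commutator P = ⊥ := Subgroup.card_eq_one.mp h
    have hcm : c ∈ commutator P := by
      rw [commutator_def]
      exact Subgroup.commutator_mem_commutator (Subgroup.mem_top a) (Subgroup.mem_top b)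
    rw [hbot, Subgroup.mem_bot] at hcm
    exact hc1 hcm
  · exact h

end aux

/-- Let p be a prime and P a group of order p^4. Then the derived subgroup P' has order p if and only if the centre Z(P) has index p^2 in P. -/
theorem result {P : Type*} [Group P] [Finite P] (p : ℕ) [Fact p.Prime] (hP : Nat.card P = p ^ 4) :
    Nat.card (commutator P) = p ↔ (Subgroup.center P).index = p ^ 2 := by
  have hp : p.Prime := Fact.out
  exact ⟨dir1 hp hP, dir2 hp hP⟩

end Cfsg.Agent.S4584
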