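import Mathlib
import Cfsg.Statements.S4585
import Mathlib
import Cfsg.Agent.S4584

set_option autoImplicit false
open Cfsg

namespace Cfsg.Agent.S4585



open scoped commutatorElement

section aux

variable {P : Type*} [Group P]

/-- in a nilpotent group, `N ≤ ⁅N, ⊤⁆` forces `N = ⊥` -/
theorem eq_bot_of_le_commutator [Group.IsNilpotent P] (N : Subgroup P)
    (h : N ≤ ⁅N, (⊤ : Subgroup P)⁆) : N = ⊥ := by
  have h1 : ∀ k, N ≤ (⊤ : Subgroup P).lowerCentralSeries k := by
    intro k
    induction k with
    | zero => exact le_top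
    | succ k ih =>
      rw [Subgroup.lowerCentralSeries_succ]
      exact h.trans (Subgroup.commutator_mono ih le_rfl)
  have h2 := h1 (Group.nilpotencyClass P)
  rw [Subgroup.lowerCentralSeries_nilpotencyClass] at h2
  exact le_bot_iff.mp h2

/-- a nilpotent group whose derived subgroup has prime index is abelian -/
theorem commutator_eq_bot_of_index_prime [Group.IsNilpotent P] {p : ℕ} (hp : p.Prime)
    (h : (commutator P).index = p) : commutator P = ⊥ := by
  haveI : Fact p.Prime := ⟨hp⟩
  set N : Subgroup P := ⁅commutator P, (⊤ : Subgroup P)⁆ with hN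
  have hNle : N ≤ commutator P := Subgroup.commutator_le_left _ _
  have hcard : Nat.card (P ⧸ commutator P) = p := by
    rw [← Subgroup.index_eq_card]; exact h
  haveI : IsCyclic (P ⧸ commutator P) := isCyclic_of_prime_card hcard
  let f : P ⧸ N →* P ⧸ commutator P :=
    QuotientGroup.map N (commutator P) (MonoidHom.id P) hNle
  have hker : f.ker ≤ Subgroup.center (P ⧸ N) := by
    intro q hq
    induction q using QuotientGroup.induction_on with
    | H x =>
      rw [MonoidHom.mem_ker] at hq
      have hx : x ∈ commutator P := by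
        have : f (x : P ⧸ N) = ((x : P) : P ⧸ commutator P) := rfl
        rw [this, QuotientGroup.eq_one_iff] at hq
        exact hq
      rw [Subgroup.mem_center_iff]
      intro q'
      induction q' using QuotientGroup.induction_on with
      | H y =>
        rw [← QuotientGroup.mk_mul, ← QuotientGroup.mk_mul, QuotientGroup.eq]
        have e : (y * x)⁻¹ * (x * y) = ⁅x⁻¹, y⁻¹⁆ := by
          rw [commutatorElement_def]; group
        rw [e]
        exact Subgroup.commutator_mem_commutator (Subgroup.inv_mem _ hx) (Subgroup.mem_top _)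
  have hcomm := (MonoidHom.isMulCommutative_of_isCyclic_of_ker_le_center f hker).is_comm.comm
  have hle : commutator P ≤ N := by
    rw [commutator_def, Subgroup.commutator_le]
    intro x _ y _
    rw [← QuotientGroup.eq_one_iff]
    have h1 : ((⁅x, y⁆ : P) : P ⧸ N) = (x : P ⧸ N) * y * (x : P ⧸ N)⁻¹ * (y : P ⧸ N)⁻¹ := rfl
    rw [h1, hcomm (x : P ⧸ N) (y : P ⧸ N)]
    group
  exact eq_bot_of_le_commutator _ hle

theorem lt_card_of_ne_bot [Finite P] [Group.IsNilpotent P] (N : Subgroup P) [N.Normal]
    (hN : N ≠ ⊥) :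
    Nat.card (⁅N, (⊤ : Subgroup P)⁆ : Subgroup P) < Nat.card N := by
  have h1 : ⁅N, (⊤ : Subgroup P)⁆ ≤ N := Subgroup.commutator_le_left N ⊤
  have h2 := Subgroup.card_le_of_le h1
  rcases h2.lt_or_eq with h3 | h3
  · exact h3
  · exfalso
    have h4 : ⁅N, (⊤ : Subgroup P)⁆ = N := Subgroup.eq_of_le_of_card_ge h1 h3.ge
    exact hN (eq_bot_of_le_commutator N h4.ge)

end aux

/-- Let p be a prime and P a group of order p^4. Then P' has index p^2 in P if and only if P has maximal nilpotency class, that is, nilpotency class exactly 3. -/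
theorem result {P : Type*} [Group P] [Finite P] (p : ℕ) [Fact p.Prime] (hP : Nat.card P = p ^ 4) :
    (commutator P).index = p ^ 2 ↔ Group.nilpotencyClass P = 3 := by
  have hp : p.Prime := Fact.out
  have hPG : IsPGroup p P := IsPGroup.of_card hP
  haveI : Group.IsNilpotent P := hPG.isNilpotent
  set P' := commutator P with hP'
  set L2 : Subgroup P := ⁅P', (⊤ : Subgroup P)⁆ with hL2
  set L3 : Subgroup P := ⁅L2, (⊤ : Subgroup P)⁆ with hL3
  haveI : P'.Normal := by rw [hP']; infer_instance
  haveI : L2.Normal := by rw [hL2]; infer_instance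
  have e2 : (⊤ : Subgroup P).lowerCentralSeries 2 = L2 := by
    rw [Subgroup.lowerCentralSeries_succ, Subgroup.top_lowerCentralSeries_one]
  have e3 : (⊤ : Subgroup P).lowerCentralSeries 3 = L3 := by
    rw [Subgroup.lowerCentralSeries_succ, e2]
  have hcl3 : Group.nilpotencyClass P = 3 ↔ (L3 = ⊥ ∧ L2 ≠ ⊥) := by
    rw [← e2, ← e3, Subgroup.lowerCentralSeries_eq_bot_iff_nilpotencyClass_le, Ne,
      Subgroup.lowerCentralSeries_eq_bot_iff_nilpotencyClass_le]
    omega
  have hL3L2 : L3 ≤ L2 := Subgroup.commutator_le_left _ _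
  have hL2P' : L2 ≤ P' := Subgroup.commutator_le_left _ _
  obtain ⟨i, hi4, hi⟩ := Cfsg.Agent.S4584.card_pow hp hP P'
  obtain ⟨j, hj4, hj⟩ := Cfsg.Agent.S4584.card_pow hp hP L2
  obtain ⟨k, hk4, hk⟩ := Cfsg.Agent.S4584.card_pow hp hP L3
  have hidx : P'.index = p ^ (4 - i) := by
    have h1 := Subgroup.card_mul_index P'
    rw [hi, hP] at h1
    have : p ^ 4 = p ^ i * p ^ (4 - i) := by rw [← pow_add]; congr 1; omega
    rw [this] at h1
    exact Nat.eq_of_mul_eq_mul_left (pow_pos hp.pos i) h1
  have hpow_inj : ∀ m n : ℕ, p ^ m = p ^ n → m = n := fun m n h =>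
    Nat.pow_right_injective hp.two_le h
  have hji : P' ≠ ⊥ → j < i := by
    intro h
    have := lt_card_of_ne_bot P' h
    rw [← hL2, hj, hi] at this
    exact (Nat.pow_lt_pow_iff_right hp.one_lt).mp this
  have hkj : L2 ≠ ⊥ → k < j := by
    intro h
    have := lt_card_of_ne_bot L2 h
    rw [← hL3, hk, hj] at this
    exact (Nat.pow_lt_pow_iff_right hp.one_lt).mp this
  have hbot : ∀ (H : Subgroup P) (m : ℕ), Nat.card H = p ^ m → (H = ⊥ ↔ m = 0) := by
    intro H m hm
    rw [← Subgroup.card_eq_one, hm]
    constructor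
    · intro h
      by_contra h0
      have := Nat.one_lt_pow h0 hp.one_lt
      omega
    · intro h; rw [h, pow_zero]
  rw [hcl3, hidx]
  constructor
  · intro h
    have hi2 : i = 2 := by
      have := hpow_inj _ _ h
      omega
    have hP'ne : P' ≠ ⊥ := by
      rw [Ne, hbot P' i hi]; omega
    have hj1 : j < 2 := by have := hji hP'ne; omega
    have hL2ne : L2 ≠ ⊥ := by
      intro hL2bot
      -- P' central
      have hPZ : P' ≤ Subgroup.center P := by
        have h1 : ⁅P', (⊤ : Subgroup P)⁆ = ⊥ := hL2bot
        rw [Subgroup.commutator_eq_bot_iff_le_centralizer] at h1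
        rw [← Subgroup.centralizer_univ]
        rwa [Subgroup.coe_top] at h1
      obtain ⟨z, hz4, hz⟩ := Cfsg.Agent.S4584.card_pow hp hP (Subgroup.center P)
      have h1 := Subgroup.card_le_of_le hPZ
      rw [hi, hz, hi2] at h1
      have hz2 : 2 ≤ z := (Nat.pow_le_pow_iff_right hp.one_lt).mp h1
      have hZidx : (Subgroup.center P).index = p ^ (4 - z) := by
        have h1 := Subgroup.card_mul_index (Subgroup.center P)
        rw [hz, hP] at h1
        have : p ^ 4 = p ^ z * p ^ (4 - z) := by rw [← pow_add]; congr 1; omega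
        rw [this] at h1
        exact Nat.eq_of_mul_eq_mul_left (pow_pos hp.pos z) h1
      have hcomm_bot : (∀ a b : P, a * b = b * a) → False := by
        intro hcomm
        apply hP'ne
        rw [hP', commutator_def, Subgroup.commutator_eq_bot_iff_le_centralizer]
        intro x _
        rw [Subgroup.mem_centralizer_iff]
        intro y _
        exact hcomm y x
      have hz3 : z = 2 ∨ z = 3 ∨ z = 4 := by omega
      rcases hz3 with hz3 | hz3 | hz3
      · rw [hz3] at hZidx
        have := Cfsg.Agent.S4584.dir2 hp hP hZidx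
        rw [← hP', hi, hi2] at this
        have := hpow_inj 2 1 (by rw [this, pow_one])
        omega
      · rw [hz3] at hZidx
        have hq : Nat.card (P ⧸ Subgroup.center P) = p := by
          rw [← Subgroup.index_eq_card, hZidx]; simp
        haveI : Fact p.Prime := ⟨hp⟩
        haveI : IsCyclic (P ⧸ Subgroup.center P) := isCyclic_of_prime_card hq
        exact hcomm_bot (MonoidHom.isMulCommutative_of_isCyclic_of_ker_le_center
          (QuotientGroup.mk' (Subgroup.center P)) (by rw [QuotientGroup.ker_mk'])).is_comm.comm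
      · apply hcomm_bot
        have htop : Subgroup.center P = ⊤ := by
          rw [← Subgroup.card_eq_iff_eq_top, hz, hz3, hP]
        intro a b
        have : b ∈ Subgroup.center P := by rw [htop]; trivial
        exact Subgroup.mem_center_iff.mp this a
    refine ⟨?_, hL2ne⟩
    rw [hbot L3 k hk]
    have := hkj hL2ne
    omega
  · rintro ⟨h3, h2⟩
    have hP'ne : P' ≠ ⊥ := by
      intro h
      apply h2
      rw [hL2, h]
      exact (Subgroup.commutator_eq_bot_iff_le_centralizer).mpr bot_le
    have hj0 : j ≠ 0 := fun h => h2 ((hbot L2 j hj).mpr h)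
    have hi2 : 2 ≤ i := by have := hji hP'ne; omega
    have hi4' : i ≠ 4 := by
      intro h
      have htop : P' = ⊤ := by
        rw [← Subgroup.card_eq_iff_eq_top, hi, h, hP]
      have : (⊤ : Subgroup P) = ⊥ := by
        apply eq_bot_of_le_commutator
        rw [← commutator_def, ← hP', htop]
      exact hP'ne (htop.trans this)
    have hi3 : i ≠ 3 := by
      intro h
      apply hP'ne
      apply commutator_eq_bot_of_index_prime hp
      rw [← hP', hidx, h]
      simp
    have : i = 2 := by omega
    rw [this]

end Cfsg.Agent.S4585
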