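import Mathlib
import Cfsg.Statements.S4586
import Mathlib
import Cfsg.Agent.S4314
import Cfsg.Agent.Lib.Lead.Hall

set_option autoImplicit false
open Cfsg

namespace Cfsg.Agent.S4586



open scoped commutatorElement

section AL

variable {G : Type*} [Group G]

/-- commutator with a fixed element on an abelian normal subgroup, as a hom -/
def theta (A : Subgroup G) [hAn : A.Normal] (hA : ∀ a ∈ A, ∀ b ∈ A, a * b = b * a) (x : G) :
    A →* G where
  toFun a := ⁅x, (a : G)⁆
  map_one' := by simp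
  map_mul' a b := by
    have hb' : x * b * x⁻¹ ∈ A := hAn.conj_mem _ b.2 x
    have h1 := hA _ (A.mul_mem hb' (A.inv_mem b.2)) _ (A.inv_mem a.2)
    simp only [commutatorElement_def, Subgroup.coe_mul]
    calc x * (↑a * ↑b) * x⁻¹ * (↑a * ↑b)⁻¹
        = x * a * x⁻¹ * ((x * b * x⁻¹ * (b : G)⁻¹) * (a : G)⁻¹) := by group
      _ = x * a * x⁻¹ * ((a : G)⁻¹ * (x * b * x⁻¹ * (b : G)⁻¹)) := by rw [h1]
      _ = _ := by group

theorem theta_apply (A : Subgroup G) [hAn : A.Normal] (hA : ∀ a ∈ A, ∀ b ∈ A, a * b = b * a)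
    (x : G) (a : A) : theta A hA x a = ⁅x, (a : G)⁆ := rfl

theorem range_theta (A : Subgroup G) [hAn : A.Normal] (hA : ∀ a ∈ A, ∀ b ∈ A, a * b = b * a)
    (x : G) (hgen : ∀ g : G, ∃ k : ℤ, ∃ a ∈ A, g = x ^ k * a) :
    (theta A hA x).range = commutator G := by
  set R := (theta A hA x).range with hR
  have hRA : R ≤ A := by
    rintro _ ⟨a, rfl⟩
    rw [theta_apply, commutatorElement_def]
    exact A.mul_mem (hAn.conj_mem _ a.2 x) (A.inv_mem a.2)
  have hmemR : ∀ a ∈ A, ⁅x, a⁆ ∈ R := fun a ha => ⟨⟨a, ha⟩, rfl⟩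
  have hx1 : ∀ r ∈ R, x * r * x⁻¹ ∈ R := by
    rintro _ ⟨a, rfl⟩
    have : x * ⁅x, (a : G)⁆ * x⁻¹ = ⁅x, x * a * x⁻¹⁆ := by
      simp only [commutatorElement_def]; group
    rw [theta_apply, this]
    exact hmemR _ (hAn.conj_mem _ a.2 x)
  have hx2 : ∀ r ∈ R, x⁻¹ * r * x ∈ R := by
    rintro _ ⟨a, rfl⟩
    have : x⁻¹ * ⁅x, (a : G)⁆ * x = ⁅x, x⁻¹ * a * x⁻¹⁻¹⁆ := by
      simp only [commutatorElement_def]; group
    rw [theta_apply, this]
    exact hmemR _ (hAn.conj_mem _ a.2 x⁻¹)
  have hxk : ∀ k : ℤ, ∀ r ∈ R, x ^ k * r * (x ^ k)⁻¹ ∈ R := by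
    intro k
    induction k using Int.induction_on with
    | zero => intro r hr; simpa using hr
    | succ n ih =>
      intro r hr
      have h := hx1 _ (ih r hr)
      have e : x ^ ((n : ℤ) + 1) * r * (x ^ ((n : ℤ) + 1))⁻¹
          = x * (x ^ (n : ℤ) * r * (x ^ (n : ℤ))⁻¹) * x⁻¹ := by group
      rw [e]; exact h
    | pred n ih =>
      intro r hr
      have h := hx2 _ (ih r hr)
      have e : x ^ (-(n : ℤ) - 1) * r * (x ^ (-(n : ℤ) - 1))⁻¹
          = x⁻¹ * (x ^ (-(n : ℤ)) * r * (x ^ (-(n : ℤ)))⁻¹) * x := by group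
      rw [e]; exact h
  haveI hRn : R.Normal := by
    constructor
    intro r hr g
    obtain ⟨k, a, ha, rfl⟩ := hgen g
    have h1 : a * r * a⁻¹ = r := by
      rw [hA a ha r (hRA hr)]; group
    have : x ^ k * a * r * (x ^ k * a)⁻¹ = x ^ k * (a * r * a⁻¹) * (x ^ k)⁻¹ := by group
    rw [this, h1]
    exact hxk k r hr
  have hcomm : ∀ u v : G ⧸ R, u * v = v * u := by
    have hxa : ∀ a ∈ A, Commute ((x : G) : G ⧸ R) ((a : G) : G ⧸ R) := by
      intro a ha
      show (x : G ⧸ R) * a = a * x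
      rw [← QuotientGroup.mk_mul, ← QuotientGroup.mk_mul, QuotientGroup.eq]
      have : (x * a)⁻¹ * (a * x) = x⁻¹ * ⁅x, a⁻¹⁆ * x := by
        simp only [commutatorElement_def]; group
      rw [this]
      exact hx2 _ (hmemR _ (A.inv_mem ha))
    have haa : ∀ a ∈ A, ∀ b ∈ A, Commute ((a : G) : G ⧸ R) ((b : G) : G ⧸ R) := by
      intro a ha b hb
      show (a : G ⧸ R) * b = b * a
      rw [← QuotientGroup.mk_mul, ← QuotientGroup.mk_mul, hA a ha b hb]
    intro u v
    induction u using QuotientGroup.induction_on with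
    | H g =>
    induction v using QuotientGroup.induction_on with
    | H h =>
    obtain ⟨k, a, ha, rfl⟩ := hgen g
    obtain ⟨l, b, hb, rfl⟩ := hgen h
    have e1 : ((x ^ k * a : G) : G ⧸ R) = (x : G ⧸ R) ^ k * (a : G ⧸ R) := by
      rw [QuotientGroup.mk_mul, QuotientGroup.mk_zpow]
    have e2 : ((x ^ l * b : G) : G ⧸ R) = (x : G ⧸ R) ^ l * (b : G ⧸ R) := by
      rw [QuotientGroup.mk_mul, QuotientGroup.mk_zpow]
    rw [e1, e2]
    have c1 : Commute ((x : G ⧸ R) ^ k) ((x : G ⧸ R) ^ l) := (Commute.refl _).zpow_zpow k l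
    have c2 : Commute ((x : G ⧸ R) ^ k) (b : G ⧸ R) := (hxa b hb).zpow_left k
    have c3 : Commute (a : G ⧸ R) ((x : G ⧸ R) ^ l) := ((hxa a ha).symm).zpow_right l
    have c4 := haa a ha b hb
    exact ((c1.mul_right c2).mul_left (c3.mul_right c4)).eq
  apply le_antisymm
  · rintro _ ⟨a, rfl⟩
    rw [theta_apply]
    exact Subgroup.commutator_mem_commutator (Subgroup.mem_top x) (Subgroup.mem_top _)
  · rw [commutator_def, Subgroup.commutator_le]
    intro u _ v _
    rw [← QuotientGroup.eq_one_iff]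
    have h1 : ((⁅u, v⁆ : G) : G ⧸ R) = (u : G ⧸ R) * v * (u : G ⧸ R)⁻¹ * (v : G ⧸ R)⁻¹ := rfl
    rw [h1, hcomm (u : G ⧸ R) (v : G ⧸ R)]
    group

end AL

section main

variable {P : Type*} [Group P] [Finite P]

theorem key (p : ℕ) (hp : p.Prime) (hP : IsPGroup p P) (N : Subgroup P) [hNn : N.Normal]
    (hN : N.index = p) (x : P) (hx : x ∉ N) :
    Nat.card {n : N // x * n * x⁻¹ * (n : P)⁻¹ ∈ (commutator N).map N.subtype} * p =
      (commutator P).index * Nat.card (commutator N) := by
  set N'' : Subgroup P := (commutator N).map N.subtype with hN''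
  have e : N'' = ⁅N, N⁆ := Subgroup.map_subtype_commutator N
  haveI hN''n : N''.Normal := by rw [e]; infer_instance
  have hN''le : N'' ≤ commutator P := by
    rw [e, commutator_def]
    exact Subgroup.commutator_mono le_top le_top
  set π := QuotientGroup.mk' N'' with hπ
  have hπs : Function.Surjective π := QuotientGroup.mk'_surjective N''
  set A : Subgroup (P ⧸ N'') := N.map π with hA
  haveI hAn : A.Normal := Subgroup.Normal.map hNn π hπs
  have hAc : ∀ a ∈ A, ∀ b ∈ A, a * b = b * a := by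
    rintro _ ⟨n, hn, rfl⟩ _ ⟨m, hm, rfl⟩
    rw [← map_mul, ← map_mul]
    show ((n * m : P) : P ⧸ N'') = ((m * n : P) : P ⧸ N'')
    rw [QuotientGroup.eq, e]
    have : (n * m)⁻¹ * (m * n) = ⁅m⁻¹, n⁻¹⁆ := by rw [commutatorElement_def]; group
    rw [this]
    exact Subgroup.commutator_mem_commutator (N.inv_mem hm) (N.inv_mem hn)
  have hgen : ∀ g : P ⧸ N'', ∃ k : ℤ, ∃ a ∈ A, g = (π x) ^ k * a := by
    intro g
    obtain ⟨y, rfl⟩ := hπs g
    obtain ⟨-, h⟩ := Cfsg.Agent.S4314.exists_mul_of_index_prime hp N (Subgroup.zpowers x) hN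
      (hP.to_subgroup _) (fun h => hx (h (Subgroup.mem_zpowers x)))
    obtain ⟨w, hw, hwy⟩ := h y
    obtain ⟨k, rfl⟩ := Subgroup.mem_zpowers_iff.mp hw
    refine ⟨k, π ((x ^ k)⁻¹ * y), ⟨_, hwy, rfl⟩, ?_⟩
    rw [← map_zpow, ← map_mul]
    congr 1
    group
  set θ := theta A hAc (π x) with hθ
  have hθr : θ.range = commutator (P ⧸ N'') := range_theta A hAc (π x) hgen
  set ψ : N →* P ⧸ N'' := θ.comp (π.subgroupMap N) with hψ
  have hψr : ψ.range = (commutator P).map π := by
    rw [hψ, MonoidHom.range_comp,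
      MonoidHom.range_eq_top.mpr (MonoidHom.subgroupMap_surjective π N),
      ← MonoidHom.range_eq_map, hθr, commutator_def, commutator_def, Subgroup.map_commutator,
      Subgroup.map_top_of_surjective π hπs]
  have hψapp : ∀ n : N, ψ n = π (x * n * x⁻¹ * (n : P)⁻¹) := by
    intro n
    show ⁅π x, π n⁆ = _
    rw [commutatorElement_def, ← map_mul, ← map_inv, ← map_mul, ← map_inv, ← map_mul]
  have c1 : Nat.card N = Nat.card ψ.ker * Nat.card ψ.range := by
    rw [← Subgroup.index_ker, Subgroup.card_mul_index]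
  have c2 : Nat.card ψ.ker = Nat.card {n : N // x * n * x⁻¹ * (n : P)⁻¹ ∈ N''} := by
    apply Nat.card_congr
    apply Equiv.subtypeEquivRight
    intro n
    rw [MonoidHom.mem_ker, hψapp]
    exact QuotientGroup.eq_one_iff _
  have c3 : Nat.card (commutator P) = Nat.card N'' * Nat.card ((commutator P).map π) := by
    rw [← Cfsg.Agent.Lib.Lead.card_comap_mk N'' ((commutator P).map π)]
    have : ((commutator P).map π).comap (QuotientGroup.mk' N'') = commutator P := by
      rw [← hπ, Subgroup.comap_map_eq, hπ, QuotientGroup.ker_mk']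
      exact sup_eq_left.mpr hN''le
    rw [this]
  have c4 : Nat.card N'' = Nat.card (commutator N) :=
    Subgroup.card_map_of_injective N.subtype_injective
  have c5 : Nat.card N * p = Nat.card P := by rw [← hN, Subgroup.card_mul_index]
  have c6 := Subgroup.card_mul_index (commutator P)
  rw [← c2, ← c4]
  have hpos : 0 < Nat.card (commutator P) := Nat.card_pos
  apply Nat.eq_of_mul_eq_mul_left hpos
  calc Nat.card (commutator P) * (Nat.card ψ.ker * p)
      = Nat.card N'' * (Nat.card ψ.ker * Nat.card ((commutator P).map π)) * p := by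
        rw [c3]; ring
    _ = Nat.card N'' * Nat.card N * p := by rw [← hψr, ← c1]
    _ = Nat.card N'' * Nat.card P := by rw [mul_assoc, c5]
    _ = Nat.card (commutator P) * ((commutator P).index * Nat.card N'') := by
        rw [← c6]; ring

end main

/-- Let p be a prime, P a finite p-group and N a normal subgroup of P of index p. For x ∈ P write c(x) for the number of elements n of N whose commutator x n x⁻¹ n⁻¹ lies in the derived subgroup N' (so c(x)/#N' is the order of the centralizer of x acting on N/N'). Then [P : P'] = p² if and only if c(x) = p·#N' for every x ∈ P outside N, and also if and only if c(x) = p·#N' for some x ∈ P outside N. -/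
theorem result {P : Type*} [Group P] [Finite P] (p : ℕ) [Fact p.Prime] (hP : IsPGroup p P) (N : Subgroup P) [N.Normal] (hN : N.index = p) :
    ((commutator P).index = p ^ 2 ↔ ∀ x : P, x ∉ N →
        Nat.card {n : N // x * n * x⁻¹ * (n : P)⁻¹ ∈ (commutator N).map N.subtype} = p * Nat.card (commutator N)) ∧
    ((commutator P).index = p ^ 2 ↔ ∃ x : P, x ∉ N ∧
        Nat.card {n : N // x * n * x⁻¹ * (n : P)⁻¹ ∈ (commutator N).map N.subtype} = p * Nat.card (commutator N)) := by
  have hp : p.Prime := Fact.out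
  have hk := key p hp hP N hN
  have hex : ∃ x : P, x ∉ N := by
    by_contra hcon
    push Not at hcon
    have : N = ⊤ := eq_top_iff.mpr fun x _ => hcon x
    rw [this, Subgroup.index_top] at hN
    exact hp.one_lt.ne hN
  have hpos : 0 < Nat.card (commutator N) := Nat.card_pos
  have hiff : ∀ x : P, x ∉ N → ((commutator P).index = p ^ 2 ↔
      Nat.card {n : N // x * n * x⁻¹ * (n : P)⁻¹ ∈ (commutator N).map N.subtype}
        = p * Nat.card (commutator N)) := by
    intro x hx
    have h := hk x hx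
    constructor
    · intro h1
      rw [h1] at h
      apply Nat.eq_of_mul_eq_mul_right hp.pos
      rw [h]; ring
    · intro h1
      rw [h1] at h
      apply Nat.eq_of_mul_eq_mul_right hpos
      rw [← h]; ring
  refine ⟨⟨fun h x hx => (hiff x hx).mp h, fun h => ?_⟩, ⟨fun h => ?_, fun h => ?_⟩⟩
  · obtain ⟨x, hx⟩ := hex
    exact (hiff x hx).mpr (h x hx)
  · obtain ⟨x, hx⟩ := hex
    exact ⟨x, hx, (hiff x hx).mp h⟩
  · obtain ⟨x, hx, h1⟩ := h
    exact (hiff x hx).mpr h1

end Cfsg.Agent.S4586
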