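import Mathlib
import Cfsg.Statements.S4238
import Mathlib
import Cfsg.Agent.S4585
import Cfsg.Agent.S4586
import Cfsg.Agent.Lib.Helper6.FrobNC
import Cfsg.Agent.Lib.Helper2.NpcSmall
import Cfsg.Agent.Lib.Lead.PCore2
import Cfsg.Agent.Lib.Helper3.PPrimeP
import Cfsg.Agent.Lib.Helper7.PPrime

set_option autoImplicit false
open Cfsg

namespace Cfsg.Agent.S4238



open scoped commutatorElement

universe u

section aux

theorem exists_orderOf_eq_exponent_of_pgroup {K : Type*} [Group K] [Finite K] {p : ℕ}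
    [Fact p.Prime] (hK : IsPGroup p K) : ∃ k : K, orderOf k = Monoid.exponent K := by
  have hp : p.Prime := Fact.out
  obtain ⟨n, hn⟩ := IsPGroup.iff_card.mp hK
  have h1 : Monoid.exponent K ∣ p ^ n := hn ▸ Group.exponent_dvd_nat_card
  obtain ⟨m, -, hm⟩ := (Nat.dvd_prime_pow hp).mp h1
  rcases Nat.eq_zero_or_pos m with h0 | hpos
  · refine ⟨1, ?_⟩
    rw [orderOf_one, hm, h0, pow_zero]
  · obtain ⟨j, rfl⟩ : ∃ j, m = j + 1 := ⟨m - 1, by omega⟩
    have hex : ∃ k : K, k ^ p ^ j ≠ 1 := by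
      by_contra hcon
      push Not at hcon
      have h2 := Monoid.exponent_dvd_of_forall_pow_eq_one hcon
      rw [hm] at h2
      have h3 := Nat.le_of_dvd (pow_pos hp.pos j) h2
      have h4 : p ^ j < p ^ (j + 1) := Nat.pow_lt_pow_right hp.one_lt (by omega)
      omega
    obtain ⟨k, hk⟩ := hex
    refine ⟨k, ?_⟩
    rw [hm]
    exact orderOf_eq_prime_pow hk (by rw [← hm]; exact Monoid.pow_exponent_eq_one k)

/-- a group `V ⋊ ⟨s⟩` with `V` an abelian `p`-group and `s` of prime order `q ≠ p` acting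
fixed-point-freely has trivial `p'`-core and no element of order equal to the exponent -/
theorem noExp {K : Type*} [Group K] [Finite K] {p q : ℕ} [Fact p.Prime] (hq : q.Prime)
    (hpq : p ≠ q) (V : Subgroup K) [hVn : V.Normal] (hVab : ∀ a ∈ V, ∀ b ∈ V, a * b = b * a)
    (hVp : IsPGroup p V) (hV1 : V ≠ ⊥) (s : K) (hs : s ^ q = 1)
    (hgen : ∀ k : K, ∃ i : ℤ, ∃ a ∈ V, k = s ^ i * a)
    (hfix : ∀ v ∈ V, s * v = v * s → v = 1) :
    Cfsg.pPrimeCore p K = ⊥ ∧ ¬ ∃ k : K, orderOf k = Monoid.exponent K := by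
  have hp : p.Prime := Fact.out
  have hs1 : s ≠ 1 := by
    intro h
    apply hV1
    rw [eq_bot_iff]
    intro v hv
    rw [Subgroup.mem_bot]
    exact hfix v hv (by rw [h]; simp)
  haveI : Fact q.Prime := ⟨hq⟩
  have hos : orderOf s = q := orderOf_eq_prime hs hs1
  have hfix' : ∀ i : ℤ, s ^ i ≠ 1 → ∀ v ∈ V, s ^ i * v = v * s ^ i → v = 1 := by
    intro i hi v hv hcomm
    have hle : Subgroup.zpowers (s ^ i) ≤ Subgroup.zpowers s := by
      rw [Subgroup.zpowers_le]; exact Subgroup.zpow_mem_zpowers s i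
    have hcard : Nat.card (Subgroup.zpowers s) ≤ Nat.card (Subgroup.zpowers (s ^ i)) := by
      rw [Nat.card_zpowers, Nat.card_zpowers, hos]
      have h1 : orderOf (s ^ i) ∣ q := by
        apply orderOf_dvd_of_pow_eq_one
        rw [← zpow_natCast, ← zpow_mul, mul_comm, zpow_mul, zpow_natCast, hs, one_zpow]
      rcases (Nat.dvd_prime hq).mp h1 with h2 | h2
      · exact absurd (orderOf_eq_one_iff.mp h2) hi
      · rw [h2]
    have heq := Subgroup.eq_of_le_of_card_ge hle hcard
    have hsm : s ∈ Subgroup.zpowers (s ^ i) := by rw [heq]; exact Subgroup.mem_zpowers s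
    obtain ⟨j, hj⟩ := Subgroup.mem_zpowers_iff.mp hsm
    apply hfix v hv
    rw [← hj]
    exact ((show Commute (s ^ i) v from hcomm).zpow_left j).eq
  have hout : ∀ k : K, k ∉ V → k ^ q = 1 := by
    intro k hk
    obtain ⟨i, a, ha, rfl⟩ := hgen k
    have hi : s ^ i ≠ 1 := by
      intro h; apply hk; rw [h, one_mul]; exact ha
    have hkq : (s ^ i * a) ^ q ∈ V := by
      rw [← QuotientGroup.eq_one_iff, QuotientGroup.mk_pow, QuotientGroup.mk_mul,
        (QuotientGroup.eq_one_iff a).mpr ha, mul_one, QuotientGroup.mk_zpow, ← zpow_natCast,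
        ← zpow_mul, mul_comm, zpow_mul, zpow_natCast, ← QuotientGroup.mk_pow, hs,
        QuotientGroup.mk_one, one_zpow]
    apply hfix' i hi _ hkq
    have c1 : Commute (s ^ i * a) ((s ^ i * a) ^ q) := (Commute.refl _).pow_right q
    have c2 : Commute a ((s ^ i * a) ^ q) := hVab a ha _ hkq
    have c3 : Commute (s ^ i * a * a⁻¹) ((s ^ i * a) ^ q) := c1.mul_left c2.inv_left
    rw [mul_inv_cancel_right] at c3
    exact c3.eq
  constructor
  · have hMn : (Cfsg.pPrimeCore p K).Normal := Cfsg.pPrimeCore_normal p K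
    have hMc : (Nat.card (Cfsg.pPrimeCore p K)).Coprime p :=
      Cfsg.Agent.Lib.Lead.pPrimeCore_coprime p
    rw [eq_bot_iff]
    intro m hm
    rw [Subgroup.mem_bot]
    have hcent : ∀ u ∈ V, u * m = m * u := by
      intro u hu
      have h1 : u * m * u⁻¹ * m⁻¹ ∈ Cfsg.pPrimeCore p K :=
        Subgroup.mul_mem _ (hMn.conj_mem m hm u) (Subgroup.inv_mem _ hm)
      have h2 : u * m * u⁻¹ * m⁻¹ ∈ V := by
        have : u * m * u⁻¹ * m⁻¹ = u * (m * u⁻¹ * m⁻¹) := by group
        rw [this]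
        exact V.mul_mem hu (hVn.conj_mem _ (V.inv_mem hu) m)
      have h3 := Cfsg.Agent.Lib.Helper3.eq_one_of_mem_coprime_of_mem_pgroup _ V hMc hVp h1 h2
      have h4 := mul_inv_eq_one.mp h3
      rw [mul_inv_eq_iff_eq_mul] at h4
      exact h4
    obtain ⟨i, a, ha, rfl⟩ := hgen m
    by_cases hi : s ^ i = 1
    · rw [hi, one_mul] at hm ⊢
      exact Cfsg.Agent.Lib.Helper3.eq_one_of_mem_coprime_of_mem_pgroup _ V hMc hVp hm ha
    · exfalso
      apply hV1
      rw [eq_bot_iff]
      intro v hv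
      rw [Subgroup.mem_bot]
      apply hfix' i hi v hv
      have c1 : Commute v (s ^ i * a) := hcent v hv
      have c2 : Commute v a := hVab v hv a ha
      have c3 : Commute v (s ^ i * a * a⁻¹) := c1.mul_right c2.inv_right
      rw [mul_inv_cancel_right] at c3
      exact c3.symm.eq
  · rintro ⟨k, hk⟩
    obtain ⟨v, hv, hv1⟩ : ∃ v ∈ V, v ≠ 1 := by
      by_contra hcon
      push Not at hcon
      exact hV1 (eq_bot_iff.mpr fun v hv => Subgroup.mem_bot.mpr (hcon v hv))
    have hpe : p ∣ Monoid.exponent K := by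
      obtain ⟨n, hn⟩ := hVp ⟨v, hv⟩
      have hn' : v ^ p ^ n = 1 := by simpa using congrArg Subtype.val hn
      have h1 : orderOf v ∣ p ^ n := orderOf_dvd_of_pow_eq_one hn'
      obtain ⟨j, -, hj⟩ := (Nat.dvd_prime_pow hp).mp h1
      have hj0 : j ≠ 0 := by
        intro h; rw [h, pow_zero] at hj; exact hv1 (orderOf_eq_one_iff.mp hj)
      have : p ∣ orderOf v := by rw [hj]; exact dvd_pow_self p hj0
      exact this.trans (Monoid.order_dvd_exponent v)
    have hqe : q ∣ Monoid.exponent K := by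
      rw [← hos]; exact Monoid.order_dvd_exponent s
    rw [← hk] at hpe hqe
    by_cases hkV : k ∈ V
    · obtain ⟨n, hn⟩ := hVp ⟨k, hkV⟩
      have hn' : k ^ p ^ n = 1 := by simpa using congrArg Subtype.val hn
      have h1 : q ∣ p ^ n := hqe.trans (orderOf_dvd_of_pow_eq_one hn')
      exact hpq ((Nat.prime_dvd_prime_iff_eq hq hp).mp (hq.dvd_of_dvd_pow h1)).symm
    · have h1 : p ∣ q := hpe.trans (orderOf_dvd_of_pow_eq_one (hout k hkV))
      exact hpq ((Nat.prime_dvd_prime_iff_eq hp hq).mp h1)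

theorem normalizer_le_normalizer_commutator {G : Type*} [Group G] (Q : Subgroup G) :
    Subgroup.normalizer (Q : Set G) ≤ Subgroup.normalizer ((⁅Q, Q⁆ : Subgroup G) : Set G) := by
  intro g hg
  have hmap : ∀ g ∈ Subgroup.normalizer (Q : Set G),
      Q.map (MulAut.conj g).toMonoidHom ≤ Q := by
    intro g hg
    rintro _ ⟨y, hy, rfl⟩
    exact (Subgroup.mem_normalizer_iff.mp hg y).mp hy
  have hcomm : ∀ g ∈ Subgroup.normalizer (Q : Set G), ∀ x ∈ ⁅Q, Q⁆, g * x * g⁻¹ ∈ ⁅Q, Q⁆ := by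
    intro g hg x hx
    have h1 : g * x * g⁻¹ ∈ (⁅Q, Q⁆).map (MulAut.conj g).toMonoidHom := ⟨x, hx, rfl⟩
    rw [Subgroup.map_commutator] at h1
    exact Subgroup.commutator_mono (hmap g hg) (hmap g hg) h1
  rw [Subgroup.mem_normalizer_iff]
  intro x
  constructor
  · exact hcomm g hg x
  · intro h
    have h2 := hcomm g⁻¹ (Subgroup.inv_mem _ hg) _ h
    have e : g⁻¹ * (g * x * g⁻¹) * g⁻¹⁻¹ = x := by group
    rw [e] at h2
    exact h2

end aux

section main

theorem exists_bad_section {G : Type u} [Group G] [Finite G] (p : ℕ) [Fact p.Prime]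
    (hnot : ¬ Cfsg.HasNormalPComplement p G) :
    ∃ (H : Subgroup G) (N : Subgroup H) (_ : N.Normal), Cfsg.pPrimeCore p (H ⧸ N) = ⊥ ∧
      ¬ ∃ k : H ⧸ N, orderOf k = Monoid.exponent (H ⧸ N) := by
  classical
  have hp : p.Prime := Fact.out
  have hF : ¬ Cfsg.Agent.Lib.Helper6.FrobCond p G :=
    fun h => hnot (Cfsg.Agent.Lib.Helper6.frobenius_npc h)
  unfold Cfsg.Agent.Lib.Helper6.FrobCond at hF
  push Not at hF
  have hex : ∃ n : ℕ, ∃ Q : Subgroup G, (IsPGroup p Q ∧ ∃ g ∈ Subgroup.normalizer (Q : Set G),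
      (orderOf g).Coprime p ∧ g ∉ Subgroup.centralizer (Q : Set G)) ∧ Nat.card Q = n := by
    obtain ⟨Q, hQ⟩ := hF
    exact ⟨_, Q, hQ, rfl⟩
  obtain ⟨Q, ⟨hQp, hQg⟩, hQcard⟩ := Nat.find_spec hex
  have hminQ : ∀ R : Subgroup G, IsPGroup p R → Nat.card R < Nat.card Q →
      ∀ h ∈ Subgroup.normalizer (R : Set G), (orderOf h).Coprime p →
        h ∈ Subgroup.centralizer (R : Set G) := by
    intro R hR hlt h hh hcop
    by_contra hcon
    have := Nat.find_min' hex ⟨R, ⟨hR, h, hh, hcop, hcon⟩, rfl⟩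
    omega
  have hex2 : ∃ n : ℕ, ∃ g ∈ Subgroup.normalizer (Q : Set G), (orderOf g).Coprime p ∧
      g ∉ Subgroup.centralizer (Q : Set G) ∧ orderOf g = n := by
    obtain ⟨g, hg, hcop, hgc⟩ := hQg
    exact ⟨_, g, hg, hcop, hgc, rfl⟩
  obtain ⟨g, hgN, hgcop, hgC, hgord⟩ := Nat.find_spec hex2
  have hming : ∀ h ∈ Subgroup.normalizer (Q : Set G), (orderOf h).Coprime p →
      orderOf h < orderOf g → h ∈ Subgroup.centralizer (Q : Set G) := by
    intro h hh hcop hlt
    by_contra hcon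
    have := Nat.find_min' hex2 ⟨h, hh, hcop, hcon, rfl⟩
    omega
  have hg1 : g ≠ 1 := by
    intro h; apply hgC; rw [h]; exact Subgroup.one_mem _
  have hog1 : orderOf g ≠ 1 := fun h => hg1 (orderOf_eq_one_iff.mp h)
  obtain ⟨q, hq, hqdvd⟩ := Nat.exists_prime_and_dvd hog1
  have hpq : p ≠ q := by
    rintro rfl
    have := Nat.Coprime.eq_one_of_dvd hgcop.symm hqdvd
    exact hp.one_lt.ne' this
  have hog0 : 0 < orderOf g := orderOf_pos g
  have hgqC : g ^ q ∈ Subgroup.centralizer (Q : Set G) := by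
    apply hming
    · exact Subgroup.pow_mem _ hgN q
    · exact Nat.Coprime.coprime_dvd_left (orderOf_pow_dvd q) hgcop
    · rw [orderOf_pow_of_dvd hq.ne_zero hqdvd]
      exact Nat.div_lt_self hog0 hq.one_lt
  -- commutation facts
  have hQgq : ∀ x ∈ Q, x * g ^ q = g ^ q * x := fun x hx =>
    Subgroup.mem_centralizer_iff.mp hgqC x hx
  -- the derived subgroup
  set Q' : Subgroup G := ⁅Q, Q⁆ with hQ'
  have hQ'le : Q' ≤ Q := Subgroup.commutator_le_self Q
  have hQne : Q ≠ ⊥ := by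
    intro h
    apply hgC
    rw [Subgroup.mem_centralizer_iff]
    intro x hx
    rw [h] at hx
    rw [Subgroup.mem_bot.mp hx]; simp
  have hQ'lt : Nat.card Q' < Nat.card Q := by
    have h1 := Subgroup.card_le_of_le hQ'le
    rcases h1.lt_or_eq with h2 | h2
    · exact h2
    · exfalso
      have h3 : Q' = Q := Subgroup.eq_of_le_of_card_ge hQ'le h2.ge
      haveI : Group.IsNilpotent Q := hQp.isNilpotent
      have h4 : (⊤ : Subgroup Q) = ⊥ := by
        apply Cfsg.Agent.S4585.eq_bot_of_le_commutator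
        rw [← commutator_def]
        intro x _
        have hx : (x : G) ∈ Q' := by rw [h3]; exact x.2
        rw [hQ', ← Subgroup.map_subtype_commutator] at hx
        obtain ⟨y, hy, hyx⟩ := hx
        have : y = x := Subtype.ext hyx
        rw [← this]; exact hy
      apply hQne
      rw [eq_bot_iff]
      intro x hx
      have : (⟨x, hx⟩ : Q) ∈ (⊤ : Subgroup Q) := Subgroup.mem_top _
      rw [h4, Subgroup.mem_bot] at this
      rw [Subgroup.mem_bot]
      exact congrArg Subtype.val this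
  have hgNQ' : g ∈ Subgroup.normalizer (Q' : Set G) := normalizer_le_normalizer_commutator Q hgN
  have hgCQ' : g ∈ Subgroup.centralizer (Q' : Set G) :=
    hminQ Q' (hQp.to_le hQ'le) hQ'lt g hgNQ' hgcop
  -- the subgroups H and N₁
  set N₁ : Subgroup G := Q' ⊔ Subgroup.zpowers (g ^ q) with hN₁
  set H : Subgroup G := Subgroup.zpowers g ⊔ Q with hH
  have hgH : g ∈ H := (le_sup_left : Subgroup.zpowers g ≤ H) (Subgroup.mem_zpowers g)
  have hQH : Q ≤ H := le_sup_right
  have hzN : Subgroup.zpowers g ≤ Subgroup.normalizer (Q : Set G) := by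
    rw [Subgroup.zpowers_le]; exact hgN
  have hHNQ : H ≤ Subgroup.normalizer (Q : Set G) := sup_le hzN Subgroup.le_normalizer
  have hN₁H : N₁ ≤ H := by
    apply sup_le (hQ'le.trans hQH)
    rw [Subgroup.zpowers_le]
    exact Subgroup.pow_mem _ hgH q
  have hN₁g : N₁ ≤ Subgroup.centralizer ({g} : Set G) := by
    apply sup_le
    · intro d hd
      rw [Subgroup.mem_centralizer_iff]
      intro y hy
      rw [Set.mem_singleton_iff.mp hy]
      exact (Subgroup.mem_centralizer_iff.mp hgCQ' d hd).symm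
    · rw [Subgroup.zpowers_le, Subgroup.mem_centralizer_iff]
      intro y hy
      rw [Set.mem_singleton_iff.mp hy]
      exact ((Commute.refl g).pow_right q).eq
  have hHnorm : H ≤ Subgroup.normalizer (N₁ : Set G) := by
    have hkey : ∀ y : G, y ∈ Subgroup.normalizer (Q' : Set G) → y * g ^ q = g ^ q * y →
        y ∈ Subgroup.normalizer (N₁ : Set G) := by
      intro y hy1 hy2
      apply Subgroup.normalizer_inf_normalizer_le_normalizer_sup
      refine ⟨hy1, ?_⟩
      apply Subgroup.centralizer_le_normalizer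
      rw [Subgroup.mem_centralizer_iff]
      intro z hz
      obtain ⟨i, rfl⟩ := Subgroup.mem_zpowers_iff.mp hz
      exact ((show Commute (g ^ q) y from hy2.symm).zpow_left i).eq
    apply sup_le
    · rw [Subgroup.zpowers_le]
      exact hkey g hgNQ' ((Commute.refl g).pow_right q).eq
    · intro y hy
      exact hkey y (normalizer_le_normalizer_commutator Q (Subgroup.le_normalizer hy)) (hQgq y hy)
  set N : Subgroup H := N₁.subgroupOf H with hN
  haveI hNn : N.Normal := (Subgroup.normal_subgroupOf_iff_le_normalizer hN₁H).mpr hHnorm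
  refine ⟨H, N, hNn, ?_⟩
  set π := QuotientGroup.mk' N with hπ
  have hπs : Function.Surjective π := QuotientGroup.mk'_surjective N
  set s : H ⧸ N := π ⟨g, hgH⟩ with hsdef
  set V : Subgroup (H ⧸ N) := (Q.subgroupOf H).map π with hV
  haveI hQn : (Q.subgroupOf H).Normal := (Subgroup.normal_subgroupOf_iff_le_normalizer hQH).mpr hHNQ
  haveI hVn : V.Normal := Subgroup.Normal.map hQn π hπs
  have hVmem : ∀ (x : G) (hx : x ∈ Q), π ⟨x, hQH hx⟩ ∈ V := fun x hx =>
    ⟨⟨x, hQH hx⟩, Subgroup.mem_subgroupOf.mpr hx, rfl⟩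
  have hVex : ∀ v ∈ V, ∃ (x : G) (hx : x ∈ Q), v = π ⟨x, hQH hx⟩ := by
    rintro _ ⟨y, hy, rfl⟩
    exact ⟨y.1, Subgroup.mem_subgroupOf.mp hy, rfl⟩
  have hπ1 : ∀ y : H, π y = 1 ↔ (y : G) ∈ N₁ := by
    intro y
    rw [hπ, QuotientGroup.mk'_apply, QuotientGroup.eq_one_iff, hN, Subgroup.mem_subgroupOf]
  have hVab : ∀ a ∈ V, ∀ b ∈ V, a * b = b * a := by
    intro a ha b hb
    obtain ⟨x, hx, rfl⟩ := hVex a ha
    obtain ⟨y, hy, rfl⟩ := hVex b hb
    rw [← map_mul, ← map_mul]
    apply eq_of_mul_inv_eq_one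
    rw [← map_inv, ← map_mul, hπ1]
    have e : ((⟨x, hQH hx⟩ * ⟨y, hQH hy⟩ * (⟨y, hQH hy⟩ * ⟨x, hQH hx⟩)⁻¹ : H) : G) = ⁅x, y⁆ := by
      rw [commutatorElement_def]
      simp [mul_assoc]
    rw [e]
    exact le_sup_left (α := Subgroup G) (Subgroup.commutator_mem_commutator hx hy)
  have hVp : IsPGroup p V := (hQp.comap_subtype (K := H)).map π
  have hs : s ^ q = 1 := by
    rw [hsdef, ← map_pow, hπ1]
    exact le_sup_right (α := Subgroup G) (Subgroup.mem_zpowers (g ^ q))
  have hgen : ∀ k : H ⧸ N, ∃ i : ℤ, ∃ a ∈ V, k = s ^ i * a := by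
    intro k
    obtain ⟨h, rfl⟩ := hπs k
    have h1 : (h : G) ∈ ((Subgroup.zpowers g ⊔ Q : Subgroup G) : Set G) := h.2
    rw [Subgroup.coe_mul_of_left_le_normalizer_right _ _ hzN] at h1
    obtain ⟨z, hz, x, hx, hzx⟩ := Set.mem_mul.mp h1
    obtain ⟨i, rfl⟩ := Subgroup.mem_zpowers_iff.mp hz
    refine ⟨i, π ⟨x, hQH hx⟩, hVmem x hx, ?_⟩
    rw [hsdef, ← map_zpow, ← map_mul]
    congr 1
    apply Subtype.ext
    simp only [Subgroup.coe_mul, Subgroup.coe_zpow]
    exact hzx.symm
  -- V is inside the derived subgroup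
  have hVcomm : V ≤ commutator (H ⧸ N) := by
    by_contra hcon
    set E : Subgroup G := ((commutator (H ⧸ N)).comap π).map H.subtype with hE
    have hEmem : ∀ (y : G) (hy : y ∈ H), y ∈ E ↔ π ⟨y, hy⟩ ∈ commutator (H ⧸ N) := by
      intro y hy
      constructor
      · rintro ⟨z, hz, hzy⟩
        have : z = ⟨y, hy⟩ := Subtype.ext hzy
        rw [← this]; exact hz
      · intro h
        exact ⟨⟨y, hy⟩, h, rfl⟩
    set R : Subgroup G := Q ⊓ E with hR
    have hRQ : R ≤ Q := inf_le_left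
    have hRlt : Nat.card R < Nat.card Q := by
      have h1 := Subgroup.card_le_of_le hRQ
      rcases h1.lt_or_eq with h2 | h2
      · exact h2
      · exfalso
        have h3 : R = Q := Subgroup.eq_of_le_of_card_ge hRQ h2.ge
        apply hcon
        intro v hv
        obtain ⟨x, hx, rfl⟩ := hVex v hv
        have hxR : x ∈ R := by rw [h3]; exact hx
        exact (hEmem x (hQH hx)).mp hxR.2
    have hgNR : g ∈ Subgroup.normalizer (R : Set G) := by
      have hconj : ∀ t ∈ Subgroup.normalizer (Q : Set G), t ∈ H → ∀ x ∈ R, t * x * t⁻¹ ∈ R := by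
        intro t ht htH x hx
        have hxH : x ∈ H := hQH hx.1
        have hE1 : t * x * t⁻¹ ∈ E := by
          rw [hEmem _ (H.mul_mem (H.mul_mem htH hxH) (H.inv_mem htH))]
          have h1 := (hEmem x hxH).mp hx.2
          have e : π ⟨t * x * t⁻¹, H.mul_mem (H.mul_mem htH hxH) (H.inv_mem htH)⟩
              = π ⟨t, htH⟩ * π ⟨x, hxH⟩ * (π ⟨t, htH⟩)⁻¹ := by
            rw [← map_inv, ← map_mul, ← map_mul]; rfl
          rw [e]
          exact (inferInstance : (commutator (H ⧸ N)).Normal).conj_mem _ h1 _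
        exact ⟨(Subgroup.mem_normalizer_iff.mp ht x).mp hx.1, hE1⟩
      rw [Subgroup.mem_normalizer_iff]
      intro x
      constructor
      · exact hconj g hgN hgH x
      · intro h
        have h2 := hconj g⁻¹ (Subgroup.inv_mem _ hgN) (H.inv_mem hgH) _ h
        have e : g⁻¹ * (g * x * g⁻¹) * g⁻¹⁻¹ = x := by group
        rw [e] at h2
        exact h2
    have hgCR : g ∈ Subgroup.centralizer (R : Set G) :=
      hminQ R (hQp.to_le hRQ) hRlt g hgNR hgcop
    apply hgC
    rw [Subgroup.mem_centralizer_iff]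
    intro x hx
    have hgx : g * x * g⁻¹ ∈ Q := (Subgroup.mem_normalizer_iff.mp hgN x).mp hx
    have hcQ : x⁻¹ * (g * x * g⁻¹) ∈ Q := Q.mul_mem (Q.inv_mem hx) hgx
    have hcE : x⁻¹ * (g * x * g⁻¹) ∈ E := by
      rw [hEmem _ (hQH hcQ)]
      have e : π ⟨x⁻¹ * (g * x * g⁻¹), hQH hcQ⟩ = ⁅(π ⟨x, hQH hx⟩)⁻¹, π ⟨g, hgH⟩⁆ := by
        rw [commutatorElement_def, ← map_inv, ← map_mul, ← map_inv, ← map_mul, ← map_inv,
          ← map_mul]
        congr 1
        apply Subtype.ext
        simp [mul_assoc]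
      rw [e]
      exact Subgroup.commutator_mem_commutator (Subgroup.mem_top _) (Subgroup.mem_top _)
    have hcg : g * (x⁻¹ * (g * x * g⁻¹)) = (x⁻¹ * (g * x * g⁻¹)) * g :=
      (Subgroup.mem_centralizer_iff.mp hgCR _ ⟨hcQ, hcE⟩).symm
    have hcp : ∃ k : ℕ, (x⁻¹ * (g * x * g⁻¹)) ^ (p ^ k) = 1 := by
      obtain ⟨k, hk⟩ := hQp ⟨_, hcQ⟩
      exact ⟨k, by simpa using congrArg Subtype.val hk⟩
    have hc1 := Cfsg.Agent.Lib.Helper2.Npc.eq_one_of_conj_eq_mul (p := p) g x
      (x⁻¹ * (g * x * g⁻¹)) (by group) hcg hcp hgcop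
    have h5 : g * x * g⁻¹ = x := by
      have : g * x * g⁻¹ = x * (x⁻¹ * (g * x * g⁻¹)) := by group
      rw [this, hc1, mul_one]
    calc x * g = (g * x * g⁻¹) * g := by rw [h5]
      _ = g * x := by group
  -- fixed points
  set θ := Cfsg.Agent.S4586.theta V hVab s with hθ
  have hθr : θ.range = commutator (H ⧸ N) := Cfsg.Agent.S4586.range_theta V hVab s hgen
  have hker : θ.ker = ⊥ := by
    have h1 : Nat.card V ≤ Nat.card θ.range := by
      rw [hθr]; exact Subgroup.card_le_of_le hVcomm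
    have h2 := Subgroup.card_mul_index θ.ker
    rw [Subgroup.index_ker] at h2
    have h3 : 0 < Nat.card V := Nat.card_pos
    have h4 : Nat.card θ.ker = 1 := by
      by_contra hne
      have h5 : 0 < Nat.card θ.ker := Nat.card_pos
      have h6 : 2 ≤ Nat.card θ.ker := by omega
      nlinarith
    exact Subgroup.card_eq_one.mp h4
  have hfix : ∀ v ∈ V, s * v = v * s → v = 1 := by
    intro v hv hc
    have h1 : (⟨v, hv⟩ : V) ∈ θ.ker := by
      rw [MonoidHom.mem_ker, hθ, Cfsg.Agent.S4586.theta_apply, commutatorElement_eq_one_iff_mul_comm]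
      exact hc
    rw [hker, Subgroup.mem_bot] at h1
    exact congrArg Subtype.val h1
  have hV1 : V ≠ ⊥ := by
    intro h
    apply hgC
    rw [Subgroup.mem_centralizer_iff]
    intro x hx
    have h1 : π ⟨x, hQH hx⟩ = 1 := by
      have := hVmem x hx
      rw [h, Subgroup.mem_bot] at this
      exact this
    rw [hπ1] at h1
    have h2 := hN₁g h1
    rw [Subgroup.mem_centralizer_iff] at h2
    exact (h2 g rfl).symm
  exact noExp hq hpq V hVab hVp hV1 s hs hgen hfix

end main

/-- Let G be a finite group and p a prime. Then G has a normal p-complement if and only if every section K = H/N of G (N a normal subgroup of a subgroup H) whose largest normal subgroup of order prime to p is trivial contains an element whose order equals the exponent of K. -/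
theorem result {G : Type*} [Group G] [Finite G] (p : ℕ) [Fact p.Prime] :
    Cfsg.HasNormalPComplement p G ↔
      ∀ (H : Subgroup G) (N : Subgroup H) [N.Normal], Cfsg.pPrimeCore p (H ⧸ N) = ⊥ →
        ∃ k : H ⧸ N, orderOf k = Monoid.exponent (H ⧸ N) := by
  have hp : p.Prime := Fact.out
  constructor
  · intro hnpc H N hNn hO
    obtain ⟨P, M, hMn, hMc⟩ := Cfsg.Agent.Lib.Helper6.hasNormalPComplement_subgroup hnpc H
    haveI := hMn
    have hMcard : (Nat.card M).Coprime p := by
      rw [← hMc.index_eq_card]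
      exact (Nat.Prime.coprime_iff_not_dvd hp).mpr P.not_dvd_index |>.symm
    have hMN : M ≤ N := by
      have h1 : M.map (QuotientGroup.mk' N) ≤ Cfsg.pPrimeCore p (H ⧸ N) := by
        haveI := hMn.map (QuotientGroup.mk' N) (QuotientGroup.mk'_surjective N)
        apply Cfsg.Agent.Lib.Helper7.le_pPrimeCore
        exact Nat.Coprime.coprime_dvd_left (Subgroup.card_map_dvd _ _) hMcard
      rw [hO] at h1
      intro m hm
      have h2 : QuotientGroup.mk' N m ∈ M.map (QuotientGroup.mk' N) := ⟨m, hm, rfl⟩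
      have h3 := h1 h2
      rw [Subgroup.mem_bot] at h3
      exact (QuotientGroup.eq_one_iff m).mp h3
    have hK : IsPGroup p (H ⧸ N) := by
      have h1 : N.index ∣ M.index := Subgroup.index_dvd_of_le hMN
      rw [hMc.symm.index_eq_card] at h1
      obtain ⟨n, hn⟩ := IsPGroup.iff_card.mp P.isPGroup'
      rw [hn] at h1
      obtain ⟨j, -, hj⟩ := (Nat.dvd_prime_pow hp).mp h1
      apply IsPGroup.of_card (n := j)
      rw [← Subgroup.index_eq_card, hj]
    exact exists_orderOf_eq_exponent_of_pgroup hK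
  · intro h
    by_contra hnot
    obtain ⟨H, N, hN, h1, h2⟩ := exists_bad_section p hnot
    exact h2 (@h H N hN h1)

end Cfsg.Agent.S4238
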