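import Cfsg.Statements.S4249
import Cfsg.Agent.Lib.Helper2.Kegel3
import Cfsg.Agent.Lib.Helper6.NilpComm
set_option autoImplicit false
open Cfsg

namespace Cfsg.Agent.S4249

theorem result {G : Type*} [Group G] [Finite G] (p : ℕ) (hp : p.Prime) (hG : ¬ IsPGroup p G)
    (hH : Subgroup.closure {g : G | g ^ p ≠ 1} ≠ ⊤) :
    Group.IsNilpotent (Subgroup.closure {g : G | g ^ p ≠ 1}) ∧ (Subgroup.closure {g : G | g ^ p ≠ 1}).index = p := by
  classical
  haveI : Fact p.Prime := ⟨hp⟩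
  have hHn0 : (Subgroup.closure {g : G | g ^ p ≠ 1}).Normal := by
    constructor
    intro n hn g
    have hle : Subgroup.closure {g : G | g ^ p ≠ 1} ≤
        (Subgroup.closure {g : G | g ^ p ≠ 1}).comap (MulAut.conj g).toMonoidHom := by
      rw [Subgroup.closure_le]
      intro x hx
      show (MulAut.conj g) x ∈ Subgroup.closure {g : G | g ^ p ≠ 1}
      apply Subgroup.subset_closure
      show ((MulAut.conj g) x) ^ p ≠ 1
      rw [MulAut.conj_apply, conj_pow]
      intro h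
      apply hx
      have e : x ^ p = g⁻¹ * (g * x ^ p * g⁻¹) * g := by group
      rw [e, h]; group
    exact hle hn
  obtain ⟨H, hHdef⟩ : ∃ H : Subgroup G, H = Subgroup.closure {g : G | g ^ p ≠ 1} := ⟨_, rfl⟩
  rw [← hHdef] at hH hHn0 ⊢
  haveI hHn : H.Normal := hHn0
  have hout : ∀ g : G, g ∉ H → g ^ p = 1 := by
    intro g hg
    by_contra h
    exact hg (hHdef ▸ Subgroup.subset_closure h)
  obtain ⟨x, hx⟩ : ∃ x : G, x ∉ H := by
    by_contra h
    push_neg at h
    exact hH (eq_top_iff.mpr (fun g _ => h g))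
  have hnilH : Group.IsNilpotent H := by
    apply Cfsg.Agent.Lib.Helper2.Fpf.nilpotent_of_coset_exponent hp H x
    · intro g hg; exact hHn.conj_mem g hg x
    · intro g hg
      apply hout
      intro h
      apply hx
      have e : x = g⁻¹ * (g * x) := by group
      rw [e]; exact H.mul_mem (H.inv_mem hg) h
  refine ⟨hnilH, ?_⟩
  have hquo : ∀ z : G ⧸ H, z ^ p = 1 := by
    intro z
    obtain ⟨g, rfl⟩ := QuotientGroup.mk_surjective z
    by_cases hg : g ∈ H
    · rw [(QuotientGroup.eq_one_iff g).mpr hg, one_pow]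
    · rw [← QuotientGroup.mk_pow, hout g hg]; rfl
  have hQp : IsPGroup p (G ⧸ H) := fun z => ⟨1, by rw [pow_one]; exact hquo z⟩
  have hHnotp : ¬ IsPGroup p H := by
    intro hHp
    apply hG
    obtain ⟨a, ha⟩ := IsPGroup.iff_card.mp hHp
    obtain ⟨b, hb⟩ := IsPGroup.iff_card.mp hQp
    have hcard := Subgroup.card_mul_index H
    rw [Subgroup.index_eq_card, ha, hb, ← pow_add] at hcard
    exact IsPGroup.of_card hcard.symm
  obtain ⟨q, hq, hqp, hqdvd⟩ : ∃ q : ℕ, q.Prime ∧ q ≠ p ∧ q ∣ Nat.card H := by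
    by_contra hcon
    push_neg at hcon
    apply hHnotp
    have h2 : ∀ {d : ℕ}, d.Prime → d ∣ Nat.card H → d = p := by
      intro d hd hdvd
      by_contra hne
      exact hcon d hd hne hdvd
    exact IsPGroup.of_card (Nat.eq_prime_pow_of_unique_prime_dvd (Nat.card_pos (α := H)).ne' h2)
  haveI : Fact q.Prime := ⟨hq⟩
  obtain ⟨Q₀⟩ : Nonempty (Sylow q H) := inferInstance
  have hQ₀ne : (Q₀ : Subgroup H) ≠ ⊥ := Sylow.ne_bot_of_dvd_card Q₀ hqdvd
  obtain ⟨u₀, hu₀1⟩ := Subgroup.ne_bot_iff_exists_ne_one.mp hQ₀ne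
  obtain ⟨i, hi⟩ := Q₀.isPGroup' u₀
  have huH : (((u₀ : H)) : G) ∈ H := (u₀ : H).2
  have hu1 : (((u₀ : H)) : G) ≠ 1 := by
    intro h
    apply hu₀1
    apply Subtype.ext
    apply Subtype.ext
    exact h
  have hui : (((u₀ : H)) : G) ^ q ^ i = 1 := by
    have h1 := congrArg Subtype.val (congrArg Subtype.val hi)
    rw [Subgroup.coe_pow, Subgroup.coe_pow] at h1
    exact h1
  have hfpf : ∀ y : G, y ∉ H → ¬ Commute y (((u₀ : H)) : G) := by
    intro y hy hc
    have hyu : y * (((u₀ : H)) : G) ∉ H := by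
      intro h
      apply hy
      have e : y = (y * (((u₀ : H)) : G)) * ((((u₀ : H)) : G))⁻¹ := by group
      rw [e]; exact H.mul_mem h (H.inv_mem huH)
    have h1 := hout _ hyu
    rw [hc.mul_pow, hout y hy, one_mul] at h1
    have h3 : orderOf (((u₀ : H)) : G) ∣ p := orderOf_dvd_of_pow_eq_one h1
    have h4 : orderOf (((u₀ : H)) : G) ∣ q ^ i := orderOf_dvd_of_pow_eq_one hui
    have hcop : Nat.Coprime p (q ^ i) :=
      Nat.Coprime.pow_right i ((Nat.coprime_primes hp hq).mpr (Ne.symm hqp))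
    exact hu1 (orderOf_eq_one_iff.mp (Nat.eq_one_of_dvd_coprimes hcop h3 h4))
  have hxq : (QuotientGroup.mk x : G ⧸ H) ≠ 1 := fun h => hx ((QuotientGroup.eq_one_iff x).mp h)
  have hordx : orderOf (QuotientGroup.mk x : G ⧸ H) = p := orderOf_eq_prime (hquo _) hxq
  by_cases htop : Subgroup.zpowers (QuotientGroup.mk x : G ⧸ H) = ⊤
  · rw [Subgroup.index_eq_card, ← Subgroup.card_top (G := G ⧸ H), ← htop, Nat.card_zpowers, hordx]
  · exfalso
    haveI : Group.IsNilpotent (G ⧸ H) := hQp.isNilpotent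
    have hNC : NormalizerCondition (G ⧸ H) := Group.normalizerCondition_of_isNilpotent
    have hlt := hNC _ (lt_top_iff_ne_top.mpr htop)
    obtain ⟨wq, hwqN, hwq⟩ := SetLike.exists_of_lt hlt
    obtain ⟨w, rfl⟩ := QuotientGroup.mk_surjective wq
    obtain ⟨G₁, hG₁def⟩ : ∃ G₁ : Subgroup G,
        G₁ = (Subgroup.zpowers (QuotientGroup.mk x : G ⧸ H)).comap (QuotientGroup.mk' H) :=
      ⟨_, rfl⟩
    have hG₁mem : ∀ g : G, g ∈ G₁ ↔
        (QuotientGroup.mk g : G ⧸ H) ∈ Subgroup.zpowers (QuotientGroup.mk x : G ⧸ H) := by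
      intro g; rw [hG₁def]; exact Iff.rfl
    have hHG₁ : H ≤ G₁ := by
      intro h hh
      rw [hG₁mem, (QuotientGroup.eq_one_iff h).mpr hh]
      exact Subgroup.one_mem _
    have hxG₁ : x ∈ G₁ := by
      rw [hG₁mem]; exact Subgroup.mem_zpowers _
    have hwG₁ : w ∉ G₁ := by
      rw [hG₁mem]; exact hwq
    have hwN : ∀ g ∈ G₁, w * g * w⁻¹ ∈ G₁ := by
      intro g hg
      rw [hG₁mem] at hg ⊢
      have h1 := (Subgroup.mem_normalizer_iff.mp hwqN (QuotientGroup.mk g)).mp hg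
      exact h1
    have hnil₁ : Group.IsNilpotent G₁ := by
      apply Cfsg.Agent.Lib.Helper2.Fpf.nilpotent_of_coset_exponent hp G₁ w hwN
      intro g hg
      apply hout
      intro h
      apply hwG₁
      have e : w = g⁻¹ * (g * w) := by group
      rw [e]; exact G₁.mul_mem (G₁.inv_mem hg) (hHG₁ h)
    have hxord : orderOf x = p := orderOf_eq_prime (hout x hx) (fun h => hx (h ▸ H.one_mem))
    have hc : Commute (⟨x, hxG₁⟩ : G₁) ⟨_, hHG₁ huH⟩ := by
      apply Cfsg.Agent.Lib.Helper6.commute_of_pelt_of_coprime hnil₁ (p := p) (i := 1)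
      · rw [Subgroup.orderOf_mk, hxord, pow_one]
      · rw [Subgroup.orderOf_mk]
        exact Nat.Coprime.coprime_dvd_left (orderOf_dvd_of_pow_eq_one hui)
          (Nat.Coprime.pow_left i ((Nat.coprime_primes hq hp).mpr hqp))
    apply hfpf x hx
    exact congrArg Subtype.val hc.eq
end Cfsg.Agent.S4249
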