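import Mathlib
import Cfsg.Statements.S4419
import Cfsg.Agent.Lib.Helper6.FrobNC
import Cfsg.Agent.Lib.Helper6.Primary
import Cfsg.Agent.S4218
import Cfsg.Agent.S0014
import Cfsg.Agent.Lib.Helper7.PPrime
import Cfsg.Agent.Lib.Helper3.PPrimeP
import Cfsg.Agent.Lib.Helper3.Cores

set_option autoImplicit false
open Cfsg

namespace Cfsg.Agent.S4419



theorem metacyclic_gen2 (R : Type*) [Group R] (h : Cfsg.IsMetacyclic R) :
    ∃ c d : R, Subgroup.closure ({c, d} : Set R) = ⊤ := by
  obtain ⟨N, hN, hc, hq⟩ := h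
  haveI := hN
  obtain ⟨c₀, hc₀⟩ := hc.exists_generator
  obtain ⟨dq, hd⟩ := hq.exists_generator
  obtain ⟨d, rfl⟩ := QuotientGroup.mk_surjective dq
  refine ⟨c₀.1, d, eq_top_iff.mpr (fun r _ => ?_)⟩
  obtain ⟨k, hk⟩ := Subgroup.mem_zpowers_iff.mp (hd (r : R ⧸ N))
  have h1 : r * (d ^ k)⁻¹ ∈ N := by
    rw [← QuotientGroup.eq_one_iff, QuotientGroup.mk_mul, QuotientGroup.mk_inv,
      QuotientGroup.mk_zpow, hk, mul_inv_cancel]
  obtain ⟨j, hj⟩ := Subgroup.mem_zpowers_iff.mp (hc₀ ⟨_, h1⟩)
  have h2 : (c₀ : R) ^ j = r * (d ^ k)⁻¹ := by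
    have := congrArg Subtype.val hj
    simpa using this
  have h3 : r = (c₀ : R) ^ j * d ^ k := by rw [h2]; group
  rw [h3]
  exact Subgroup.mul_mem _ (Subgroup.zpow_mem _ (Subgroup.subset_closure (by simp)) j)
    (Subgroup.zpow_mem _ (Subgroup.subset_closure (by simp)) k)

theorem metacyclic_subgroup (R : Type*) [Group R] (h : Cfsg.IsMetacyclic R) (U : Subgroup R) :
    Cfsg.IsMetacyclic U := by
  obtain ⟨N, hN, hc, hq⟩ := h
  haveI := hN
  haveI := hc
  haveI := hq
  refine ⟨N.subgroupOf U, inferInstance, ?_, ?_⟩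
  · let f : (N.subgroupOf U) →* N :=
      (U.subtype.comp (N.subgroupOf U).subtype).codRestrict N
        (fun x => Subgroup.mem_subgroupOf.mp x.2)
    apply isCyclic_of_injective f
    intro x y hxy
    have := congrArg Subtype.val hxy
    exact Subtype.ext (Subtype.ext this)
  · let f : (U ⧸ N.subgroupOf U) →* (R ⧸ N) :=
      QuotientGroup.map (N.subgroupOf U) N U.subtype (le_refl _)
    apply isCyclic_of_injective f
    rw [injective_iff_map_eq_one]
    intro x hx
    induction x using QuotientGroup.induction_on with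
    | H u =>
      have hx' : ((U.subtype u : R) : R ⧸ N) = 1 := hx
      rw [QuotientGroup.eq_one_iff] at hx' ⊢
      exact hx'

theorem two_gen {G : Type*} [Group G] (S Q : Subgroup G) (hQS : Q ≤ S)
    (hS : Cfsg.IsMetacyclic S) :
    ∃ T : Finset Q, T.card ≤ 2 ∧ Subgroup.closure (T : Set Q) = ⊤ := by
  classical
  obtain ⟨c, d, hcd⟩ := metacyclic_gen2 _ (metacyclic_subgroup S hS (Q.subgroupOf S))
  let e : Q.subgroupOf S ≃* Q := Subgroup.subgroupOfEquivOfLe hQS
  refine ⟨{e c, e d}, Finset.card_le_two, ?_⟩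
  have : ((({e c, e d} : Finset Q)) : Set Q) =
      e.toMonoidHom '' ({c, d} : Set (Q.subgroupOf S)) := by
    simp [Set.image_pair]
  rw [this, ← MonoidHom.map_closure, hcd]
  exact Subgroup.map_top_of_surjective _ e.surjective

/-- induced automorphism on the Frattini quotient -/
def quotAut (U : Type*) [Group U] : MulAut U →* MulAut (U ⧸ frattini U) where
  toFun α := QuotientGroup.congr (frattini U) (frattini U) α
    (Subgroup.characteristic_iff_map_eq.mp frattini_characteristic α)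
  map_one' := by
    ext x
    induction x using QuotientGroup.induction_on with
    | H u => rfl
  map_mul' α β := by
    ext x
    induction x using QuotientGroup.induction_on with
    | H u => rfl

theorem quotAut_mk (U : Type*) [Group U] (α : MulAut U) (u : U) :
    quotAut U α (u : U ⧸ frattini U) = ((α u : U) : U ⧸ frattini U) := rfl

theorem frat_trivial {U : Type*} [Group U] [Finite U] (p q n b : ℕ) [Fact p.Prime]
    [Fact q.Prime] (hU : IsPGroup p U) (hn : (frattini U).index = p ^ n) (hn2 : n ≤ 2)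
    (hqp : q ≠ p) (hq : ¬ q ∣ p ^ 2 - 1) (α : MulAut U) (hα : α ^ q ^ b = 1) : α = 1 := by
  classical
  have hp : p.Prime := Fact.out
  have hqpr : q.Prime := Fact.out
  have hp1 : 1 < p := hp.one_lt
  let F : Subgroup (U ⧸ frattini U) :=
    { carrier := {v | quotAut U α v = v}
      one_mem' := map_one (quotAut U α)
      mul_mem' := by
        intro a b ha hb
        show quotAut U α (a * b) = a * b
        rw [map_mul]
        have ha' : quotAut U α a = a := ha
        have hb' : quotAut U α b = b := hb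
        rw [ha', hb']
      inv_mem' := by
        intro a ha
        show quotAut U α a⁻¹ = a⁻¹
        have ha' : quotAut U α a = a := ha
        rw [map_inv, ha'] }
  have hαb : quotAut U α ^ q ^ b = 1 := by rw [← map_pow, hα, map_one]
  letI : Fintype (U ⧸ frattini U) := Fintype.ofFinite _
  have hσ : (MulAut.toPerm _ (quotAut U α)) ^ q ^ b = 1 := by rw [← map_pow, hαb, map_one]
  have hmod := Equiv.Perm.card_compl_support_modEq hσ
  have hF : Nat.card F = (MulAut.toPerm _ (quotAut U α)).supportᶜ.card := by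
    rw [← Nat.card_eq_finsetCard]
    apply Nat.card_congr
    apply Equiv.subtypeEquivRight
    intro v
    rw [Finset.mem_compl, Equiv.Perm.mem_support, not_not]
    rfl
  have hcardV : Nat.card (U ⧸ frattini U) = p ^ n := hn
  have hmod' : Nat.card F ≡ p ^ n [MOD q] := by
    rw [hF, ← hcardV, Nat.card_eq_fintype_card]; exact hmod
  have hFdvd : Nat.card F ∣ p ^ n := by rw [← hcardV]; exact Subgroup.card_subgroup_dvd_card F
  obtain ⟨j, hj, hFj⟩ := (Nat.dvd_prime_pow hp).mp hFdvd
  have hjn : j = n := by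
    by_contra hne
    have hlt : j < n := lt_of_le_of_ne hj hne
    rw [hFj] at hmod'
    have hdvd : q ∣ p ^ n - p ^ j :=
      (Nat.modEq_iff_dvd' (Nat.pow_le_pow_right hp.pos hj)).mp hmod'
    have hqp' : ¬ q ∣ p := fun hd => hqp ((Nat.prime_dvd_prime_iff_eq hqpr hp).mp hd)
    have hq1 : ¬ q ∣ p - 1 := by
      intro hd
      apply hq
      have : p ^ 2 - 1 = (p - 1) * (p + 1) := by
        obtain ⟨k, rfl⟩ : ∃ k, p = k + 1 := ⟨p - 1, by omega⟩
        simp only [Nat.add_sub_cancel]
        ring_nf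
        omega
      rw [this]
      exact hd.mul_right _
    interval_cases n
    · omega
    · have : j = 0 := by omega
      subst this
      simp at hdvd
      exact hq1 hdvd
    · interval_cases j
      · simp at hdvd; exact hq hdvd
      · have : p ^ 2 - p ^ 1 = p * (p - 1) := by
          rw [pow_one, sq, Nat.mul_sub, mul_one]
        rw [this] at hdvd
        rcases (Nat.Prime.dvd_mul hqpr).mp hdvd with h | h
        · exact hqp' h
        · exact hq1 h
  have hFtop : F = ⊤ := by
    apply Subgroup.eq_top_of_card_eq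
    rw [hFj, hjn, hcardV]
  have hmem : α ∈ Cfsg.Agent.S4218.fratKer U := by
    rw [Cfsg.Agent.S4218.mem_fratKer]
    intro r
    have h1 : ((r : U) : U ⧸ frattini U) ∈ F := by rw [hFtop]; trivial
    have h2 : quotAut U α (r : U ⧸ frattini U) = (r : U ⧸ frattini U) := h1
    rw [quotAut_mk] at h2
    rw [← QuotientGroup.eq_one_iff, QuotientGroup.mk_mul, QuotientGroup.mk_inv, h2,
      mul_inv_cancel]
  obtain ⟨k, hk⟩ := (Cfsg.Agent.S4218.fratKer_isPGroup hU) ⟨α, hmem⟩
  have hk' : α ^ p ^ k = 1 := by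
    have := congrArg Subtype.val hk
    simpa using this
  have h1 : orderOf α ∣ p ^ k := orderOf_dvd_of_pow_eq_one hk'
  have h2 : orderOf α ∣ q ^ b := orderOf_dvd_of_pow_eq_one hα
  have h3 : Nat.Coprime (p ^ k) (q ^ b) :=
    Nat.Coprime.pow _ _ ((Nat.coprime_primes hp hqpr).mpr (Ne.symm hqp))
  have h4 := Nat.dvd_gcd h1 h2
  rw [h3.gcd_eq_one] at h4
  exact orderOf_eq_one_iff.mp (Nat.dvd_one.mp h4)

theorem core {G : Type*} [Group G] [Finite G] (p : ℕ) [Fact p.Prime] (S : Sylow p G)
    (hS : Cfsg.IsMetacyclic ↥(S : Subgroup G))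
    (hcop : Nat.Coprime (Nat.card (G ⧸ Cfsg.pPrimePCore p G)) (p ^ 2 - 1))
    (Q : Subgroup G) (hQS : Q ≤ (S : Subgroup G)) (y : G)
    (hy : y ∈ Subgroup.normalizer (Q : Set G))
    (q b : ℕ) (hq : q.Prime) (hqp : q ≠ p) (hyo : orderOf y = q ^ b) :
    y ∈ Subgroup.centralizer (Q : Set G) := by
  haveI : Fact q.Prime := ⟨hq⟩
  have hp : p.Prime := Fact.out
  have hQp : IsPGroup p Q := S.isPGroup'.to_le hQS
  by_cases hqL : q ∣ Nat.card (G ⧸ Cfsg.pPrimePCore p G)
  · have hq2 : ¬ q ∣ p ^ 2 - 1 := by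
      intro hd
      have := Nat.dvd_gcd hqL hd
      rw [hcop.gcd_eq_one] at this
      exact hq.one_lt.ne' (Nat.dvd_one.mp this)
    obtain ⟨T, hT2, hTc⟩ := two_gen (S : Subgroup G) Q hQS hS
    obtain ⟨m, hm⟩ := IsPGroup.iff_card.mp hQp
    have h1 : (frattini Q).index ∣ p ^ m := hm ▸ Subgroup.index_dvd_card _
    obtain ⟨n, -, hn⟩ := (Nat.dvd_prime_pow hp).mp h1
    have hn2 : n ≤ 2 := ((Cfsg.Agent.S0014.result p n hQp hn).2 T hTc).trans hT2
    have hα : (Q.normalizerMonoidHom ⟨y, hy⟩) ^ q ^ b = 1 := by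
      rw [← map_pow]
      have : (⟨y, hy⟩ : Subgroup.normalizer (Q : Set G)) ^ q ^ b = 1 := by
        apply Subtype.ext
        simp [← hyo, pow_orderOf_eq_one]
      rw [this, map_one]
    have h2 := frat_trivial p q n b hQp hn hn2 hqp hq2 _ hα
    have h3 : (⟨y, hy⟩ : Subgroup.normalizer (Q : Set G)) ∈ Q.normalizerMonoidHom.ker := h2
    rw [Subgroup.normalizerMonoidHom_ker] at h3
    exact h3
  · haveI hLn : (Cfsg.pPrimePCore p G).Normal := Cfsg.Agent.Lib.Helper3.pPrimePCore_normal' p G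
    haveI hKn : (Cfsg.pPrimeCore p G).Normal := Cfsg.Agent.Lib.Helper7.pPrimeCore_normal' p G
    have hyL : y ∈ Cfsg.pPrimePCore p G := by
      have h1 : y ^ (Cfsg.pPrimePCore p G).index ∈ Cfsg.pPrimePCore p G :=
        Subgroup.pow_index_mem _ y
      obtain ⟨a, ha⟩ := exists_pow_eq_self_of_coprime (x := y)
        (n := (Cfsg.pPrimePCore p G).index) (by
          rw [hyo]
          apply Nat.Coprime.pow_right
          exact ((Nat.Prime.coprime_iff_not_dvd hq).mpr hqL).symm)
      rw [← ha]; exact Subgroup.pow_mem _ h1 a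
    have hyK : y ∈ Cfsg.pPrimeCore p G := by
      have hy' : (QuotientGroup.mk' (Cfsg.pPrimeCore p G)) y ∈
          Cfsg.pCore p (G ⧸ Cfsg.pPrimeCore p G) := hyL
      obtain ⟨k, hk⟩ := (Cfsg.Agent.Lib.Lead.pCore_isPGroup'
        (G := G ⧸ Cfsg.pPrimeCore p G) p) ⟨_, hy'⟩
      have h1 : y ^ p ^ k ∈ Cfsg.pPrimeCore p G := by
        rw [← QuotientGroup.eq_one_iff]
        have := congrArg Subtype.val hk
        simpa using this
      obtain ⟨a, ha⟩ := exists_pow_eq_self_of_coprime (x := y) (n := p ^ k) (by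
        rw [hyo]
        exact Nat.Coprime.pow _ _ ((Nat.coprime_primes hp hq).mpr (Ne.symm hqp)))
      rw [← ha]; exact Subgroup.pow_mem _ h1 a
    have hQK : Q ⊓ Cfsg.pPrimeCore p G = ⊥ := by
      apply Subgroup.inf_eq_bot_of_coprime
      obtain ⟨m, hm⟩ := IsPGroup.iff_card.mp hQp
      rw [hm]
      exact Nat.Coprime.pow_left m (Cfsg.Agent.Lib.Helper7.pPrimeCore_coprime p).symm
    rw [Subgroup.mem_centralizer_iff]
    intro u hu
    have hu' : u ∈ Q := hu
    have hw1 : u * y * u⁻¹ * y⁻¹ ∈ Cfsg.pPrimeCore p G :=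
      Subgroup.mul_mem _ (hKn.conj_mem y hyK u) (Subgroup.inv_mem _ hyK)
    have hw2 : u * y * u⁻¹ * y⁻¹ ∈ Q := by
      have : u * y * u⁻¹ * y⁻¹ = u * (y * u⁻¹ * y⁻¹) := by group
      rw [this]
      exact Q.mul_mem hu' ((Subgroup.mem_normalizer_iff.mp hy u⁻¹).mp (Q.inv_mem hu'))
    have hw : u * y * u⁻¹ * y⁻¹ = 1 := by
      have : u * y * u⁻¹ * y⁻¹ ∈ Q ⊓ Cfsg.pPrimeCore p G := ⟨hw2, hw1⟩
      rw [hQK] at this
      exact Subgroup.mem_bot.mp this
    calc u * y = (u * y * u⁻¹ * y⁻¹) * (y * u) := by group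
      _ = y * u := by rw [hw, one_mul]

/-- Let p be a prime and G a finite group whose Sylow p-subgroups are metacyclic (a cyclic normal subgroup with cyclic quotient). Then G has a normal p-complement if and only if the order of G/O_{p′,p}(G) is coprime to p² − 1. -/
theorem result {G : Type*} [Group G] [Finite G] (p : ℕ) [Fact p.Prime] (S : Sylow p G) (hS : Cfsg.IsMetacyclic ↥(S : Subgroup G)) : Cfsg.HasNormalPComplement p G ↔ Nat.Coprime (Nat.card (G ⧸ Cfsg.pPrimePCore p G)) (p ^ 2 - 1) := by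
  constructor
  · rintro ⟨P, N, hN, hc⟩
    haveI := hN
    have hNcard : Nat.card N = (P : Subgroup G).index := (hc.index_eq_card).symm
    have hcopN : (Nat.card N).Coprime p := by
      rw [hNcard]
      exact ((Nat.Prime.coprime_iff_not_dvd Fact.out).mpr P.not_dvd_index).symm
    have hNK : N ≤ Cfsg.pPrimeCore p G := Cfsg.Agent.Lib.Helper7.le_pPrimeCore p N hcopN
    haveI hKn : (Cfsg.pPrimeCore p G).Normal := Cfsg.Agent.Lib.Helper7.pPrimeCore_normal' p G
    have hNidx : N.index = Nat.card (P : Subgroup G) := hc.symm.index_eq_card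
    obtain ⟨n, hn⟩ := IsPGroup.iff_card.mp P.isPGroup'
    have hquot : IsPGroup p (G ⧸ Cfsg.pPrimeCore p G) := by
      intro x
      induction x using QuotientGroup.induction_on with
      | H g =>
        refine ⟨n, ?_⟩
        rw [← QuotientGroup.mk_pow, QuotientGroup.eq_one_iff]
        apply hNK
        rw [← hn, ← hNidx]
        exact Subgroup.pow_index_mem N g
    have htop : Cfsg.pCore p (G ⧸ Cfsg.pPrimeCore p G) = ⊤ := by
      rw [eq_top_iff]
      exact Cfsg.Agent.Lib.Helper3.le_pCore ⊤ (hquot.to_subgroup ⊤)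
    have hL : Cfsg.pPrimePCore p G = ⊤ := by
      unfold Cfsg.pPrimePCore
      rw [htop]; rfl
    show Nat.Coprime (Cfsg.pPrimePCore p G).index _
    rw [hL, Subgroup.index_top]
    exact Nat.coprime_one_left _
  · intro hcop
    apply Cfsg.Agent.Lib.Helper6.frobenius_npc
    apply Cfsg.Agent.Lib.Helper6.frobCond_of_sylow S
    intro Q hQS g hg hcopg
    have key := Cfsg.Agent.Lib.Helper6.mem_of_forall_prime_pow
      ((Subgroup.centralizer (Q : Set G)).subgroupOf (Subgroup.normalizer (Q : Set G))) p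
      (fun y hy => by
        obtain ⟨q, b, hq, hqp, hyo⟩ := hy
        rw [Subgroup.mem_subgroupOf]
        exact core p S hS hcop Q hQS y.1 y.2 q b hq hqp (by rw [Subgroup.orderOf_coe]; exact hyo))
      ⟨g, hg⟩ (by rw [Subgroup.orderOf_mk]; exact hcopg)
    exact Subgroup.mem_subgroupOf.mp key

end Cfsg.Agent.S4419
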