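import Mathlib
import Cfsg.Statements.S4567
import Cfsg.Agent.Lib.Lead.Char18
import Cfsg.Agent.Lib.Lead.Hall
import Cfsg.Agent.Lib.Helper7.Extra

set_option autoImplicit false
open Cfsg

namespace Cfsg.Agent.S4567

open Cfsg.Agent.Lib.Lead Cfsg.Agent.Lib.Helper7

section grp

variable {G : Type*} [Group G] (N : Subgroup G)

/-- the "special" condition of the statement -/
def Sp (g : G) : Prop := ∀ x : G, x⁻¹ * g⁻¹ * x * g ∈ N → x * g = g * x

theorem sp_conj [hN : N.Normal] (g y : G) (h : Sp N g) : Sp N (y * g * y⁻¹) := by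
  intro x hx
  have h1 : (y⁻¹ * x * y)⁻¹ * g⁻¹ * (y⁻¹ * x * y) * g
      = y⁻¹ * (x⁻¹ * (y * g * y⁻¹)⁻¹ * x * (y * g * y⁻¹)) * y⁻¹⁻¹ := by group
  have h2 : (y⁻¹ * x * y)⁻¹ * g⁻¹ * (y⁻¹ * x * y) * g ∈ N := by
    rw [h1]
    exact hN.conj_mem _ hx y⁻¹
  have h3 := h _ h2
  calc x * (y * g * y⁻¹) = y * (y⁻¹ * x * y * g) * y⁻¹ := by group
    _ = y * (g * (y⁻¹ * x * y)) * y⁻¹ := by rw [h3]
    _ = y * g * y⁻¹ * x := by group

theorem sp_mul (hN : N ≤ Subgroup.center G) (g n : G) (hn : n ∈ N) (h : Sp N g) :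
    Sp N (g * n) := by
  have hc : ∀ y : G, y * n = n * y := Subgroup.mem_center_iff.mp (hN hn)
  have hc' : ∀ y : G, y * n⁻¹ = n⁻¹ * y := fun y => by
    calc y * n⁻¹ = n⁻¹ * (n * y) * n⁻¹ := by group
      _ = n⁻¹ * (y * n) * n⁻¹ := by rw [hc y]
      _ = n⁻¹ * y := by group
  intro x hx
  have h1 : x⁻¹ * (g * n)⁻¹ * x * (g * n) = x⁻¹ * g⁻¹ * x * g := by
    calc x⁻¹ * (g * n)⁻¹ * x * (g * n) = x⁻¹ * n⁻¹ * (g⁻¹ * x * g * n) := by group
      _ = n⁻¹ * x⁻¹ * (g⁻¹ * x * g * n) := by rw [hc' x⁻¹]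
      _ = n⁻¹ * (x⁻¹ * g⁻¹ * x * g * n) := by group
      _ = n⁻¹ * (n * (x⁻¹ * g⁻¹ * x * g)) := by rw [hc]
      _ = x⁻¹ * g⁻¹ * x * g := by group
  rw [h1] at hx
  have h2 := h x hx
  calc x * (g * n) = (x * g) * n := by group
    _ = g * x * n := by rw [h2]
    _ = g * (x * n) := by group
    _ = g * (n * x) := by rw [hc]
    _ = g * n * x := by group

theorem sp_conj_one (hN : N ≤ Subgroup.center G) (g : G) (h : Sp N g) (n : G) (hn : n ∈ N)
    (hc : IsConj g (g * n)) : n = 1 := by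
  obtain ⟨c, hc⟩ := isConj_iff.mp hc
  have hcen : ∀ y : G, y * n = n * y := Subgroup.mem_center_iff.mp (hN hn)
  have e3 : g = c⁻¹ * g * c * n := by
    calc g = c⁻¹ * (c * g * c⁻¹) * c := by group
      _ = c⁻¹ * (g * n) * c := by rw [hc]
      _ = c⁻¹ * g * (n * c) := by group
      _ = c⁻¹ * g * (c * n) := by rw [hcen c]
      _ = c⁻¹ * g * c * n := by group
  have e2 : c⁻¹ * g * c = g * n⁻¹ := by
    calc c⁻¹ * g * c = (c⁻¹ * g * c * n) * n⁻¹ := by group
      _ = g * n⁻¹ := by rw [← e3]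
  have h1 : c⁻¹ * g⁻¹ * c * g = n := by
    calc c⁻¹ * g⁻¹ * c * g = (c⁻¹ * g * c)⁻¹ * g := by group
      _ = (g * n⁻¹)⁻¹ * g := by rw [e2]
      _ = n * (g⁻¹ * g) := by group
      _ = n := by group
  have h2 := h c (h1 ▸ hn)
  have h3 : c * g * c⁻¹ = g := by rw [h2]; group
  rw [h3] at hc
  have h4 : g * 1 = g * n := by rw [mul_one]; exact hc
  exact (mul_left_cancel h4).symm

theorem not_sp_exists (g : G) (h : ¬ Sp N g) : ∃ m ∈ N, m ≠ 1 ∧ IsConj g (g * m) := by
  unfold Sp at h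
  push Not at h
  obtain ⟨x, hx, hne⟩ := h
  refine ⟨(x⁻¹ * g⁻¹ * x * g)⁻¹, N.inv_mem hx, ?_, ?_⟩
  · intro h1
    apply hne
    have h2 : x⁻¹ * g⁻¹ * x * g = 1 := inv_eq_one.mp h1
    calc x * g = g * x * (x⁻¹ * g⁻¹ * x * g) := by group
      _ = g * x := by rw [h2, mul_one]
  · rw [isConj_iff]
    refine ⟨x⁻¹, ?_⟩
    group

end grp

theorem central_char {G : Type*} [Group G] [Finite G] (N : Subgroup G)
    (hN : N ≤ Subgroup.center G) (χ : Cfsg.IrrCharacter G) :
    ∃ c : N → ℂ, ∀ (g : G) (n : N), χ.1 (g * n) = c n * χ.1 g := by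
  obtain ⟨k, ρ, hρ, hρχ⟩ := χ.2
  haveI := hρ
  choose c hc using fun n : N => Cfsg.Agent.Lib.Helper7.central_scalar ρ (n : G) (hN n.2)
  refine ⟨c, fun g n => ?_⟩
  rw [← hρχ]
  exact Cfsg.Agent.Lib.Helper7.character_mul_scalar ρ g n (c n) (hc n)

theorem over_iff {G : Type*} [Group G] [Fintype G] (N : Subgroup G) [Fintype N]
    (ψ : Cfsg.IrrCharacter N) (hψ1 : ψ.1 1 = 1)
    (χ : Cfsg.IrrCharacter G) (c : N → ℂ) (hc : ∀ (g : G) (n : N), χ.1 (g * n) = c n * χ.1 g)
    [Decidable (Cfsg.classInner (fun n : N => χ.1 n) ψ.1 ≠ 0)] :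
    ∑ n : N, ψ.1 n * (starRingEnd ℂ) (c n)
      = if Cfsg.classInner (fun n : N => χ.1 n) ψ.1 ≠ 0 then (Nat.card N : ℂ) else 0 := by
  have hχ1 : χ.1 1 ≠ 0 := irr_deg_ne_zero χ
  have hcn : ∀ n : N, χ.1 n = c n * χ.1 1 := fun n => by
    have := hc 1 n; rwa [one_mul] at this
  have hcmul : ∀ n m : N, c (n * m) = c n * c m := by
    intro n m
    have h1 : χ.1 ((n * m : N) : G) = c (n * m) * χ.1 1 := hcn (n * m)
    have h2 : χ.1 ((n : G) * m) = c m * χ.1 n := hc n m
    rw [hcn n] at h2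
    have h3 : c (n * m) * χ.1 1 = c m * (c n * χ.1 1) := by rw [← h1, ← h2]; rfl
    have h4 : (c (n * m) - c n * c m) * χ.1 1 = 0 := by rw [sub_mul, h3]; ring
    rcases mul_eq_zero.mp h4 with h | h
    · exact sub_eq_zero.mp h
    · exact absurd h hχ1
  have hψmul := irr_linear_mul ψ hψ1
  have hinner : Cfsg.classInner (fun n : N => χ.1 n) ψ.1
      = χ.1 1 * ((Nat.card N : ℂ)⁻¹ * ∑ n : N, c n * (starRingEnd ℂ) (ψ.1 n)) := by
    unfold Cfsg.classInner
    have e : ∀ n ∈ (Finset.univ : Finset N), χ.1 (n : G) * (starRingEnd ℂ) (ψ.1 n)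
        = c n * χ.1 1 * (starRingEnd ℂ) (ψ.1 n) := fun n _ => by rw [hcn n]
    rw [Finset.sum_congr rfl e, Finset.mul_sum, Finset.mul_sum, Finset.mul_sum]
    apply Finset.sum_congr rfl
    intro n _
    ring
  have hconj : ∑ n : N, ψ.1 n * (starRingEnd ℂ) (c n)
      = (starRingEnd ℂ) (∑ n : N, c n * (starRingEnd ℂ) (ψ.1 n)) := by
    rw [map_sum]
    apply Finset.sum_congr rfl
    intro n _
    rw [map_mul, Complex.conj_conj, mul_comm]
  split_ifs with hne
  · have hsum : ∑ n : N, c n * (starRingEnd ℂ) (ψ.1 n) ≠ 0 := by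
      intro h0; apply hne; rw [hinner, h0]; simp
    have hcψ : ∀ m : N, c m = ψ.1 m := by
      intro m
      have h1 : ∑ n : N, c n * (starRingEnd ℂ) (ψ.1 n)
          = (c m * (starRingEnd ℂ) (ψ.1 m)) * ∑ n : N, c n * (starRingEnd ℂ) (ψ.1 n) := by
        conv_lhs => rw [← Equiv.sum_comp (Equiv.mulRight m)
          (fun n : N => c n * (starRingEnd ℂ) (ψ.1 n))]
        rw [Finset.mul_sum]
        apply Finset.sum_congr rfl
        intro n _
        show c (n * m) * (starRingEnd ℂ) (ψ.1 (n * m)) = _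
        rw [hcmul, hψmul, map_mul]; ring
      have h2 : (c m * (starRingEnd ℂ) (ψ.1 m) - 1)
          * ∑ n : N, c n * (starRingEnd ℂ) (ψ.1 n) = 0 := by
        rw [sub_mul, ← h1, one_mul, sub_self]
      rcases mul_eq_zero.mp h2 with h3 | h3
      · have h4 : c m * (starRingEnd ℂ) (ψ.1 m) = 1 := sub_eq_zero.mp h3
        have h5 := LT.linear_mul_conj ψ hψ1 m
        calc c m = c m * (ψ.1 m * (starRingEnd ℂ) (ψ.1 m)) := by rw [h5, mul_one]
          _ = (c m * (starRingEnd ℂ) (ψ.1 m)) * ψ.1 m := by ring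
          _ = ψ.1 m := by rw [h4, one_mul]
      · exact absurd h3 hsum
    have e : ∀ n ∈ (Finset.univ : Finset N), ψ.1 n * (starRingEnd ℂ) (c n) = 1 := fun n _ => by
      rw [hcψ n]; exact LT.linear_mul_conj ψ hψ1 n
    rw [Finset.sum_congr rfl e]
    simp [Nat.card_eq_fintype_card]
  · push Not at hne
    rw [hinner] at hne
    have hN0 : (Nat.card N : ℂ) ≠ 0 := by exact_mod_cast Nat.card_pos.ne'
    have h0 : ∑ n : N, c n * (starRingEnd ℂ) (ψ.1 n) = 0 := by
      rcases mul_eq_zero.mp hne with h | h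
      · exact absurd h hχ1
      · rcases mul_eq_zero.mp h with h' | h'
        · exact absurd (inv_eq_zero.mp h') hN0
        · exact h'
    rw [hconj, h0, map_zero]

open scoped Classical in
theorem S_formula {G : Type*} [Group G] [Fintype G] (N : Subgroup G) [Fintype N]
    [Fintype (Cfsg.IrrCharacter G)] (hN : N ≤ Subgroup.center G)
    (ψ : Cfsg.IrrCharacter N) (hψ1 : ψ.1 1 = 1) (g : G) :
    (Nat.card N : ℂ) * ∑ χ : Cfsg.IrrCharacter G,
        (if Cfsg.classInner (fun n : N => χ.1 n) ψ.1 ≠ 0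
          then χ.1 g * (starRingEnd ℂ) (χ.1 g) else 0)
      = (Nat.card (Subgroup.centralizer ({g} : Set G)) : ℂ)
        * ∑ n : N, (if IsConj g (g * n) then ψ.1 n else 0) := by
  have h1 : ∀ n : N, (Nat.card (Subgroup.centralizer ({g} : Set G)) : ℂ)
      * (if IsConj g (g * n) then ψ.1 n else 0)
      = ∑ χ : Cfsg.IrrCharacter G, ψ.1 n * (χ.1 g * (starRingEnd ℂ) (χ.1 (g * n))) := by
    intro n
    rw [← Finset.mul_sum, col_orth' g (g * n)]
    split_ifs <;> ring
  rw [Finset.mul_sum (s := (Finset.univ : Finset N)), Finset.sum_congr rfl (fun n _ => h1 n),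
    Finset.sum_comm, Finset.mul_sum]
  apply Finset.sum_congr rfl
  intro χ _
  obtain ⟨c, hc⟩ := central_char N hN χ
  have h2 : ∑ n : N, ψ.1 n * (χ.1 g * (starRingEnd ℂ) (χ.1 (g * n)))
      = (χ.1 g * (starRingEnd ℂ) (χ.1 g)) * ∑ n : N, ψ.1 n * (starRingEnd ℂ) (c n) := by
    rw [Finset.mul_sum]
    apply Finset.sum_congr rfl
    intro n _
    rw [hc g n, map_mul]; ring
  rw [h2, over_iff N ψ hψ1 χ c hc]
  split_ifs <;> ring

open scoped Classical in
theorem T_special {G : Type*} [Group G] (N : Subgroup G) [Fintype N]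
    (hN : N ≤ Subgroup.center G) (ψ : Cfsg.IrrCharacter N) (hψ1 : ψ.1 1 = 1) (g : G)
    (h : Sp N g) : ∑ n : N, (if IsConj g (g * n) then ψ.1 n else 0) = 1 := by
  rw [Finset.sum_eq_single (1 : N)]
  · rw [if_pos]
    · exact hψ1
    · rw [Subgroup.coe_one, mul_one]
  · intro n _ hn
    rw [if_neg]
    intro hc
    apply hn
    exact Subtype.ext (sp_conj_one N hN g h n n.2 hc)
  · intro h; exact absurd (Finset.mem_univ _) h

open scoped Classical in
theorem T_not_special {G : Type*} [Group G] (N : Subgroup G) [Finite N]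
    [Fintype N] (hN : N ≤ Subgroup.center G) (ψ : Cfsg.IrrCharacter N) (hψ1 : ψ.1 1 = 1)
    (hfaith : ∀ n : N, ψ.1 n = ψ.1 1 → n = 1) (g : G)
    (h : ¬ Sp N g) : ∑ n : N, (if IsConj g (g * n) then ψ.1 n else 0) = 0 := by
  obtain ⟨m, hmN, hm1, hmc⟩ := not_sp_exists N g h
  have hψm : ψ.1 ⟨m, hmN⟩ ≠ 1 := by
    intro h1
    apply hm1
    have := hfaith ⟨m, hmN⟩ (by rw [h1, hψ1])
    exact congrArg Subtype.val this
  have hψmul := irr_linear_mul ψ hψ1
  obtain ⟨d, hd⟩ := isConj_iff.mp hmc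
  have hiff : ∀ n : N, IsConj g (g * ((n : G) * m)) ↔ IsConj g (g * n) := by
    intro n
    have hcn : ∀ y : G, y * (n : G) = n * y := Subgroup.mem_center_iff.mp (hN n.2)
    have hconj : IsConj (g * (n : G)) (g * ((n : G) * m)) := by
      rw [isConj_iff]
      refine ⟨d, ?_⟩
      calc d * (g * n) * d⁻¹ = d * g * (n * d⁻¹) := by group
        _ = d * g * (d⁻¹ * n) := by rw [hcn d⁻¹]
        _ = (d * g * d⁻¹) * n := by group
        _ = g * m * n := by rw [hd]
        _ = g * (m * n) := by group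
        _ = g * (n * m) := by rw [hcn m]
    constructor
    · intro h1; exact h1.trans hconj.symm
    · intro h1; exact h1.trans hconj
  have h1 : ∑ n : N, (if IsConj g (g * n) then ψ.1 n else 0)
      = ψ.1 ⟨m, hmN⟩ * ∑ n : N, (if IsConj g (g * n) then ψ.1 n else 0) := by
    conv_lhs => rw [← Equiv.sum_comp (Equiv.mulRight (⟨m, hmN⟩ : N))
      (fun n : N => if IsConj g (g * n) then ψ.1 n else 0)]
    rw [Finset.mul_sum]
    apply Finset.sum_congr rfl
    intro n _
    show (if IsConj g (g * ((n : G) * m)) then ψ.1 (n * ⟨m, hmN⟩) else 0) = _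
    by_cases hc : IsConj g (g * n)
    · rw [if_pos ((hiff n).mpr hc), if_pos hc, hψmul]; ring
    · rw [if_neg (fun h => hc ((hiff n).mp h)), if_neg hc, mul_zero]
  have h2 : (ψ.1 ⟨m, hmN⟩ - 1) * ∑ n : N, (if IsConj g (g * n) then ψ.1 n else 0) = 0 := by
    rw [sub_mul, ← h1, one_mul, sub_self]
  rcases mul_eq_zero.mp h2 with h3 | h3
  · exact absurd (sub_eq_zero.mp h3) hψm
  · exact h3

open scoped Classical in
theorem class_count {Q : Type*} [Group Q] [Fintype Q] (P : Q → Prop)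
    (hP : ∀ x y : Q, P (y * x * y⁻¹) ↔ P x) :
    ∑ x : Q, (if P x then (Nat.card (Subgroup.centralizer ({x} : Set Q)) : ℂ) else 0)
      = (Nat.card Q : ℂ)
        * (Nat.card {C : ConjClasses Q // ∃ x : Q, ConjClasses.mk x = C ∧ P x} : ℂ) := by
  haveI : Fintype (ConjClasses Q) := Fintype.ofFinite _
  haveI : Fintype (Cfsg.IrrCharacter Q) := Fintype.ofFinite _
  let rep : ConjClasses Q → Q := fun C => Quotient.out C
  have hrep : ∀ C, ConjClasses.mk (rep C) = C := fun C => Quotient.out_eq C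
  have hcard : ∀ x y : Q, (Nat.card (Subgroup.centralizer ({y * x * y⁻¹} : Set Q)) : ℂ)
      = (Nat.card (Subgroup.centralizer ({x} : Set Q)) : ℂ) := by
    intro x y
    have h1 := col_orth' (y * x * y⁻¹) (y * x * y⁻¹)
    have h2 := col_orth' x x
    rw [if_pos (IsConj.refl _)] at h1 h2
    rw [← h1, ← h2]
    apply Finset.sum_congr rfl
    intro χ _
    rw [isClassFunction_of_irr χ x y]
  have hF : Cfsg.IsClassFunction Q
      (fun x => if P x then (Nat.card (Subgroup.centralizer ({x} : Set Q)) : ℂ) else 0) := by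
    intro x y
    show (if P (y * x * y⁻¹) then (Nat.card (Subgroup.centralizer ({y * x * y⁻¹} : Set Q)) : ℂ)
      else 0) = if P x then (Nat.card (Subgroup.centralizer ({x} : Set Q)) : ℂ) else 0
    by_cases h : P x
    · rw [if_pos h, if_pos ((hP x y).mpr h), hcard]
    · rw [if_neg h, if_neg (fun h' => h ((hP x y).mp h'))]
  rw [sum_eq_sum_classes _ hF rep hrep]
  have hterm : ∀ C : ConjClasses Q, ((Subgroup.centralizer ({rep C} : Set Q)).index : ℂ)
      * (if P (rep C) then (Nat.card (Subgroup.centralizer ({rep C} : Set Q)) : ℂ) else 0)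
      = if (∃ x : Q, ConjClasses.mk x = C ∧ P x) then (Nat.card Q : ℂ) else 0 := by
    intro C
    have hiff : P (rep C) ↔ ∃ x : Q, ConjClasses.mk x = C ∧ P x := by
      constructor
      · intro h; exact ⟨rep C, hrep C, h⟩
      · rintro ⟨x, hx, hPx⟩
        have h1 : ConjClasses.mk (rep C) = ConjClasses.mk x := (hrep C).trans hx.symm
        obtain ⟨y, hy⟩ := isConj_iff.mp (ConjClasses.mk_eq_mk_iff_isConj.mp h1)
        rw [← hy] at hPx
        exact (hP _ _).mp hPx
    by_cases h : P (rep C)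
    · rw [if_pos h, if_pos (hiff.mp h)]
      have := Subgroup.index_mul_card (Subgroup.centralizer ({rep C} : Set Q))
      exact_mod_cast this
    · rw [if_neg h, if_neg (fun h' => h (hiff.mpr h')), mul_zero]
  rw [Finset.sum_congr rfl (fun C _ => hterm C), Finset.sum_ite, Finset.sum_const_zero, add_zero,
    Finset.sum_const, nsmul_eq_mul, mul_comm]
  congr 1
  rw [Nat.card_eq_fintype_card, Fintype.card_subtype]


/-- Let N be a central subgroup of the finite group G and ψ a faithful irreducible (hence degree-one) character of N. Call a coset g N special when every x ∈ G whose commutator x⁻¹ g⁻¹ x g lies in N actually commutes with g (this depends only on the coset). Then the number of irreducible characters of G whose restriction to N contains ψ equals the number of conjugacy classes of G/N consisting of special cosets. -/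
theorem result {G : Type*} [Group G] [Fintype G] (N : Subgroup G) [N.Normal] [Fintype N] (hN : N ≤ Subgroup.center G) (ψ : Cfsg.IrrCharacter ↥N) (hfaith : ∀ n : ↥N, (ψ : ↥N → ℂ) n = (ψ : ↥N → ℂ) 1 → n = 1) : Nat.card {χ : Cfsg.IrrCharacter G // Cfsg.classInner (fun n : ↥N => (χ : G → ℂ) n) (ψ : ↥N → ℂ) ≠ 0} = Nat.card {C : ConjClasses (G ⧸ N) // ∃ g : G, ConjClasses.mk (g : G ⧸ N) = C ∧ ∀ x : G, x⁻¹ * g⁻¹ * x * g ∈ N → x * g = g * x} := by
  classical
  haveI : Fintype (Cfsg.IrrCharacter G) := Fintype.ofFinite _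
  haveI : Fintype (G ⧸ N) := Fintype.ofFinite _
  have hψ1 : (ψ : ↥N → ℂ) 1 = 1 := Extra.deg_one_of_comm (fun a b => by
    apply Subtype.ext
    exact Subgroup.mem_center_iff.mp (hN b.2) a) ψ
  have hG0 : (Nat.card G : ℂ) ≠ 0 := by exact_mod_cast Nat.card_pos.ne'
  have hN0 : (Nat.card N : ℂ) ≠ 0 := by exact_mod_cast Nat.card_pos.ne'
  -- the left side as a double sum
  have hL : (Nat.card G : ℂ) * (Nat.card {χ : Cfsg.IrrCharacter G //
      Cfsg.classInner (fun n : N => (χ : G → ℂ) n) (ψ : ↥N → ℂ) ≠ 0} : ℂ)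
      = ∑ g : G, ∑ χ : Cfsg.IrrCharacter G,
        (if Cfsg.classInner (fun n : N => (χ : G → ℂ) n) (ψ : ↥N → ℂ) ≠ 0
          then χ.1 g * (starRingEnd ℂ) (χ.1 g) else 0) := by
    have hcc : Nat.card {χ : Cfsg.IrrCharacter G //
        Cfsg.classInner (fun n : N => (χ : G → ℂ) n) (ψ : ↥N → ℂ) ≠ 0}
        = ∑ χ : Cfsg.IrrCharacter G,
          (if Cfsg.classInner (fun n : N => (χ : G → ℂ) n) (ψ : ↥N → ℂ) ≠ 0 then 1 else 0) := by
      rw [Nat.card_eq_fintype_card, Fintype.card_subtype, Finset.card_filter]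
    rw [Finset.sum_comm, hcc]
    push_cast
    rw [Finset.mul_sum]
    apply Finset.sum_congr rfl
    intro χ _
    by_cases h : Cfsg.classInner (fun n : N => (χ : G → ℂ) n) (ψ : ↥N → ℂ) ≠ 0
    · rw [if_pos h, mul_one, Finset.sum_congr rfl (fun g _ => if_pos h)]
      have hself := irr_inner_self χ
      unfold Cfsg.classInner at hself
      have h00 := congrArg (fun t => (Nat.card G : ℂ) * t) hself
      simp only [mul_one] at h00
      rw [← h00, ← mul_assoc, mul_inv_cancel₀ hG0, one_mul]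
    · rw [if_neg h, mul_zero, Finset.sum_congr rfl (fun g _ => if_neg h), Finset.sum_const_zero]
  have hT : ∀ g : G, ∑ n : N, (if IsConj g (g * n) then (ψ : ↥N → ℂ) n else 0)
      = if Sp N g then 1 else 0 := by
    intro g
    by_cases h : Sp N g
    · rw [if_pos h]; convert T_special N hN ψ hψ1 g h
    · rw [if_neg h]; convert T_not_special N hN ψ hψ1 hfaith g h
  have hM : (Nat.card N : ℂ) * ((Nat.card G : ℂ) * (Nat.card {χ : Cfsg.IrrCharacter G //
      Cfsg.classInner (fun n : N => (χ : G → ℂ) n) (ψ : ↥N → ℂ) ≠ 0} : ℂ))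
      = ∑ g : G, (if Sp N g then (Nat.card (Subgroup.centralizer ({g} : Set G)) : ℂ) else 0) := by
    rw [hL, Finset.mul_sum]
    apply Finset.sum_congr rfl
    intro g _
    have h1 := S_formula N hN ψ hψ1 g
    have h2 := hT g
    rw [h2] at h1
    by_cases h : Sp N g
    · rw [if_pos h] at h1 ⊢
      rw [h1, mul_one]
    · rw [if_neg h] at h1 ⊢
      rw [h1, mul_zero]
  -- the predicate on the quotient
  set P : G ⧸ N → Prop := fun x => ∃ g : G, (g : G ⧸ N) = x ∧ Sp N g with hPdef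
  have hPmk : ∀ g : G, P (g : G ⧸ N) ↔ Sp N g := by
    intro g
    constructor
    · rintro ⟨g', hg', hsp⟩
      have hmem : g'⁻¹ * g ∈ N := QuotientGroup.eq.mp hg'
      have := sp_mul N hN g' (g'⁻¹ * g) hmem hsp
      rwa [mul_inv_cancel_left] at this
    · intro h; exact ⟨g, rfl, h⟩
  have hPconj : ∀ x y : G ⧸ N, P (y * x * y⁻¹) ↔ P x := by
    have key : ∀ x y : G ⧸ N, P x → P (y * x * y⁻¹) := by
      rintro x y ⟨g, rfl, hsp⟩
      obtain ⟨u, rfl⟩ := QuotientGroup.mk_surjective y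
      exact ⟨u * g * u⁻¹, rfl, sp_conj N g u hsp⟩
    intro x y
    constructor
    · intro h
      have := key _ y⁻¹ h
      have e : y⁻¹ * (y * x * y⁻¹) * y⁻¹⁻¹ = x := by group
      rwa [e] at this
    · exact key x y
  have hcount := class_count P hPconj
  -- centralizers of special elements
  have hcent : ∀ g : G, Sp N g → (Nat.card (Subgroup.centralizer ({g} : Set G)) : ℂ)
      = (Nat.card N : ℂ) * (Nat.card (Subgroup.centralizer ({(g : G ⧸ N)} : Set (G ⧸ N))) : ℂ) := by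
    intro g hsp
    have h1 : (Subgroup.centralizer ({(g : G ⧸ N)} : Set (G ⧸ N))).comap (QuotientGroup.mk' N)
        = Subgroup.centralizer ({g} : Set G) := by
      ext x
      rw [Subgroup.mem_comap, Subgroup.mem_centralizer_iff, Subgroup.mem_centralizer_iff]
      constructor
      · intro h w hw
        rw [Set.mem_singleton_iff] at hw
        rw [hw]
        have h2 : (g : G ⧸ N) * (x : G ⧸ N) = (x : G ⧸ N) * (g : G ⧸ N) := h _ rfl
        have h3 : ((g * x : G) : G ⧸ N) = ((x * g : G) : G ⧸ N) := h2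
        have h4 : (g * x)⁻¹ * (x * g) ∈ N := QuotientGroup.eq.mp h3
        have h5 : x⁻¹ * g⁻¹ * x * g ∈ N := by
          have e : x⁻¹ * g⁻¹ * x * g = (g * x)⁻¹ * (x * g) := by group
          rw [e]; exact h4
        exact (hsp x h5).symm
      · intro h w hw
        rw [Set.mem_singleton_iff] at hw
        rw [hw]
        have h2 : g * x = x * g := h g rfl
        show ((g : G ⧸ N)) * (x : G ⧸ N) = (x : G ⧸ N) * (g : G ⧸ N)
        rw [← QuotientGroup.mk_mul, ← QuotientGroup.mk_mul, h2]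
    rw [← h1, card_comap_mk]
    push_cast
    ring
  -- assemble
  have hsum1 : ∑ g : G, (if Sp N g then (Nat.card (Subgroup.centralizer ({g} : Set G)) : ℂ) else 0)
      = (Nat.card N : ℂ) * ∑ g : G, (fun x : G ⧸ N =>
        if P x then (Nat.card (Subgroup.centralizer ({x} : Set (G ⧸ N))) : ℂ) else 0) (g : G ⧸ N) := by
    rw [Finset.mul_sum]
    apply Finset.sum_congr rfl
    intro g _
    show _ = (Nat.card N : ℂ) * (if P (g : G ⧸ N)
      then (Nat.card (Subgroup.centralizer ({(g : G ⧸ N)} : Set (G ⧸ N))) : ℂ) else 0)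
    by_cases h : Sp N g
    · rw [if_pos h, if_pos ((hPmk g).mpr h), hcent g h]
    · rw [if_neg h, if_neg (fun h' => h ((hPmk g).mp h')), mul_zero]
  have hsum2 : ∑ g : G, (fun x : G ⧸ N =>
        if P x then (Nat.card (Subgroup.centralizer ({x} : Set (G ⧸ N))) : ℂ) else 0) (g : G ⧸ N)
      = (Nat.card N : ℂ) * ∑ x : G ⧸ N,
        (if P x then (Nat.card (Subgroup.centralizer ({x} : Set (G ⧸ N))) : ℂ) else 0) := by
    rw [sum_eq_sum_coset N, Finset.mul_sum]
    apply Finset.sum_congr rfl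
    intro q _
    have e : ∀ z ∈ (Finset.univ : Finset N), (fun x : G ⧸ N =>
        if P x then (Nat.card (Subgroup.centralizer ({x} : Set (G ⧸ N))) : ℂ) else 0)
          ((q.out * (z : G) : G) : G ⧸ N)
        = (if P q then (Nat.card (Subgroup.centralizer ({q} : Set (G ⧸ N))) : ℂ) else 0) := by
      intro z _
      have e1 : ((q.out * (z : G) : G) : G ⧸ N) = q := by
        rw [QuotientGroup.mk_mul_of_mem _ z.2]; exact QuotientGroup.out_eq' q
      rw [e1]
    rw [Finset.sum_congr rfl e, Finset.sum_const, nsmul_eq_mul, Finset.card_univ,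
      ← Nat.card_eq_fintype_card]
  have hGN : (Nat.card G : ℂ) = (Nat.card (G ⧸ N) : ℂ) * (Nat.card N : ℂ) := by
    exact_mod_cast Subgroup.card_eq_card_quotient_mul_card_subgroup N
  have hfinal : (Nat.card N : ℂ) * ((Nat.card G : ℂ) * (Nat.card {χ : Cfsg.IrrCharacter G //
      Cfsg.classInner (fun n : N => (χ : G → ℂ) n) (ψ : ↥N → ℂ) ≠ 0} : ℂ))
      = (Nat.card N : ℂ) * ((Nat.card G : ℂ) * (Nat.card {C : ConjClasses (G ⧸ N) //
        ∃ x : G ⧸ N, ConjClasses.mk x = C ∧ P x} : ℂ)) := by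
    have hc2 : (∑ x : G ⧸ N,
        (if P x then (Nat.card (Subgroup.centralizer ({x} : Set (G ⧸ N))) : ℂ) else 0))
        = (Nat.card (G ⧸ N) : ℂ) * (Nat.card {C : ConjClasses (G ⧸ N) //
          ∃ x : G ⧸ N, ConjClasses.mk x = C ∧ P x} : ℂ) := by
      convert hcount
    rw [hM, hsum1, hsum2, hc2, hGN]
    ring
  have h3 := mul_left_cancel₀ hG0 (mul_left_cancel₀ hN0 hfinal)
  have h4 : Nat.card {χ : Cfsg.IrrCharacter G //
      Cfsg.classInner (fun n : N => (χ : G → ℂ) n) (ψ : ↥N → ℂ) ≠ 0}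
      = Nat.card {C : ConjClasses (G ⧸ N) // ∃ x : G ⧸ N, ConjClasses.mk x = C ∧ P x} := by
    exact_mod_cast h3
  rw [h4]
  apply Nat.card_congr
  apply Equiv.subtypeEquivRight
  intro C
  constructor
  · rintro ⟨x, hx, g, rfl, hsp⟩
    exact ⟨g, hx, hsp⟩
  · rintro ⟨g, hg, hsp⟩
    exact ⟨(g : G ⧸ N), hg, g, rfl, hsp⟩

end Cfsg.Agent.S4567
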