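import Mathlib
import Cfsg.Statements.S4574
import Cfsg.Agent.Lib.Helper7.Vanish
import Cfsg.Agent.Lib.Helper7.Extra

set_option autoImplicit false
open Cfsg

namespace Cfsg.Agent.S4574

open Cfsg.Agent.Lib.Lead Cfsg.Agent.Lib.Helper7

/-- Let χ be an irreducible character of the finite group G, of degree d, and let Z(χ) be the set of elements g with |χ g| = d (the centre of χ). Then χ vanishes on at least (d ^ 2 - 1) · |Z(χ)| elements of G, with equality when every value |χ g| is 0, 1 or d. -/
theorem result {G : Type*} [Group G] [Fintype G] [DecidableEq G] (χ : G → ℂ) (hχ : Cfsg.IsIrrCharacter G χ) : (Cfsg.charDegree χ ^ 2 - 1) * (Finset.univ.filter (fun g : G => ‖χ g‖ = (Cfsg.charDegree χ : ℝ))).card ≤ (Finset.univ.filter (fun g : G => χ g = 0)).card ∧ ((∀ g : G, ‖χ g‖ = 0 ∨ ‖χ g‖ = 1 ∨ ‖χ g‖ = (Cfsg.charDegree χ : ℝ)) → (Cfsg.charDegree χ ^ 2 - 1) * (Finset.univ.filter (fun g : G => ‖χ g‖ = (Cfsg.charDegree χ : ℝ))).card = (Finset.univ.filter (fun g : G => χ g = 0)).card) := by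
  classical
  obtain ⟨n, ρ, hρ, rfl⟩ := hχ
  haveI := hρ
  obtain ⟨hdpos, hd1, -⟩ :=
    DZ.charDegree_spec (⟨ρ.character, ⟨n, ρ, hρ, rfl⟩⟩ : Cfsg.IrrCharacter G)
  have hfin : (Cfsg.charDegree ρ.character : ℝ) = (Module.finrank ℂ (Fin n → ℂ) : ℝ) := by
    have h := Representation.char_one ρ
    have h2 : (Cfsg.charDegree ρ.character : ℂ) = (Module.finrank ℂ (Fin n → ℂ) : ℂ) := by
      rw [← h]; exact hd1.symm
    exact_mod_cast h2
  have hdR : (0 : ℝ) < (Cfsg.charDegree ρ.character : ℝ) := by exact_mod_cast hdpos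
  -- the partition
  have hcardG : (Finset.univ.filter (fun g : G => ‖ρ.character g‖
        = (Cfsg.charDegree ρ.character : ℝ))).card
      + (Finset.univ.filter (fun g : G => ρ.character g = 0)).card
      + (Finset.univ.filter (fun g : G => ρ.character g ≠ 0 ∧ ‖ρ.character g‖
        ≠ (Cfsg.charDegree ρ.character : ℝ))).card = Fintype.card G := by
    rw [Finset.card_filter, Finset.card_filter, Finset.card_filter, ← Finset.sum_add_distrib,
      ← Finset.sum_add_distrib, ← Finset.card_univ, Finset.card_eq_sum_ones]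
    apply Finset.sum_congr rfl
    intro g _
    by_cases h2 : ρ.character g = 0
    · have h1 : ¬ ‖ρ.character g‖ = (Cfsg.charDegree ρ.character : ℝ) := by
        rw [h2, norm_zero]; exact hdR.ne
      simp [h2, hdR.ne]
    · by_cases h1 : ‖ρ.character g‖ = (Cfsg.charDegree ρ.character : ℝ)
      · simp [h1, h2]
      · simp [h1, h2]
  have hsumG : ∑ g : G, ‖ρ.character g‖ ^ 2 = (Nat.card G : ℝ) := by
    have h := Extra.sum_normSq (⟨ρ.character, ⟨n, ρ, hρ, rfl⟩⟩ : Cfsg.IrrCharacter G)
    rw [← h]
    apply Finset.sum_congr rfl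
    intro g _
    rw [Complex.normSq_eq_norm_sq]
  have hsplit : ∑ g : G, ‖ρ.character g‖ ^ 2
      = (Cfsg.charDegree ρ.character : ℝ) ^ 2 * (Finset.univ.filter (fun g : G => ‖ρ.character g‖
        = (Cfsg.charDegree ρ.character : ℝ))).card
      + ∑ g ∈ Finset.univ.filter (fun g : G => ρ.character g ≠ 0 ∧ ‖ρ.character g‖
        ≠ (Cfsg.charDegree ρ.character : ℝ)), ‖ρ.character g‖ ^ 2 := by
    have hpt : ∀ g : G, ‖ρ.character g‖ ^ 2
        = (if ‖ρ.character g‖ = (Cfsg.charDegree ρ.character : ℝ)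
            then (Cfsg.charDegree ρ.character : ℝ) ^ 2 else 0)
          + (if (ρ.character g ≠ 0 ∧ ‖ρ.character g‖ ≠ (Cfsg.charDegree ρ.character : ℝ))
            then ‖ρ.character g‖ ^ 2 else 0) := by
      intro g
      by_cases h2 : ρ.character g = 0
      · have h1 : ¬ ‖ρ.character g‖ = (Cfsg.charDegree ρ.character : ℝ) := by
          rw [h2, norm_zero]; exact hdR.ne
        rw [if_neg h1, if_neg (fun h => h.1 h2), h2, norm_zero]; simp
      · by_cases h1 : ‖ρ.character g‖ = (Cfsg.charDegree ρ.character : ℝ)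
        · rw [if_pos h1, if_neg (fun h => h.2 h1), h1, add_zero]
        · rw [if_neg h1, if_pos ⟨h2, h1⟩, zero_add]
    rw [Finset.sum_congr rfl (fun g _ => hpt g), Finset.sum_add_distrib, ← Finset.sum_filter,
      ← Finset.sum_filter, Finset.sum_const, nsmul_eq_mul]
    ring
  have hamgm := Van.amgm_sum ρ (Finset.univ.filter (fun g : G => ρ.character g ≠ 0 ∧
      ‖ρ.character g‖ ≠ (Cfsg.charDegree ρ.character : ℝ)))
    (fun g hg => (Finset.mem_filter.mp hg).2.1)
    (fun m hm g hg => by
      rw [Finset.mem_filter] at hg ⊢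
      refine ⟨Finset.mem_univ _, Van.pow_nonvanishing ρ g m hm hg.2.1, ?_⟩
      rw [hfin]
      exact Van.pow_norm_ne ρ g m hm (by rw [← hfin]; exact hg.2.2))
  have hcardR : ((Finset.univ.filter (fun g : G => ‖ρ.character g‖
        = (Cfsg.charDegree ρ.character : ℝ))).card : ℝ)
      + ((Finset.univ.filter (fun g : G => ρ.character g = 0)).card : ℝ)
      + ((Finset.univ.filter (fun g : G => ρ.character g ≠ 0 ∧ ‖ρ.character g‖
        ≠ (Cfsg.charDegree ρ.character : ℝ))).card : ℝ) = (Nat.card G : ℝ) := by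
    rw [Nat.card_eq_fintype_card, ← hcardG]; push_cast; ring
  constructor
  · have h1 : ((Cfsg.charDegree ρ.character ^ 2 * (Finset.univ.filter (fun g : G => ‖ρ.character g‖
        = (Cfsg.charDegree ρ.character : ℝ))).card : ℕ) : ℝ)
        ≤ (((Finset.univ.filter (fun g : G => ρ.character g = 0)).card
          + (Finset.univ.filter (fun g : G => ‖ρ.character g‖
        = (Cfsg.charDegree ρ.character : ℝ))).card : ℕ) : ℝ) := by
      push_cast
      linarith
    have h2 : Cfsg.charDegree ρ.character ^ 2 * (Finset.univ.filter (fun g : G => ‖ρ.character g‖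
        = (Cfsg.charDegree ρ.character : ℝ))).card
        ≤ (Finset.univ.filter (fun g : G => ρ.character g = 0)).card
          + (Finset.univ.filter (fun g : G => ‖ρ.character g‖
        = (Cfsg.charDegree ρ.character : ℝ))).card := by exact_mod_cast h1
    rw [Nat.sub_mul, one_mul]
    exact Nat.sub_le_iff_le_add.mpr h2
  · intro hyp
    have hA1 : ∑ g ∈ Finset.univ.filter (fun g : G => ρ.character g ≠ 0 ∧ ‖ρ.character g‖
        ≠ (Cfsg.charDegree ρ.character : ℝ)), ‖ρ.character g‖ ^ 2
        = ((Finset.univ.filter (fun g : G => ρ.character g ≠ 0 ∧ ‖ρ.character g‖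
        ≠ (Cfsg.charDegree ρ.character : ℝ))).card : ℝ) := by
      rw [Finset.card_eq_sum_ones]
      push_cast
      apply Finset.sum_congr rfl
      intro g hg
      rw [Finset.mem_filter] at hg
      rcases hyp g with h | h | h
      · exact absurd (norm_eq_zero.mp h) hg.2.1
      · rw [h]; norm_num
      · exact absurd h hg.2.2
    have h1 : ((Cfsg.charDegree ρ.character ^ 2 * (Finset.univ.filter (fun g : G => ‖ρ.character g‖
        = (Cfsg.charDegree ρ.character : ℝ))).card : ℕ) : ℝ)
        = (((Finset.univ.filter (fun g : G => ρ.character g = 0)).card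
          + (Finset.univ.filter (fun g : G => ‖ρ.character g‖
        = (Cfsg.charDegree ρ.character : ℝ))).card : ℕ) : ℝ) := by
      push_cast
      linarith
    have h2 : Cfsg.charDegree ρ.character ^ 2 * (Finset.univ.filter (fun g : G => ‖ρ.character g‖
        = (Cfsg.charDegree ρ.character : ℝ))).card
        = (Finset.univ.filter (fun g : G => ρ.character g = 0)).card
          + (Finset.univ.filter (fun g : G => ‖ρ.character g‖
        = (Cfsg.charDegree ρ.character : ℝ))).card := by exact_mod_cast h1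
    rw [Nat.sub_mul, one_mul, h2, Nat.add_sub_cancel]

end Cfsg.Agent.S4574
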