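import Mathlib
import Cfsg.Statements.S4762
import Cfsg.Agent.Lib.Helper7.Extra

set_option autoImplicit false
open Cfsg

namespace Cfsg.Agent.S4762

open Cfsg.Agent.Lib.Lead Cfsg.Agent.Lib.Helper7

theorem isPGroup_of_unique {G : Type*} [Group G] [Finite G] [hnil : Group.IsNilpotent G] (p : ℕ)
    [Fact p.Prime] (χ₀ : Cfsg.IrrCharacter G) (h0 : p ∣ Cfsg.charDegree χ₀.1)
    (huniq : ∀ χ : Cfsg.IrrCharacter G, p ∣ Cfsg.charDegree χ.1 → χ = χ₀) : IsPGroup p G := by
  classical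
  have hp : p.Prime := Fact.out
  obtain ⟨P⟩ : Nonempty (Sylow p G) := inferInstance
  have hsyl := ((Group.isNilpotent_of_finite_tfae (G := G)).out 0 3).mp hnil
  have hPn : (P : Subgroup G).Normal := hsyl p inferInstance P
  haveI := hPn
  have hpow : ∀ g : G, ∃ a : ℕ, g ^ (p ^ a) ∈ Cfsg.pPrimeCore p G := by
    intro g
    obtain ⟨a, m, hm, hord⟩ :=
      Nat.exists_eq_pow_mul_and_not_dvd (orderOf_pos g).ne' p hp.ne_one
    refine ⟨a, ?_⟩
    apply Cfsg.Agent.S0581.mem_pPrimeCore_of_coprime hnil p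
    have h1 : (g ^ (p ^ a)) ^ m = 1 := by
      rw [← pow_mul, ← hord, pow_orderOf_eq_one]
    have h2 : orderOf (g ^ (p ^ a)) ∣ m := orderOf_dvd_of_pow_eq_one h1
    have h3 : m.Coprime p := ((Nat.Prime.coprime_iff_not_dvd hp).mpr hm).symm
    exact Nat.Coprime.coprime_dvd_left h2 h3
  have hdisj : ∀ x ∈ (P : Subgroup G), x ∈ Cfsg.pPrimeCore p G → x = 1 := by
    intro x hxP hxK
    obtain ⟨k, hk⟩ := P.isPGroup' ⟨x, hxP⟩
    have hk' : x ^ (p ^ k) = 1 := congrArg Subtype.val hk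
    have h1 : orderOf x ∣ p ^ k := orderOf_dvd_of_pow_eq_one hk'
    have h2 := Cfsg.Agent.S0581.coprime_of_mem_pPrimeCore p x hxK
    have h3 : orderOf x = 1 := Nat.Coprime.eq_one_of_dvd (Nat.Coprime.pow_right k h2) h1
    exact orderOf_eq_one_iff.mp h3
  have hex : ∃ ψ : Cfsg.IrrCharacter (G ⧸ Cfsg.pPrimeCore p G), p ∣ Cfsg.charDegree ψ.1 := by
    by_contra hno
    push Not at hno
    have hPD : PDeg.PD p (G ⧸ Cfsg.pPrimeCore p G) := hno
    have hQ : IsPGroup p (G ⧸ Cfsg.pPrimeCore p G) := by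
      intro q
      obtain ⟨g, rfl⟩ := QuotientGroup.mk_surjective q
      obtain ⟨a, ha⟩ := hpow g
      exact ⟨a, by rw [← QuotientGroup.mk_pow]; exact (QuotientGroup.eq_one_iff _).mpr ha⟩
    obtain ⟨Q⟩ : Nonempty (Sylow p (G ⧸ Cfsg.pPrimeCore p G)) := inferInstance
    have hQtop : (Q : Subgroup (G ⧸ Cfsg.pPrimeCore p G)) = ⊤ :=
      (Q.is_maximal' (hQ.to_subgroup ⊤) le_top).symm
    have hQn : (Q : Subgroup (G ⧸ Cfsg.pPrimeCore p G)).Normal := by rw [hQtop]; infer_instance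
    have hab := PDeg.comm_of_PD p Q hQn hPD
    have hGK : commutator G ≤ Cfsg.pPrimeCore p G := by
      rw [commutator_def, Subgroup.commutator_le]
      intro g _ h _
      rw [← QuotientGroup.eq_one_iff, commutatorElement_def]
      have hc := hab (g : G ⧸ Cfsg.pPrimeCore p G) (by rw [hQtop]; trivial)
        (h : G ⧸ Cfsg.pPrimeCore p G) (by rw [hQtop]; trivial)
      simp only [QuotientGroup.mk_mul, QuotientGroup.mk_inv]
      rw [hc]; group
    have hPab : ∀ x ∈ (P : Subgroup G), ∀ y ∈ (P : Subgroup G), x * y = y * x := by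
      intro x hx y hy
      have h1 : x * y * x⁻¹ * y⁻¹ ∈ Cfsg.pPrimeCore p G := hGK (by
        rw [commutator_def]
        exact Subgroup.commutator_mem_commutator (Subgroup.mem_top x) (Subgroup.mem_top y))
      have h2 : x * y * x⁻¹ * y⁻¹ ∈ (P : Subgroup G) :=
        mul_mem (mul_mem (mul_mem hx hy) (inv_mem hx)) (inv_mem hy)
      have h3 := hdisj _ h2 h1
      rw [mul_inv_eq_one, mul_inv_eq_iff_eq_mul] at h3
      exact h3
    have hidx : ¬ p ∣ (P : Subgroup G).index := P.not_dvd_index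
    exact PDeg.PD_of_normal_comm p (P : Subgroup G) hPab hidx χ₀ h0
  obtain ⟨ψ, hψ⟩ := hex
  have hinfl : Cfsg.IsIrrCharacter G (fun g => ψ.1 (QuotientGroup.mk' (Cfsg.pPrimeCore p G) g)) :=
    isIrrCharacter_comp_surj (QuotientGroup.mk' (Cfsg.pPrimeCore p G))
      (QuotientGroup.mk'_surjective _) ψ.2
  have hχ₀ : (⟨_, hinfl⟩ : Cfsg.IrrCharacter G) = χ₀ := by
    apply huniq
    have e : Cfsg.charDegree (fun g : G => ψ.1 (QuotientGroup.mk' (Cfsg.pPrimeCore p G) g))
        = Cfsg.charDegree ψ.1 := by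
      unfold Cfsg.charDegree; simp
    show p ∣ Cfsg.charDegree (fun g : G => ψ.1 (QuotientGroup.mk' (Cfsg.pPrimeCore p G) g))
    rw [e]; exact hψ
  have hker : ∀ k ∈ Cfsg.pPrimeCore p G, χ₀.1 k = χ₀.1 1 := by
    intro k hk
    rw [← hχ₀]
    show ψ.1 (QuotientGroup.mk' (Cfsg.pPrimeCore p G) k)
      = ψ.1 (QuotientGroup.mk' (Cfsg.pPrimeCore p G) 1)
    rw [map_one, QuotientGroup.mk'_apply, (QuotientGroup.eq_one_iff k).mpr hk]
  have hlin : ∀ μ : Cfsg.IrrCharacter G, μ.1 1 = 1 → ∀ k ∈ Cfsg.pPrimeCore p G, μ.1 k = 1 := by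
    intro μ hμ k hk
    have htw := LT.irr_linear_twist μ χ₀ hμ
    have heq : (⟨_, htw⟩ : Cfsg.IrrCharacter G) = χ₀ := by
      apply huniq
      show p ∣ Cfsg.charDegree (μ.1 * χ₀.1)
      rw [LT.charDegree_twist μ χ₀ hμ]; exact h0
    have h1 : μ.1 k * χ₀.1 k = χ₀.1 k := congrArg (fun f : Cfsg.IrrCharacter G => f.1 k) heq
    rw [hker k hk] at h1
    have hne := irr_deg_ne_zero χ₀
    exact mul_right_cancel₀ hne (by rw [h1, one_mul])
  have hPtop : (P : Subgroup G) = ⊤ := by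
    by_contra hPne
    haveI : Nontrivial (G ⧸ (P : Subgroup G)) := by
      rw [← Finite.one_lt_card_iff_nontrivial, ← Subgroup.index_eq_card]
      have h1 : (P : Subgroup G).index ≠ 1 := fun h => hPne (Subgroup.index_eq_one.mp h)
      have h2 : (P : Subgroup G).index ≠ 0 := Subgroup.index_ne_zero_of_finite
      omega
    have hcomm : commutator (G ⧸ (P : Subgroup G)) ≠ ⊤ :=
      (Group.IsSolvable.commutator_lt_top_of_nontrivial (G ⧸ (P : Subgroup G))).ne
    obtain ⟨μ, N, hNp, hμ1, hμN⟩ := Codeg.exists_linear_prime_codeg hcomm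
    have hinflμ := isIrrCharacter_comp_surj (QuotientGroup.mk' (P : Subgroup G))
      (QuotientGroup.mk'_surjective _) μ.2
    have hall : ∀ g : G, (QuotientGroup.mk' (P : Subgroup G) g) ∈ N := by
      intro g
      obtain ⟨a, ha⟩ := hpow g
      have h1 : (QuotientGroup.mk' (P : Subgroup G) g) ^ (p ^ a) ∈ N := by
        rw [← map_pow, ← hμN, hμ1]
        exact hlin ⟨_, hinflμ⟩ (by
          show μ.1 (QuotientGroup.mk' (P : Subgroup G) 1) = 1
          rw [map_one]; exact hμ1) _ ha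
      have hcop : (p ^ a).Coprime (orderOf (QuotientGroup.mk' (P : Subgroup G) g)) := by
        have h3 : orderOf (QuotientGroup.mk' (P : Subgroup G) g)
            ∣ Nat.card (G ⧸ (P : Subgroup G)) := orderOf_dvd_natCard _
        rw [← Subgroup.index_eq_card] at h3
        exact Nat.Coprime.coprime_dvd_right h3
          (Nat.Coprime.pow_left a ((Nat.Prime.coprime_iff_not_dvd hp).mpr P.not_dvd_index))
      obtain ⟨u, hu⟩ := exists_pow_eq_self_of_coprime hcop
      rw [← hu]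
      exact N.pow_mem h1 u
    have hNtop : N = ⊤ := by
      rw [eq_top_iff]
      intro q _
      obtain ⟨g, rfl⟩ := QuotientGroup.mk_surjective q
      exact hall g
    rw [hNtop, Subgroup.index_top] at hNp
    exact Nat.not_prime_one hNp
  intro g
  obtain ⟨k, hk⟩ := P.isPGroup' ⟨g, hPtop ▸ Subgroup.mem_top g⟩
  exact ⟨k, congrArg Subtype.val hk⟩


/-- Let p be a prime and G a finite nilpotent group. Then G has exactly one irreducible complex character of degree divisible by p if and only if p = 2 and G is an extraspecial 2-group. -/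
theorem result {G : Type*} [Group G] [Finite G] [Group.IsNilpotent G] (p : ℕ) [Fact p.Prime] : Nat.card {χ : Cfsg.IrrCharacter G // p ∣ Cfsg.charDegree (χ : G → ℂ)} = 1 ↔ (p = 2 ∧ Cfsg.IsExtraspecial 2 G) := by
  classical
  haveI : Fintype (Cfsg.IrrCharacter G) := Fintype.ofFinite _
  have hp : p.Prime := Fact.out
  constructor
  · intro h
    rw [Nat.card_eq_one_iff_unique] at h
    obtain ⟨hsub, ⟨⟨χ₀, h0⟩⟩⟩ := h
    have huniq : ∀ χ : Cfsg.IrrCharacter G, p ∣ Cfsg.charDegree χ.1 → χ = χ₀ := by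
      intro χ hχ
      exact congrArg Subtype.val (hsub.elim ⟨χ, hχ⟩ ⟨χ₀, h0⟩)
    have hPG := isPGroup_of_unique p χ₀ h0 huniq
    have h0' : Cfsg.charDegree χ₀.1 ≠ 1 := (Extra.pgroup_deg p hPG χ₀).mp h0
    have huniq' : ∀ χ : Cfsg.IrrCharacter G, Cfsg.charDegree χ.1 ≠ 1 → χ = χ₀ :=
      fun χ hχ => huniq χ ((Extra.pgroup_deg p hPG χ).mpr hχ)
    obtain ⟨hc2, hz2⟩ := Extra.pgroup_unique_nonlinear p hPG χ₀ h0' huniq'
    have hp2 : p = 2 := by
      obtain ⟨k, hk⟩ := IsPGroup.iff_card.mp (hPG.to_subgroup (Subgroup.center G))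
      rw [hz2] at hk
      have hd : p ∣ 2 := by
        rcases Nat.eq_zero_or_pos k with h | h
        · rw [h, pow_zero] at hk; omega
        · rw [hk]; exact dvd_pow_self p h.ne'
      exact (Nat.prime_dvd_prime_iff_eq hp Nat.prime_two).mp hd
    subst hp2
    have hcomm := Extra.comm_eq_center hc2 hz2
    exact ⟨rfl, ⟨hPG, le_antisymm (Extra.frattini_le_center hcomm hz2)
      (Extra.center_le_frattini hcomm), hcomm⟩, hz2⟩
  · rintro ⟨rfl, ⟨hPG, hfr, hcomm⟩, hz2⟩
    have hsum := Extra.sum_split (G := G)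
    have hdeg : ∀ χ : Cfsg.IrrCharacter G, Cfsg.charDegree χ.1 ≠ 1 →
        2 * (Cfsg.charDegree χ.1) ^ 2 = Nat.card G := Extra.extra_deg_sq hcomm hz2
    have hidx : (commutator G).index * 2 = Nat.card G := by
      have h1 := Subgroup.index_mul_card (commutator G)
      have h2 : Nat.card (commutator G) = 2 := by rw [hcomm]; exact hz2
      rw [h2] at h1
      exact h1
    have h1 : ∑ χ ∈ Finset.univ.filter
        (fun χ : Cfsg.IrrCharacter G => Cfsg.charDegree χ.1 ≠ 1), 2 * (Cfsg.charDegree χ.1) ^ 2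
        = (Finset.univ.filter
          (fun χ : Cfsg.IrrCharacter G => Cfsg.charDegree χ.1 ≠ 1)).card * Nat.card G := by
      rw [Finset.sum_congr rfl (fun χ hχ => hdeg χ (Finset.mem_filter.mp hχ).2),
        Finset.sum_const, smul_eq_mul]
    rw [← Finset.mul_sum] at h1
    have hGpos : 0 < Nat.card G := Nat.card_pos
    have h2 : (Finset.univ.filter
        (fun χ : Cfsg.IrrCharacter G => Cfsg.charDegree χ.1 ≠ 1)).card * Nat.card G
        = 1 * Nat.card G := by linarith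
    have hS1 := Nat.eq_of_mul_eq_mul_right hGpos h2
    rw [Nat.card_eq_fintype_card, Fintype.card_subtype, ← hS1]
    congr 1
    ext χ
    simp only [Finset.mem_filter, Finset.mem_univ, true_and]
    exact Extra.pgroup_deg 2 hPG χ

end Cfsg.Agent.S4762
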