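import Cfsg.Statements.S5330
import Cfsg.Agent.Lib.Helper8.Abel

set_option autoImplicit false
open Cfsg

namespace Cfsg.Agent.S5330

open Cfsg.Agent.Lib.Helper8 in
theorem aux {Ω : Type*} [Group Ω] {S : Subgroup Ω} [Finite S] (p : ℕ) [Fact p.Prime]
    (hS : IsPGroup p S) (F : Cfsg.FusionSystem S) (hF : F.IsSaturated p)
    (hab : ∀ x ∈ S, ∀ y ∈ S, x * y = y * x) :
    F.center ⊓ F.focalSubgroup = ⊥ ∧ F.center ⊔ F.focalSubgroup = S := by
  haveI : Finite (MulAut S) := finite_mulAut S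
  have hcop : (Nat.card S).Coprime (Nat.card (F.autGroup S)) := by
    obtain ⟨k, hk⟩ := (IsPGroup.iff_card).mp hS
    rw [hk]
    exact Nat.Coprime.pow_left k (abel_aut_coprime F hF hab).symm
  letI : CommGroup ↥S :=
    { (inferInstance : Group ↥S) with
      mul_comm := fun a b => Subtype.ext (hab a a.2 b b.2) }
  have key := coprime_decomp (M := ↥S) (F.autGroup S) hcop
  have hfoc := abel_focal hS F hF hab
  have hcen := abel_center hS F hF hab
  have hZS : F.center ≤ S := (center_isCentral F).1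
  constructor
  · rw [eq_bot_iff]
    rintro x ⟨hxc, hxf⟩
    rw [Subgroup.mem_bot]
    have hxS : x ∈ S := hZS hxc
    have h1 : ∀ α ∈ F.autGroup S, α ⟨x, hxS⟩ = ⟨x, hxS⟩ := (hcen ⟨x, hxS⟩).mp hxc
    rw [hfoc] at hxf
    obtain ⟨y, hy, hyx⟩ := hxf
    have hy' : y = ⟨x, hxS⟩ := Subtype.ext hyx
    rw [hy'] at hy
    have h2 := key.2 ⟨x, hxS⟩ h1 hy
    exact congrArg Subtype.val h2
  · apply le_antisymm
    · apply sup_le hZS
      rw [hfoc]
      rintro _ ⟨y, -, rfl⟩
      exact y.2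
    · intro x hxS
      obtain ⟨c, d, hc, hd, hxcd⟩ := key.1 ⟨x, hxS⟩
      have e : x = (c : Ω) * (d : Ω) := congrArg Subtype.val hxcd
      rw [e]
      refine Subgroup.mul_mem _ (Subgroup.mem_sup_left ((hcen c).mpr hc)) (Subgroup.mem_sup_right ?_)
      rw [hfoc]
      exact ⟨d, hd, rfl⟩

/-- Let F be a saturated fusion system over a finite abelian p-group S. Then S is the internal direct product of the centre of the system and the focal subgroup: Z(F) ∩ foc(F) = 1 and Z(F)·foc(F) = S. -/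
theorem result {Ω : Type*} [Group Ω] {S : Subgroup Ω} [Finite S] (p : ℕ) [Fact p.Prime] (hS : IsPGroup p S) (F : Cfsg.FusionSystem S) (hF : F.IsSaturated p) (hab : ∀ x ∈ S, ∀ y ∈ S, x * y = y * x) : F.center ⊓ F.focalSubgroup = ⊥ ∧ F.center ⊔ F.focalSubgroup = S := by
  exact aux p hS F hF hab

end Cfsg.Agent.S5330
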