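import Cfsg.Statements.S5726
-- import your own Cfsg.Agent.* helpers here

set_option autoImplicit false
open Cfsg

namespace Cfsg.Agent.S5726

/-- If a finite group acts faithfully and transitively on a set with p^k elements, p a prime and k ≥ 1, then some element of order p fixes no point. -/
theorem result {G Ω : Type*} [Group G] [Finite G] [MulAction G Ω] [FaithfulSMul G Ω] [Fintype Ω] (htr : MulAction.IsPretransitive G Ω)
    (p k : ℕ) (hp : p.Prime) (hk : 1 ≤ k) (hΩ : Fintype.card Ω = p ^ k) :
    ∃ g : G, orderOf g = p ∧ ∀ ω : Ω, g • ω ≠ ω := by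
  classical
  have hpf : Fact p.Prime := ⟨hp⟩
  have hΩpos : 0 < Fintype.card Ω := by rw [hΩ]; exact pow_pos hp.pos k
  obtain ⟨ω₀⟩ : Nonempty Ω := Fintype.card_pos_iff.mp hΩpos
  let P : Sylow p G := Classical.arbitrary _
  have hHidx : (MulAction.stabilizer G ω₀).index = p ^ k := by
    rw [MulAction.index_stabilizer_of_transitive, Nat.card_eq_fintype_card, hΩ]
  have h1 : (MulAction.orbit (↥(P : Subgroup G)) ω₀).ncard * Nat.card (MulAction.stabilizer (↥(P : Subgroup G)) ω₀)
      = Nat.card (↥(P : Subgroup G)) := by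
    rw [← MulAction.index_stabilizer]
    exact Subgroup.index_mul_card _
  have hs : Nat.card (MulAction.stabilizer (↥(P : Subgroup G)) ω₀) ∣ Nat.card (MulAction.stabilizer G ω₀) := by
    have hle : (MulAction.stabilizer (↥(P : Subgroup G)) ω₀).map (P : Subgroup G).subtype ≤ MulAction.stabilizer G ω₀ := by
      rintro _ ⟨x, hx, rfl⟩
      exact hx
    have := Subgroup.card_dvd_of_le hle
    rwa [Subgroup.card_map_of_injective (Subgroup.subtype_injective _)] at this
  obtain ⟨t, ht⟩ := hs
  have h2 : (MulAction.stabilizer G ω₀).index * Nat.card (MulAction.stabilizer G ω₀) = Nat.card G :=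
    Subgroup.index_mul_card _
  have h3 : (P : Subgroup G).index * Nat.card (P : Subgroup G) = Nat.card G := Subgroup.index_mul_card _
  have hspos : 0 < Nat.card (MulAction.stabilizer (↥(P : Subgroup G)) ω₀) := Nat.card_pos
  have h4 : p ^ k * t = (P : Subgroup G).index * (MulAction.orbit (↥(P : Subgroup G)) ω₀).ncard := by
    have : p ^ k * t * Nat.card (MulAction.stabilizer (↥(P : Subgroup G)) ω₀)
        = (P : Subgroup G).index * (MulAction.orbit (↥(P : Subgroup G)) ω₀).ncard * Nat.card (MulAction.stabilizer (↥(P : Subgroup G)) ω₀) := by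
      calc p ^ k * t * Nat.card (MulAction.stabilizer (↥(P : Subgroup G)) ω₀)
          = (MulAction.stabilizer G ω₀).index * (Nat.card (MulAction.stabilizer (↥(P : Subgroup G)) ω₀) * t) := by
            rw [hHidx]; ring
        _ = Nat.card G := by rw [← ht, h2]
        _ = (P : Subgroup G).index * ((MulAction.orbit (↥(P : Subgroup G)) ω₀).ncard * Nat.card (MulAction.stabilizer (↥(P : Subgroup G)) ω₀)) := by
            rw [h1, h3]
        _ = _ := by ring
    exact Nat.eq_of_mul_eq_mul_right hspos this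
  have hcop : Nat.Coprime (p ^ k) (P : Subgroup G).index := by
    apply Nat.Coprime.pow_left
    exact (Nat.Prime.coprime_iff_not_dvd hp).mpr P.not_dvd_index
  have h5 : p ^ k ∣ (MulAction.orbit (↥(P : Subgroup G)) ω₀).ncard :=
    hcop.dvd_of_dvd_mul_left ⟨t, h4.symm⟩
  have h6 : (MulAction.orbit (↥(P : Subgroup G)) ω₀).ncard ≤ p ^ k := by
    rw [← hΩ, ← Nat.card_eq_fintype_card]
    exact Set.ncard_le_card _
  have hopos : 0 < (MulAction.orbit (↥(P : Subgroup G)) ω₀).ncard := by
    rw [Set.ncard_pos (Set.toFinite _)]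
    exact MulAction.nonempty_orbit ω₀
  have h7 : (MulAction.orbit (↥(P : Subgroup G)) ω₀).ncard = p ^ k := le_antisymm h6 (Nat.le_of_dvd hopos h5)
  have horb : MulAction.orbit (↥(P : Subgroup G)) ω₀ = Set.univ := by
    rw [Set.eq_univ_iff_ncard, h7, Nat.card_eq_fintype_card, hΩ]
  -- P is nontrivial
  have hPcard : 1 < Nat.card (↥(P : Subgroup G)) := by
    rw [← h1, h7]
    calc 1 < p ^ k := Nat.one_lt_pow (by omega) hp.one_lt
      _ ≤ p ^ k * _ := Nat.le_mul_of_pos_right _ hspos
  have hPnt : Nontrivial (↥(P : Subgroup G)) := Finite.one_lt_card_iff_nontrivial.mp hPcard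
  have hcn : Nontrivial ↥(Subgroup.center ↥(P : Subgroup G)) := P.isPGroup'.center_nontrivial
  have hcp : IsPGroup p ↥(Subgroup.center ↥(P : Subgroup G)) := P.isPGroup'.to_subgroup _
  obtain ⟨n, hn⟩ := hcp.exists_card_eq
  have hn0 : n ≠ 0 := by
    intro h0
    rw [h0, pow_zero] at hn
    have := Finite.one_lt_card_iff_nontrivial.mpr hcn
    omega
  have hdvd : p ∣ Nat.card ↥(Subgroup.center ↥(P : Subgroup G)) := by
    rw [hn]
    exact dvd_pow_self p hn0
  obtain ⟨z, hz⟩ := exists_prime_orderOf_dvd_card' p hdvd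
  refine ⟨((z : ↥(P : Subgroup G)) : G), ?_, ?_⟩
  · rw [Subgroup.orderOf_coe, Subgroup.orderOf_coe, hz]
  · intro ω hω
    have hz1 : ((z : ↥(P : Subgroup G)) : G) = 1 := by
      apply eq_of_smul_eq_smul (α := Ω)
      intro ω'
      rw [one_smul]
      have hω' : ω' ∈ MulAction.orbit (↥(P : Subgroup G)) ω₀ := by rw [horb]; trivial
      have hω0 : ω ∈ MulAction.orbit (↥(P : Subgroup G)) ω₀ := by rw [horb]; trivial
      obtain ⟨x, hx⟩ := hω'
      obtain ⟨y, hy⟩ := hω0
      have hzc := z.2
      rw [Subgroup.mem_center_iff] at hzc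
      have hcomm : ∀ w : ↥(P : Subgroup G), ((z : ↥(P : Subgroup G)) : G) * (w : G) = (w : G) * ((z : ↥(P : Subgroup G)) : G) := by
        intro w
        have := hzc w
        exact (congrArg Subtype.val this).symm
      have hfix0 : ((z : ↥(P : Subgroup G)) : G) • ω₀ = ω₀ := by
        have hy' : (y : G) • ω₀ = ω := hy
        rw [← hy', ← mul_smul, hcomm y, mul_smul] at hω
        exact smul_left_cancel _ hω
      have hx' : (x : G) • ω₀ = ω' := hx
      rw [← hx', ← mul_smul, hcomm x, mul_smul, hfix0]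
    have : orderOf ((z : ↥(P : Subgroup G)) : G) = p := by
      rw [Subgroup.orderOf_coe, Subgroup.orderOf_coe, hz]
    rw [hz1, orderOf_one] at this
    exact hp.one_lt.ne this

end Cfsg.Agent.S5726
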