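import Cfsg.Statements.S5727
import Cfsg.Agent.S5726

set_option autoImplicit false
open Cfsg

namespace Cfsg.Agent.S5727

theorem case_lt {G Ω : Type*} [Group G] [Finite G] [MulAction G Ω] [FaithfulSMul G Ω] [Fintype Ω] (htr : MulAction.IsPretransitive G Ω)
    (p m : ℕ) (hp : p.Prime) (hm : 1 ≤ m) (hmp : m < p) (hΩ : Fintype.card Ω = m * p) :
    ∃ g : G, orderOf g = p ∧ ∀ ω : Ω, g • ω ≠ ω := by
  classical
  have hpf : Fact p.Prime := ⟨hp⟩
  let P : Sylow p G := Classical.arbitrary _
  have hidx : ∀ ω₀ : Ω, (MulAction.stabilizer (↥(P : Subgroup G)) ω₀).index = p := by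
    intro ω₀
    have hHidx : (MulAction.stabilizer G ω₀).index = m * p := by
      rw [MulAction.index_stabilizer_of_transitive, Nat.card_eq_fintype_card, hΩ]
    have h1 : (MulAction.stabilizer (↥(P : Subgroup G)) ω₀).index * Nat.card (MulAction.stabilizer (↥(P : Subgroup G)) ω₀)
        = Nat.card (↥(P : Subgroup G)) := Subgroup.index_mul_card _
    have hs : Nat.card (MulAction.stabilizer (↥(P : Subgroup G)) ω₀) ∣ Nat.card (MulAction.stabilizer G ω₀) := by
      have hle : (MulAction.stabilizer (↥(P : Subgroup G)) ω₀).map (P : Subgroup G).subtype ≤ MulAction.stabilizer G ω₀ := by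
        rintro _ ⟨x, hx, rfl⟩
        exact hx
      have := Subgroup.card_dvd_of_le hle
      rwa [Subgroup.card_map_of_injective (Subgroup.subtype_injective _)] at this
    obtain ⟨t, ht⟩ := hs
    have h2 : (MulAction.stabilizer G ω₀).index * Nat.card (MulAction.stabilizer G ω₀) = Nat.card G :=
      Subgroup.index_mul_card _
    have h3 : (P : Subgroup G).index * Nat.card (P : Subgroup G) = Nat.card G := Subgroup.index_mul_card _
    have hspos : 0 < Nat.card (MulAction.stabilizer (↥(P : Subgroup G)) ω₀) := Nat.card_pos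
    have h4 : m * p * t = (P : Subgroup G).index * (MulAction.stabilizer (↥(P : Subgroup G)) ω₀).index := by
      have : m * p * t * Nat.card (MulAction.stabilizer (↥(P : Subgroup G)) ω₀)
          = (P : Subgroup G).index * (MulAction.stabilizer (↥(P : Subgroup G)) ω₀).index * Nat.card (MulAction.stabilizer (↥(P : Subgroup G)) ω₀) := by
        calc m * p * t * Nat.card (MulAction.stabilizer (↥(P : Subgroup G)) ω₀)
            = (MulAction.stabilizer G ω₀).index * (Nat.card (MulAction.stabilizer (↥(P : Subgroup G)) ω₀) * t) := by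
              rw [hHidx]; ring
          _ = Nat.card G := by rw [← ht, h2]
          _ = (P : Subgroup G).index * ((MulAction.stabilizer (↥(P : Subgroup G)) ω₀).index * Nat.card (MulAction.stabilizer (↥(P : Subgroup G)) ω₀)) := by
              rw [h1, h3]
          _ = _ := by ring
      exact Nat.eq_of_mul_eq_mul_right hspos this
    have hcop : Nat.Coprime p (P : Subgroup G).index :=
      (Nat.Prime.coprime_iff_not_dvd hp).mpr P.not_dvd_index
    have h5 : p ∣ (MulAction.stabilizer (↥(P : Subgroup G)) ω₀).index :=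
      hcop.dvd_of_dvd_mul_left ⟨m * t, by rw [← h4]; ring⟩
    obtain ⟨a, ha⟩ := P.isPGroup'.exists_card_eq
    have h6 : (MulAction.stabilizer (↥(P : Subgroup G)) ω₀).index ∣ p ^ a := by
      rw [← ha, ← h1]
      exact dvd_mul_right _ _
    obtain ⟨j, -, hj⟩ := (Nat.dvd_prime_pow hp).mp h6
    have hle : (MulAction.stabilizer (↥(P : Subgroup G)) ω₀).index ≤ m * p := by
      rw [MulAction.index_stabilizer, ← hΩ, ← Nat.card_eq_fintype_card]
      exact Set.ncard_le_card _
    have hj1 : j ≠ 0 := by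
      intro h0
      rw [hj, h0, pow_zero] at h5
      exact hp.one_lt.ne' (Nat.dvd_one.mp h5)
    have hj2 : j < 2 := by
      by_contra hcon
      have h2j : 2 ≤ j := by omega
      have : p ^ 2 ≤ p ^ j := Nat.pow_le_pow_right hp.pos h2j
      have h7 : p ^ 2 ≤ m * p := by rw [hj] at hle; exact le_trans this hle
      have : m * p < p * p := Nat.mul_lt_mul_of_pos_right hmp hp.pos
      rw [pow_two] at h7
      omega
    have : j = 1 := by omega
    rw [hj, this, pow_one]
  obtain ⟨a, ha⟩ := P.isPGroup'.exists_card_eq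
  have ha0 : a ≠ 0 := by
    intro h0
    rw [h0, pow_zero] at ha
    have hΩpos : 0 < Fintype.card Ω := by rw [hΩ]; exact Nat.mul_pos (by omega) hp.pos
    obtain ⟨ω₀⟩ : Nonempty Ω := Fintype.card_pos_iff.mp hΩpos
    have h1 := Subgroup.index_mul_card (MulAction.stabilizer (↥(P : Subgroup G)) ω₀)
    rw [hidx ω₀, ha] at h1
    have : p ∣ 1 := ⟨_, h1.symm⟩
    exact hp.one_lt.ne' (Nat.dvd_one.mp this)
  have hnormal : ∀ ω : Ω, (MulAction.stabilizer (↥(P : Subgroup G)) ω).Normal := by
    intro ω
    apply Subgroup.normal_of_index_eq_minFac_card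
    rw [hidx ω, ha, hp.pow_minFac ha0]
  have hfixorbit : ∀ (x y : ↥(P : Subgroup G)) (ω : Ω), x • ω = ω → x • (y • ω) = y • ω := by
    intro x y ω hx
    have h1 : y⁻¹ * x * y⁻¹⁻¹ ∈ MulAction.stabilizer (↥(P : Subgroup G)) ω :=
      (hnormal ω).conj_mem x hx y⁻¹
    rw [MulAction.mem_stabilizer_iff] at h1
    calc x • (y • ω) = y • ((y⁻¹ * x * y⁻¹⁻¹) • ω) := by
          rw [← mul_smul, ← mul_smul]; congr 1; group
      _ = y • ω := by rw [h1]
  -- an element of P without fixed points
  have hex : ∃ x : ↥(P : Subgroup G), ∀ ω : Ω, x • ω ≠ ω := by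
    by_contra hcon
    push Not at hcon
    have hFix : Fintype ↥(P : Subgroup G) := Fintype.ofFinite _
    have hcardP : Fintype.card ↥(P : Subgroup G) = p ^ a := by
      rw [← Nat.card_eq_fintype_card, ha]
    -- double counting
    have hdc : ∑ x : ↥(P : Subgroup G), (Finset.univ.filter (fun ω : Ω => x • ω = ω)).card
        = ∑ ω : Ω, (Finset.univ.filter (fun x : ↥(P : Subgroup G) => x • ω = ω)).card := by
      simp only [Finset.card_filter]
      exact Finset.sum_comm
    have hstab : ∀ ω : Ω, (Finset.univ.filter (fun x : ↥(P : Subgroup G) => x • ω = ω)).card = p ^ (a - 1) := by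
      intro ω
      have h1 := Subgroup.index_mul_card (MulAction.stabilizer (↥(P : Subgroup G)) ω)
      rw [hidx ω, ha] at h1
      have h2 : Nat.card (MulAction.stabilizer (↥(P : Subgroup G)) ω) = p ^ (a - 1) := by
        have : p ^ a = p * p ^ (a - 1) := by
          rw [← pow_succ']; congr 1; omega
        rw [this] at h1
        exact Nat.eq_of_mul_eq_mul_left hp.pos h1
      rw [← h2, Nat.card_eq_fintype_card, Fintype.card_subtype]
      congr 1
    have hlow : ∀ x : ↥(P : Subgroup G), p ≤ (Finset.univ.filter (fun ω : Ω => x • ω = ω)).card := by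
      intro x
      obtain ⟨ω, hω⟩ := hcon x
      have h1 : (MulAction.orbit (↥(P : Subgroup G)) ω).ncard = p := by
        rw [← MulAction.index_stabilizer, hidx ω]
      have h2 : MulAction.orbit (↥(P : Subgroup G)) ω ⊆ {ω' : Ω | x • ω' = ω'} := by
        rintro _ ⟨y, rfl⟩
        exact hfixorbit x y ω hω
      have h3 := Set.ncard_le_ncard h2 (Set.toFinite _)
      rw [h1, Set.ncard_eq_toFinset_card'] at h3
      convert h3 using 2
      ext ω'
      simp
    have hone : (Finset.univ.filter (fun ω : Ω => (1 : ↥(P : Subgroup G)) • ω = ω)).card = m * p := by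
      rw [← hΩ]
      simp
    have hsum1 : (Finset.univ.filter (fun ω : Ω => (1 : ↥(P : Subgroup G)) • ω = ω)).card
        + ∑ x ∈ (Finset.univ : Finset ↥(P : Subgroup G)).erase 1, (Finset.univ.filter (fun ω : Ω => x • ω = ω)).card
        = ∑ x : ↥(P : Subgroup G), (Finset.univ.filter (fun ω : Ω => x • ω = ω)).card :=
      Finset.add_sum_erase Finset.univ (fun x : ↥(P : Subgroup G) => (Finset.univ.filter (fun ω : Ω => x • ω = ω)).card) (Finset.mem_univ 1)
    have hsum2 : ((Finset.univ : Finset ↥(P : Subgroup G)).erase 1).card • p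
        ≤ ∑ x ∈ (Finset.univ : Finset ↥(P : Subgroup G)).erase 1, (Finset.univ.filter (fun ω : Ω => x • ω = ω)).card :=
      Finset.card_nsmul_le_sum _ _ _ (fun x _ => hlow x)
    have hcarderase : ((Finset.univ : Finset ↥(P : Subgroup G)).erase 1).card = p ^ a - 1 := by
      rw [Finset.card_erase_of_mem (Finset.mem_univ _), Finset.card_univ, hcardP]
    rw [hcarderase, smul_eq_mul] at hsum2
    have htotal : ∑ ω : Ω, (Finset.univ.filter (fun x : ↥(P : Subgroup G) => x • ω = ω)).card = m * p * p ^ (a - 1) := by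
      rw [Finset.sum_congr rfl (fun ω _ => hstab ω), Finset.sum_const, Finset.card_univ, hΩ, smul_eq_mul]
    rw [hdc, htotal] at hsum1
    rw [hone] at hsum1
    -- m*p + (p^a - 1)*p ≤ m*p*p^(a-1)
    have hpa : p ^ a = p * p ^ (a - 1) := by
      rw [← pow_succ']; congr 1; omega
    have hs1 : 1 ≤ p ^ (a - 1) := Nat.one_le_pow _ _ hp.pos
    have hineq : m * p + (p ^ a - 1) * p ≤ m * p * p ^ (a - 1) := by omega
    rw [hpa] at hineq
    have hp1 : 1 ≤ p := hp.pos
    have h8 : 1 ≤ p * p ^ (a - 1) := Nat.mul_pos hp.pos hs1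
    have h9 : (p * p ^ (a - 1) - 1) * p = p * p ^ (a - 1) * p - p := by
      rw [Nat.sub_mul, one_mul]
    rw [h9] at hineq
    have h10 : p ≤ p * p ^ (a - 1) * p := by nlinarith
    have h11 : m * p + p * p ^ (a - 1) * p ≤ m * p * p ^ (a - 1) + p := by omega
    have h12 : m + 1 ≤ p := hmp
    nlinarith [Nat.mul_le_mul_right (p ^ (a - 1) * p) h12, Nat.mul_pos hp.pos hs1]
  obtain ⟨x, hx⟩ := hex
  have hxp : x ^ p = 1 := by
    apply Subtype.ext
    apply eq_of_smul_eq_smul (α := Ω)
    intro ω
    have h1 : x ^ (MulAction.stabilizer (↥(P : Subgroup G)) ω).index ∈ MulAction.stabilizer (↥(P : Subgroup G)) ω :=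
      @Subgroup.pow_index_mem _ _ _ (hnormal ω) x
    rw [hidx ω, MulAction.mem_stabilizer_iff] at h1
    have h2 : ((x ^ p : ↥(P : Subgroup G)) : G) • ω = ω := h1
    rw [h2, OneMemClass.coe_one, one_smul]
  have hx1 : x ≠ 1 := by
    intro h
    have hΩpos : 0 < Fintype.card Ω := by rw [hΩ]; exact Nat.mul_pos (by omega) hp.pos
    obtain ⟨ω₀⟩ : Nonempty Ω := Fintype.card_pos_iff.mp hΩpos
    exact hx ω₀ (by rw [h, one_smul])
  refine ⟨(x : G), ?_, fun ω => hx ω⟩
  rw [Subgroup.orderOf_coe]
  exact orderOf_eq_prime hxp hx1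

/-- If a finite group acts faithfully and transitively on a set with m·p elements, where p is a prime and 1 ≤ m ≤ p, then some element of order p fixes no point. -/
theorem result {G Ω : Type*} [Group G] [Finite G] [MulAction G Ω] [FaithfulSMul G Ω] [Fintype Ω] (htr : MulAction.IsPretransitive G Ω)
    (p m : ℕ) (hp : p.Prime) (hm : 1 ≤ m) (hmp : m ≤ p) (hΩ : Fintype.card Ω = m * p) :
    ∃ g : G, orderOf g = p ∧ ∀ ω : Ω, g • ω ≠ ω := by
  rcases Nat.lt_or_ge m p with h | h
  · exact case_lt htr p m hp hm h hΩ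
  · have hmeq : m = p := le_antisymm hmp h
    exact Cfsg.Agent.S5726.result htr p 2 hp (by norm_num) (by rw [hΩ, hmeq, pow_two])

end Cfsg.Agent.S5727
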