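import Cfsg.Statements.S5728
import Mathlib
-- import your own Cfsg.Agent.* helpers here

set_option autoImplicit false
open Cfsg

namespace Cfsg.Agent.S5728

/-- An elusive transitive action. Let p = 2^s − 1 be a prime and let F be the field with p² elements. Inside the group of affine maps x ↦ a·x + b of F (a ≠ 0), consider the subgroup of maps with both coefficients in the prime field. Then every element of prime order of the affine group is conjugate, within the affine group, to an element of that subgroup; equivalently, in the transitive action of the affine group on the cosets of that subgroup (of degree p(p + 1)) every element of prime order fixes a point. -/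
theorem result (p s : ℕ) [Fact p.Prime] (hs : p = 2 ^ s - 1)
    (g : Equiv.Perm (GaloisField p 2)) (hg : g ∈ Cfsg.affineGroup (GaloisField p 2)) (hord : (orderOf g).Prime) :
    ∃ x ∈ Cfsg.affineGroup (GaloisField p 2), ∃ a b : ZMod p, a ≠ 0 ∧
      ∀ y : GaloisField p 2, (x * g * x⁻¹) y = algebraMap (ZMod p) (GaloisField p 2) a * y + algebraMap (ZMod p) (GaloisField p 2) b := by
  classical
  have hpp : p.Prime := Fact.out
  obtain ⟨a, b, hgab⟩ := hg
  -- affine maps as permutations
  have aff : ∀ (a' : (GaloisField p 2)ˣ) (b' : GaloisField p 2),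
      ∃ σ : Equiv.Perm (GaloisField p 2), σ ∈ Cfsg.affineGroup (GaloisField p 2) ∧
        (∀ y, σ y = (a' : GaloisField p 2) * y + b') ∧
        (∀ y, σ⁻¹ y = ((a'⁻¹ : (GaloisField p 2)ˣ) : GaloisField p 2) * (y - b')) := by
    intro a' b'
    let σ : Equiv.Perm (GaloisField p 2) :=
      { toFun := fun y => (a' : GaloisField p 2) * y + b'
        invFun := fun y => ((a'⁻¹ : (GaloisField p 2)ˣ) : GaloisField p 2) * (y - b')
        left_inv := by
          intro y
          show ((a'⁻¹ : (GaloisField p 2)ˣ) : GaloisField p 2) * ((a' : GaloisField p 2) * y + b' - b') = y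
          rw [add_sub_cancel_right, ← mul_assoc, Units.inv_mul, one_mul]
        right_inv := by
          intro y
          show (a' : GaloisField p 2) * (((a'⁻¹ : (GaloisField p 2)ˣ) : GaloisField p 2) * (y - b')) + b' = y
          rw [← mul_assoc, Units.mul_inv, one_mul, sub_add_cancel] }
    exact ⟨σ, ⟨a', b', fun y => rfl⟩, fun y => rfl, fun y => rfl⟩
  have hg1 : g ≠ 1 := by
    intro h
    rw [h, orderOf_one] at hord
    exact Nat.not_prime_one hord
  by_cases ha1 : (a : GaloisField p 2) = 1
  · -- translation
    have hb0 : b ≠ 0 := by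
      intro hb
      apply hg1
      ext y
      rw [hgab, ha1, hb, one_mul, add_zero]
      rfl
    obtain ⟨x, hxA, hx, hxi⟩ := aff (Units.mk0 b⁻¹ (inv_ne_zero hb0)) 0
    refine ⟨x, hxA, 1, 1, one_ne_zero, ?_⟩
    intro y
    rw [Equiv.Perm.mul_apply, Equiv.Perm.mul_apply, hx, hgab, hxi, ha1]
    simp only [Units.val_mk0, map_one, sub_zero, one_mul, add_zero]
    have e : ((Units.mk0 b⁻¹ (inv_ne_zero hb0))⁻¹ : (GaloisField p 2)ˣ) = Units.mk0 b hb0 := by
      rw [inv_eq_iff_eq_inv]
      apply Units.ext
      simp
    rw [e, Units.val_mk0]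
    field_simp
  · -- fixed point
    have h1a : (1 : GaloisField p 2) - a ≠ 0 := by
      intro h
      apply ha1
      rw [sub_eq_zero] at h
      exact h.symm
    obtain ⟨x, hxA, hx, hxi⟩ := aff 1 (-(b / (1 - (a : GaloisField p 2))))
    have hconj : ∀ y, (x * g * x⁻¹) y = (a : GaloisField p 2) * y := by
      intro y
      rw [Equiv.Perm.mul_apply, Equiv.Perm.mul_apply, hx, hgab, hxi]
      simp only [Units.val_one, inv_one, one_mul, sub_neg_eq_add]
      field_simp
      ring
    have hpow : ∀ (k : ℕ) (y : GaloisField p 2), ((x * g * x⁻¹) ^ k) y = (a : GaloisField p 2) ^ k * y := by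
      intro k
      induction k with
      | zero => intro y; simp
      | succ k ih =>
        intro y
        rw [pow_succ, Equiv.Perm.mul_apply, hconj, ih, pow_succ, mul_assoc]
    have hordc : orderOf (x * g * x⁻¹) = orderOf g := (MulAut.conj x).orderOf_eq g
    have har : (a : GaloisField p 2) ^ orderOf g = 1 := by
      have h1 := hpow (orderOf (x * g * x⁻¹)) 1
      rw [pow_orderOf_eq_one, mul_one, hordc] at h1
      exact h1.symm
    have har' : a ^ orderOf g = 1 := by
      apply Units.ext
      rw [Units.val_pow_eq_pow_val, har]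
      rfl
    have ha1' : a ≠ 1 := by
      intro h
      apply ha1
      rw [h]
      rfl
    have hoa : orderOf a = orderOf g := by
      have : Fact (orderOf g).Prime := ⟨hord⟩
      exact orderOf_eq_prime har' ha1'
    have hdvd : orderOf g ∣ p ^ 2 - 1 := by
      have h1 : orderOf a ∣ Nat.card (GaloisField p 2)ˣ := orderOf_dvd_natCard a
      rw [Nat.card_units, GaloisField.card p 2 (by norm_num), hoa] at h1
      exact h1
    have hs1 : 1 ≤ s := by
      by_contra hcon
      have : s = 0 := by omega
      rw [this] at hs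
      have := hpp.two_le
      omega
    have hp1 : p + 1 = 2 ^ s := by
      have : 1 ≤ 2 ^ s := Nat.one_le_two_pow
      omega
    have hfac : p ^ 2 - 1 = (p - 1) * 2 ^ s := by
      rw [← hp1]
      have h2 := hpp.two_le
      obtain ⟨q, rfl⟩ : ∃ q, p = q + 1 := ⟨p - 1, by omega⟩
      simp only [Nat.add_sub_cancel]
      have : (q + 1) ^ 2 = q * (q + 1 + 1) + 1 := by ring
      rw [this, Nat.add_sub_cancel]
    have hdvd2 : orderOf g ∣ p - 1 := by
      rw [hfac] at hdvd
      rcases (Nat.Prime.dvd_mul hord).mp hdvd with h | h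
      · exact h
      · have h2 : orderOf g ∣ 2 := hord.dvd_of_dvd_pow h
        have h3 : 2 ∣ p - 1 := by
          obtain ⟨s', rfl⟩ : ∃ s', s = s' + 1 := ⟨s - 1, by omega⟩
          have : 1 ≤ 2 ^ s' := Nat.one_le_two_pow
          refine ⟨2 ^ s' - 1, ?_⟩
          rw [hs, pow_succ]
          omega
        exact h2.trans h3
    have hap : (a : GaloisField p 2) ^ p = a := by
      obtain ⟨k, hk⟩ := hdvd2
      have h2 := hpp.two_le
      have hpk : p = orderOf g * k + 1 := by omega
      have e : (a : GaloisField p 2) ^ (orderOf g * k + 1) = a := by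
        rw [pow_succ, pow_mul, har, one_pow, one_mul]
      exact (congrArg (fun n => (a : GaloisField p 2) ^ n) hpk).trans e
    have hbot : (a : GaloisField p 2) ∈ (⊥ : Subfield (GaloisField p 2)) :=
      (Subfield.mem_bot_iff_pow_eq_self (GaloisField p 2) p).mpr hap
    rw [Subfield.bot_eq_of_zMod_algebra p] at hbot
    obtain ⟨a0, ha0⟩ := hbot
    refine ⟨x, hxA, a0, 0, ?_, ?_⟩
    · intro h
      rw [h, map_zero] at ha0
      exact a.ne_zero ha0.symm
    · intro y
      rw [hconj, map_zero, add_zero, ha0]

end Cfsg.Agent.S5728
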